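import Mathlib
import Cfsg.Agent.S0519
import Cfsg.Agent.Lib.Helper97.PRank
import Cfsg.Agent.Lib.Helper1.AutBound
import Cfsg.Agent.Lib.Helper21.FourGroupCent
import Cfsg.Agent.Lib.Helper53.UniqInv

/-!
# Normal elementary abelian subgroups of order `p²` in `p`-groups of rank at least 3 -- helper45

* `exists_normal_card_sq_le`: inside a normal subgroup of order `p ^ (k + 2)` of a finite `p`-group
  there is a normal subgroup of order `p²`.
* `card_le_four_of_self_centralizing_four`: if all four-subgroups of exponent 2 are self-centralizing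
  then elementary abelian 2-subgroups have order at most 4.
* `exists_normal_four`: a finite 2-group of 2-rank at least 3 has a normal four-group.
* `exists_normal_elemAb_card_sq`: a finite `p`-group of `p`-rank at least 3 has a normal elementary
  abelian subgroup of order `p²`.
-/

set_option autoImplicit false
set_option linter.style.haveILetI false

namespace Cfsg.Agent.Lib.Helper45

open Subgroup

section general
variable {P : Type*} [Group P] [Finite P] {p : ℕ} [hpf : Fact p.Prime]

/-- Inside a normal subgroup of order `p ^ (k + 2)` of a finite `p`-group there is a normal subgroup of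
order `p ^ 2`. -/
theorem exists_normal_card_sq_le (hP : IsPGroup p P) :
    ∀ (k : ℕ) (A : Subgroup P), A.Normal → Nat.card A = p ^ (k + 2) →
      ∃ U : Subgroup P, U.Normal ∧ U ≤ A ∧ Nat.card U = p ^ 2 := by
  intro k
  induction k with
  | zero => intro A hA hc; exact ⟨A, hA, le_rfl, by simpa using hc⟩
  | succ k ih =>
    intro A hA hc
    haveI := hA
    have hpp : p.Prime := hpf.out
    have hne : A ≠ ⊥ := by
      intro h
      rw [h, Subgroup.card_bot] at hc
      have : 1 < p ^ (k + 1 + 2) := Nat.one_lt_pow (by omega) hpp.one_lt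
      omega
    obtain ⟨A₁, hA₁n, hA₁le, hcard⟩ := Cfsg.Agent.Lib.Helper1.exists_normal_index_p hP A hne
    have hc1 : Nat.card A₁ = p ^ (k + 2) := by
      rw [hc, show k + 1 + 2 = (k + 2) + 1 by ring, pow_succ, mul_comm] at hcard
      exact (Nat.eq_of_mul_eq_mul_left hpp.pos hcard).symm
    obtain ⟨U, hUn, hUle, hUc⟩ := ih A₁ hA₁n hc1
    exact ⟨U, hUn, hUle.trans hA₁le, hUc⟩

end general

section rank
variable {Q : Type*} [Group Q] [Finite Q]

/-- If all four-subgroups of exponent 2 are self-centralizing, elementary abelian 2-subgroups have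
order at most 4. -/
theorem card_le_four_of_self_centralizing_four
    (h : ∀ V : Subgroup Q, Nat.card V = 4 → (∀ v ∈ V, v ^ 2 = 1) → centralizer (V : Set Q) ≤ V)
    (E : Subgroup Q) (hEc : IsMulCommutative E) (hEe : ∀ a ∈ E, a ^ 2 = 1) : Nat.card E ≤ 4 := by
  by_contra hcon
  push_neg at hcon
  have hEp : IsPGroup 2 E := by
    intro g
    refine ⟨1, ?_⟩
    have := hEe g g.2
    ext
    simpa using this
  obtain ⟨n, hn⟩ := (IsPGroup.iff_card.mp hEp)
  have hn3 : 2 ≤ n := by
    by_contra h2
    push_neg at h2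
    have : 2 ^ n ≤ 2 ^ 1 := Nat.pow_le_pow_right (by norm_num) (by omega)
    omega
  have hdvd : 2 ^ 2 ∣ Nat.card E := by
    rw [hn]; exact pow_dvd_pow 2 hn3
  obtain ⟨V', hV'⟩ := Sylow.exists_subgroup_card_pow_prime 2 hdvd
  have hV4 : Nat.card (V'.map E.subtype) = 4 := by
    rw [Subgroup.card_map_of_injective E.subtype_injective, hV']; norm_num
  have hVle : V'.map E.subtype ≤ E := Subgroup.map_subtype_le V'
  have hV2 : ∀ v ∈ V'.map E.subtype, v ^ 2 = 1 := fun v hv => hEe v (hVle hv)
  have hEV : E ≤ V'.map E.subtype := by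
    refine le_trans ?_ (h _ hV4 hV2)
    intro e he
    rw [Subgroup.mem_centralizer_iff]
    intro v hv
    have := hEc.is_comm.comm ⟨v, hVle hv⟩ ⟨e, he⟩
    exact congrArg Subtype.val this
  have := Subgroup.card_le_of_le hEV
  omega

/-- Transport of a bound on elementary abelian 2-subgroups along an isomorphism. -/
theorem card_le_four_of_mulEquiv {X : Type*} [Group X] (φ : Q ≃* X)
    (hX : ∀ E : Subgroup X, IsMulCommutative E → (∀ a ∈ E, a ^ 2 = 1) → Nat.card E ≤ 4)
    (E : Subgroup Q) (hEc : IsMulCommutative E) (hEe : ∀ a ∈ E, a ^ 2 = 1) : Nat.card E ≤ 4 := by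
  have h1 : Nat.card (E.map φ.toMonoidHom) = Nat.card E :=
    Subgroup.card_map_of_injective φ.injective
  rw [← h1]
  apply hX
  · exact Subgroup.map_isMulCommutative E φ.toMonoidHom
  · rintro _ ⟨a, ha, rfl⟩
    have := hEe a ha
    simp only [MulEquiv.coe_toMonoidHom]
    rw [← map_pow, this, map_one]

end rank

section quaternion
open QuaternionGroup

/-- Elementary abelian 2-subgroups of a (finite) generalized quaternion group have order at most 4
(in fact at most 2). -/
theorem quaternion_card_le_four {n : ℕ} [NeZero n] (E : Subgroup (QuaternionGroup n))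
    (hEe : ∀ a ∈ E, a ^ 2 = 1) : Nat.card E ≤ 4 := by
  haveI : NeZero (2 * n) := ⟨by have := NeZero.ne n; omega⟩
  have hle : E ≤ zpowers (a 1 : QuaternionGroup n) := by
    intro e he
    cases e with
    | a i =>
      rw [mem_zpowers_iff]
      refine ⟨(i.val : ℤ), ?_⟩
      rw [zpow_natCast, a_one_pow]
      simp
    | xa i =>
      exfalso
      have h1 := hEe _ he
      have h2 := orderOf_xa (n := n) i
      have h3 : orderOf (xa i : QuaternionGroup n) ∣ 2 := orderOf_dvd_of_pow_eq_one h1
      rw [h2] at h3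
      omega
  haveI : IsCyclic E :=
    isCyclic_of_injective (Subgroup.inclusion hle) (Subgroup.inclusion_injective hle)
  have := Cfsg.Agent.Lib.Helper21.card_le_two_of_cyclic_of_sq E hEe
  omega

end quaternion

section normalFour
variable {P : Type*} [Group P] [Finite P]

/-- The elements of order dividing 2 of an abelian subgroup, as a subgroup. -/
def omegaTwoOf (A : Subgroup P) (hA : ∀ x ∈ A, ∀ y ∈ A, x * y = y * x) : Subgroup P where
  carrier := {x | x ∈ A ∧ x ^ 2 = 1}
  one_mem' := ⟨A.one_mem, one_pow 2⟩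
  mul_mem' := by
    rintro x y ⟨hx, hx2⟩ ⟨hy, hy2⟩
    refine ⟨A.mul_mem hx hy, ?_⟩
    have hc : Commute x y := hA x hx y hy
    rw [hc.mul_pow, hx2, hy2, one_mul]
  inv_mem' := by
    rintro x ⟨hx, hx2⟩
    exact ⟨A.inv_mem hx, by rw [inv_pow, hx2, inv_one]⟩

omit [Finite P] in
theorem mem_omegaTwoOf {A : Subgroup P} {hA : ∀ x ∈ A, ∀ y ∈ A, x * y = y * x} {x : P} :
    x ∈ omegaTwoOf A hA ↔ x ∈ A ∧ x ^ 2 = 1 := Iff.rfl

/-- A finite 2-group with an elementary abelian subgroup of order more than 4 has a normal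
four-group. -/
theorem exists_normal_four (hP : IsPGroup 2 P) (E₀ : Subgroup P) (hEc : IsMulCommutative E₀)
    (hEe : ∀ a ∈ E₀, a ^ 2 = 1) (hE : 4 < Nat.card E₀) :
    ∃ U : Subgroup P, U.Normal ∧ IsMulCommutative U ∧ (∀ a ∈ U, a ^ 2 = 1) ∧ Nat.card U = 4 := by
  classical
  haveI : Fact (Nat.Prime 2) := ⟨Nat.prime_two⟩
  by_contra hno
  have hn : ∀ A : Subgroup P, A.Normal → IsMulCommutative A → IsCyclic A := by
    intro A hAn hAc
    by_contra hcyc
    have hA2 : IsPGroup 2 A := hP.to_subgroup A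
    have hcomm : ∀ x y : A, x * y = y * x := fun x y => hAc.is_comm.comm x y
    have key : ∀ z : A, ∃ t : A, orderOf t = 2 ∧ t ≠ z := by
      intro z
      by_contra hz
      push_neg at hz
      exact hcyc (Cfsg.Agent.Lib.Helper53.ui_isCyclic_of_comm hA2 (z := z) hz hcomm)
    obtain ⟨t₁, ht₁, -⟩ := key 1
    obtain ⟨t₂, ht₂, hne⟩ := key t₁
    have hAcomm : ∀ x ∈ A, ∀ y ∈ A, x * y = y * x := fun x hx y hy =>
      congrArg Subtype.val (hcomm ⟨x, hx⟩ ⟨y, hy⟩)
    set Ω : Subgroup P := omegaTwoOf A hAcomm with hΩ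
    have hΩn : Ω.Normal := by
      constructor
      intro x hx g
      rw [mem_omegaTwoOf] at hx ⊢
      refine ⟨hAn.conj_mem x hx.1 g, ?_⟩
      rw [conj_pow, hx.2, mul_one, mul_inv_cancel]
    have hsq : ∀ t : A, orderOf t = 2 → (t : P) ∈ Ω := by
      intro t ht
      rw [mem_omegaTwoOf]
      refine ⟨t.2, ?_⟩
      have : t ^ 2 = 1 := by rw [← ht]; exact pow_orderOf_eq_one t
      have := congrArg Subtype.val this
      simpa using this
    have h1 : (t₁ : P) ≠ 1 := by
      intro h
      have : t₁ = 1 := Subtype.ext h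
      rw [this, orderOf_one] at ht₁
      omega
    have h2 : (t₂ : P) ≠ 1 := by
      intro h
      have : t₂ = 1 := Subtype.ext h
      rw [this, orderOf_one] at ht₂
      omega
    have h12 : (t₂ : P) ≠ t₁ := fun h => hne (Subtype.ext h)
    have hcard2 : 2 < Nat.card Ω := by
      haveI : Fintype Ω := Fintype.ofFinite Ω
      rw [Nat.card_eq_fintype_card, Fintype.two_lt_card_iff]
      refine ⟨1, ⟨t₁, hsq t₁ ht₁⟩, ⟨t₂, hsq t₂ ht₂⟩, ?_, ?_, ?_⟩
      · intro h; exact h1 (congrArg Subtype.val h).symm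
      · intro h; exact h2 (congrArg Subtype.val h).symm
      · intro h; exact h12 (congrArg Subtype.val h).symm
    obtain ⟨j, hj⟩ := IsPGroup.iff_card.mp (hP.to_subgroup Ω)
    have hj2 : 2 ≤ j := by
      by_contra h
      push_neg at h
      have : 2 ^ j ≤ 2 ^ 1 := Nat.pow_le_pow_right (by norm_num) (by omega)
      omega
    obtain ⟨k, rfl⟩ : ∃ k, j = k + 2 := ⟨j - 2, by omega⟩
    obtain ⟨U, hUn, hUle, hUc⟩ := exists_normal_card_sq_le hP k Ω hΩn hj
    apply hno
    refine ⟨U, hUn, ?_, ?_, by rw [hUc]; norm_num⟩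
    · exact ⟨⟨fun x y => Subtype.ext (hAcomm x (hUle x.2).1 y (hUle y.2).1)⟩⟩
    · intro a ha
      exact (hUle ha).2
  have hm : ∃ B : Subgroup P, IsMulCommutative B ∧ ¬ IsCyclic B := by
    refine ⟨E₀, hEc, fun hc => ?_⟩
    haveI := hc
    have := Cfsg.Agent.Lib.Helper21.card_le_two_of_cyclic_of_sq E₀ hEe
    omega
  obtain ⟨-, hcase⟩ := Cfsg.Agent.S0519.result 2 hP hn hm
  have hbound : Nat.card E₀ ≤ 4 := by
    rcases hcase with ⟨n, ⟨φ⟩⟩ | ⟨n, hn8, ⟨φ⟩⟩ | hQD
    · have hn0 : n ≠ 0 := by
        rintro rfl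
        haveI : Finite (QuaternionGroup 0) := Finite.of_equiv P φ.toEquiv
        have hinj : Function.Injective (fun i : ℤ => (QuaternionGroup.a (i : ZMod (2 * 0)) : QuaternionGroup 0)) := by
          intro i j hij
          have : ((i : ZMod (2 * 0))) = (j : ZMod (2 * 0)) := by
            injection hij
          simpa using this
        haveI : Finite ℤ := Finite.of_injective _ hinj
        exact not_finite ℤ
      haveI : NeZero n := ⟨hn0⟩
      exact card_le_four_of_mulEquiv φ (fun E _ hEe' => quaternion_card_le_four E hEe') E₀ hEc hEe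
    · haveI : NeZero n := ⟨by omega⟩
      exact card_le_four_of_mulEquiv φ
        (card_le_four_of_self_centralizing_four
          (fun V hV4 hV2 => Cfsg.Agent.Lib.Helper21.dihedral_centralizer_four_le (by omega) V hV4 hV2))
        E₀ hEc hEe
    · exact card_le_four_of_self_centralizing_four
        (fun V hV4 hV2 => Cfsg.Agent.Lib.Helper21.quasiDihedral_centralizer_four_le hQD V hV4 hV2)
        E₀ hEc hEe
  omega

end normalFour

section rankThree
variable {P : Type*} [Group P] [Finite P] (p : ℕ) [hpf : Fact p.Prime]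

/-- A finite `p`-group of `p`-rank at least 3 has a normal elementary abelian subgroup of order `p²`. -/
theorem exists_normal_elemAb_card_sq (hP : IsPGroup p P) (hrk : ¬ Cfsg.PRankLE p 2 P) :
    ∃ U : Subgroup P, U.Normal ∧ Cfsg.IsElementaryAbelian p U ∧ Nat.card U = p ^ 2 := by
  by_cases hp2 : p = 2
  · subst hp2
    unfold Cfsg.PRankLE at hrk
    push_neg at hrk
    obtain ⟨A, hAc, hAe, hAcard⟩ := hrk
    obtain ⟨U, hUn, hUc, hUe, hU4⟩ := exists_normal_four hP A hAc hAe (by norm_num at hAcard; omega)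
    exact ⟨U, hUn, ⟨hUc, hUe⟩, by rw [hU4]; norm_num⟩
  · obtain ⟨M, hMn, hMc, hMe, hMcard⟩ :=
      Cfsg.Agent.Lib.Helper97.PRank.exists_normal_elemAb_card_cube hp2 hP hrk
    obtain ⟨U, hUn, hUle, hUc⟩ := exists_normal_card_sq_le hP 1 M hMn (by rw [hMcard])
    refine ⟨U, hUn, ⟨?_, fun a ha => hMe a (hUle ha)⟩, hUc⟩
    refine ⟨⟨fun x y => Subtype.ext ?_⟩⟩
    have := congrArg Subtype.val (hMc.is_comm.comm ⟨x, hUle x.2⟩ ⟨y, hUle y.2⟩)
    simpa using this

variable {p}

/-- An elementary abelian subgroup of order more than `p²` meets the centralizer of a normal elementary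
abelian subgroup of order `p²` in a subgroup of order at least `p²`. -/
theorem sq_le_card_inf_centralizer (hP : IsPGroup p P) (U : Subgroup P) [hUn : U.Normal]
    (hU : Cfsg.IsElementaryAbelian p U) (hUc : Nat.card U = p ^ 2) (A : Subgroup P)
    (hAcard : p ^ 2 < Nat.card A) :
    p ^ 2 ≤ Nat.card (A ⊓ centralizer (U : Set P) : Subgroup P) := by
  have hpp : p.Prime := hpf.out
  set C := centralizer (U : Set P) with hC
  have hidx : C.index ≤ p := Cfsg.Agent.Lib.Helper97.PRank.index_centralizer_le hP U hU.2 hUc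
  have hrel : C.relIndex A ≤ p :=
    le_trans (Nat.le_of_dvd (Nat.pos_of_ne_zero Subgroup.index_ne_zero_of_finite)
      (Subgroup.relIndex_dvd_index_of_normal C A)) hidx
  have hcard : Nat.card (A ⊓ C : Subgroup P) * C.relIndex A = Nat.card A := by
    have h1 := (C.subgroupOf A).card_mul_index
    have h2 : Nat.card (C.subgroupOf A) = Nat.card (A ⊓ C : Subgroup P) := by
      rw [← Subgroup.card_map_of_injective A.subtype_injective, Subgroup.subgroupOf_map_subtype,
        inf_comm]
    rw [h2] at h1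
    exact h1
  obtain ⟨j, hj⟩ := IsPGroup.iff_card.mp (hP.to_subgroup (A ⊓ C))
  rw [hj] at hcard ⊢
  apply Nat.pow_le_pow_right hpp.pos
  by_contra h
  push_neg at h
  have h1 : p ^ j ≤ p ^ 1 := Nat.pow_le_pow_right hpp.pos (by omega)
  have h2 : p ^ j * C.relIndex A ≤ p ^ 1 * p := Nat.mul_le_mul h1 hrel
  have h3 : p ^ 1 * p = p ^ 2 := by ring
  omega

end rankThree

end Cfsg.Agent.Lib.Helper45
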