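import Mathlib

/-!
# S2363 hive "Lt" (helper45): `|G| < p^(3k)` and `|G|^3 < p^(8k)` for the groups of Lie type - the arithmetic core

`d * g = q^N * M` with `q = p^f`, `p ∤ d`, `p ∤ M`, `M < d * q^(N + l)` (`N` = number of positive roots, `l` = rank, so
that `g < q^(2N + l)`).
-/

set_option autoImplicit false

namespace Cfsg.Agent.Lib.Helper45.Lt

/-- the arithmetic core -/
theorem lt_core {p f N l g d M : ℕ} (hp : p.Prime) (hf : 1 ≤ f) (hg : 0 < g)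
    (hd : d * g = (p ^ f) ^ N * M) (hpd : ¬ p ∣ d) (hpM : ¬ p ∣ M)
    (hM : M < d * (p ^ f) ^ (N + l)) (hl : l ≤ N) :
    g.factorization p = N * f ∧ g < p ^ (3 * g.factorization p) ∧
      (3 * l ≤ 2 * N → g ^ 3 < p ^ (8 * g.factorization p)) := by
  have hd0 : 0 < d := by
    rcases Nat.eq_zero_or_pos d with h | h
    · rw [h, zero_mul] at hM; omega
    · exact h
  have hM0 : M ≠ 0 := by
    intro h
    rw [h, mul_zero] at hd
    have : 0 < d * g := Nat.mul_pos hd0 hg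
    omega
  have hq0 : 0 < p ^ f := pow_pos hp.pos f
  have hk : g.factorization p = N * f := by
    have h1 : (d * g).factorization p = ((p ^ f) ^ N * M).factorization p := by rw [hd]
    rw [Nat.factorization_mul hd0.ne' hg.ne', Nat.factorization_mul (pow_pos hq0 N).ne' hM0,
      Finsupp.add_apply, Finsupp.add_apply, Nat.factorization_eq_zero_of_not_dvd hpd,
      Nat.factorization_eq_zero_of_not_dvd hpM, ← pow_mul, Nat.factorization_pow,
      Finsupp.smul_apply, hp.factorization_self] at h1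
    rw [zero_add, add_zero, smul_eq_mul, mul_one] at h1
    rw [h1, mul_comm]
  have hlt : g < (p ^ f) ^ (2 * N + l) := by
    have h1 : d * g < d * (p ^ f) ^ (2 * N + l) := by
      rw [hd]
      calc (p ^ f) ^ N * M < (p ^ f) ^ N * (d * (p ^ f) ^ (N + l)) :=
            Nat.mul_lt_mul_of_pos_left hM (pow_pos hq0 N)
        _ = d * (p ^ f) ^ (2 * N + l) := by
            rw [show 2 * N + l = N + (N + l) by ring, pow_add]; ring
    exact Nat.lt_of_mul_lt_mul_left h1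
  have hq1 : 1 ≤ p ^ f := hq0
  refine ⟨hk, ?_, ?_⟩
  · rw [hk]
    calc g < (p ^ f) ^ (2 * N + l) := hlt
      _ ≤ (p ^ f) ^ (3 * N) := Nat.pow_le_pow_right hq1 (by omega)
      _ = p ^ (3 * (N * f)) := by rw [← pow_mul]; congr 1; ring
  · intro h3
    rw [hk]
    calc g ^ 3 < ((p ^ f) ^ (2 * N + l)) ^ 3 := Nat.pow_lt_pow_left hlt (by norm_num)
      _ = (p ^ f) ^ (3 * (2 * N + l)) := by rw [← pow_mul]; congr 1; ring
      _ ≤ (p ^ f) ^ (8 * N) := Nat.pow_le_pow_right hq1 (by omega)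
      _ = p ^ (8 * (N * f)) := by rw [← pow_mul]; congr 1; ring

/-- `p ∤ q^a - 1` -/
theorem lt_not_dvd_sub_one {p f a : ℕ} (hp : p.Prime) (hf : 1 ≤ f) (ha : 1 ≤ a) :
    ¬ p ∣ (p ^ f) ^ a - 1 := by
  intro h
  have h1 : p ∣ (p ^ f) ^ a := by
    rw [← pow_mul]
    exact dvd_pow_self p (by positivity)
  have h2 : 1 ≤ (p ^ f) ^ a := Nat.one_le_pow _ _ (pow_pos hp.pos f)
  have h3 : p ∣ (p ^ f) ^ a - ((p ^ f) ^ a - 1) := Nat.dvd_sub h1 h
  have h4 : (p ^ f) ^ a - ((p ^ f) ^ a - 1) = 1 := by omega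
  rw [h4] at h3
  exact hp.one_lt.ne' (Nat.dvd_one.1 h3)

/-- `p ∤ q^a + 1` -/
theorem lt_not_dvd_add_one {p f a : ℕ} (hp : p.Prime) (hf : 1 ≤ f) (ha : 1 ≤ a) :
    ¬ p ∣ (p ^ f) ^ a + 1 := by
  intro h
  have h1 : p ∣ (p ^ f) ^ a := by
    rw [← pow_mul]
    exact dvd_pow_self p (by positivity)
  have h3 : p ∣ 1 := (Nat.dvd_add_right h1).1 h
  exact hp.one_lt.ne' (Nat.dvd_one.1 h3)

/-- `p` does not divide a product of numbers prime to `p` -/
theorem lt_not_dvd_prod {p : ℕ} (hp : p.Prime) {ι : Type*} (s : Finset ι) (F : ι → ℕ)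
    (h : ∀ i ∈ s, ¬ p ∣ F i) : ¬ p ∣ ∏ i ∈ s, F i := by
  intro hd
  obtain ⟨i, hi, hdi⟩ := (Prime.dvd_finsetProd_iff hp.prime F).1 hd
  exact h i hi hdi

/-- `p ∤ a * b` -/
theorem lt_not_dvd_mul {p a b : ℕ} (hp : p.Prime) (ha : ¬ p ∣ a) (hb : ¬ p ∣ b) : ¬ p ∣ a * b := by
  intro h
  rcases (Nat.Prime.dvd_mul hp).1 h with h | h
  · exact ha h
  · exact hb h

/-- a divisor of a number prime to `p` is prime to `p` -/
theorem lt_not_dvd_of_dvd {p d x : ℕ} (hdx : d ∣ x) (hx : ¬ p ∣ x) : ¬ p ∣ d :=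
  fun h => hx (h.trans hdx)

/-- `∏ (q^(a i) - 1) ≤ q^(∑ a i)` -/
theorem lt_prod_sub_one_le {q : ℕ} (hq : 1 ≤ q) {ι : Type*} (s : Finset ι) (a : ι → ℕ) :
    ∏ i ∈ s, (q ^ (a i) - 1) ≤ q ^ (∑ i ∈ s, a i) := by
  rw [← Finset.prod_pow_eq_pow_sum]
  apply Finset.prod_le_prod'
  intro i _
  exact Nat.sub_le _ _

/-- `∏ (q^(a i) - 1) < q^(∑ a i)` for a nonempty product -/
theorem lt_prod_sub_one_lt {q : ℕ} (hq : 1 ≤ q) {ι : Type*} (s : Finset ι) (hs : s.Nonempty)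
    (a : ι → ℕ) : ∏ i ∈ s, (q ^ (a i) - 1) < q ^ (∑ i ∈ s, a i) := by
  classical
  obtain ⟨j, hj⟩ := hs
  rw [← Finset.mul_prod_erase s _ hj, ← Finset.add_sum_erase s _ hj, pow_add]
  have h1 : q ^ (a j) - 1 < q ^ (a j) := Nat.sub_lt (pow_pos hq _) Nat.one_pos
  have h2 := lt_prod_sub_one_le hq (s.erase j) a
  calc (q ^ a j - 1) * ∏ i ∈ s.erase j, (q ^ a i - 1)
      ≤ (q ^ a j - 1) * q ^ (∑ i ∈ s.erase j, a i) := Nat.mul_le_mul_left _ h2
    _ < q ^ a j * q ^ (∑ i ∈ s.erase j, a i) :=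
      Nat.mul_lt_mul_of_pos_right h1 (pow_pos hq _)

end Cfsg.Agent.Lib.Helper45.Lt
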