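import Mathlib
import Cfsg.Prelude.Def_LieTypeDatum
import Cfsg.Agent.Lib.Helper5.AutPSLnMain
import Cfsg.Agent.Lib.Helper5.AutPSLnPred
import Cfsg.Agent.Lib.Helper5.AutPSL2Main
import Cfsg.Agent.Lib.Helper5.AutPSL2Ker

set_option autoImplicit false
set_option linter.unusedSimpArgs false
set_option linter.unusedVariables false
set_option linter.unnecessarySeqFocus false
set_option linter.unusedSectionVars false

/-!
# Structure of `Aut(PSL_n(F))`: consequences of the decomposition `Gam g * Phi σ * γ`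
-/

namespace Cfsg.Agent.Lib.Helper45.AutPSL

open Matrix Cfsg.Agent.Lib.Helper5.AutPSLn

variable {n : ℕ} {F : Type*} [Field F]

/-- entrywise field automorphism on `GL_n` -/
noncomputable def glS (σ : F ≃+* F) : GL (Fin n) F →* GL (Fin n) F :=
  Matrix.GeneralLinearGroup.map σ.toRingHom

lemma glS_val (σ : F ≃+* F) (g : GL (Fin n) F) : (glS σ g).1 = g.1.map σ := rfl

lemma isInnerDiagonal_iff (β : MulAut (Matrix.ProjectiveSpecialLinearGroup (Fin n) F)) :
    Cfsg.IsInnerDiagonalAutPSL β ↔ ∃ g : GL (Fin n) F, β = Gam g := by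
  constructor
  · rintro ⟨g, hg⟩
    refine ⟨g, ?_⟩
    ext y
    obtain ⟨s, rfl⟩ := pr_surjective y
    rw [Gam_pr]
    exact hg s (conjS g s) rfl
  · rintro ⟨g, rfl⟩
    exact isInnerDiagonal_Gam g

lemma isStdField_iff (σ : F ≃+* F) (β : MulAut (Matrix.ProjectiveSpecialLinearGroup (Fin n) F)) :
    Cfsg.IsStdFieldAutPSL σ β ↔ β = Phi σ := by
  constructor
  · intro h
    ext y
    obtain ⟨s, rfl⟩ := pr_surjective y
    rw [Phi_pr]
    exact h s (fieldS σ s) rfl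
  · rintro rfl
    exact isStdField_Phi σ

lemma isInvT_iff (β : MulAut (Matrix.ProjectiveSpecialLinearGroup (Fin n) F)) :
    Cfsg.IsInverseTransposeAutPSL β ↔ β = Iota := by
  constructor
  · intro h
    ext y
    obtain ⟨s, rfl⟩ := pr_surjective y
    rw [Iota_pr]
    exact h s (invT s) rfl
  · rintro rfl
    exact isInvT_Iota

/-- `Inndiag(PSL_n(F))` is the image of `GL_n(F)` -/
theorem inndiag_eq : Cfsg.inndiagPSL n F =
    (Gam : GL (Fin n) F →* MulAut (Matrix.ProjectiveSpecialLinearGroup (Fin n) F)).range := by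
  unfold Cfsg.inndiagPSL Cfsg.autSubgroupOf
  have : {β : MulAut (Matrix.ProjectiveSpecialLinearGroup (Fin n) F) |
      Cfsg.IsInnerDiagonalAutPSL β} =
      ((Gam : GL (Fin n) F →* MulAut (Matrix.ProjectiveSpecialLinearGroup (Fin n) F)).range : Set _) := by
    ext β
    rw [Set.mem_ofPred_eq, isInnerDiagonal_iff]
    constructor
    · rintro ⟨g, rfl⟩; exact ⟨g, rfl⟩
    · rintro ⟨g, rfl⟩; exact ⟨g, rfl⟩
  rw [this, Subgroup.closure_eq]

lemma mem_inndiag_iff (β : MulAut (Matrix.ProjectiveSpecialLinearGroup (Fin n) F)) :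
    β ∈ Cfsg.inndiagPSL n F ↔ ∃ g : GL (Fin n) F, Gam g = β := by
  rw [inndiag_eq]; rfl

lemma Phi_conj_Gam (σ : F ≃+* F) (g : GL (Fin n) F) :
    Phi σ * Gam g * (Phi σ)⁻¹ = Gam (glS σ g) := by
  rw [Phi_mul_Gam, mul_assoc, mul_inv_cancel, mul_one]; rfl

lemma Phi_mul_Gam' (σ : F ≃+* F) (g : GL (Fin n) F) :
    Phi σ * Gam g = Gam (glS σ g) * Phi σ := Phi_mul_Gam σ g

lemma Iota_conj_Gam (g : GL (Fin n) F) :
    Iota * Gam g * Iota⁻¹ = Gam (glInvT g) := by
  rw [Iota_mul_Gam, mul_assoc, mul_inv_cancel, mul_one]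

section Fin

variable [Fintype F]

/-- the decomposition of automorphisms, all `n ≥ 2` -/
theorem decomp (hn : 2 ≤ n) (p : ℕ) [Fact p.Prime] [CharP F p]
    (α : MulAut (Matrix.ProjectiveSpecialLinearGroup (Fin n) F)) :
    ∃ (g : GL (Fin n) F) (σ : F ≃+* F)
      (γ : MulAut (Matrix.ProjectiveSpecialLinearGroup (Fin n) F)),
      (γ = 1 ∨ (3 ≤ n ∧ γ = Iota)) ∧ α = Gam g * Phi σ * γ := by
  rcases Nat.lt_or_ge n 3 with h | h
  · have h2 : n = 2 := by omega
    subst h2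
    obtain ⟨g, σ, e⟩ := Cfsg.Agent.Lib.Helper5.AutPSL2.exists_Gam_Phi p α
    rw [Gam2_eq, Phi2_eq] at e
    exact ⟨g, σ, 1, Or.inl rfl, by rw [mul_one]; exact e⟩
  · obtain ⟨g, σ, γ, hγ, e⟩ := exists_Gam_Phi_Iota h p α
    refine ⟨g, σ, γ, ?_, e⟩
    rcases hγ with rfl | rfl
    · exact Or.inl rfl
    · exact Or.inr ⟨h, rfl⟩

/-- the image of `GL_n(F)` is normal in the automorphism group -/
theorem Gam_range_normal (hn : 2 ≤ n) (p : ℕ) [Fact p.Prime] [CharP F p] :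
    ((Gam : GL (Fin n) F →* MulAut (Matrix.ProjectiveSpecialLinearGroup (Fin n) F)).range).Normal := by
  constructor
  rintro _ ⟨g, rfl⟩ α
  obtain ⟨k, σ, γ, hγ, rfl⟩ := decomp hn p α
  have h1 : ∃ g', γ * Gam g * γ⁻¹ = Gam g' := by
    rcases hγ with rfl | ⟨_, rfl⟩
    · exact ⟨g, by simp⟩
    · exact ⟨glInvT g, Iota_conj_Gam g⟩
  obtain ⟨g', hg'⟩ := h1
  refine ⟨k * glS σ g' * k⁻¹, ?_⟩
  rw [map_mul, map_mul, map_inv, ← Phi_conj_Gam, ← hg']
  group

theorem inndiag_normal (hn : 2 ≤ n) (p : ℕ) [Fact p.Prime] [CharP F p] :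
    (Cfsg.inndiagPSL n F).Normal := by
  rw [inndiag_eq]
  exact Gam_range_normal hn p

/-- an automorphism induced both by a matrix and by a field automorphism -/
theorem Gam_eq_Phi (hn : 2 ≤ n) {k : GL (Fin n) F} {ρ : F ≃+* F}
    (h : (Gam k : MulAut (Matrix.ProjectiveSpecialLinearGroup (Fin n) F)) = Phi ρ) :
    ρ = 1 ∧ k ∈ Subgroup.center (GL (Fin n) F) := by
  rcases Nat.lt_or_ge n 3 with h3 | h3
  · have h2 : n = 2 := by omega
    subst h2
    rw [← Gam2_eq, ← Phi2_eq] at h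
    have h1 := Cfsg.Agent.Lib.Helper5.AutPSL2.eq_one_of_Gam_eq_Phi h
    refine ⟨h1, ?_⟩
    rw [h1, map_one] at h
    rw [← Cfsg.Agent.Lib.Helper5.AutPSL2.Gam_ker]
    exact h
  · exact scalar_of_Gam_eq_Phi (by rw [Fintype.card_fin]; exact h3) h

theorem Gam_ker_eq (hn : 2 ≤ n) :
    (Gam : GL (Fin n) F →* MulAut (Matrix.ProjectiveSpecialLinearGroup (Fin n) F)).ker =
      Subgroup.center (GL (Fin n) F) := by
  rcases Nat.lt_or_ge n 3 with h3 | h3
  · have h2 : n = 2 := by omega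
    subst h2
    rw [← Cfsg.Agent.Lib.Helper5.AutPSL2.Gam_ker]
    ext g
    rw [MonoidHom.mem_ker, MonoidHom.mem_ker, Gam2_eq]
  · exact Gam_ker (by rw [Fintype.card_fin]; exact h3)

theorem Phi_injective (hn : 2 ≤ n) :
    Function.Injective (Phi : (F ≃+* F) →* MulAut (Matrix.ProjectiveSpecialLinearGroup (Fin n) F)) := by
  rw [injective_iff_map_eq_one]
  intro σ hσ
  have : (Gam (1 : GL (Fin n) F) : MulAut (Matrix.ProjectiveSpecialLinearGroup (Fin n) F)) = Phi σ := by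
    rw [map_one, hσ]
  exact (Gam_eq_Phi hn this).1

theorem Gam_eq_Gam_iff (hn : 2 ≤ n) (g h : GL (Fin n) F) :
    (Gam g : MulAut (Matrix.ProjectiveSpecialLinearGroup (Fin n) F)) = Gam h ↔
      g⁻¹ * h ∈ Subgroup.center (GL (Fin n) F) := by
  rw [← Gam_ker_eq hn, MonoidHom.mem_ker, map_mul, map_inv, inv_mul_eq_one]

/-- uniqueness in the decomposition without graph part -/
theorem Gam_Phi_unique (hn : 2 ≤ n) {g h : GL (Fin n) F} {σ τ : F ≃+* F}
    (e : (Gam g * Phi σ : MulAut (Matrix.ProjectiveSpecialLinearGroup (Fin n) F)) = Gam h * Phi τ) :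
    σ = τ ∧ Gam g = (Gam h : MulAut (Matrix.ProjectiveSpecialLinearGroup (Fin n) F)) := by
  have h1 : (Gam (h⁻¹ * g) : MulAut (Matrix.ProjectiveSpecialLinearGroup (Fin n) F)) =
      Phi (τ * σ⁻¹) := by
    rw [map_mul, map_mul, map_inv, map_inv, eq_mul_inv_iff_mul_eq, mul_assoc, e,
      inv_mul_cancel_left]
  have h2 := (Gam_eq_Phi hn h1).1
  have h3 : σ = τ := (mul_inv_eq_one.1 h2).symm
  subst h3
  exact ⟨rfl, mul_right_cancel e⟩

end Fin

/-- the inverse-transpose automorphism is not in the image of `ΓL_n(F)`, `n ≥ 3` -/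
theorem Iota_ne_Gam_Phi (hn : 3 ≤ n) (g : GL (Fin n) F) (τ : F ≃+* F) :
    (Iota : MulAut (Matrix.ProjectiveSpecialLinearGroup (Fin n) F)) ≠ Gam g * Phi τ := by
  intro e
  have h3 : 3 ≤ Fintype.card (Fin n) := by rw [Fintype.card_fin]; exact hn
  have i0 : Fin n := ⟨0, by omega⟩
  let v : Fin n → F := Pi.single i0 1
  have hv : v ≠ 0 := by
    intro h
    have := congrFun h i0
    simp [v] at this
  obtain ⟨φ, hφ, hφv⟩ := exists_ne_zero_orth1 h3 v
  rw [dotProduct_comm] at hφv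
  obtain ⟨ψ, hψ, hψv, hpar⟩ := exists_orth_not_par h3 v hφ
  have key : ∀ χ : Fin n → F, χ ≠ 0 → χ ⬝ᵥ v = 0 →
      Par χ (g.1 *ᵥ (fun i => τ (v i))) := by
    intro χ hχ hχv
    have e1 := congrArg (fun β => β (pr (tv v χ))) e
    simp only [MulAut.mul_apply] at e1
    rw [Iota_pr, Phi_pr, Gam_pr, invT_tv hχv, fieldS_tv τ hχv] at e1
    have hσ0 : (fun i => τ (χ i)) ⬝ᵥ (fun i => τ (v i)) = 0 := by
      have := congrArg τ hχv
      rw [map_zero] at this
      rw [← this]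
      simp [dotProduct, map_sum]
    rw [conjS_tv g hσ0] at e1
    have h1 : (-v) ⬝ᵥ χ = 0 := by
      rw [neg_dotProduct, dotProduct_comm, hχv, neg_zero]
    have h2 : ((fun i => τ (χ i)) ᵥ* (g⁻¹).1) ⬝ᵥ (g.1 *ᵥ (fun i => τ (v i))) = 0 := by
      rw [dotProduct_mulVec, Matrix.vecMul_vecMul, ← Units.val_mul, inv_mul_cancel]
      simpa using hσ0
    have e2 := tv_eq_of_pr_eq h3 h1 h2 e1
    exact (tv_eq_tv h1 h2 hχ (neg_ne_zero.2 hv) e2).1
  exact hpar ((key φ hφ hφv).trans (key ψ hψ hψv).symm)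

end Cfsg.Agent.Lib.Helper45.AutPSL
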