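import Mathlib
import Cfsg.Agent.Lib.Helper45.AutPSLStruct

set_option autoImplicit false
set_option linter.unusedSimpArgs false
set_option linter.unusedVariables false
set_option linter.unnecessarySeqFocus false
set_option linter.unusedSectionVars false

/-!
# Twisted powers and Hilbert 90 for `GL_n`
-/

namespace Cfsg.Agent.Lib.Helper45.AutPSL

open Matrix

section Tw

variable {G : Type*} [Group G]

/-- twisted power `g * S g * S² g * ⋯` -/
def tw (S : G →* G) (g : G) : ℕ → G
  | 0 => 1
  | (k + 1) => g * S (tw S g k)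

@[simp] lemma tw_zero (S : G →* G) (g : G) : tw S g 0 = 1 := rfl

lemma tw_succ (S : G →* G) (g : G) (k : ℕ) : tw S g (k + 1) = g * S (tw S g k) := rfl

lemma tw_one (S : G →* G) (g : G) : tw S g 1 = g := by simp [tw_succ]

lemma tw_two (S : G →* G) (g : G) : tw S g 2 = g * S g := by rw [tw_succ, tw_one]

lemma tw_succ' (S : G →* G) (g : G) (k : ℕ) : tw S g (k + 1) = tw S g k * S^[k] g := by
  induction k with
  | zero => simp [tw_succ]
  | succ k ih =>
    calc tw S g (k + 1 + 1) = g * S (tw S g (k + 1)) := rfl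
      _ = g * S (tw S g k * S^[k] g) := by rw [ih]
      _ = (g * S (tw S g k)) * S (S^[k] g) := by rw [map_mul, mul_assoc]
      _ = tw S g (k + 1) * S^[k + 1] g := by rw [Function.iterate_succ_apply']; rfl

lemma pow_eq_tw {A : Type*} [Group A] (Γ : G →* A) (φ : A) (S : G →* G)
    (hφ : ∀ g, φ * Γ g = Γ (S g) * φ) (g : G) (k : ℕ) :
    (Γ g * φ) ^ k = Γ (tw S g k) * φ ^ k := by
  induction k with
  | zero => simp
  | succ k ih =>
    rw [pow_succ', ih, tw_succ, map_mul, pow_succ']
    calc Γ g * φ * (Γ (tw S g k) * φ ^ k) = Γ g * (φ * Γ (tw S g k)) * φ ^ k := by group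
      _ = _ := by rw [hφ]; group

lemma S_tw_fixed (S : G →* G) (g : G) (r : ℕ) (hS : S^[r] g = g) :
    S (tw S g r) = g⁻¹ * tw S g r * g := by
  have h1 := tw_succ S g r
  have h2 := tw_succ' S g r
  rw [hS] at h2
  rw [h2] at h1
  rw [mul_assoc, h1]; group

lemma map_tw {G' : Type*} [Group G'] (ι : G →* G') (S : G →* G) (S' : G' →* G')
    (h : ∀ x, ι (S x) = S' (ι x)) (g : G) (k : ℕ) : ι (tw S g k) = tw S' (ι g) k := by
  induction k with
  | zero => simp
  | succ k ih => rw [tw_succ, tw_succ, map_mul, h, ih]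

lemma tw_mul_central (S : G →* G) (a g : G) (ha : ∀ k x, Commute (S (tw S a k)) x) (k : ℕ) :
    tw S (a * g) k = tw S a k * tw S g k := by
  induction k with
  | zero => simp
  | succ k ih =>
    rw [tw_succ, tw_succ, tw_succ, ih, map_mul]
    have := (ha k g).eq
    calc a * g * (S (tw S a k) * S (tw S g k)) = a * (g * S (tw S a k)) * S (tw S g k) := by group
      _ = _ := by rw [← this]; group

end Tw

section TwComm

variable {G : Type*} [CommGroup G]

lemma tw_mul (S : G →* G) (a b : G) (k : ℕ) : tw S (a * b) k = tw S a k * tw S b k :=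
  tw_mul_central S a b (fun _ _ => Commute.all _ _) k

/-- the twisted power as a homomorphism of a commutative group -/
def twHom (S : G →* G) (k : ℕ) : G →* G := MonoidHom.mk' (fun a => tw S a k) (fun a b => tw_mul S a b k)

@[simp] lemma twHom_apply (S : G →* G) (k : ℕ) (a : G) : twHom S k a = tw S a k := rfl

end TwComm

section H90

variable {n : ℕ} {F : Type*} [Field F]

/-- the semilinear map `v ↦ g σ(v)` -/
def semiT (σ : F ≃+* F) (g : GL (Fin n) F) (v : Fin n → F) : Fin n → F :=
  g.1 *ᵥ (fun i => σ (v i))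

lemma semiT_add (σ : F ≃+* F) (g : GL (Fin n) F) (v w : Fin n → F) :
    semiT σ g (v + w) = semiT σ g v + semiT σ g w := by
  unfold semiT
  rw [← Matrix.mulVec_add]
  congr 1
  ext i
  simp

lemma semiT_zero (σ : F ≃+* F) (g : GL (Fin n) F) : semiT σ g 0 = 0 := by
  unfold semiT
  have : (fun i => σ ((0 : Fin n → F) i)) = 0 := by ext i; simp
  rw [this, Matrix.mulVec_zero]

lemma semiT_sum (σ : F ≃+* F) (g : GL (Fin n) F) {ι : Type*} (s : Finset ι) (f : ι → Fin n → F) :
    semiT σ g (∑ k ∈ s, f k) = ∑ k ∈ s, semiT σ g (f k) := by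
  classical
  induction s using Finset.induction_on with
  | empty => simp [semiT_zero]
  | insert a s ha ih => rw [Finset.sum_insert ha, Finset.sum_insert ha, semiT_add, ih]

lemma semiT_iterate (σ : F ≃+* F) (g : GL (Fin n) F) (k : ℕ) (v : Fin n → F) :
    (semiT σ g)^[k] v = (tw (glS σ) g k).1 *ᵥ (fun i => (σ ^ k) (v i)) := by
  induction k with
  | zero => simp
  | succ k ih =>
    rw [Function.iterate_succ_apply', ih, tw_succ]
    unfold semiT
    rw [Units.val_mul, ← Matrix.mulVec_mulVec]
    congr 1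
    ext i
    have := RingHom.map_mulVec σ.toRingHom (tw (glS σ) g k).1 (fun i => (σ ^ k) (v i)) i
    simp only [RingEquiv.toRingHom_eq_coe, RingHom.coe_coe] at this
    rw [this, glS_val]
    congr 1
    ext i
    rw [pow_succ']
    rfl

lemma semiT_iterate_smul (σ : F ≃+* F) (g : GL (Fin n) F) (k : ℕ) (c : F) (v : Fin n → F) :
    (semiT σ g)^[k] (c • v) = (σ ^ k) c • (semiT σ g)^[k] v := by
  rw [semiT_iterate, semiT_iterate, ← Matrix.mulVec_smul]
  congr 1
  ext i
  simp

/-- Dedekind independence for the powers of an automorphism -/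
lemma dedekind_pow (σ : F ≃+* F) (r : ℕ) (hr : orderOf σ = r) (c : ℕ → F)
    (h : ∀ x : F, ∑ k ∈ Finset.range r, c k * (σ ^ k) x = 0) : ∀ k < r, c k = 0 := by
  have LI := linearIndependent_monoidHom F F
  let f : Fin r → (F →* F) := fun k => ((σ ^ (k : ℕ) : F ≃+* F) : F →* F)
  have hinj : Function.Injective f := by
    intro k l hkl
    have h1 : σ ^ (k : ℕ) = σ ^ (l : ℕ) := by
      ext x
      exact DFunLike.congr_fun hkl x
    apply Fin.ext
    apply pow_injOn_Iio_orderOf (x := σ) _ _ h1
    · rw [Set.mem_Iio, hr]; exact k.2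
    · rw [Set.mem_Iio, hr]; exact l.2
  have LI2 := LI.comp f hinj
  have h2 := Fintype.linearIndependent_iff.1 LI2 (fun k => c k) (by
    funext x
    have := h x
    rw [Finset.sum_range] at this
    simpa [f] using this)
  intro k hk
  exact h2 ⟨k, hk⟩

/-- **Hilbert 90 for `GL_n` and a cyclic group of field automorphisms** -/
theorem h90_GL (σ : F ≃+* F) (r : ℕ) (hr : orderOf σ = r) (hr0 : 0 < r) (g : GL (Fin n) F)
    (hg : tw (glS σ) g r = 1) : ∃ h : GL (Fin n) F, g * glS σ h = h := by
  classical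
  set T := semiT σ g with hT
  have hσr : σ ^ r = 1 := by rw [← hr]; exact pow_orderOf_eq_one σ
  have hTr : ∀ v, T^[r] v = v := by
    intro v
    rw [hT, semiT_iterate, hg, hσr]
    simp
  let b : (Fin n → F) → (Fin n → F) := fun v => ∑ k ∈ Finset.range r, T^[k] v
  have hb : ∀ v, T (b v) = b v := by
    intro v
    show T (∑ k ∈ Finset.range r, T^[k] v) = ∑ k ∈ Finset.range r, T^[k] v
    rw [hT, semiT_sum, ← hT]
    have h1 : ∑ k ∈ Finset.range r, T (T^[k] v) = ∑ k ∈ Finset.range r, T^[k + 1] v := by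
      refine Finset.sum_congr rfl fun k _ => ?_
      rw [Function.iterate_succ_apply']
    rw [h1]
    have h2 := Finset.sum_range_succ' (fun k => T^[k] v) r
    have h3 := Finset.sum_range_succ (fun k => T^[k] v) r
    rw [h3, hTr] at h2
    simp only [Function.iterate_zero, id_eq] at h2
    exact (add_right_cancel h2).symm
  have hspan : Submodule.span F (Set.range b) = ⊤ := by
    by_contra hne
    obtain ⟨f, hf0, hf⟩ := Submodule.exists_le_ker_of_lt_top _ (lt_top_iff_ne_top.2 hne)
    apply hf0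
    refine LinearMap.ext fun v => ?_
    have h1 : ∀ x : F, ∑ k ∈ Finset.range r, f (T^[k] v) * (σ ^ k) x = 0 := by
      intro x
      have h2 : f (b (x • v)) = 0 := by
        have : b (x • v) ∈ Submodule.span F (Set.range b) := Submodule.subset_span ⟨_, rfl⟩
        exact LinearMap.mem_ker.1 (hf this)
      change f (∑ k ∈ Finset.range r, T^[k] (x • v)) = 0 at h2
      rw [map_sum] at h2
      rw [← h2]
      refine Finset.sum_congr rfl fun k _ => ?_
      rw [hT, semiT_iterate_smul, map_smul, smul_eq_mul, mul_comm]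
    have h3 := dedekind_pow σ r hr (fun k => f (T^[k] v)) h1 0 hr0
    simpa using h3
  let 𝔟 := Module.Basis.ofSpan (K := F) (s := Set.range b) hspan.ge
  have hcard : Fintype.card ((linearIndepOn_empty F id).extend (Set.empty_subset (Set.range b))) = n := by
    rw [← Module.finrank_eq_card_basis 𝔟, Module.finrank_fin_fun]
  let e : Fin n ≃ ((linearIndepOn_empty F id).extend (Set.empty_subset (Set.range b))) :=
    (Fintype.equivFinOfCardEq hcard).symm
  let 𝔟' : Module.Basis (Fin n) F (Fin n → F) := 𝔟.reindex e.symm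
  have hfix : ∀ j, T (𝔟' j) = 𝔟' j := by
    intro j
    have : 𝔟' j ∈ Set.range b := by
      apply Module.Basis.ofSpan_subset hspan.ge
      exact ⟨e j, by simp [𝔟', 𝔟]⟩
    obtain ⟨v, hv⟩ := this
    rw [← hv, hb]
  let hm : Matrix (Fin n) (Fin n) F := (Pi.basisFun F (Fin n)).toMatrix 𝔟'
  let hm' : Matrix (Fin n) (Fin n) F := 𝔟'.toMatrix (Pi.basisFun F (Fin n))
  have h12 : hm * hm' = 1 := Module.Basis.toMatrix_mul_toMatrix_flip _ _
  have h21 : hm' * hm = 1 := Module.Basis.toMatrix_mul_toMatrix_flip _ _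
  refine ⟨⟨hm, hm', h12, h21⟩, ?_⟩
  apply Units.ext
  rw [Units.val_mul, glS_val]
  show g.1 * hm.map σ = hm
  ext i j
  have h4 := congrFun (hfix j) i
  rw [hT] at h4
  unfold semiT at h4
  rw [Matrix.mul_apply]
  simp only [Matrix.mulVec, dotProduct] at h4
  simpa [hm, Module.Basis.toMatrix_apply] using h4

end H90

end Cfsg.Agent.Lib.Helper45.AutPSL
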