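import Mathlib
import Cfsg.Agent.Lib.Helper45.AutPSLTw

set_option autoImplicit false
set_option linter.unusedSimpArgs false
set_option linter.unusedVariables false
set_option linter.unnecessarySeqFocus false
set_option linter.unusedSectionVars false

/-!
# Scalar Hilbert 90, surjectivity of the norm, and the field-automorphism coset
-/

namespace Cfsg.Agent.Lib.Helper45.AutPSL

open Matrix Cfsg.Agent.Lib.Helper5.AutPSLn

variable {n : ℕ} {F : Type*} [Field F]

/-- a field automorphism acting on the units -/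
def uS (σ : F ≃+* F) : Fˣ →* Fˣ := Units.map (σ.toRingHom : F →* F)

@[simp] lemma uS_val (σ : F ≃+* F) (c : Fˣ) : ((uS σ c : Fˣ) : F) = σ c := rfl

lemma glS_scalar (σ : F ≃+* F) (c : Fˣ) :
    glS σ (Matrix.GeneralLinearGroup.scalar (Fin n) c) =
      Matrix.GeneralLinearGroup.scalar (Fin n) (uS σ c) :=
  Matrix.GeneralLinearGroup.map_scalar _ _

lemma uS_iterate (σ : F ≃+* F) (k : ℕ) (c : Fˣ) : (uS σ)^[k] c = uS (σ ^ k) c := by
  induction k with
  | zero => apply Units.ext; simp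
  | succ k ih =>
    rw [Function.iterate_succ_apply', ih]
    apply Units.ext
    rw [uS_val, uS_val, uS_val, pow_succ']
    rfl

lemma glS_iterate (σ : F ≃+* F) (k : ℕ) (g : GL (Fin n) F) : (glS σ)^[k] g = glS (σ ^ k) g := by
  induction k with
  | zero =>
    apply Units.ext
    rw [Function.iterate_zero, id_eq, pow_zero, glS_val]
    ext i j
    rfl
  | succ k ih =>
    rw [Function.iterate_succ_apply', ih]
    apply Units.ext
    rw [glS_val, glS_val, glS_val, pow_succ']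
    ext i j
    rfl

lemma glS_one (g : GL (Fin n) F) : glS (1 : F ≃+* F) g = g := by
  apply Units.ext
  rw [glS_val]
  ext i j
  rfl

lemma uS_one (c : Fˣ) : uS (1 : F ≃+* F) c = c := by
  apply Units.ext
  rfl

lemma tw_scalar (σ : F ≃+* F) (c : Fˣ) (k : ℕ) :
    tw (glS σ) (Matrix.GeneralLinearGroup.scalar (Fin n) c) k =
      Matrix.GeneralLinearGroup.scalar (Fin n) (tw (uS σ) c k) :=
  (map_tw (Matrix.GeneralLinearGroup.scalar (Fin n)) (uS σ) (glS σ)
    (fun x => (glS_scalar σ x).symm) c k).symm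

lemma scalar_injective (hn : 1 ≤ n) :
    Function.Injective (Matrix.GeneralLinearGroup.scalar (Fin n) : Fˣ →* GL (Fin n) F) := by
  intro a b hab
  have h1 := congrArg (fun g : GL (Fin n) F => g.1 ⟨0, by omega⟩ ⟨0, by omega⟩) hab
  simp only [Matrix.GeneralLinearGroup.coe_scalar, Matrix.scalar_apply, Matrix.diagonal_apply_eq] at h1
  exact Units.ext h1

/-- Hilbert 90 for the multiplicative group -/
theorem h90_units (σ : F ≃+* F) (r : ℕ) (hr : orderOf σ = r) (hr0 : 0 < r) (c : Fˣ)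
    (hc : tw (uS σ) c r = 1) : ∃ μ : Fˣ, c * uS σ μ = μ := by
  have h1 : tw (glS σ) (Matrix.GeneralLinearGroup.scalar (Fin 1) c) r = 1 := by
    rw [tw_scalar, hc, map_one]
  obtain ⟨h, hh⟩ := h90_GL σ r hr hr0 _ h1
  have hdet : h.1 0 0 ≠ 0 := by
    have := (Matrix.isUnit_iff_isUnit_det _).1 h.isUnit
    rw [Matrix.det_fin_one] at this
    exact this.ne_zero
  refine ⟨Units.mk0 _ hdet, ?_⟩
  apply Units.ext
  have h2 := congrArg (fun g : GL (Fin 1) F => g.1 0 0) hh
  simp only [Units.val_mul, glS_val, Matrix.GeneralLinearGroup.coe_scalar, Matrix.mul_apply,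
    Matrix.scalar_apply, Matrix.diagonal_apply, Matrix.map_apply] at h2
  simpa using h2

section Fin

variable [Fintype F]

lemma uS_tw_fixed (σ : F ≃+* F) (r : ℕ) (hσ : σ ^ r = 1) (μ : Fˣ) :
    uS σ (tw (uS σ) μ r) = tw (uS σ) μ r := by
  have h1 := S_tw_fixed (uS σ) μ r (by rw [uS_iterate, hσ, uS_one])
  rw [h1, mul_comm, mul_inv_cancel_left]

/-- the norm from a finite field onto the fixed field of a cyclic group is surjective -/
theorem norm_surj (σ : F ≃+* F) (r : ℕ) (hr : orderOf σ = r) (hr0 : 0 < r) (c : Fˣ)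
    (hc : uS σ c = c) : ∃ μ : Fˣ, tw (uS σ) μ r = c := by
  classical
  have hσr : σ ^ r = 1 := by rw [← hr]; exact pow_orderOf_eq_one σ
  let N : Fˣ →* Fˣ := twHom (uS σ) r
  let ψ : Fˣ →* Fˣ := MonoidHom.id Fˣ / uS σ
  have hψ : ∀ μ, ψ μ = μ / uS σ μ := fun μ => rfl
  have hN : ∀ μ, N μ = tw (uS σ) μ r := fun μ => rfl
  have hker : N.ker = ψ.range := by
    ext x
    rw [MonoidHom.mem_ker, MonoidHom.mem_range]
    constructor
    · intro hx
      obtain ⟨μ, hμ⟩ := h90_units σ r hr hr0 x hx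
      refine ⟨μ, ?_⟩
      rw [hψ, div_eq_iff_eq_mul, hμ]
    · rintro ⟨μ, rfl⟩
      rw [hψ, map_div, div_eq_one, hN, hN]
      rw [← map_tw (uS σ) (uS σ) (uS σ) (fun _ => rfl), uS_tw_fixed σ r hσr]
  have hle : N.range ≤ ψ.ker := by
    rintro _ ⟨μ, rfl⟩
    rw [MonoidHom.mem_ker, hψ, hN, uS_tw_fixed σ r hσr, div_self']
  have hc1 : Nat.card ψ.ker * Nat.card ψ.range = Nat.card Fˣ := by
    rw [← Subgroup.index_ker]; exact Subgroup.card_mul_index _
  have hc2 : Nat.card N.ker * Nat.card N.range = Nat.card Fˣ := by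
    rw [← Subgroup.index_ker]; exact Subgroup.card_mul_index _
  have hcard : Nat.card ψ.ker = Nat.card N.range := by
    rw [hker] at hc2
    have hpos : 0 < Nat.card ψ.range := Nat.card_pos
    have : Nat.card ψ.range * Nat.card ψ.ker = Nat.card ψ.range * Nat.card N.range := by
      rw [mul_comm, hc1, hc2]
    exact Nat.eq_of_mul_eq_mul_left hpos this
  have heq : N.range = ψ.ker := Subgroup.eq_of_le_of_card_ge hle hcard.le
  have hc' : c ∈ ψ.ker := by
    rw [MonoidHom.mem_ker, hψ, hc, div_self']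
  rw [← heq] at hc'
  exact hc'

lemma Gam_scalar (hn : 2 ≤ n) (c : Fˣ) :
    (Gam (Matrix.GeneralLinearGroup.scalar (Fin n) c) :
      MulAut (Matrix.ProjectiveSpecialLinearGroup (Fin n) F)) = 1 := by
  rw [← MonoidHom.mem_ker, Gam_ker_eq hn, Matrix.GeneralLinearGroup.center_eq_range_scalar]
  exact ⟨c, rfl⟩

lemma exists_scalar_of_Gam_eq_one (hn : 2 ≤ n) {g : GL (Fin n) F}
    (h : (Gam g : MulAut (Matrix.ProjectiveSpecialLinearGroup (Fin n) F)) = 1) :
    ∃ c : Fˣ, Matrix.GeneralLinearGroup.scalar (Fin n) c = g := by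
  rw [← MonoidHom.mem_ker, Gam_ker_eq hn, Matrix.GeneralLinearGroup.center_eq_range_scalar] at h
  exact h

lemma Phi_pow (σ : F ≃+* F) (k : ℕ) :
    (Phi σ : MulAut (Matrix.ProjectiveSpecialLinearGroup (Fin n) F)) ^ k = Phi (σ ^ k) :=
  (map_pow _ _ _).symm

/-- adjusting by a scalar so that the twisted power becomes trivial -/
theorem exists_scalar_adjust (hn : 1 ≤ n) (σ : F ≃+* F) (r : ℕ) (hr : orderOf σ = r) (hr0 : 0 < r)
    (g : GL (Fin n) F) (c : Fˣ)
    (hc : Matrix.GeneralLinearGroup.scalar (Fin n) c = tw (glS σ) g r) :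
    ∃ μ : Fˣ, tw (glS σ) (Matrix.GeneralLinearGroup.scalar (Fin n) μ⁻¹ * g) r = 1 := by
  have hσr : σ ^ r = 1 := by rw [← hr]; exact pow_orderOf_eq_one σ
  have hfix : uS σ c = c := by
    apply scalar_injective hn
    rw [← glS_scalar, hc, S_tw_fixed (glS σ) g r (by rw [glS_iterate, hσr, glS_one]), ← hc]
    rw [mul_assoc, Matrix.GeneralLinearGroup.scalar_commute, inv_mul_cancel_left]
  obtain ⟨μ, hμ⟩ := norm_surj σ r hr hr0 c hfix
  refine ⟨μ, ?_⟩
  rw [tw_mul_central]
  · rw [tw_scalar, ← hc, ← map_mul]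
    have : tw (uS σ) μ⁻¹ r = (tw (uS σ) μ r)⁻¹ := map_inv (twHom (uS σ) r) μ
    rw [this, hμ, inv_mul_cancel, map_one]
  · intro k x
    rw [tw_scalar, glS_scalar]
    exact Matrix.GeneralLinearGroup.scalar_commute _ _

/-- **the coset of a field automorphism**: an element of `Inndiag · φ` with trivial `r`-th power
is `Inndiag`-conjugate to `φ` -/
theorem field_case (hn : 2 ≤ n) (σ : F ≃+* F) (r : ℕ) (hr : orderOf σ = r) (hr0 : 0 < r)
    (g : GL (Fin n) F)
    (h : (Gam g * Phi σ : MulAut (Matrix.ProjectiveSpecialLinearGroup (Fin n) F)) ^ r = 1) :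
    ∃ h : GL (Fin n) F,
      (Gam g * Phi σ : MulAut (Matrix.ProjectiveSpecialLinearGroup (Fin n) F)) =
        Gam h * Phi σ * (Gam h)⁻¹ := by
  have hσr : σ ^ r = 1 := by rw [← hr]; exact pow_orderOf_eq_one σ
  have e1 := pow_eq_tw (Gam : GL (Fin n) F →* MulAut (Matrix.ProjectiveSpecialLinearGroup (Fin n) F))
    (Phi σ) (glS σ) (Phi_mul_Gam' σ) g r
  rw [h, Phi_pow, hσr, map_one, mul_one] at e1
  obtain ⟨c, hc⟩ := exists_scalar_of_Gam_eq_one hn e1.symm
  obtain ⟨μ, hμ⟩ := exists_scalar_adjust (by omega) σ r hr hr0 g c hc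
  obtain ⟨k, hk⟩ := h90_GL σ r hr hr0 _ hμ
  refine ⟨k, ?_⟩
  have h2 : g = Matrix.GeneralLinearGroup.scalar (Fin n) μ * k * (glS σ k)⁻¹ := by
    have : g = Matrix.GeneralLinearGroup.scalar (Fin n) μ *
        (Matrix.GeneralLinearGroup.scalar (Fin n) μ⁻¹ * g * glS σ k) * (glS σ k)⁻¹ := by
      rw [map_inv]; group
    rw [hk] at this
    exact this
  have h3 : (Gam g : MulAut (Matrix.ProjectiveSpecialLinearGroup (Fin n) F)) =
      Gam k * (Gam (glS σ k))⁻¹ := by
    rw [h2, map_mul, map_mul, Gam_scalar hn, one_mul, map_inv]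
  calc (Gam g * Phi σ : MulAut (Matrix.ProjectiveSpecialLinearGroup (Fin n) F))
      = Gam k * (Gam (glS σ k))⁻¹ * Phi σ := by rw [h3]
    _ = Gam k * (Gam (glS σ k⁻¹) * Phi σ) := by rw [map_inv, map_inv]; group
    _ = Gam k * (Phi σ * Gam k⁻¹) := by rw [Phi_mul_Gam']
    _ = Gam k * Phi σ * (Gam k)⁻¹ := by rw [map_inv]; group

end Fin

end Cfsg.Agent.Lib.Helper45.AutPSL
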