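import Mathlib
import Cfsg.Prelude.Def_ClassicalGeometry
import Cfsg.Agent.Lib.Helper4.NdDefs
import Cfsg.Agent.Lib.Helper38.SLCard
import Cfsg.Agent.Lib.Helper40.Darboux

set_option autoImplicit false
open Matrix
open Cfsg.Agent.Lib.Helper99 (Nd dker sympB)

/-! S5956 Nd hive (helper4), leaf ND-D6 (helper45): a fixed-point-free isometry of prime order `r` on a nondegenerate
alternating space of dimension `c`.  Uniform model: `K` the extension of `F` of degree `c / 2`, `V₀ = K²` over `F`,
`B₀(u, v) = Tr_{K/F}(u₀ v₁ - u₁ v₀)`, `y₀ ∈ SL₂(K)` of order `r` (Cauchy). -/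

namespace Cfsg.Agent.Lib.Helper4.NdH

universe u v

section model

variable {F : Type u} [Field F] {K : Type*} [Field K] [Algebra F K]

/-- the trace of the determinant form on `K²` -/
noncomputable def d6_form (F : Type u) [Field F] (K : Type*) [Field K] [Algebra F K] :
    (Fin 2 → K) →ₗ[F] (Fin 2 → K) →ₗ[F] F :=
  LinearMap.mk₂ F (fun u v => Algebra.trace F K (u 0 * v 1 - u 1 * v 0))
    (fun u u' v => by
      rw [← map_add]
      congr 1
      simp only [Pi.add_apply]
      ring)
    (fun c u v => by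
      rw [← map_smul]
      congr 1
      simp only [Pi.smul_apply, smul_mul_assoc, smul_sub])
    (fun u v v' => by
      rw [← map_add]
      congr 1
      simp only [Pi.add_apply]
      ring)
    (fun c u v => by
      rw [← map_smul]
      congr 1
      simp only [Pi.smul_apply, mul_smul_comm, smul_sub])

theorem d6_form_apply (u v : Fin 2 → K) :
    d6_form F K u v = Algebra.trace F K (u 0 * v 1 - u 1 * v 0) := rfl

theorem d6_form_alt (v : Fin 2 → K) : d6_form F K v v = 0 := by
  rw [d6_form_apply, mul_comm, sub_self, map_zero]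

theorem d6_exists_trace_ne [FiniteDimensional F K] [Algebra.IsSeparable F K] (a : K) (ha : a ≠ 0) :
    ∃ b : K, Algebra.trace F K (a * b) ≠ 0 := by
  by_contra hcon
  push Not at hcon
  have hnd := traceForm_nondegenerate F K
  have : a = 0 := hnd.1 a (fun b => by rw [Algebra.traceForm_apply]; exact hcon b)
  exact ha this

theorem d6_form_nd [FiniteDimensional F K] [Algebra.IsSeparable F K] (u : Fin 2 → K)
    (hu : ∀ v, d6_form F K u v = 0) : u = 0 := by
  by_contra hne
  have h01 : u 0 ≠ 0 ∨ u 1 ≠ 0 := by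
    by_contra hcon
    push Not at hcon
    apply hne
    funext i
    fin_cases i
    · exact hcon.1
    · exact hcon.2
  rcases h01 with h0 | h1
  · obtain ⟨b, hb⟩ := d6_exists_trace_ne (F := F) (u 0) h0
    apply hb
    have := hu ![0, b]
    rw [d6_form_apply] at this
    simpa using this
  · obtain ⟨b, hb⟩ := d6_exists_trace_ne (F := F) (u 1) h1
    apply hb
    have := hu ![b, 0]
    rw [d6_form_apply] at this
    simp only [Matrix.cons_val_zero, Matrix.cons_val_one, mul_zero, zero_sub, map_neg,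
      neg_eq_zero] at this
    exact this

/-- elements of `SL₂(K)` preserve the form -/
theorem d6_form_isom (y : Matrix.SpecialLinearGroup (Fin 2) K) (u v : Fin 2 → K) :
    d6_form F K (y.1 *ᵥ u) (y.1 *ᵥ v) = d6_form F K u v := by
  rw [d6_form_apply, d6_form_apply]
  congr 1
  have hdet : y.1 0 0 * y.1 1 1 - y.1 0 1 * y.1 1 0 = 1 := by
    have := y.2
    rwa [Matrix.det_fin_two] at this
  simp only [Matrix.mulVec, dotProduct, Fin.sum_univ_two]
  linear_combination (u 0 * v 1 - u 1 * v 0) * hdet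

/-- an element of `SL₂(K)` fixing a nonzero vector is unipotent -/
theorem d6_sq_zero (y : Matrix.SpecialLinearGroup (Fin 2) K) (v : Fin 2 → K) (hv : v ≠ 0)
    (hyv : y.1 *ᵥ v = v) : (y.1 - 1) * (y.1 - 1) = 0 := by
  have hdet : y.1 0 0 * y.1 1 1 - y.1 0 1 * y.1 1 0 = 1 := by
    have := y.2
    rwa [Matrix.det_fin_two] at this
  have h0 : y.1 0 0 * v 0 + y.1 0 1 * v 1 = v 0 := by
    have := congrFun hyv 0
    simpa [Matrix.mulVec, dotProduct, Fin.sum_univ_two] using this
  have h1 : y.1 1 0 * v 0 + y.1 1 1 * v 1 = v 1 := by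
    have := congrFun hyv 1
    simpa [Matrix.mulVec, dotProduct, Fin.sum_univ_two] using this
  -- the trace is `2`
  have htr : y.1 0 0 + y.1 1 1 = 2 := by
    have h01 : v 0 ≠ 0 ∨ v 1 ≠ 0 := by
      by_contra hcon
      push Not at hcon
      apply hv
      funext i
      fin_cases i
      · exact hcon.1
      · exact hcon.2
    rcases h01 with hv0 | hv1
    · have : (y.1 0 0 + y.1 1 1 - 2) * v 0 = 0 := by
        linear_combination -(y.1 1 1 - 1) * h0 + y.1 0 1 * h1 + v 0 * hdet
      rcases mul_eq_zero.1 this with h | h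
      · linear_combination h
      · exact absurd h hv0
    · have : (y.1 0 0 + y.1 1 1 - 2) * v 1 = 0 := by
        linear_combination -(y.1 0 0 - 1) * h1 + y.1 1 0 * h0 + v 1 * hdet
      rcases mul_eq_zero.1 this with h | h
      · linear_combination h
      · exact absurd h hv1
  ext i j
  fin_cases i <;> fin_cases j <;>
    simp only [Matrix.mul_apply, Fin.sum_univ_two, Matrix.sub_apply, Matrix.one_apply, Fin.zero_eta,
      Fin.mk_one, Matrix.zero_apply, if_true, Fin.isValue, one_ne_zero, zero_ne_one, if_false]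
  · linear_combination y.1 0 0 * htr - hdet
  · linear_combination y.1 0 1 * htr
  · linear_combination y.1 1 0 * htr
  · linear_combination y.1 1 1 * htr - hdet

theorem d6_pow_of_sq_zero {n : Type*} [Fintype n] [DecidableEq n] (M : Matrix n n K)
    (h : (M - 1) * (M - 1) = 0) (k : ℕ) : M ^ k = 1 + (k : K) • (M - 1) := by
  obtain ⟨N, rfl⟩ : ∃ N, M = 1 + N := ⟨M - 1, by abel⟩
  simp only [add_sub_cancel_left] at h ⊢
  induction k with
  | zero => simp
  | succ k ih =>
    rw [pow_succ, ih]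
    simp only [add_mul, mul_add, one_mul, mul_one, Matrix.smul_mul, h, smul_zero, add_zero]
    rw [Nat.cast_succ, add_smul, one_smul]
    abel

/-- an element of `SL₂(K)` of prime order `r ≠ char K` has no nonzero fixed vector -/
theorem d6_fpf (y : Matrix.SpecialLinearGroup (Fin 2) K) (r : ℕ) (hr : r.Prime) (hrK : (r : K) ≠ 0)
    (hy : orderOf y = r) (v : Fin 2 → K) (hyv : y.1 *ᵥ v = v) : v = 0 := by
  by_contra hv
  have hsq := d6_sq_zero y v hv hyv
  have hpow := d6_pow_of_sq_zero y.1 hsq r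
  have hyr : y ^ r = 1 := by rw [← hy]; exact pow_orderOf_eq_one y
  have hyr' : y.1 ^ r = 1 := by
    have := congrArg Subtype.val hyr
    simpa using this
  rw [hyr'] at hpow
  have h0 : (r : K) • (y.1 - 1) = 0 := by
    have : (1 : Matrix (Fin 2) (Fin 2) K) + 0 = 1 + (r : K) • (y.1 - 1) := by rw [add_zero]; exact hpow
    exact (add_left_cancel this).symm
  have h1 : y.1 - 1 = 0 := by
    rcases smul_eq_zero.1 h0 with h | h
    · exact absurd h hrK
    · exact h
  have h2 : y = 1 := by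
    apply Subtype.ext
    rw [sub_eq_zero] at h1
    rw [h1]
    rfl
  rw [h2, orderOf_one] at hy
  exact hr.one_lt.ne hy

end model

variable {F : Type u} [Field F] {V : Type v} [AddCommGroup V] [Module F V]

/-- two nondegenerate alternating spaces of the same dimension are isometric -/
theorem d6_exists_isometry [FiniteDimensional F V] {V₀ : Type*} [AddCommGroup V₀] [Module F V₀]
    [FiniteDimensional F V₀] (B : V →ₗ[F] V →ₗ[F] F) (hB : ∀ v, B v v = 0)
    (hnd : ∀ u, (∀ v, B u v = 0) → u = 0)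
    (B₀ : V₀ →ₗ[F] V₀ →ₗ[F] F) (hB₀ : ∀ v, B₀ v v = 0) (hnd₀ : ∀ u, (∀ v, B₀ u v = 0) → u = 0)
    (N : ℕ) (hV : Module.finrank F V = 2 * N) (hV₀ : Module.finrank F V₀ = 2 * N) :
    ∃ e : V ≃ₗ[F] V₀, ∀ u v, B₀ (e u) (e v) = B u v := by
  classical
  have hskew : ∀ u v, B u v = - B v u := by
    intro u v
    have h := hB (u + v)
    simp only [map_add, LinearMap.add_apply, hB u, hB v, zero_add, add_zero] at h
    linear_combination h
  have hskew₀ : ∀ u v, B₀ u v = - B₀ v u := by
    intro u v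
    have h := hB₀ (u + v)
    simp only [map_add, LinearMap.add_apply, hB₀ u, hB₀ v, zero_add, add_zero] at h
    linear_combination h
  have hN : LinearMap.BilinForm.Nondegenerate (B : LinearMap.BilinForm F V) := by
    refine ⟨fun x hx => hnd x hx, fun y hy => hnd y (fun x => ?_)⟩
    rw [hskew, hy x, neg_zero]
  have hN₀ : LinearMap.BilinForm.Nondegenerate (B₀ : LinearMap.BilinForm F V₀) := by
    refine ⟨fun x hx => hnd₀ x hx, fun y hy => hnd₀ y (fun x => ?_)⟩
    rw [hskew₀, hy x, neg_zero]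
  obtain ⟨b, hb⟩ := Cfsg.Agent.Lib.Helper40.Darboux.darboux_basis N V B hB hN hV
  obtain ⟨b₀, hb₀⟩ := Cfsg.Agent.Lib.Helper40.Darboux.darboux_basis N V₀ B₀ hB₀ hN₀ hV₀
  let e : V ≃ₗ[F] V₀ := b.equiv b₀ (Equiv.refl _)
  refine ⟨e, ?_⟩
  have he : ∀ i, e (b i) = b₀ i := fun i => by simp [e]
  have key : (B₀.compl₁₂ e.toLinearMap e.toLinearMap : LinearMap.BilinForm F V) = B := by
    apply (LinearMap.BilinForm.toMatrix b).injective
    ext i j
    rw [LinearMap.BilinForm.toMatrix_apply, LinearMap.compl₁₂_apply, LinearEquiv.coe_coe, he, he,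
      hb, ← hb₀, LinearMap.BilinForm.toMatrix_apply]
  intro u v
  have := congrArg (fun C : LinearMap.BilinForm F V => C u v) key
  simpa using this

/-- ND-D6 (FPF MODEL) -/
theorem exists_fpf_isom [Fintype F] [FiniteDimensional F V] (p : ℕ) [Fact p.Prime] [CharP F p]
    (B : V →ₗ[F] V →ₗ[F] F) (hB : Alt B) (hV : Nd B ⊤) (r : ℕ) [Fact r.Prime] (hr2 : r ≠ 2)
    (hrp : r ≠ p)
    (hdim : Module.finrank F V = cOf (orderOf ((Fintype.card F : ℕ) : ZMod r))) :
    ∃ y : V →ₗ[F] V, Isom B y ∧ (y : Module.End F V) ^ r = 1 ∧ ∀ v, y v = v → v = 0 := by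
  classical
  have _ := hr2
  have hr : r.Prime := Fact.out
  have hp : p.Prime := Fact.out
  set q := Fintype.card F with hq
  have hq1 : 1 ≤ q := Fintype.card_pos
  -- `r ∤ q`
  have hrq : ¬ r ∣ q := by
    obtain ⟨f, hf⟩ := FiniteField.card F p
    intro h
    rw [hq, hf.2] at h
    exact hrp ((Nat.prime_dvd_prime_iff_eq hr hp).1 (hr.dvd_of_dvd_pow h))
  have hq0 : ((q : ℕ) : ZMod r) ≠ 0 := by
    rwa [Ne, ZMod.natCast_eq_zero_iff]
  set i := orderOf ((q : ℕ) : ZMod r) with hi
  have hipos : 0 < i := by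
    rw [hi, orderOf_pos_iff, isOfFinOrder_iff_pow_eq_one]
    exact ⟨r - 1, Nat.sub_pos_of_lt hr.one_lt, ZMod.pow_card_sub_one_eq_one hq0⟩
  -- `N = c / 2`
  obtain ⟨N, hN, hNpos, hiN⟩ : ∃ N, cOf i = 2 * N ∧ 0 < N ∧ i ∣ 2 * N := by
    unfold cOf
    split_ifs with hev
    · obtain ⟨j, hj⟩ := hev
      refine ⟨j, by omega, by omega, ?_⟩
      rw [hj]
      exact ⟨1, by ring⟩
    · exact ⟨i, rfl, hipos, Dvd.intro_left 2 rfl⟩
  rw [hN] at hdim
  have : NeZero N := ⟨hNpos.ne'⟩
  -- the extension field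
  let K := FiniteField.Extension F p N
  have hfin : Module.finrank F K = N := FiniteField.finrank_extension F p N
  have hcardK : Nat.card K = q ^ N := by
    rw [FiniteField.natCard_extension, Nat.card_eq_fintype_card]
  have : Fintype K := Fintype.ofFinite K
  have hcardK' : Fintype.card K = q ^ N := by rw [← Nat.card_eq_fintype_card, hcardK]
  -- `r ∣ |SL₂(K)|`
  have hrQ : r ∣ (q ^ N) ^ 2 - 1 := by
    have h1 : ((q : ℕ) : ZMod r) ^ (2 * N) = 1 := orderOf_dvd_iff_pow_eq_one.1 hiN
    rw [← ZMod.natCast_eq_zero_iff, Nat.cast_sub (Nat.one_le_pow _ _ (Nat.one_le_pow _ _ hq1)),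
      Nat.cast_pow, Nat.cast_pow, ← pow_mul, mul_comm N 2, h1]
    simp
  have hQ2 : 2 ≤ q ^ N := by
    have h2 : 2 ≤ q := Fintype.one_lt_card
    calc 2 ≤ q := h2
      _ = q ^ 1 := (pow_one q).symm
      _ ≤ q ^ N := Nat.pow_le_pow_right (by omega) hNpos
  have hSL : r ∣ Nat.card (Matrix.SpecialLinearGroup (Fin 2) K) := by
    have h1 := Cfsg.Agent.Lib.Helper38.card_SL_mul (F := K) 2 (by omega)
    rw [Matrix.card_GL_field, hcardK'] at h1
    simp only [Fin.prod_univ_two, Fin.val_zero, Fin.val_one, pow_zero, pow_one] at h1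
    -- `|SL| * (Q - 1) = (Q² - 1) * (Q² - Q)`
    set Q := q ^ N with hQ
    have h2 : Q ^ 2 - Q = Q * (Q - 1) := by
      rw [Nat.mul_sub, mul_one, pow_two]
    rw [h2, ← mul_assoc] at h1
    have h3 : Nat.card (Matrix.SpecialLinearGroup (Fin 2) K) = (Q ^ 2 - 1) * Q :=
      Nat.eq_of_mul_eq_mul_right (by omega : 0 < Q - 1) h1
    rw [h3]
    exact Dvd.dvd.mul_right hrQ _
  obtain ⟨y₀, hy₀⟩ := exists_prime_orderOf_dvd_card' (G := Matrix.SpecialLinearGroup (Fin 2) K) r hSL
  -- `r ≠ 0` in `K`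
  have hrK : ((r : ℕ) : K) ≠ 0 := by
    have : CharP K p := by
      have : CharP K p := charP_of_injective_algebraMap (algebraMap F K).injective p
      exact this
    intro h
    have := (CharP.cast_eq_zero_iff K p r).1 h
    exact hrp ((Nat.prime_dvd_prime_iff_eq hp hr).1 this).symm
  have hfpf := d6_fpf y₀ r hr hrK hy₀
  have hy₀r : y₀.1 ^ r = 1 := by
    have hyr : y₀ ^ r = 1 := by rw [← hy₀]; exact pow_orderOf_eq_one y₀
    have := congrArg Subtype.val hyr
    simpa using this
  -- the model space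
  have hdim₀ : Module.finrank F (Fin 2 → K) = 2 * N := by
    rw [Module.finrank_pi_fintype]
    simp [hfin]
  have hB' : ∀ v, B v v = 0 := hB
  have hnd : ∀ u, (∀ v, B u v = 0) → u = 0 := fun u hu => hV u trivial (fun v _ => hu v)
  obtain ⟨e, he⟩ := d6_exists_isometry B hB' hnd (d6_form F K) d6_form_alt
    (fun u hu => d6_form_nd (F := F) u hu) N hdim hdim₀
  -- the `F`-linear map of `y₀`
  let M : (Fin 2 → K) →ₗ[F] (Fin 2 → K) := (Matrix.toLin' y₀.1).restrictScalars F
  have hM : ∀ w, M w = y₀.1 *ᵥ w := fun w => by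
    show (Matrix.toLin' y₀.1) w = _
    exact Matrix.toLin'_apply _ _
  let y : V →ₗ[F] V := e.symm.toLinearMap ∘ₗ M ∘ₗ e.toLinearMap
  have hy : ∀ v, y v = e.symm (y₀.1 *ᵥ e v) := fun v => by
    simp [y, hM]
  have hpow : ∀ k : ℕ, ∀ v, ((y : Module.End F V) ^ k) v = e.symm ((y₀.1 ^ k) *ᵥ e v) := by
    intro k
    induction k with
    | zero => intro v; simp
    | succ k ih =>
      intro v
      rw [pow_succ, Module.End.mul_apply, ih, hy, LinearEquiv.apply_symm_apply, Matrix.mulVec_mulVec,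
        ← pow_succ]
  refine ⟨y, ?_, ?_, ?_⟩
  · intro u v
    rw [← he (y u) (y v), hy, hy, LinearEquiv.apply_symm_apply, LinearEquiv.apply_symm_apply,
      d6_form_isom, he]
  · apply LinearMap.ext
    intro v
    rw [hpow, hy₀r, Matrix.one_mulVec, LinearEquiv.symm_apply_apply]
    rfl
  · intro v hv
    rw [hy] at hv
    have h1 : y₀.1 *ᵥ e v = e v := by
      have := congrArg e hv
      rwa [LinearEquiv.apply_symm_apply] at this
    have h2 := hfpf (e v) h1
    exact e.map_eq_zero_iff.1 h2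

end Cfsg.Agent.Lib.Helper4.NdH
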