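import Mathlib
import Cfsg.Prelude.Def_ClassicalGeometry
import Cfsg.Prelude.Def_GeometricClasses
import Cfsg.Agent.Lib.Helper5.HyDefs
import Cfsg.Agent.Lib.Helper45.NdD6
import Cfsg.Agent.Lib.Helper43.OddOrthModel
import Cfsg.Agent.Lib.Helper9.TsOMEGAODD

/-!
# HY-ELT: an element of odd prime order `r ≠ p` of `Ω_{2d+1}(q)` with the largest moved part

Model: `K` the extension of `F` of degree `k`, `2k = 2d - (2d) % c`; an element of order `r` of `SL₂(K)` acts
without fixed vectors on `K²` (`F`-dimension `2k`) preserving the trace of the determinant form; transport to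
the standard symplectic space, then `Helper43.OddOrth.exists_orth_of_symplectic`; the dimension of the fixed
space is read off from the characteristic polynomial (`h` is semisimple at `1` because `r ≠ 0` in `F`).
-/

set_option autoImplicit false

namespace Cfsg.Agent.Lib.Helper5.Hy

open Polynomial Module Matrix
open Cfsg.Agent.Lib.Helper2.BG Cfsg.Agent.Lib.Helper99 Cfsg.Agent.Lib.Helper48.Ti
open Cfsg.Agent.Lib.Helper67.Ts

section gen

universe u v

variable {F : Type u} [Field F] {V : Type v} [AddCommGroup V] [Module F V]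

open Cfsg.Agent.Lib.Helper4.NdH in
/-- a fixed-point-free isometry of prime order `r` on a nondegenerate alternating space of dimension `2N`,
`r ∣ q^(2N) - 1` (generalisation of ND-D6) -/
theorem elt_fpf_gen [Fintype F] [FiniteDimensional F V] (p : ℕ) [Fact p.Prime] [CharP F p]
    (B : V →ₗ[F] V →ₗ[F] F) (hB : ∀ v, B v v = 0) (hnd : ∀ u, (∀ v, B u v = 0) → u = 0)
    (r : ℕ) [Fact r.Prime] (hrp : r ≠ p) (N : ℕ) (hNpos : 0 < N)
    (hiN : orderOf ((Fintype.card F : ℕ) : ZMod r) ∣ 2 * N)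
    (hdim : Module.finrank F V = 2 * N) :
    ∃ y : V →ₗ[F] V, (∀ u v, B (y u) (y v) = B u v) ∧ (y : Module.End F V) ^ r = 1 ∧
      ∀ v, y v = v → v = 0 := by
  classical
  have hr : r.Prime := Fact.out
  have hp : p.Prime := Fact.out
  set q := Fintype.card F with hq
  have hq1 : 1 ≤ q := Fintype.card_pos
  have : NeZero N := ⟨hNpos.ne'⟩
  -- the extension field
  let K := FiniteField.Extension F p N
  have hfin : Module.finrank F K = N := FiniteField.finrank_extension F p N
  have hcardK : Nat.card K = q ^ N := by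
    rw [FiniteField.natCard_extension, Nat.card_eq_fintype_card]
  have : Fintype K := Fintype.ofFinite K
  have hcardK' : Fintype.card K = q ^ N := by rw [← Nat.card_eq_fintype_card, hcardK]
  -- `r ∣ |SL₂(K)|`
  have hrQ : r ∣ (q ^ N) ^ 2 - 1 := by
    have h1 : ((q : ℕ) : ZMod r) ^ (2 * N) = 1 := orderOf_dvd_iff_pow_eq_one.1 hiN
    rw [← ZMod.natCast_eq_zero_iff, Nat.cast_sub (Nat.one_le_pow _ _ (Nat.one_le_pow _ _ hq1)),
      Nat.cast_pow, Nat.cast_pow, ← pow_mul, mul_comm N 2, h1]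
    simp
  have hQ2 : 2 ≤ q ^ N := by
    have h2 : 2 ≤ q := Fintype.one_lt_card
    calc 2 ≤ q := h2
      _ = q ^ 1 := (pow_one q).symm
      _ ≤ q ^ N := Nat.pow_le_pow_right (by omega) hNpos
  have hSL : r ∣ Nat.card (Matrix.SpecialLinearGroup (Fin 2) K) := by
    have h1 := Cfsg.Agent.Lib.Helper38.card_SL_mul (F := K) 2 (by omega)
    rw [Matrix.card_GL_field, hcardK'] at h1
    simp only [Fin.prod_univ_two, Fin.val_zero, Fin.val_one, pow_zero, pow_one] at h1
    set Q := q ^ N with hQ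
    have h2 : Q ^ 2 - Q = Q * (Q - 1) := by
      rw [Nat.mul_sub, mul_one, pow_two]
    rw [h2, ← mul_assoc] at h1
    have h3 : Nat.card (Matrix.SpecialLinearGroup (Fin 2) K) = (Q ^ 2 - 1) * Q :=
      Nat.eq_of_mul_eq_mul_right (by omega : 0 < Q - 1) h1
    rw [h3]
    exact Dvd.dvd.mul_right hrQ _
  obtain ⟨y₀, hy₀⟩ := exists_prime_orderOf_dvd_card' (G := Matrix.SpecialLinearGroup (Fin 2) K) r hSL
  -- `r ≠ 0` in `K`
  have hrK : ((r : ℕ) : K) ≠ 0 := by
    have : CharP K p := by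
      have : CharP K p := charP_of_injective_algebraMap (algebraMap F K).injective p
      exact this
    intro h
    have := (CharP.cast_eq_zero_iff K p r).1 h
    exact hrp ((Nat.prime_dvd_prime_iff_eq hp hr).1 this).symm
  have hfpf := d6_fpf y₀ r hr hrK hy₀
  have hy₀r : y₀.1 ^ r = 1 := by
    have hyr : y₀ ^ r = 1 := by rw [← hy₀]; exact pow_orderOf_eq_one y₀
    have := congrArg Subtype.val hyr
    simpa using this
  -- the model space
  have hdim₀ : Module.finrank F (Fin 2 → K) = 2 * N := by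
    rw [Module.finrank_pi_fintype]
    simp [hfin]
  obtain ⟨e, he⟩ := d6_exists_isometry B hB hnd (d6_form F K) d6_form_alt
    (fun u hu => d6_form_nd (F := F) u hu) N hdim hdim₀
  -- the `F`-linear map of `y₀`
  let M : (Fin 2 → K) →ₗ[F] (Fin 2 → K) := (Matrix.toLin' y₀.1).restrictScalars F
  have hM : ∀ w, M w = y₀.1 *ᵥ w := fun w => by
    show (Matrix.toLin' y₀.1) w = _
    exact Matrix.toLin'_apply _ _
  let y : V →ₗ[F] V := e.symm.toLinearMap ∘ₗ M ∘ₗ e.toLinearMap
  have hy : ∀ v, y v = e.symm (y₀.1 *ᵥ e v) := fun v => by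
    simp [y, hM]
  have hpow : ∀ k : ℕ, ∀ v, ((y : Module.End F V) ^ k) v = e.symm ((y₀.1 ^ k) *ᵥ e v) := by
    intro k
    induction k with
    | zero => intro v; simp
    | succ k ih =>
      intro v
      rw [pow_succ, Module.End.mul_apply, ih, hy, LinearEquiv.apply_symm_apply, Matrix.mulVec_mulVec,
        ← pow_succ]
  refine ⟨y, ?_, ?_, ?_⟩
  · intro u v
    rw [← he (y u) (y v), hy, hy, LinearEquiv.apply_symm_apply, LinearEquiv.apply_symm_apply,
      d6_form_isom, he]
  · apply LinearMap.ext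
    intro v
    rw [hpow, hy₀r, Matrix.one_mulVec, LinearEquiv.symm_apply_apply]
    rfl
  · intro v hv
    rw [hy] at hv
    have h1 : y₀.1 *ᵥ e v = e v := by
      have := congrArg e hv
      rwa [LinearEquiv.apply_symm_apply] at this
    have h2 := hfpf (e v) h1
    exact e.map_eq_zero_iff.1 h2

end gen

section symp

variable {F : Type*} [Field F] [Fintype F]

/-- a symplectic matrix `A` with `A ^ r = 1` and no nonzero fixed vector, in dimension `2k`,
`r ∣ q^(2k) - 1` -/
theorem elt_exists_symp (p : ℕ) [Fact p.Prime] [CharP F p] (h2 : (2 : F) ≠ 0) (r : ℕ)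
    [Fact r.Prime] (hr2 : r ≠ 2) (hrp : r ≠ p) (k : ℕ) (hk : 0 < k)
    (hik : orderOf ((Fintype.card F : ℕ) : ZMod r) ∣ 2 * k) :
    ∃ A A' : Matrix (Fin k ⊕ Fin k) (Fin k ⊕ Fin k) F,
      Aᵀ * Matrix.J (Fin k) F * A = Matrix.J (Fin k) F ∧ A * A' = 1 ∧ (A - A').det ≠ 0 ∧
      A ^ r = 1 ∧ ∀ v, A *ᵥ v = v → v = 0 := by
  classical
  have hr : r.Prime := Fact.out
  set Jm : Matrix (Fin k ⊕ Fin k) (Fin k ⊕ Fin k) F := Matrix.J (Fin k) F with hJm
  let B : (Fin k ⊕ Fin k → F) →ₗ[F] (Fin k ⊕ Fin k → F) →ₗ[F] F := Matrix.toBilin' Jm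
  have hBapp : ∀ u v, B u v = u ⬝ᵥ (Jm *ᵥ v) := fun u v => Matrix.toBilin'_apply' Jm u v
  have hB : ∀ v, B v v = 0 := by
    intro v
    rw [hBapp]
    have h1 : v ⬝ᵥ (Jm *ᵥ v) = - (v ⬝ᵥ (Jm *ᵥ v)) := by
      conv_lhs => rw [Matrix.dotProduct_mulVec, ← Matrix.mulVec_transpose, hJm, Matrix.J_transpose,
        Matrix.neg_mulVec, neg_dotProduct, dotProduct_comm]
    have h3 : (2 : F) * (v ⬝ᵥ (Jm *ᵥ v)) = 0 := by linear_combination h1
    exact (mul_eq_zero.1 h3).resolve_left h2
  have hJdet : Jm.det ≠ 0 := by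
    intro h0
    have := Matrix.J_det_mul_J_det (Fin k) F
    rw [← hJm, h0, zero_mul] at this
    exact zero_ne_one this
  have hndB : (Matrix.toBilin' Jm).Nondegenerate := by
    apply Matrix.Nondegenerate.toBilin'
    exact Matrix.nondegenerate_of_det_ne_zero hJdet
  have hnd : ∀ u, (∀ v, B u v = 0) → u = 0 := fun u hu => hndB.1 u hu
  have hdim : Module.finrank F (Fin k ⊕ Fin k → F) = 2 * k := by
    rw [Module.finrank_fintype_fun_eq_card, Fintype.card_sum, Fintype.card_fin]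
    ring
  obtain ⟨y, hyB, hyr, hyfix⟩ := elt_fpf_gen p B hB hnd r hrp k hk hik hdim
  set A : Matrix (Fin k ⊕ Fin k) (Fin k ⊕ Fin k) F := LinearMap.toMatrix' y with hA
  have hAv : ∀ v, A *ᵥ v = y v := fun v => LinearMap.toMatrix'_mulVec y v
  have hApow : ∀ (n : ℕ) (v : Fin k ⊕ Fin k → F), (A ^ n) *ᵥ v = ((y : Module.End F _) ^ n) v := by
    intro n
    induction n with
    | zero => intro v; simp
    | succ n ih =>
      intro v
      rw [pow_succ, ← Matrix.mulVec_mulVec, ih, hAv, pow_succ, Module.End.mul_apply]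
  have hAr : A ^ r = 1 := by
    apply Matrix.toLin'.injective
    apply LinearMap.ext
    intro v
    rw [Matrix.toLin'_apply, hApow, hyr, Matrix.toLin'_one]
    rfl
  have hfix : ∀ v, A *ᵥ v = v → v = 0 := by
    intro v hv
    rw [hAv] at hv
    exact hyfix v hv
  have hAA' : A * A ^ (r - 1) = 1 := by
    rw [← pow_succ', Nat.sub_add_cancel hr.one_lt.le, hAr]
  have hAJ : Aᵀ * Jm * A = Jm := by
    ext i j
    have h := hyB (Pi.single i 1) (Pi.single j 1)
    rw [hBapp, hBapp, ← hAv, ← hAv, Cfsg.Agent.Lib.Helper43.OddOrth.dot_form_gen] at h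
    simpa using h
  refine ⟨A, A ^ (r - 1), hAJ, hAA', ?_, hAr, hfix⟩
  intro h0
  obtain ⟨v, hv0, hv⟩ := Matrix.exists_mulVec_eq_zero_iff.2 h0
  rw [Matrix.sub_mulVec, sub_eq_zero] at hv
  have key : ∀ w : Fin k ⊕ Fin k → F, A *ᵥ (A *ᵥ w) = w → ∀ t : ℕ, (A ^ (2 * t)) *ᵥ w = w := by
    intro w hw t
    induction t with
    | zero => simp
    | succ t ih =>
      have e : 2 * (t + 1) = 2 * t + 1 + 1 := by ring
      rw [e, pow_succ, pow_succ, ← Matrix.mulVec_mulVec, ← Matrix.mulVec_mulVec, hw, ih]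
  have hvv : A *ᵥ (A *ᵥ v) = v := by
    rw [hv, Matrix.mulVec_mulVec, hAA', Matrix.one_mulVec]
  have hww : A *ᵥ (A *ᵥ (A *ᵥ v)) = A *ᵥ v := by rw [hvv]
  obtain ⟨t, ht⟩ := hr.odd_of_ne_two hr2
  have h1 : (A ^ r) *ᵥ v = A *ᵥ v := by
    rw [ht, pow_succ, ← Matrix.mulVec_mulVec, key (A *ᵥ v) hww t]
  rw [hAr, Matrix.one_mulVec] at h1
  exact hv0 (hfix v h1.symm)

/-- the dimension of the fixed space of a matrix of order prime to the characteristic, from its
characteristic polynomial -/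
theorem elt_finrank_fix {ι : Type} [Fintype ι] [DecidableEq ι] (h : Matrix ι ι F) (r : ℕ)
    (hrF : ((r : ℕ) : F) ≠ 0) (hhr : h ^ r = 1) (n : ℕ) (g : F[X]) (hg : g.eval 1 ≠ 0)
    (hchar : h.charpoly = (X - 1) ^ n * g) :
    finrank F ↥(Fix (Matrix.toLin' h)) = n := by
  classical
  set T : Module.End F (ι → F) := Matrix.toLin' h with hT
  have hTpow : ∀ j : ℕ, T ^ j = Matrix.toLin' (h ^ j) := by
    intro j
    induction j with
    | zero => rw [pow_zero, pow_zero, Matrix.toLin'_one]; rfl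
    | succ j ih => rw [pow_succ, pow_succ, Matrix.toLin'_mul, ih]; rfl
  have hTr : T ^ r = 1 := by
    rw [hTpow, hhr, Matrix.toLin'_one]
    rfl
  -- `ker (T - 1)^2 = ker (T - 1)`
  have key : ∀ w, (T - 1) ((T - 1) w) = 0 → (T - 1) w = 0 := by
    intro w hw
    set u := (T - 1) w with hu
    have hTu : T u = u := by
      have : T u - u = 0 := by simpa using hw
      exact sub_eq_zero.1 this
    have hTju : ∀ j : ℕ, (T ^ j) u = u := by
      intro j
      induction j with
      | zero => simp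
      | succ j ih => rw [pow_succ, Module.End.mul_apply, hTu, ih]
    have h1 : (∑ j ∈ Finset.range r, T ^ j) u = (r : F) • u := by
      rw [LinearMap.sum_apply]
      simp only [hTju, Finset.sum_const, Finset.card_range]
      rw [Nat.cast_smul_eq_nsmul]
    have h2 : (∑ j ∈ Finset.range r, T ^ j) u = 0 := by
      rw [hu, ← Module.End.mul_apply, geom_sum_mul, hTr, sub_self]
      rfl
    rw [h1] at h2
    exact (smul_eq_zero.1 h2).resolve_left hrF
  have hpow : ∀ (j : ℕ) (w : ι → F), ((T - 1) ^ (j + 1)) w = 0 → (T - 1) w = 0 := by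
    intro j
    induction j with
    | zero => intro w hw; simpa using hw
    | succ j ih =>
      intro w hw
      apply ih
      have e : ((T - 1) ^ (j + 1 + 1)) w = (T - 1) ((T - 1) (((T - 1) ^ j) w)) := by
        rw [pow_succ', pow_succ', Module.End.mul_apply, Module.End.mul_apply]
      rw [e] at hw
      have h3 := key _ hw
      rw [pow_succ', Module.End.mul_apply]
      exact h3
  have hfixeq : Fix T = T.maxGenEigenspace 1 := by
    ext v
    rw [Module.End.mem_maxGenEigenspace, one_smul]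
    constructor
    · intro hv
      refine ⟨1, ?_⟩
      rw [pow_one]
      exact hv
    · rintro ⟨j, hj⟩
      rcases j with _ | j
      · rw [pow_zero] at hj
        have : v = 0 := hj
        rw [this]
        exact Submodule.zero_mem _
      · exact hpow j v hj
  rw [hfixeq, LinearMap.finrank_maxGenEigenspace_eq, hT, Matrix.charpoly_toLin', hchar]
  have hne : (X - 1 : F[X]) ^ n * g ≠ 0 := by
    apply mul_ne_zero
    · exact pow_ne_zero _ (X_sub_C_ne_zero (1 : F) |> fun h => by simpa using h)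
    · intro h0
      rw [h0, eval_zero] at hg
      exact hg rfl
  rw [rootMultiplicity_mul hne]
  have e1 : (X - 1 : F[X]) = X - C 1 := by rw [C_1]
  rw [e1, rootMultiplicity_X_sub_C_pow, rootMultiplicity_eq_zero (by exact hg), add_zero]

end symp

section concrete

variable {F : Type*} [Field F] [Fintype F]

theorem elt_two_ne_zero {p : ℕ} [Fact p.Prime] [CharP F p] (hq : Odd (Fintype.card F)) :
    (2 : F) ≠ 0 := by
  intro h
  have hp : p.Prime := Fact.out
  have h1 : p ∣ 2 := (CharP.cast_eq_zero_iff F p 2).1 (by exact_mod_cast h)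
  have h2 : p = 2 := (Nat.prime_dvd_prime_iff_eq hp Nat.prime_two).1 h1
  obtain ⟨n, hn⟩ := FiniteField.card F p
  rw [hn.2, h2] at hq
  have hev : Even (2 ^ (n : ℕ)) := (Nat.even_pow.2 ⟨even_two, n.ne_zero⟩)
  exact (Nat.not_odd_iff_even.2 hev) hq

/-- HY-ELT: an element of odd prime order `r ≠ p` of `Ω_{2d+1}(q)` with the largest possible moved part. -/
theorem exists_elt {p : ℕ} [Fact p.Prime] [CharP F p] (hq : Odd (Fintype.card F)) (d : ℕ)
    (r : ℕ) [Fact r.Prime] (hr2 : r ≠ 2) (hrp : r ≠ p) (i c : ℕ)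
    (hi : i = orderOf ((Fintype.card F : ℕ) : ZMod r)) (hc : c = if Even i then i else 2 * i)
    (hcd : c ≤ 2 * d) :
    ∃ x : GL (Unit ⊕ (Fin d ⊕ Fin d)) F, x ∈ Cfsg.Geo.omegaGL (Cfsg.quadFormOdd d F) ∧
      orderOf x = r ∧
      finrank F ↥(Fix (Matrix.toLin'
        (x : Matrix (Unit ⊕ (Fin d ⊕ Fin d)) (Unit ⊕ (Fin d ⊕ Fin d)) F))) = (2 * d) % c + 1 := by
  classical
  have hr : r.Prime := Fact.out
  have hp : p.Prime := Fact.out
  have h2 : (2 : F) ≠ 0 := elt_two_ne_zero (p := p) hq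
  have hrq : ¬ r ∣ Fintype.card F := by
    obtain ⟨f, hf⟩ := FiniteField.card F p
    intro h
    rw [hf.2] at h
    exact hrp ((Nat.prime_dvd_prime_iff_eq hr hp).1 (hr.dvd_of_dvd_pow h))
  have hq0 : ((Fintype.card F : ℕ) : ZMod r) ≠ 0 := by
    rwa [Ne, ZMod.natCast_eq_zero_iff]
  have hipos : 0 < i := by
    rw [hi, orderOf_pos_iff, isOfFinOrder_iff_pow_eq_one]
    exact ⟨r - 1, Nat.sub_pos_of_lt hr.one_lt, ZMod.pow_card_sub_one_eq_one hq0⟩
  obtain ⟨c', hc', hc'pos, hic⟩ : ∃ c', c = 2 * c' ∧ 0 < c' ∧ i ∣ 2 * c' := by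
    rw [hc]
    split_ifs with hev
    · obtain ⟨j, hj⟩ := hev
      refine ⟨j, by omega, by omega, ?_⟩
      rw [hj]
      exact ⟨1, by ring⟩
    · exact ⟨i, rfl, hipos, Dvd.intro_left 2 rfl⟩
  have hc'd : c' ≤ d := by omega
  set k := d - d % c' with hk
  have hmod : (2 * d) % c = 2 * (d % c') := by rw [hc', Nat.mul_mod_mul_left]
  have hkd : k ≤ d := Nat.sub_le _ _
  have hck : c' ∣ k := Nat.dvd_sub_mod d
  have hkpos : 0 < k := by
    have h1 : k = c' * (d / c') := by
      have := Nat.div_add_mod d c'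
      omega
    have h3 : 0 < d / c' := Nat.div_pos hc'd hc'pos
    rw [h1]
    exact Nat.mul_pos hc'pos h3
  have hik : orderOf ((Fintype.card F : ℕ) : ZMod r) ∣ 2 * k := by
    rw [← hi]
    exact dvd_trans hic (Nat.mul_dvd_mul_left 2 hck)
  have hrest : 2 * (d - k) + 1 = (2 * d) % c + 1 := by
    rw [hmod]
    have : d % c' ≤ d := Nat.mod_le _ _
    omega
  obtain ⟨A, A', hAJ, hAA', hdet, hAr, hAfix⟩ := elt_exists_symp p h2 r hr2 hrp k hkpos hik
  obtain ⟨h, h', hhh', hgram, hchar, hpowh⟩ :=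
    Cfsg.Agent.Lib.Helper43.OddOrth.exists_orth_of_symplectic h2 d k hkd A A' hAJ hAA' hdet
  have hhr : h ^ r = 1 := hpowh r hAr
  have hh'h : h' * h = 1 := mul_eq_one_comm.1 hhh'
  let x : GL (Unit ⊕ (Fin d ⊕ Fin d)) F := ⟨h, h', hhh', hh'h⟩
  have hxmem : x ∈ Cfsg.isometryGroup F (Cfsg.quadFormOdd d F) :=
    fun u _ => Cfsg.Agent.Lib.Helper43.OddOrth.preserves_of_gram h2 h hgram u
  have hrF : ((r : ℕ) : F) ≠ 0 := by
    intro h0
    have := (CharP.cast_eq_zero_iff F p r).1 h0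
    exact hrp ((Nat.prime_dvd_prime_iff_eq hp hr).1 this).symm
  have hgA : A.charpoly.eval 1 ≠ 0 := by
    intro h0
    rw [Matrix.eval_charpoly, map_one] at h0
    obtain ⟨v, hv0, hv⟩ := Matrix.exists_mulVec_eq_zero_iff.2 h0
    rw [Matrix.sub_mulVec, Matrix.one_mulVec, sub_eq_zero] at hv
    exact hv0 (hAfix v hv.symm)
  have hfix : finrank F ↥(Fix (Matrix.toLin' h)) = 2 * (d - k) + 1 :=
    elt_finrank_fix h r hrF hhr _ _ hgA hchar
  have hxr : x ^ r = 1 := by
    apply Units.ext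
    rw [Units.val_pow_eq_pow_val]
    exact hhr
  have hx1 : x ≠ 1 := by
    intro h1
    have hh1 : h = 1 := congrArg Units.val h1
    rw [hh1] at hfix
    have htop : Fix (Matrix.toLin' (1 : Matrix (Unit ⊕ (Fin d ⊕ Fin d)) (Unit ⊕ (Fin d ⊕ Fin d)) F))
        = ⊤ := by
      rw [Matrix.toLin'_one]
      ext v
      simp
    rw [htop, finrank_top, Module.finrank_fintype_fun_eq_card] at hfix
    simp only [Fintype.card_sum, Fintype.card_fin, Fintype.card_unit] at hfix
    omega
  have hord : orderOf x = r := orderOf_eq_prime hxr hx1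
  refine ⟨x, ?_, hord, ?_⟩
  · apply Cfsg.Agent.Lib.Helper79.TsSwap.mem_omegaGL_of_odd_order h2 d x hxmem
    rw [hord]
    exact hr.odd_of_ne_two hr2
  · rw [← hrest]
    exact hfix

end concrete

end Cfsg.Agent.Lib.Helper5.Hy
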