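import Mathlib
import Cfsg.Agent.Lib.Helper41.OmBNDefs
import Cfsg.Agent.Lib.Helper8.DicksonGen
import Cfsg.Agent.Lib.Helper8.OmegaNoSplit
import Cfsg.Agent.Lib.Helper8.InvolCountForms

/-!
# OmBN-HINV (+ `GoodOrth` for the minus form): `O^-_{2m+2}(F)` is generated by involutions
-/

set_option autoImplicit false

namespace Cfsg.Agent.Lib.Helper41.OmBN

open Matrix Cfsg Cfsg.Agent.Lib.Helper13 Cfsg.Agent.Lib.Helper8 Cfsg.Agent.Lib.Helper43
  Cfsg.Agent.Lib.Helper41.SpBN

variable {F : Type*} [Field F] {m : ℕ} {a b : F}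

/-- the dimension of the space of `O^-_{2m+2}` -/
theorem hinv_finrank : Module.finrank F (MIdx m → F) = 2 * m + 2 := by
  rw [Module.finrank_fintype_fun_eq_card, Fintype.card_sum, Fintype.card_sum, Fintype.card_fin,
    Fintype.card_fin]
  omega

/-- the minus form is never `O⁺₄(2)` -/
theorem hinv_goodOrth [Fintype F] (hab : Aniso a b) : GoodOrth (minusForm m F a b) := by
  by_cases hm1 : m = 1
  · exact goodOrth_of_ts_bound _ (nondeg hab) m hm1 _ (minusForm_e_indep m F)
      (minusForm_hyp m F a b).qe (minusForm_hyp m F a b).ee (minusForm_max m F a b hab)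
  · left
    right
    rw [hinv_finrank]
    omega

/-- LEAF HINV: `O^-_{2m+2}(F)` is generated by involutions. -/
theorem closure_invol [Fintype F] (hab : Aniso a b) :
    Subgroup.closure {g : OG F m a b | g * g = 1} = ⊤ := by
  rw [eq_top_iff, ← closure_reflSet_eq_top_gen (minusForm m F a b) (nondeg hab) (hinv_goodOrth hab)]
  apply Subgroup.closure_mono
  intro g hg
  show g * g = 1
  have h := inv_mem_reflSet (minusForm m F a b) g hg
  calc g * g = g⁻¹ * g := by rw [h]
    _ = 1 := inv_mul_cancel g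

end Cfsg.Agent.Lib.Helper41.OmBN
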