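import Mathlib
import Cfsg.Prelude.Def_LieTwisted

/-! # Rs hive (helper45, S2361): definitions -/

set_option autoImplicit false

namespace Cfsg.Agent.Lib.Helper45.Rs

open Cfsg Cfsg.Lie

/-- the four Hall numbers `(q-1)/2, (q+1)/4, q - r + 1, q + r + 1` (`q = 3^(2m+1)`, `r = 3^(m+1)`) -/
def kk (m : ℕ) : Fin 4 → ℕ :=
  ![(3 ^ (2 * m + 1) - 1) / 2, (3 ^ (2 * m + 1) + 1) / 4, 3 ^ (2 * m + 1) - 3 ^ (m + 1) + 1,
    3 ^ (2 * m + 1) + 3 ^ (m + 1) + 1]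

/-- The part of the frozen statement S1158 (helper12's Rt hive) that S2361 needs. -/
def HallHyp (K : Type*) [Field K] [Fintype K] (m : ℕ) : Prop :=
  ∀ i : Fin 4, ∃ A : Subgroup ↥(twistedG2 K (3 ^ m)), IsCyclic A ∧ Nat.card A = kk m i ∧
    ∀ A₀ : Subgroup ↥(twistedG2 K (3 ^ m)), A₀ ≤ A → A₀ ≠ ⊥ →
      Subgroup.normalizer (A₀ : Set ↥(twistedG2 K (3 ^ m))) = Subgroup.normalizer (A : Set ↥(twistedG2 K (3 ^ m)))

end Cfsg.Agent.Lib.Helper45.Rs
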