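import Mathlib
import Cfsg.Prelude.Def_Classical
-- copy of Lib/Helper44/HermSpace.lean (helper44), kept here so that later edits there cannot break the Helper45 files

/-!
# Abstract hermitian spaces over a field with `q²` elements: orthonormal bases
-/

set_option autoImplicit false

namespace Cfsg.Agent.Lib.Helper45.HermCopy

open Polynomial Module

universe u v

section field

variable {K : Type v} [Field K] [Fintype K] {q : ℕ}

/-- Frobenius `x ↦ x ^ q` is additive on a field with `q²` elements -/
theorem frobK_add (hK : Fintype.card K = q ^ 2) (a b : K) : (a + b) ^ q = a ^ q + b ^ q := by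
  obtain ⟨p, hpK⟩ := CharP.exists K
  obtain ⟨n, hp, hn⟩ := FiniteField.card K p
  have : Fact p.Prime := ⟨hp⟩
  have hq : ∃ j, q = p ^ j := by
    have h1 : q ∣ p ^ (n : ℕ) := by
      rw [← hn, hK]
      exact dvd_pow_self q two_ne_zero
    obtain ⟨j, -, hj⟩ := (Nat.dvd_prime_pow hp).mp h1
    exact ⟨j, hj⟩
  obtain ⟨j, rfl⟩ := hq
  exact add_pow_char_pow a b p j

theorem frobK_sum (hK : Fintype.card K = q ^ 2) {ι : Type*} (s : Finset ι) (f : ι → K) :
    (∑ i ∈ s, f i) ^ q = ∑ i ∈ s, (f i) ^ q := by
  classical
  have hq : q ≠ 0 := by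
    rintro rfl
    have := Fintype.one_lt_card (α := K)
    rw [hK] at this
    norm_num at this
  induction s using Finset.induction_on with
  | empty => simp [hq]
  | insert a s ha ih => rw [Finset.sum_insert ha, Finset.sum_insert ha, frobK_add hK, ih]

theorem two_le_q_of_card (hK : Fintype.card K = q ^ 2) : 2 ≤ q := by
  have h1 := Fintype.one_lt_card (α := K)
  rw [hK] at h1
  by_contra h
  have : q ≤ 1 := by omega
  have : q ^ 2 ≤ 1 := by nlinarith
  omega

theorem frobK_frobK (hK : Fintype.card K = q ^ 2) (a : K) : (a ^ q) ^ q = a := by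
  rw [← pow_mul, ← pow_two, ← hK, FiniteField.pow_card]

/-- there is an element of nonzero trace -/
theorem exists_trace_ne_zero (hK : Fintype.card K = q ^ 2) : ∃ t : K, t + t ^ q ≠ 0 := by
  classical
  have hq := two_le_q_of_card hK
  by_contra hcon
  simp only [not_exists, not_not] at hcon
  set P : K[X] := X ^ q + X with hP
  have hdeg : P.natDegree = q := by
    rw [hP]
    rw [natDegree_add_eq_left_of_natDegree_lt] <;> simp <;> omega
  have hP0 : P ≠ 0 := by
    intro h
    rw [h, natDegree_zero] at hdeg
    omega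
  have h1 : Fintype.card K ≤ P.roots.toFinset.card := by
    rw [← Finset.card_univ]
    apply Finset.card_le_card
    intro t _
    rw [Multiset.mem_toFinset, mem_roots hP0]
    simp [hP, add_comm, hcon t]
  have h2 : P.roots.toFinset.card ≤ q :=
    (Multiset.toFinset_card_le _).trans ((card_roots' P).trans hdeg.le)
  rw [hK] at h1
  nlinarith

/-- fixed elements of Frobenius are norms -/
theorem exists_norm_eq (hK : Fintype.card K = q ^ 2) (a : K) (ha0 : a ≠ 0) (ha : a ^ q = a) :
    ∃ c : K, c ^ (q + 1) = a := by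
  classical
  have hq := two_le_q_of_card hK
  obtain ⟨γ, hγ⟩ := IsCyclic.exists_monoid_generator (α := Kˣ)
  have hγord : orderOf γ = q ^ 2 - 1 := by
    have h1 : orderOf γ = Nat.card Kˣ := by
      apply orderOf_eq_card_of_forall_mem_zpowers
      intro y
      exact Submonoid.powers_le_zpowers γ (hγ y)
    rw [h1, Nat.card_eq_fintype_card, Fintype.card_units, hK]
  have hfac : q ^ 2 - 1 = (q + 1) * (q - 1) := by
    obtain ⟨k, rfl⟩ : ∃ k, q = k + 1 := ⟨q - 1, by omega⟩
    simp only [Nat.add_sub_cancel]
    have : (k + 1) ^ 2 = (k + 1 + 1) * k + 1 := by ring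
    rw [this, Nat.add_sub_cancel]
  obtain ⟨j, hj⟩ := hγ (Units.mk0 a ha0)
  have hj' : γ ^ j = Units.mk0 a ha0 := hj
  have h1 : (Units.mk0 a ha0) ^ (q - 1) = 1 := by
    apply Units.ext
    rw [Units.val_pow_eq_pow_val, Units.val_mk0, Units.val_one]
    have h2 : a ^ (q - 1) * a = a := by rw [← pow_succ, Nat.sub_add_cancel (by omega), ha]
    exact mul_right_cancel₀ ha0 (h2.trans (one_mul a).symm)
  rw [← hj', ← pow_mul] at h1
  have h3 : orderOf γ ∣ j * (q - 1) := orderOf_dvd_of_pow_eq_one h1
  rw [hγord, hfac] at h3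
  have h4 : q + 1 ∣ j := Nat.dvd_of_mul_dvd_mul_right (by omega : 0 < q - 1) h3
  obtain ⟨i, rfl⟩ := h4
  refine ⟨((γ ^ i : Kˣ) : K), ?_⟩
  rw [← Units.val_pow_eq_pow_val, ← pow_mul, mul_comm i, hj', Units.val_mk0]

end field

section space

set_option linter.unusedSectionVars false

variable {K : Type v} [Field K] [Fintype K] {q : ℕ}

/-- an abstract nondegenerate hermitian space over a field with `q²` elements (involution
`x ↦ x ^ q`): `H` is linear in the first argument and conjugate-symmetric -/
structure IsHermSpace (q : ℕ) {V : Type u} [AddCommGroup V] [Module K V] (H : V → V → K) : Prop where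
  add_left : ∀ u u' v, H (u + u') v = H u v + H u' v
  smul_left : ∀ (c : K) u v, H (c • u) v = c * H u v
  conj : ∀ u v, (H u v) ^ q = H v u
  nondeg : ∀ v, (∀ u, H u v = 0) → v = 0

namespace IsHermSpace

variable {V : Type u} [AddCommGroup V] [Module K V] {H : V → V → K}

/-- `H(·, w)` as a linear functional -/
def toLin (hH : IsHermSpace q H) (w : V) : V →ₗ[K] K where
  toFun u := H u w
  map_add' u u' := hH.add_left u u' w
  map_smul' c u := hH.smul_left c u w

@[simp] lemma toLin_apply (hH : IsHermSpace q H) (w u : V) : hH.toLin w u = H u w := rfl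

lemma zero_left (hH : IsHermSpace q H) (v : V) : H 0 v = 0 := (hH.toLin v).map_zero

lemma sum_left (hH : IsHermSpace q H) {ι : Type*} (s : Finset ι) (f : ι → V) (v : V) :
    H (∑ i ∈ s, f i) v = ∑ i ∈ s, H (f i) v := map_sum (hH.toLin v) f s

lemma add_right (hH : IsHermSpace q H) (hK : Fintype.card K = q ^ 2) (u v v' : V) :
    H u (v + v') = H u v + H u v' := by
  rw [← hH.conj (v + v') u, hH.add_left, frobK_add hK, hH.conj, hH.conj]

lemma smul_right (hH : IsHermSpace q H) (c : K) (u v : V) : H u (c • v) = c ^ q * H u v := by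
  rw [← hH.conj (c • v) u, hH.smul_left, mul_pow, hH.conj]

lemma zero_right (hH : IsHermSpace q H) (hK : Fintype.card K = q ^ 2) (u : V) : H u 0 = 0 := by
  have hq := two_le_q_of_card hK
  rw [← hH.conj 0 u, hH.zero_left, zero_pow (by omega)]

lemma sum_right (hH : IsHermSpace q H) (hK : Fintype.card K = q ^ 2) {ι : Type*} (s : Finset ι)
    (f : ι → V) (u : V) : H u (∑ i ∈ s, f i) = ∑ i ∈ s, H u (f i) := by
  rw [← hH.conj _ u, hH.sum_left, frobK_sum hK]
  exact Finset.sum_congr rfl fun i _ => hH.conj _ _

lemma self_pow (hH : IsHermSpace q H) (v : V) : (H v v) ^ q = H v v := hH.conj v v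

/-- a nonzero hermitian space has a vector of norm one -/
lemma exists_norm_one (hH : IsHermSpace q H) (hK : Fintype.card K = q ^ 2) [Nontrivial V] :
    ∃ v : V, H v v = 1 := by
  have hq := two_le_q_of_card hK
  have h1 : ∃ v : V, H v v ≠ 0 := by
    by_contra hcon
    simp only [not_exists, not_not] at hcon
    obtain ⟨w, hw⟩ := exists_ne (0 : V)
    have h2 : ∃ u, H u w ≠ 0 := by
      by_contra h3
      simp only [not_exists, not_not] at h3
      exact hw (hH.nondeg w h3)
    obtain ⟨u, hu⟩ := h2
    obtain ⟨t, ht⟩ := exists_trace_ne_zero hK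
    apply ht
    set c : K := t * (H u w)⁻¹ with hc
    have h4 : H (c • u) w = t := by
      rw [hH.smul_left, hc, mul_assoc, inv_mul_cancel₀ hu, mul_one]
    have h5 := hcon (c • u + w)
    rw [hH.add_left, hH.add_right hK, hH.add_right hK, hcon, hcon, zero_add, add_zero, h4,
      ← hH.conj (c • u) w, h4] at h5
    exact h5
  obtain ⟨v, hv⟩ := h1
  obtain ⟨c, hc⟩ := exists_norm_eq hK (H v v)⁻¹ (inv_ne_zero hv) (by rw [inv_pow, hH.self_pow])
  refine ⟨c • v, ?_⟩
  rw [hH.smul_left, hH.smul_right, ← mul_assoc, ← pow_succ', hc, inv_mul_cancel₀ hv]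

lemma sub_left (hH : IsHermSpace q H) (u u' v : V) : H (u - u') v = H u v - H u' v :=
  (hH.toLin v).map_sub u u'

end IsHermSpace

/-- every nondegenerate hermitian space has an orthonormal family of full size -/
theorem orthonormal_family (hK : Fintype.card K = q ^ 2) : ∀ (m : ℕ) (V : Type u) [AddCommGroup V]
    [Module K V] [FiniteDimensional K V] (H : V → V → K), IsHermSpace q H → finrank K V = m →
    ∃ e : Fin m → V, ∀ i j, H (e i) (e j) = if i = j then 1 else 0 := by
  have hq := two_le_q_of_card hK
  intro m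
  induction m with
  | zero =>
    intro V _ _ _ H _ _
    exact ⟨Fin.elim0, fun i => i.elim0⟩
  | succ m ih =>
    intro V _ _ _ H hH hfr
    have : Nontrivial V := Module.nontrivial_of_finrank_pos (R := K) (by omega)
    obtain ⟨v, hv⟩ := hH.exists_norm_one hK
    let W : Submodule K V := LinearMap.ker (hH.toLin v)
    have hWmem : ∀ u, u ∈ W ↔ H u v = 0 := fun u => LinearMap.mem_ker
    have hsurj : LinearMap.range (hH.toLin v) = ⊤ := by
      apply LinearMap.range_eq_top.mpr
      intro c
      exact ⟨c • v, by simp [hv]⟩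
    have hfW : finrank K W = m := by
      have h1 := LinearMap.finrank_range_add_finrank_ker (hH.toLin v)
      rw [hsurj, finrank_top, finrank_self, hfr] at h1
      show finrank K (LinearMap.ker (hH.toLin v)) = m
      omega
    let HW : W → W → K := fun a b => H a b
    have hHW : IsHermSpace q HW :=
      { add_left := fun a a' b => hH.add_left a a' b
        smul_left := fun c a b => hH.smul_left c a b
        conj := fun a b => hH.conj a b
        nondeg := by
          intro b hb
          apply Subtype.ext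
          apply hH.nondeg
          intro u
          have hu1 : u - H u v • v ∈ W := by
            rw [hWmem, hH.sub_left, hH.smul_left, hv, mul_one, sub_self]
          have h2 : H (u - H u v • v) b = 0 := hb ⟨u - H u v • v, hu1⟩
          have h3 : H v b = 0 := by
            rw [← hH.conj, (hWmem b).mp b.2, zero_pow (by omega)]
          rw [hH.sub_left, hH.smul_left, h3, mul_zero, sub_zero] at h2
          exact h2 }
    obtain ⟨e', he'⟩ := ih W HW hHW hfW
    refine ⟨Fin.cons v (fun i => (e' i : V)), ?_⟩
    intro i j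
    refine Fin.cases ?_ (fun i' => ?_) i <;> refine Fin.cases ?_ (fun j' => ?_) j
    · simp [hv]
    · have h3 : H v (e' j') = 0 := by
        rw [← hH.conj, (hWmem (e' j')).mp (e' j').2, zero_pow (by omega)]
      simpa [Fin.cons_succ, Fin.cons_zero, (Fin.succ_ne_zero j').symm] using h3
    · have h3 : H (e' i') v = 0 := (hWmem (e' i')).mp (e' i').2
      simpa [Fin.cons_succ, Fin.cons_zero, Fin.succ_ne_zero i'] using h3
    · have h3 := he' i' j'
      simpa [Fin.cons_succ, Fin.succ_inj] using h3

/-- an orthonormal family of full size gives coordinates: the map `u ↦ (H u (e i))_i` is a linear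
equivalence, and every vector is the sum of its components -/
theorem orthonormal_coords (hK : Fintype.card K = q ^ 2) (V : Type u) [AddCommGroup V]
    [Module K V] [FiniteDimensional K V] (H : V → V → K) (hH : IsHermSpace q H) (m : ℕ)
    (hfr : finrank K V = m) (e : Fin m → V)
    (he : ∀ i j, H (e i) (e j) = if i = j then 1 else 0) :
    (∀ v, v = ∑ j, H v (e j) • e j) ∧
    ∃ Θ : V ≃ₗ[K] (Fin m → K), (∀ u i, Θ u i = H u (e i)) ∧
      ∀ u v, Cfsg.hermForm m K q (Θ u) (Θ v) = H u v := by
  classical
  let L : V →ₗ[K] (Fin m → K) := LinearMap.pi (fun i => hH.toLin (e i))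
  have hL : ∀ u i, L u i = H u (e i) := fun u i => rfl
  have hLsum : ∀ w : Fin m → K, L (∑ j, w j • e j) = w := by
    intro w
    funext i
    rw [hL, hH.sum_left]
    simp only [hH.smul_left, he, mul_ite, mul_one, mul_zero]
    simp
  have hsurj : Function.Surjective L := fun w => ⟨_, hLsum w⟩
  have hinj : Function.Injective L :=
    (LinearMap.injective_iff_surjective_of_finrank_eq_finrank
      (by rw [hfr, Module.finrank_fin_fun])).mpr hsurj
  have hexp : ∀ v, v = ∑ j, L v j • e j := by
    intro v
    apply hinj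
    rw [hLsum]
  refine ⟨hexp, LinearEquiv.ofBijective L ⟨hinj, hsurj⟩, fun u i => rfl, ?_⟩
  intro u v
  show Cfsg.hermForm m K q (L u) (L v) = H u v
  conv_rhs => rw [hexp v]
  rw [hH.sum_right hK]
  unfold Cfsg.hermForm
  refine Finset.sum_congr rfl fun j _ => ?_
  rw [hH.smul_right, hL, mul_comm]

/-- every nondegenerate hermitian space of dimension `m` is isometric to the standard one -/
theorem exists_herm_coords (hK : Fintype.card K = q ^ 2) (V : Type u) [AddCommGroup V]
    [Module K V] [FiniteDimensional K V] (H : V → V → K) (hH : IsHermSpace q H) (m : ℕ)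
    (hfr : finrank K V = m) :
    ∃ Θ : V ≃ₗ[K] (Fin m → K), ∀ u v, Cfsg.hermForm m K q (Θ u) (Θ v) = H u v := by
  obtain ⟨e, he⟩ := orthonormal_family hK m V H hH hfr
  obtain ⟨-, Θ, -, hΘ⟩ := orthonormal_coords hK V H hH m hfr e he
  exact ⟨Θ, hΘ⟩

end space

end Cfsg.Agent.Lib.Helper45.HermCopy
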