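import Mathlib
import Cfsg.Agent.Lib.Helper45.AutPSLField
import Cfsg.Agent.Lib.Helper45.HermCopy

set_option autoImplicit false
set_option linter.unusedSimpArgs false
set_option linter.unusedVariables false
set_option linter.unnecessarySeqFocus false
set_option linter.unusedSectionVars false
set_option linter.style.haveILetI false

/-!
# Involutory field automorphisms are Frobenius powers; Hermitian matrices; the graph-field coset
-/

namespace Cfsg.Agent.Lib.Helper45.AutPSL

open Matrix Cfsg.Agent.Lib.Helper5.AutPSLn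

variable {n : ℕ} {F : Type*} [Field F] [Fintype F]

/-- an automorphism of order two of the field with `p ^ f` elements is `x ↦ x ^ (p ^ (f / 2))` -/
theorem frob_of_order_two (p f : ℕ) [Fact p.Prime] (hF : Fintype.card F = p ^ f) (σ : F ≃+* F)
    (hσ : orderOf σ = 2) : Even f ∧ ∀ x, σ x = x ^ (p ^ (f / 2)) := by
  haveI : CharP F p := charP_of_card_eq_prime_pow hF
  letI : Algebra (ZMod p) F := ZMod.algebra F p
  have hfr : Module.finrank (ZMod p) F = f := by
    have := Module.card_eq_pow_finrank (K := ZMod p) (V := F)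
    rw [hF, ZMod.card] at this
    exact (Nat.pow_right_injective (Fact.out : p.Prime).two_le this).symm
  let σ' : F ≃ₐ[ZMod p] F := AlgEquiv.ofRingEquiv (f := σ) (fun x => by
    obtain ⟨k, rfl⟩ := ZMod.natCast_zmod_surjective x
    simp)
  have hσ' : ∀ x, σ' x = σ x := fun x => rfl
  obtain ⟨⟨k, hk⟩, hk'⟩ := (FiniteField.bijective_frobeniusAlgEquivOfAlgebraic_pow (ZMod p) F).2 σ'
  simp only at hk'
  have hx : ∀ x, σ x = x ^ (p ^ k) := by
    intro x
    have := DFunLike.congr_fun hk' x
    rw [AlgEquiv.coe_pow, FiniteField.coe_frobeniusAlgEquivOfAlgebraic_iterate, ZMod.card] at this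
    rw [← hσ', ← this]
  have hord := FiniteField.orderOf_frobeniusAlgEquivOfAlgebraic (ZMod p) F
  have hσ2 : σ ^ 2 = 1 := by rw [← hσ]; exact pow_orderOf_eq_one σ
  have h2 : (FiniteField.frobeniusAlgEquivOfAlgebraic (ZMod p) F) ^ (2 * k) = 1 := by
    rw [mul_comm, pow_mul, hk']
    ext x
    have := DFunLike.congr_fun hσ2 x
    exact this
  have hdvd : f ∣ 2 * k := by
    rw [← hfr, ← hord]; exact orderOf_dvd_of_pow_eq_one h2
  have hk0 : k ≠ 0 := by
    rintro rfl
    have : σ = 1 := by
      ext x
      rw [hx x]; simp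
    rw [this, orderOf_one] at hσ
    omega
  rw [hfr] at hk
  have h2k : 2 * k = f := by
    obtain ⟨m, hm⟩ := hdvd
    have hm1 : m = 1 := by
      have : 0 < m := by
        rcases Nat.eq_zero_or_pos m with h | h
        · subst h; omega
        · exact h
      by_contra hne
      have : 2 ≤ m := by omega
      nlinarith
    subst hm1
    omega
  refine ⟨⟨k, by omega⟩, fun x => ?_⟩
  rw [hx x]
  congr 2
  omega

/-- normal form of invertible Hermitian matrices over a finite field -/
theorem herm_normal_form {q : ℕ} (hK : Fintype.card F = q ^ 2) (σ : F ≃+* F)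
    (hσ : ∀ x, σ x = x ^ q) (A : Matrix (Fin n) (Fin n) F) (hA : IsUnit A)
    (hH : ∀ i j, σ (A i j) = A j i) :
    ∃ E : Matrix (Fin n) (Fin n) F, E * A * (E.map σ)ᵀ = 1 := by
  classical
  have hσσ : ∀ x, σ (σ x) = x := by
    intro x
    rw [hσ, hσ]
    exact Cfsg.Agent.Lib.Helper45.HermCopy.frobK_frobK hK x
  let H : (Fin n → F) → (Fin n → F) → F := fun u v => u ⬝ᵥ (A *ᵥ (fun j => σ (v j)))
  have hH' : Cfsg.Agent.Lib.Helper45.HermCopy.IsHermSpace q H :=
    { add_left := fun u u' v => add_dotProduct _ _ _
      smul_left := fun c u v => smul_dotProduct _ _ _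
      conj := by
        intro u v
        show (u ⬝ᵥ (A *ᵥ (fun j => σ (v j)))) ^ q = v ⬝ᵥ (A *ᵥ (fun j => σ (u j)))
        rw [← hσ]
        simp only [dotProduct, mulVec, map_sum, map_mul, hσσ, Finset.mul_sum]
        rw [Finset.sum_comm]
        refine Finset.sum_congr rfl fun j _ => Finset.sum_congr rfl fun i _ => ?_
        rw [hH]
        ring
      nondeg := by
        intro v hv
        have h1 : A *ᵥ (fun j => σ (v j)) = 0 := by
          ext i
          have := hv (Pi.single i 1)
          simpa [H] using this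
        have h2 : (fun j => σ (v j)) = 0 := by
          have hinj := Matrix.mulVec_injective_of_isUnit hA
          apply hinj
          rw [h1, Matrix.mulVec_zero]
        ext j
        have := congrFun h2 j
        simpa using this }
  obtain ⟨e, he⟩ := Cfsg.Agent.Lib.Helper45.HermCopy.orthonormal_family hK n (Fin n → F) H hH'
    (Module.finrank_fin_fun F)
  refine ⟨Matrix.of e, ?_⟩
  ext i j
  have := he i j
  rw [Matrix.one_apply]
  rw [← this]
  show _ = e i ⬝ᵥ (A *ᵥ (fun l => σ (e j l)))
  simp only [Matrix.mul_apply, Matrix.transpose_apply, Matrix.map_apply, Matrix.of_apply, dotProduct,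
    mulVec, Finset.sum_mul, Finset.mul_sum]
  rw [Finset.sum_comm]
  refine Finset.sum_congr rfl fun k _ => Finset.sum_congr rfl fun l _ => ?_
  ring

end Cfsg.Agent.Lib.Helper45.AutPSL
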