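import Mathlib
import Cfsg.Agent.Lib.Helper45.AutPSLFrob

set_option autoImplicit false
set_option linter.unusedSimpArgs false
set_option linter.unusedVariables false
set_option linter.unnecessarySeqFocus false
set_option linter.unusedSectionVars false
set_option linter.style.haveILetI false

/-!
# The coset of an involutory graph-field automorphism
-/

namespace Cfsg.Agent.Lib.Helper45.AutPSL

open Matrix Cfsg.Agent.Lib.Helper5.AutPSLn

variable {n : ℕ} {F : Type*} [Field F]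

/-- the endomorphism `g ↦ σ(g)^{-T}` of `GL_n(F)` -/
noncomputable def glSI (σ : F ≃+* F) : GL (Fin n) F →* GL (Fin n) F := (glS σ).comp glInvT

lemma glSI_inv_val (σ : F ≃+* F) (g : GL (Fin n) F) : ((glSI σ g)⁻¹).1 = (g.1.map σ)ᵀ := by
  unfold glSI
  rw [MonoidHom.comp_apply, ← map_inv, glS_val, glInvT_inv_coe]
  rfl

/-- the standard graph-field automorphism -/
noncomputable def PhiIota (σ : F ≃+* F) : MulAut (Matrix.ProjectiveSpecialLinearGroup (Fin n) F) :=
  Phi σ * Iota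

lemma PhiIota_mul_Gam (σ : F ≃+* F) (g : GL (Fin n) F) :
    (PhiIota σ : MulAut (Matrix.ProjectiveSpecialLinearGroup (Fin n) F)) * Gam g =
      Gam (glSI σ g) * PhiIota σ := by
  unfold PhiIota glSI
  rw [mul_assoc, Iota_mul_Gam, ← mul_assoc, Phi_mul_Gam', mul_assoc]
  rfl

lemma PhiIota_pow (σ : F ≃+* F) (k : ℕ) :
    (PhiIota σ : MulAut (Matrix.ProjectiveSpecialLinearGroup (Fin n) F)) ^ k =
      Phi (σ ^ k) * Iota ^ k := by
  unfold PhiIota
  have hc : Commute (Phi σ : MulAut (Matrix.ProjectiveSpecialLinearGroup (Fin n) F)) Iota :=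
    (Iota_mul_Phi σ).symm
  rw [hc.mul_pow, ← map_pow]

lemma Iota_sq : (Iota : MulAut (Matrix.ProjectiveSpecialLinearGroup (Fin n) F)) ^ 2 = 1 := by
  rw [pow_two, Iota_mul_self]

lemma conj_Gam_PhiIota (σ : F ≃+* F) (h : GL (Fin n) F) :
    (Gam h * PhiIota σ * (Gam h)⁻¹ : MulAut (Matrix.ProjectiveSpecialLinearGroup (Fin n) F)) =
      Gam (h * (glSI σ h)⁻¹) * PhiIota σ := by
  rw [mul_assoc, ← map_inv, PhiIota_mul_Gam, map_mul, map_inv, map_inv, mul_assoc]

variable [Fintype F]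

/-- **the coset of an involutory graph-field automorphism** -/
theorem graph_field_case (hn : 3 ≤ n) (p f : ℕ) [Fact p.Prime] (hF : Fintype.card F = p ^ f)
    (σ : F ≃+* F) (hσ : orderOf σ = 2) (g : GL (Fin n) F)
    (h : (Gam g * PhiIota σ : MulAut (Matrix.ProjectiveSpecialLinearGroup (Fin n) F)) ^ 2 = 1) :
    ∃ h : GL (Fin n) F,
      (Gam g * PhiIota σ : MulAut (Matrix.ProjectiveSpecialLinearGroup (Fin n) F)) =
        Gam h * PhiIota σ * (Gam h)⁻¹ := by
  have hn2 : 2 ≤ n := by omega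
  have hσ2 : σ ^ 2 = 1 := by rw [← hσ]; exact pow_orderOf_eq_one σ
  have hσσ : ∀ x, σ (σ x) = x := fun x => DFunLike.congr_fun hσ2 x
  obtain ⟨hfe, hfrob⟩ := frob_of_order_two p f hF σ hσ
  have hK : Fintype.card F = (p ^ (f / 2)) ^ 2 := by
    rw [hF, ← pow_mul]
    congr 1
    obtain ⟨m, rfl⟩ := hfe
    omega
  have e1 := pow_eq_tw (Gam : GL (Fin n) F →* MulAut (Matrix.ProjectiveSpecialLinearGroup (Fin n) F))
    (PhiIota σ) (glSI σ) (PhiIota_mul_Gam σ) g 2
  rw [h, PhiIota_pow, hσ2, Iota_sq, map_one, mul_one, mul_one, tw_two] at e1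
  obtain ⟨c, hc⟩ := exists_scalar_of_Gam_eq_one hn2 e1.symm
  -- `g = c • σ(g)ᵀ`
  have hg : g = Matrix.GeneralLinearGroup.scalar (Fin n) c * (glSI σ g)⁻¹ := by
    rw [hc]; group
  have hA : ∀ i j, g.1 i j = c * σ (g.1 j i) := by
    intro i j
    have := congrArg (fun k : GL (Fin n) F => k.1 i j) hg
    simp only [Units.val_mul, glSI_inv_val, Matrix.GeneralLinearGroup.coe_scalar] at this
    rw [this]
    simp [Matrix.mul_apply, Matrix.scalar_apply, Matrix.diagonal_apply]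
  -- `c σ(c) = 1`
  have hcc : (c : F) * σ c = 1 := by
    have hne : ∃ i j, g.1 i j ≠ 0 := by
      by_contra hcon
      push Not at hcon
      have : g.1 = 0 := by ext i j; exact hcon i j
      have h1 := g.isUnit
      rw [this] at h1
      have := (Matrix.isUnit_iff_isUnit_det _).1 h1
      haveI hne' : Nonempty (Fin n) := ⟨⟨0, by omega⟩⟩
      rw [Matrix.det_zero] at this
      exact not_isUnit_zero this
    obtain ⟨i, j, hij⟩ := hne
    have h1 := hA i j
    rw [hA j i, map_mul, hσσ] at h1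
    have h2 : g.1 i j * (c * σ c) = g.1 i j * 1 := by
      linear_combination (-1 : F) * h1
    exact mul_left_cancel₀ hij h2
  have htw : tw (uS σ) c 2 = 1 := by
    rw [tw_two]
    apply Units.ext
    rw [Units.val_mul, uS_val, hcc]
    rfl
  obtain ⟨μ, hμ⟩ := h90_units σ 2 hσ (by norm_num) c htw
  have hμ' : (c : F) * σ μ = μ := by
    have := congrArg Units.val hμ
    rwa [Units.val_mul, uS_val] at this
  -- the Hermitian matrix
  let A' : Matrix (Fin n) (Fin n) F := ((μ⁻¹ : Fˣ) : F) • g.1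
  have hA'unit : IsUnit A' := by
    have : A' = (Matrix.GeneralLinearGroup.scalar (Fin n) μ⁻¹ * g).1 := by
      rw [Units.val_mul, Matrix.GeneralLinearGroup.coe_scalar]
      ext i j
      simp [A', Matrix.mul_apply, Matrix.scalar_apply, Matrix.diagonal_apply]
    rw [this]
    exact Units.isUnit _
  have hA'herm : ∀ i j, σ (A' i j) = A' j i := by
    intro i j
    show σ (((μ⁻¹ : Fˣ) : F) * g.1 i j) = ((μ⁻¹ : Fˣ) : F) * g.1 j i
    rw [hA j i, map_mul]
    have hμ0 : (μ : F) ≠ 0 := μ.ne_zero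
    have hσμ0 : σ (μ : F) ≠ 0 := by
      intro h0
      apply hμ0
      rw [← hμ', h0, mul_zero]
    have h7 : ((μ : F))⁻¹ * c * σ μ = 1 := by rw [mul_assoc, hμ', inv_mul_cancel₀ hμ0]
    have h8 : ((μ : F))⁻¹ * c = (σ (μ : F))⁻¹ := eq_inv_of_mul_eq_one_left h7
    rw [Units.val_inv_eq_inv_val, map_inv₀, ← h8]
    ring
  obtain ⟨E, hE⟩ := herm_normal_form hK σ hfrob A' hA'unit hA'herm
  -- `E` as an element of `GL`
  have hE1 : E * (A' * (E.map σ)ᵀ) = 1 := by rw [← Matrix.mul_assoc]; exact hE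
  have hE2 : (A' * (E.map σ)ᵀ) * E = 1 := mul_eq_one_comm.1 hE1
  let kE : GL (Fin n) F := ⟨E, A' * (E.map σ)ᵀ, hE1, hE2⟩
  have hkE : kE * (Matrix.GeneralLinearGroup.scalar (Fin n) μ⁻¹ * g) * (glSI σ kE)⁻¹ = 1 := by
    apply Units.ext
    rw [Units.val_mul, Units.val_mul, Units.val_mul, glSI_inv_val,
      Matrix.GeneralLinearGroup.coe_scalar]
    show E * (Matrix.scalar (Fin n) ((μ⁻¹ : Fˣ) : F) * g.1) * (E.map σ)ᵀ = 1
    rw [← hE]
    congr 2
    ext i j
    simp [A', Matrix.mul_apply, Matrix.scalar_apply, Matrix.diagonal_apply]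
  refine ⟨kE⁻¹, ?_⟩
  rw [conj_Gam_PhiIota]
  congr 1
  have h5 : g = Matrix.GeneralLinearGroup.scalar (Fin n) μ * (kE⁻¹ * (glSI σ kE⁻¹)⁻¹) := by
    have h6 : Matrix.GeneralLinearGroup.scalar (Fin n) μ⁻¹ * g = kE⁻¹ * glSI σ kE := by
      have : Matrix.GeneralLinearGroup.scalar (Fin n) μ⁻¹ * g =
          kE⁻¹ * (kE * (Matrix.GeneralLinearGroup.scalar (Fin n) μ⁻¹ * g) * (glSI σ kE)⁻¹) *
            glSI σ kE := by group
      rw [this, hkE, mul_one]
    rw [map_inv, inv_inv, ← h6, map_inv]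
    group
  rw [h5, map_mul, Gam_scalar hn2, one_mul]

end Cfsg.Agent.Lib.Helper45.AutPSL
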