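import Mathlib
import Cfsg.Prelude.Def_Solvable
import Cfsg.Prelude.Def_KGroupFacts

set_option autoImplicit false
set_option linter.unusedSimpArgs false
set_option linter.unusedVariables false
set_option linter.unusedSectionVars false
set_option linter.unnecessarySeqFocus false
set_option linter.style.haveILetI false

/-!
# A group-theoretic skeleton for the failure of local balance

Let `P` have trivial centre, `A ≤ Aut(P)` contain the inner automorphisms and `x ∈ A` be a non-inner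
automorphism of prime order `p`. If the fixed points of `x` contain a "simple-like" normal subgroup
`L` whose pointwise stabiliser in `Aut(P)` is `⟨x⟩`, then `O_{p'}(C_A(x)) ≠ 1` iff `p` does not
divide the number of fixed points of `x`.
-/

namespace Cfsg.Agent.Lib.Helper45.Balance

/-- unfolding of `pPrimeCore p H ≠ ⊥` for a subgroup `H` -/
lemma pPrimeCore_ne_bot_iff {G : Type*} [Group G] (p : ℕ) (H : Subgroup G) :
    Cfsg.pPrimeCore p ↥H ≠ ⊥ ↔ ∃ N : Subgroup G, N ≤ H ∧ (∀ h ∈ H, ∀ n ∈ N, h * n * h⁻¹ ∈ N) ∧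
      (Nat.card ↥N).Coprime p ∧ N ≠ ⊥ := by
  unfold Cfsg.pPrimeCore
  rw [Ne, sSup_eq_bot]
  push Not
  constructor
  · rintro ⟨M, ⟨hMn, hMc⟩, hM⟩
    refine ⟨M.map H.subtype, ?_, ?_, ?_, ?_⟩
    · rintro _ ⟨y, -, rfl⟩
      exact y.2
    · rintro h hh _ ⟨y, hy, rfl⟩
      exact ⟨⟨h, hh⟩ * y * ⟨h, hh⟩⁻¹, hMn.conj_mem y hy ⟨h, hh⟩, rfl⟩
    · rwa [Nat.card_congr (M.equivMapOfInjective H.subtype H.subtype_injective).symm.toEquiv]
    · rw [Ne, Subgroup.map_eq_bot_iff_of_injective _ H.subtype_injective]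
      exact hM
  · rintro ⟨N, hNH, hNn, hNc, hN⟩
    refine ⟨N.subgroupOf H, ⟨?_, ?_⟩, ?_⟩
    · constructor
      intro n hn g
      rw [Subgroup.mem_subgroupOf] at hn ⊢
      exact hNn g.1 g.2 n.1 hn
    · rwa [Nat.card_congr (Subgroup.subgroupOfEquivOfLe hNH).toEquiv]
    · rw [Ne, Subgroup.subgroupOf_eq_bot, disjoint_iff, inf_eq_left.2 hNH]
      exact hN

variable {P : Type*} [Group P]

lemma conj_comm_iff (hZ : Function.Injective (MulAut.conj : P →* MulAut P)) (x : MulAut P) (k : P) :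
    MulAut.conj k * x = x * MulAut.conj k ↔ x k = k := by
  have h1 : x * MulAut.conj k = MulAut.conj (x k) * x := by
    ext y
    simp [MulAut.mul_apply, MulAut.conj_apply]
  rw [h1, mul_left_inj]
  constructor
  · intro h
    exact (hZ h).symm
  · intro h
    rw [h]

/-- the skeleton theorem -/
theorem core_ne_bot_iff' [Finite P] (hZ : Function.Injective (MulAut.conj : P →* MulAut P))
    (A : Subgroup (MulAut P)) (hinn : ∀ k : P, MulAut.conj k ∈ A) {p : ℕ} [Fact p.Prime]
    (x : MulAut P) (hord : orderOf x = p) (hxInn : x ∉ Cfsg.Inn P)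
    (L : Subgroup P) (hLfix : ∀ l ∈ L, x l = l)
    (hLnorm : ∀ k : P, x k = k → ∀ l ∈ L, k * l * k⁻¹ ∈ L)
    (hLsimple : p ∣ Nat.card ↥(MonoidHom.eqLocus x.toMonoidHom (MonoidHom.id P)) →
      ∀ M : Subgroup P, M ≤ L → (∀ l ∈ L, ∀ m ∈ M, l * m * l⁻¹ ∈ M) → (Nat.card ↥M).Coprime p →
        M = ⊥)
    (hLne : L ≠ ⊥)
    (hcent : ∀ n : MulAut P, n ∈ A → n * x = x * n → (∀ l ∈ L, n l = l) → n ∈ Subgroup.zpowers x) :
    Cfsg.pPrimeCore p ↥(A ⊓ Subgroup.centralizer {x}) ≠ ⊥ ↔
      Nat.Coprime p (Nat.card ↥(MonoidHom.eqLocus x.toMonoidHom (MonoidHom.id P))) := by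
  have hp : p.Prime := Fact.out
  obtain ⟨Fx, hFx⟩ : ∃ Fx : Subgroup P, Fx = MonoidHom.eqLocus x.toMonoidHom (MonoidHom.id P) :=
    ⟨_, rfl⟩
  have hmemF : ∀ k : P, k ∈ Fx ↔ x k = k := by
    intro k
    rw [hFx]
    rfl
  rw [← hFx] at hLsimple ⊢
  have hmemC : ∀ n : MulAut P, n ∈ Subgroup.centralizer ({x} : Set (MulAut P)) ↔ n * x = x * n := by
    intro n
    rw [Subgroup.mem_centralizer_iff]
    constructor
    · intro h
      exact (h x rfl).symm
    · rintro h _ rfl
      exact h.symm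
  have hconjC : ∀ k : P, x k = k → MulAut.conj k ∈ A ⊓ Subgroup.centralizer {x} := by
    intro k hk
    exact ⟨hinn k, (hmemC _).2 ((conj_comm_iff hZ x k).2 hk)⟩
  rw [pPrimeCore_ne_bot_iff]
  constructor
  · -- a nontrivial normal `p'`-subgroup forces `p ∤ |Fix x|`
    rintro ⟨N, hNH, hNn, hNc, hN⟩
    rw [Nat.Prime.coprime_iff_not_dvd hp]
    intro hdvd
    apply hN
    have hM1 : ∀ l ∈ L, MulAut.conj l ∈ N → l = 1 := by
      obtain ⟨M, hM⟩ : ∃ M : Subgroup P, M = L ⊓ N.comap (MulAut.conj : P →* MulAut P) := ⟨_, rfl⟩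
      have hML : M ≤ L := hM ▸ inf_le_left
      have hMinv : ∀ l ∈ L, ∀ m ∈ M, l * m * l⁻¹ ∈ M := by
        intro l hl m hm
        rw [hM] at hm ⊢
        obtain ⟨hm1, hm2⟩ := Subgroup.mem_inf.1 hm
        refine Subgroup.mem_inf.2 ⟨L.mul_mem (L.mul_mem hl hm1) (L.inv_mem hl), ?_⟩
        show MulAut.conj (l * m * l⁻¹) ∈ N
        rw [map_mul, map_mul, map_inv]
        exact hNn _ (hconjC l (hLfix l hl)) _ hm2
      have hMc : (Nat.card ↥M).Coprime p := by
        have h1 : M.map (MulAut.conj : P →* MulAut P) ≤ N := by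
          rintro _ ⟨l, hl, rfl⟩
          rw [hM] at hl
          exact (Subgroup.mem_inf.1 hl).2
        have h2 : Nat.card ↥M ∣ Nat.card ↥N := by
          rw [Nat.card_congr (M.equivMapOfInjective _ hZ).toEquiv]
          exact Subgroup.card_dvd_of_le h1
        exact Nat.Coprime.coprime_dvd_left h2 hNc
      have h := hLsimple hdvd M hML hMinv hMc
      intro l hl hlN
      have : l ∈ M := by rw [hM]; exact Subgroup.mem_inf.2 ⟨hl, hlN⟩
      rw [h] at this
      exact this
    -- Step 2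
    have hzp : ∀ k : P, MulAut.conj k ∈ Subgroup.zpowers x → k = 1 := by
      intro k hk
      obtain ⟨j, hj⟩ := Subgroup.mem_zpowers_iff.1 hk
      by_cases hpj : (p : ℤ) ∣ j
      · obtain ⟨t, rfl⟩ := hpj
        have : x ^ ((p : ℤ) * t) = 1 := by
          rw [zpow_mul, zpow_natCast, ← hord, pow_orderOf_eq_one, one_zpow]
        rw [this] at hj
        apply hZ
        rw [← hj, map_one]
      · exfalso
        apply hxInn
        have hcop : IsCoprime j (p : ℤ) := by
          rw [isCoprime_comm]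
          exact (Int.prime_iff_natAbs_prime.2 (by simpa using hp)).coprime_iff_not_dvd.2 hpj
        obtain ⟨a, b, hab⟩ := hcop
        have hx1 : x = (x ^ j) ^ a := by
          have : x ^ (a * j + b * p) = x := by rw [hab, zpow_one]
          rw [zpow_add, mul_comm b, zpow_mul x (p : ℤ) b, zpow_natCast, ← hord, pow_orderOf_eq_one,
            one_zpow, mul_one, mul_comm a, zpow_mul] at this
          exact this.symm
        rw [hx1, hj]
        have hkI : MulAut.conj k ∈ Cfsg.Inn P := ⟨k, rfl⟩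
        exact Subgroup.zpow_mem _ hkI a
    have hM0 : ∀ k : P, x k = k → MulAut.conj k ∈ N → k = 1 := by
      intro k hk hkN
      apply hzp
      apply hcent _ (hinn k) ((conj_comm_iff hZ x k).2 hk)
      intro l hl
      rw [MulAut.conj_apply]
      have h1 : k * l * k⁻¹ * l⁻¹ = 1 := by
        apply hM1
        · exact L.mul_mem (hLnorm k hk l hl) (L.inv_mem hl)
        · have e : MulAut.conj (k * l * k⁻¹ * l⁻¹) = MulAut.conj k *
              (MulAut.conj l * (MulAut.conj k)⁻¹ * (MulAut.conj l)⁻¹) := by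
            simp only [map_mul, map_inv]
            group
          rw [e]
          exact N.mul_mem hkN (hNn _ (hconjC l (hLfix l hl)) _ (N.inv_mem hkN))
      calc k * l * k⁻¹ = k * l * k⁻¹ * l⁻¹ * l := by group
        _ = l := by rw [h1, one_mul]
    -- Step 3
    have hN3 : N ≤ Subgroup.zpowers x := by
      intro n hn
      have hnA := (hNH hn).1
      have hnx : n * x = x * n := (hmemC n).1 (hNH hn).2
      apply hcent n hnA hnx
      intro l hl
      have hk : x l = l := hLfix l hl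
      have hxn : x (n l) = n l := by
        have := congrArg (fun f : MulAut P => f l) hnx
        simp only [MulAut.mul_apply] at this
        rw [← this, hk]
      have h1 : n l * l⁻¹ = 1 := by
        apply hM0
        · rw [map_mul, map_inv, hxn, hk]
        · have e : MulAut.conj (n l * l⁻¹) = n * (MulAut.conj l * n⁻¹ * (MulAut.conj l)⁻¹) := by
            rw [map_mul, map_inv]
            have : MulAut.conj (n l) = n * MulAut.conj l * n⁻¹ := by
              ext y
              simp [MulAut.mul_apply, MulAut.conj_apply]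
            rw [this]
            group
          rw [e]
          exact N.mul_mem hn (hNn _ (hconjC l hk) _ (N.inv_mem hn))
      exact mul_inv_eq_one.1 h1
    -- Step 4
    have h4 : Nat.card ↥N ∣ p := by
      have := Subgroup.card_dvd_of_le hN3
      rwa [Nat.card_zpowers, hord] at this
    have h5 : Nat.card ↥N = 1 := by
      rcases (Nat.dvd_prime hp).1 h4 with h | h
      · exact h
      · rw [h] at hNc
        exact absurd ((Nat.coprime_self p).1 hNc) hp.one_lt.ne'
    exact Subgroup.card_eq_one.1 h5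
  · -- the inner automorphisms commuting with `x`
    intro hcop
    refine ⟨Fx.map (MulAut.conj : P →* MulAut P), ?_, ?_, ?_, ?_⟩
    · rintro _ ⟨k, hk, rfl⟩
      exact hconjC k ((hmemF k).1 hk)
    · rintro h ⟨-, hh⟩ _ ⟨k, hk, rfl⟩
      refine ⟨h k, ?_, ?_⟩
      · have hk' : x k = k := (hmemF k).1 hk
        apply (hmemF (h k)).2
        have hhx : h * x = x * h := (hmemC h).1 hh
        have := congrArg (fun f : MulAut P => f k) hhx
        simp only [MulAut.mul_apply] at this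
        rw [← this, hk']
      · ext y
        simp [MulAut.mul_apply, MulAut.conj_apply]
    · rw [← Nat.card_congr (Fx.equivMapOfInjective _ hZ).toEquiv]
      exact hcop.symm
    · intro h
      apply hLne
      rw [eq_bot_iff]
      intro l hl
      have h1 : MulAut.conj l ∈ Fx.map (MulAut.conj : P →* MulAut P) :=
        ⟨l, (hmemF l).2 (hLfix l hl), rfl⟩
      rw [h, Subgroup.mem_bot] at h1
      rw [Subgroup.mem_bot]
      apply hZ
      rw [h1, map_one]

/-- the skeleton theorem, with a simple-like subgroup `L` -/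
theorem core_ne_bot_iff [Finite P] (hZ : Function.Injective (MulAut.conj : P →* MulAut P))
    (A : Subgroup (MulAut P)) (hinn : ∀ k : P, MulAut.conj k ∈ A) {p : ℕ} [Fact p.Prime]
    (x : MulAut P) (hord : orderOf x = p) (hxInn : x ∉ Cfsg.Inn P)
    (L : Subgroup P) (hLfix : ∀ l ∈ L, x l = l)
    (hLnorm : ∀ k : P, x k = k → ∀ l ∈ L, k * l * k⁻¹ ∈ L)
    (hLsimple : ∀ M : Subgroup P, M ≤ L → (∀ l ∈ L, ∀ m ∈ M, l * m * l⁻¹ ∈ M) → M = ⊥ ∨ M = L)
    (hLne : L ≠ ⊥)
    (hLp : p ∣ Nat.card ↥(MonoidHom.eqLocus x.toMonoidHom (MonoidHom.id P)) → p ∣ Nat.card ↥L)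
    (hcent : ∀ n : MulAut P, n ∈ A → n * x = x * n → (∀ l ∈ L, n l = l) → n ∈ Subgroup.zpowers x) :
    Cfsg.pPrimeCore p ↥(A ⊓ Subgroup.centralizer {x}) ≠ ⊥ ↔
      Nat.Coprime p (Nat.card ↥(MonoidHom.eqLocus x.toMonoidHom (MonoidHom.id P))) := by
  have hp : p.Prime := Fact.out
  apply core_ne_bot_iff' hZ A hinn x hord hxInn L hLfix hLnorm _ hLne hcent
  intro hdvd M hML hMinv hMc
  rcases hLsimple M hML hMinv with h | h
  · exact h
  · exfalso
    rw [h] at hMc
    exact (Nat.Prime.coprime_iff_not_dvd hp).1 hMc.symm (hLp hdvd)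

/-- the data of the skeleton, in a form stable under conjugation -/
structure Good (p : ℕ) (x : MulAut P) (L : Subgroup P) : Prop where
  fix : ∀ l ∈ L, x l = l
  norm : ∀ k : P, x k = k → ∀ l ∈ L, k * l * k⁻¹ ∈ L
  simple : p ∣ Nat.card ↥(MonoidHom.eqLocus x.toMonoidHom (MonoidHom.id P)) →
    ∀ M : Subgroup P, M ≤ L → (∀ l ∈ L, ∀ m ∈ M, l * m * l⁻¹ ∈ M) → (Nat.card ↥M).Coprime p → M = ⊥
  ne : L ≠ ⊥
  cent : ∀ n : MulAut P, (∀ l ∈ L, n l = l) → n ∈ Subgroup.zpowers x

lemma card_eqLocus_conj (x δ : MulAut P) :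
    Nat.card ↥(MonoidHom.eqLocus (δ * x * δ⁻¹).toMonoidHom (MonoidHom.id P)) =
      Nat.card ↥(MonoidHom.eqLocus x.toMonoidHom (MonoidHom.id P)) := by
  symm
  refine Nat.card_congr ⟨fun k => ⟨δ k.1, ?_⟩, fun k => ⟨δ⁻¹ k.1, ?_⟩, ?_, ?_⟩
  · have hk : x k.1 = k.1 := k.2
    show (δ * x * δ⁻¹) (δ k.1) = δ k.1
    simp [MulAut.mul_apply, hk]
  · have hk : (δ * x * δ⁻¹) k.1 = k.1 := k.2
    show x (δ⁻¹ k.1) = δ⁻¹ k.1
    simp only [MulAut.mul_apply] at hk
    apply δ.injective
    rw [hk, MulAut.apply_inv_self]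
  · intro k
    apply Subtype.ext
    simp
  · intro k
    apply Subtype.ext
    simp

theorem Good.conj {p : ℕ} {x : MulAut P} {L : Subgroup P} (h : Good p x L) (δ : MulAut P) :
    Good p (δ * x * δ⁻¹) (L.map δ.toMonoidHom) := by
  have hxk : ∀ k : P, (δ * x * δ⁻¹) k = k → x (δ⁻¹ k) = δ⁻¹ k := by
    intro k hk
    simp only [MulAut.mul_apply] at hk
    apply δ.injective
    rw [hk, MulAut.apply_inv_self]
  refine ⟨?_, ?_, ?_, ?_, ?_⟩
  · rintro _ ⟨l, hl, rfl⟩
    show (δ * x * δ⁻¹) (δ l) = δ l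
    simp [MulAut.mul_apply, h.fix l hl]
  · rintro k hk _ ⟨l, hl, rfl⟩
    refine ⟨δ⁻¹ k * l * (δ⁻¹ k)⁻¹, h.norm _ (hxk k hk) l hl, ?_⟩
    show δ (δ⁻¹ k * l * (δ⁻¹ k)⁻¹) = k * δ l * k⁻¹
    simp
  · intro hdvd M hML hMinv hMc
    rw [card_eqLocus_conj] at hdvd
    have h1 : M.comap δ.toMonoidHom = ⊥ := by
      apply h.simple hdvd
      · intro k hk
        obtain ⟨l, hl, hlk⟩ := hML hk
        have : l = k := δ.injective hlk
        exact this ▸ hl
      · intro l hl m hm
        show δ (l * m * l⁻¹) ∈ M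
        rw [map_mul, map_mul, map_inv]
        exact hMinv _ ⟨l, hl, rfl⟩ _ hm
      · have e : ↥(M.comap δ.toMonoidHom) ≃ ↥M :=
          ⟨fun k => ⟨δ k.1, k.2⟩, fun m => ⟨δ⁻¹ m.1, by
            show δ (δ⁻¹ m.1) ∈ M
            rw [MulAut.apply_inv_self]
            exact m.2⟩, fun k => by
            apply Subtype.ext
            simp, fun m => by
            apply Subtype.ext
            simp⟩
        rwa [Nat.card_congr e]
    rw [eq_bot_iff]
    intro k hk
    have : δ⁻¹ k ∈ M.comap δ.toMonoidHom := by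
      show δ (δ⁻¹ k) ∈ M
      simpa using hk
    rw [h1, Subgroup.mem_bot] at this
    rw [Subgroup.mem_bot]
    have h2 := congrArg δ this
    simpa using h2
  · intro hb
    apply h.ne
    rw [eq_bot_iff]
    intro l hl
    have : δ l ∈ L.map δ.toMonoidHom := ⟨l, hl, rfl⟩
    rw [hb, Subgroup.mem_bot] at this
    rw [Subgroup.mem_bot]
    exact δ.injective (this.trans (map_one δ).symm)
  · intro n hn
    have h1 : δ⁻¹ * n * δ ∈ Subgroup.zpowers x := by
      apply h.cent
      intro l hl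
      have := hn (δ l) ⟨l, hl, rfl⟩
      simp only [MulAut.mul_apply]
      rw [this]
      simp
    obtain ⟨j, hj⟩ := Subgroup.mem_zpowers_iff.1 h1
    rw [Subgroup.mem_zpowers_iff]
    refine ⟨j, ?_⟩
    have h2 : (δ * x * δ⁻¹) ^ j = δ * x ^ j * δ⁻¹ := by
      have := map_zpow (MulAut.conj δ) x j
      simp only [MulAut.conj_apply] at this
      exact this.symm
    rw [h2, hj]
    group

/-- the skeleton theorem for `Good` data -/
theorem Good.core_ne_bot_iff [Finite P] (hZ : Function.Injective (MulAut.conj : P →* MulAut P))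
    (A : Subgroup (MulAut P)) (hinn : ∀ k : P, MulAut.conj k ∈ A) {p : ℕ} [Fact p.Prime]
    {x : MulAut P} (hord : orderOf x = p) (hxInn : x ∉ Cfsg.Inn P) {L : Subgroup P}
    (h : Good p x L) :
    Cfsg.pPrimeCore p ↥(A ⊓ Subgroup.centralizer {x}) ≠ ⊥ ↔
      Nat.Coprime p (Nat.card ↥(MonoidHom.eqLocus x.toMonoidHom (MonoidHom.id P))) :=
  core_ne_bot_iff' hZ A hinn x hord hxInn L h.fix h.norm h.simple h.ne
    (fun n _ _ hn => h.cent n hn)

end Cfsg.Agent.Lib.Helper45.Balance
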