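import Cfsg.Agent.Lib.Helper20.G2cDefs

/-! # G2c mini-hive (S2180, helper20), leaf G2C-LCONJ (helper45): the Levi subgroup `L_b` normalises `X_9`. -/

set_option autoImplicit false

namespace Cfsg.Agent.Lib.Helper20.G2c

open Cfsg Cfsg.Lie Cfsg.Agent.Lib.Helper36

variable (F : Type*) [Field F]

/-- the roots of the subsystem `Φ_{b}` are `±b = 6, 5` -/
theorem lconj_inRootSub (r : ℕ) (hr : chevG2.InRootSub {1} r) : r = 5 ∨ r = 6 := by
  obtain ⟨hr12, h⟩ := hr
  have h0 := h 0 (by decide) (by simp)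
  have hr12' : r < 12 := hr12
  interval_cases r
  · revert h0; decide
  · revert h0; decide
  · revert h0; decide
  · revert h0; decide
  · revert h0; decide
  · left; rfl
  · right; rfl
  · revert h0; decide
  · revert h0; decide
  · revert h0; decide
  · revert h0; decide
  · revert h0; decide

/-- the subgroup of the elements `l` with `l X_9 l⁻¹ ≤ X_9` and `l⁻¹ X_9 l ≤ X_9` -/
def lconjN : Subgroup (GL chevG2.Idx F) where
  carrier := {l | (∀ k : F, ∃ k' : F, l * xg F 9 k * l⁻¹ = xg F 9 k') ∧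
    (∀ k : F, ∃ k' : F, l⁻¹ * xg F 9 k * l = xg F 9 k')}
  mul_mem' := by
    rintro a b ⟨ha1, ha2⟩ ⟨hb1, hb2⟩
    constructor
    · intro k
      obtain ⟨k1, hk1⟩ := hb1 k
      obtain ⟨k2, hk2⟩ := ha1 k1
      refine ⟨k2, ?_⟩
      rw [← hk2, ← hk1]
      group
    · intro k
      obtain ⟨k1, hk1⟩ := ha2 k
      obtain ⟨k2, hk2⟩ := hb2 k1
      refine ⟨k2, ?_⟩
      rw [← hk2, ← hk1]
      group
  one_mem' := by
    constructor
    · intro k; exact ⟨k, by group⟩
    · intro k; exact ⟨k, by group⟩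
  inv_mem' := by
    rintro a ⟨ha1, ha2⟩
    constructor
    · intro k
      obtain ⟨k1, hk1⟩ := ha2 k
      exact ⟨k1, by rw [← hk1]; group⟩
    · intro k
      obtain ⟨k1, hk1⟩ := ha1 k
      exact ⟨k1, by rw [← hk1]; group⟩

theorem lconj_diag_le : chevG2.diagonalSubgroup F ≤ lconjN F := by
  have key : ∀ h : GL chevG2.Idx F, h ∈ chevG2.diagonalSubgroup F →
      ∀ k : F, ∃ k' : F, h * xg F 9 k * h⁻¹ = xg F 9 k' := by
    intro h hh k
    obtain ⟨χ, hχ, ek⟩ := exists_character_of_mem_diagonal chevG2 hG2 F h hh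
    exact ⟨(χ 9 : F) * k, diag_conj_xGL chevG2 hG2 F h χ hχ ek 9 (by decide) k⟩
  intro h hh
  refine ⟨key h hh, ?_⟩
  intro k
  obtain ⟨k', hk'⟩ := key h⁻¹ (inv_mem hh) k
  exact ⟨k', by rw [← hk', inv_inv]⟩

theorem lconj_root_le :
    Subgroup.closure {g : GL chevG2.Idx F | ∃ (r : ℕ) (t : F), chevG2.InRootSub {1} r ∧
      (g : Matrix chevG2.Idx chevG2.Idx F) = chevG2.x F r t} ≤ lconjN F := by
  rw [Subgroup.closure_le]
  rintro g ⟨r, t, hr, hg⟩
  have hg' : g = xg F r t := by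
    apply Units.ext
    rw [hg]
    rfl
  have hp : ∀ c : ℤ, c % 0 = 0 → (c : F) = 0 := by
    intro c hc
    have : c = 0 := by simpa using hc
    rw [this]; simp
  have hcomm : ∀ (t k : F), xg F r t * xg F 9 k = xg F 9 k * xg F r t := by
    intro t k
    rcases lconj_inRootSub r hr with rfl | rfl
    · exact comm_of_vanish chevG2 hG2 F 0 hp 9 5 (by decide) (by decide) k t
    · exact comm_of_vanish chevG2 hG2 F 0 hp 9 6 (by decide) (by decide) k t
  rw [hg']
  constructor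
  · intro k
    refine ⟨k, ?_⟩
    rw [hcomm t k, mul_assoc, mul_inv_cancel, mul_one]
  · intro k
    refine ⟨k, ?_⟩
    rw [mul_assoc, ← hcomm t k, ← mul_assoc, inv_mul_cancel, one_mul]

/-- G2C-LCONJ -/
theorem levi_conj (l : GL chevG2.Idx F) (hl : l ∈ chevG2.leviSubgroup F {1}) :
    ∃ k : F, l * xg F 9 1 * l⁻¹ = xg F 9 k := by
  have hle : chevG2.leviSubgroup F {1} ≤ lconjN F := by
    unfold ChevalleyDatum.leviSubgroup
    exact sup_le (lconj_diag_le F) (lconj_root_le F)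
  exact (hle hl).1 1

end Cfsg.Agent.Lib.Helper20.G2c
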