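import Mathlib
import Cfsg.Prelude.Def_LieTypeDatum
import Cfsg.Agent.Lib.Helper13.SympTrans
import Cfsg.Agent.Lib.Helper13.SpParabolic
import Cfsg.Agent.Lib.Helper5.SympCenter
import Cfsg.Agent.Lib.Helper5.AutPSL2Maps
import Cfsg.Agent.Lib.Helper5.AutPSLnTransv

set_option autoImplicit false
set_option linter.unusedSimpArgs false
set_option linter.unusedVariables false
set_option linter.unusedSectionVars false
set_option linter.unnecessarySeqFocus false

/-!
# Automorphisms of `PSp_{2m}(F)`: basic facts on symplectic transvections and the projection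
-/

namespace Cfsg.Agent.Lib.Helper45.SpAut

open Matrix Cfsg.Agent.Lib.Helper13
open Cfsg.Agent.Lib.Helper5.AutPSLn (Par)

variable {F : Type*} [Field F] {m : ℕ}

/-- vectors of the natural module -/
abbrev Vec (m : ℕ) (F : Type*) := Fin m ⊕ Fin m → F

/-- the symplectic group as a type -/
abbrev SpG (m : ℕ) (F : Type*) [Field F] := ↥(Matrix.symplecticGroup (Fin m) F)

/-- the alternating form -/
abbrev B (u v : Vec m F) : F := Cfsg.sympForm m F u v

/-- the projection `Sp → PSp` -/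
def pr : SpG m F →* Cfsg.PSp m F := QuotientGroup.mk' _

lemma pr_surjective : Function.Surjective (pr : SpG m F →* Cfsg.PSp m F) :=
  QuotientGroup.mk'_surjective _

lemma pr_def (x : SpG m F) : pr x = (QuotientGroup.mk x : Cfsg.PSp m F) := rfl

/-- the transvection `x ↦ x + c B(x,v) v` -/
def T (v : Vec m F) (c : F) : SpG m F := sympTransvElt m v c

lemma T_mulVec (v : Vec m F) (c : F) (x : Vec m F) :
    (T v c).1 *ᵥ x = x + (c * B x v) • v := sympTransvection_mulVec m v c x

lemma sp_ext {g h : SpG m F} (H : ∀ x : Vec m F, g.1 *ᵥ x = h.1 *ᵥ x) : g = h := by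
  apply Subtype.ext
  apply Matrix.toLin'.injective
  apply LinearMap.ext
  intro x
  rw [Matrix.toLin'_apply, Matrix.toLin'_apply]
  exact H x

lemma mul_mulVec (g h : SpG m F) (x : Vec m F) : (g * h).1 *ᵥ x = g.1 *ᵥ (h.1 *ᵥ x) := by
  rw [Submonoid.coe_mul, ← mulVec_mulVec]

lemma one_mulVec' (x : Vec m F) : (1 : SpG m F).1 *ᵥ x = x := by
  rw [Submonoid.coe_one, one_mulVec]

lemma inv_mulVec_mulVec (g : SpG m F) (x : Vec m F) : (g⁻¹).1 *ᵥ (g.1 *ᵥ x) = x := by
  rw [← mul_mulVec, inv_mul_cancel, one_mulVec']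

lemma mulVec_inv_mulVec (g : SpG m F) (x : Vec m F) : g.1 *ᵥ ((g⁻¹).1 *ᵥ x) = x := by
  rw [← mul_mulVec, mul_inv_cancel, one_mulVec']

lemma B_mulVec (g : SpG m F) (u v : Vec m F) : B (g.1 *ᵥ u) (g.1 *ᵥ v) = B u v :=
  preserves_of_mem_symplectic m g.1 g.2 u v

lemma B_inv_left (g : SpG m F) (u v : Vec m F) : B ((g⁻¹).1 *ᵥ u) v = B u (g.1 *ᵥ v) := by
  rw [← B_mulVec g, mulVec_inv_mulVec]

lemma mulVec_injective (g : SpG m F) : Function.Injective (fun x : Vec m F => g.1 *ᵥ x) := by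
  intro x y h
  have := congrArg (fun z => (g⁻¹).1 *ᵥ z) h
  dsimp only at this
  rwa [inv_mulVec_mulVec, inv_mulVec_mulVec] at this

lemma mulVec_ne_zero (g : SpG m F) {x : Vec m F} (hx : x ≠ 0) : g.1 *ᵥ x ≠ 0 := by
  intro h
  apply hx
  apply mulVec_injective g
  simp only [h, mulVec_zero]

lemma T_add (v : Vec m F) (c d : F) : T v c * T v d = T v (c + d) := by
  apply Subtype.ext
  exact sympTransvection_mul m v c d

lemma T_zero (v : Vec m F) : T v 0 = 1 := by
  apply Subtype.ext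
  exact sympTransvection_zero m v

lemma T_zero_left (c : F) : T (0 : Vec m F) c = 1 := by
  apply sp_ext
  intro x
  rw [T_mulVec, smul_zero, add_zero, one_mulVec']

lemma T_inv (v : Vec m F) (c : F) : (T v c)⁻¹ = T v (-c) := by
  apply inv_eq_of_mul_eq_one_right
  rw [T_add, add_neg_cancel, T_zero]

lemma T_smul (a : F) (v : Vec m F) (c : F) : T (a • v) c = T v (a ^ 2 * c) := by
  apply sp_ext
  intro x
  rw [T_mulVec, T_mulVec]
  simp only [B, sympForm_smul_right, smul_smul]
  congr 2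
  ring

lemma T_neg (v : Vec m F) (c : F) : T (-v) c = T v c := by
  have := T_smul (-1 : F) v c
  rwa [neg_one_smul, neg_one_sq, one_mul] at this

lemma conj_T (g : SpG m F) (v : Vec m F) (c : F) : g * T v c * g⁻¹ = T (g.1 *ᵥ v) c := by
  apply sp_ext
  intro x
  rw [mul_mulVec, mul_mulVec, T_mulVec, T_mulVec, mulVec_add, mulVec_inv_mulVec, mulVec_smul,
    B_inv_left]

lemma T_pow (v : Vec m F) (c : F) (k : ℕ) : (T v c) ^ k = T v (k * c) := by
  induction k with
  | zero => simp [T_zero]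
  | succ n ih =>
    rw [pow_succ, ih, T_add]
    congr 1
    push_cast
    ring

/-- there is a vector pairing nontrivially with a nonzero vector -/
lemma exists_B_ne_zero {v : Vec m F} (hv : v ≠ 0) : ∃ x : Vec m F, B x v ≠ 0 := by
  obtain ⟨a, ha⟩ := exists_sympForm_ne_zero m v hv
  refine ⟨a, ?_⟩
  intro h
  apply ha
  rw [sympForm_swap]
  show -B a v = 0
  rw [h, neg_zero]

lemma T_eq_one_iff {v : Vec m F} (hv : v ≠ 0) {c : F} : T v c = 1 ↔ c = 0 := by
  constructor
  · intro h
    obtain ⟨x, hx⟩ := exists_B_ne_zero hv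
    have h1 := T_mulVec v c x
    rw [h, one_mulVec'] at h1
    have h2 : (c * B x v) • v = 0 := by
      have := h1
      nth_rewrite 1 [← add_zero x] at this
      exact (add_left_cancel this).symm
    rcases smul_eq_zero.1 h2 with h3 | h3
    · rcases mul_eq_zero.1 h3 with h4 | h4
      · exact h4
      · exact absurd h4 hx
    · exact absurd h3 hv
  · rintro rfl
    exact T_zero v

lemma T_injective {v : Vec m F} (hv : v ≠ 0) : Function.Injective (fun c : F => T v c) := by
  intro c d h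
  have h1 : T v (c - d) = 1 := by
    rw [sub_eq_add_neg, ← T_add, ← T_inv]
    show T v c * (T v d)⁻¹ = 1
    have h' : T v c = T v d := h
    rw [h', mul_inv_cancel]
  exact sub_eq_zero.1 ((T_eq_one_iff hv).1 h1)

/-! ### The projection -/

lemma pr_eq_iff [NeZero m] {g h : SpG m F} : pr g = pr h ↔ h.1 = g.1 ∨ h.1 = -g.1 := by
  have hne : Nonempty (Fin m) := ⟨⟨0, Nat.pos_of_ne_zero (NeZero.ne m)⟩⟩
  rw [pr_def, pr_def, QuotientGroup.eq, Cfsg.Agent.Lib.Helper5.mem_center_symplecticGroup_iff]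
  have h1 : (g⁻¹ * h).1 = (g⁻¹).1 * h.1 := rfl
  have h2 : g.1 * (g⁻¹).1 = 1 := by
    rw [← Submonoid.coe_mul, mul_inv_cancel, Submonoid.coe_one]
  have h3 : (g⁻¹).1 * g.1 = 1 := by
    rw [← Submonoid.coe_mul, inv_mul_cancel, Submonoid.coe_one]
  rw [h1]
  constructor
  · rintro (e | e)
    · left
      calc h.1 = g.1 * ((g⁻¹).1 * h.1) := by rw [← Matrix.mul_assoc, h2, Matrix.one_mul]
        _ = g.1 := by rw [e, Matrix.mul_one]
    · right
      calc h.1 = g.1 * ((g⁻¹).1 * h.1) := by rw [← Matrix.mul_assoc, h2, Matrix.one_mul]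
        _ = -g.1 := by rw [e, Matrix.mul_neg, Matrix.mul_one]
  · rintro (e | e)
    · left
      rw [e, h3]
    · right
      rw [e, Matrix.mul_neg, h3]

/-- two elements with the same image that agree on one nonzero vector are equal -/
lemma eq_of_pr_eq_of_fix [NeZero m] {g h : SpG m F} (hp : pr g = pr h) {x : Vec m F} (hx : x ≠ 0)
    (hgx : g.1 *ᵥ x = h.1 *ᵥ x) : g = h := by
  rcases pr_eq_iff.1 hp with e | e
  · exact Subtype.ext e.symm
  · have h1 : g.1 *ᵥ x = -(g.1 *ᵥ x) := by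
      nth_rewrite 1 [hgx]
      rw [e, neg_mulVec]
    have h2 : (2 : F) • (g.1 *ᵥ x) = 0 := by
      rw [two_smul]
      nth_rewrite 1 [h1]
      exact neg_add_cancel _
    have h3 : (2 : F) = 0 := by
      rcases smul_eq_zero.1 h2 with h | h
      · exact h
      · exact absurd h (mulVec_ne_zero g hx)
    apply Subtype.ext
    rw [e]
    have h4 : g.1 + g.1 = 0 := by
      rw [← two_smul F g.1, h3, zero_smul]
    exact (neg_eq_of_add_eq_zero_left h4).symm

/-- in dimension at least four, two vectors have a common nonzero perpendicular -/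
lemma exists_perp2 (hm : 2 ≤ m) (v w : Vec m F) : ∃ x : Vec m F, x ≠ 0 ∧ B x v = 0 ∧ B x w = 0 := by
  have h3 : 3 ≤ Fintype.card (Fin m ⊕ Fin m) := by
    rw [Fintype.card_sum, Fintype.card_fin]; omega
  obtain ⟨x, hx, h1, h2⟩ := Cfsg.Agent.Lib.Helper5.AutPSLn.exists_ne_zero_orth2 h3
    (Matrix.J (Fin m) F *ᵥ v) (Matrix.J (Fin m) F *ᵥ w)
  refine ⟨x, hx, ?_, ?_⟩
  · show Cfsg.sympForm m F x v = 0
    rw [sympForm_def, dotProduct_comm]; exact h1
  · show Cfsg.sympForm m F x w = 0
    rw [sympForm_def, dotProduct_comm]; exact h2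

lemma B_swap (u v : Vec m F) : B u v = -B v u := sympForm_swap m u v

lemma B_eq_zero_comm {u v : Vec m F} : B u v = 0 ↔ B v u = 0 := by
  rw [B_swap, neg_eq_zero]

end Cfsg.Agent.Lib.Helper45.SpAut
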