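import Mathlib
import Cfsg.Agent.Lib.Helper45.SpAutBasic

set_option autoImplicit false
set_option linter.unusedSimpArgs false
set_option linter.unusedVariables false
set_option linter.unusedSectionVars false
set_option linter.unnecessarySeqFocus false

/-!
# Transvection subgroups of `PSp_{2m}(F)` and the relation induced on points by an automorphism
-/

namespace Cfsg.Agent.Lib.Helper45.SpAut

open Matrix Cfsg.Agent.Lib.Helper13 Pointwise
open Cfsg.Agent.Lib.Helper5.AutPSLn (Par)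

variable {F : Type*} [Field F] {m : ℕ}

/-- the transvection subgroup of `Sp` at `v` -/
def XS (v : Vec m F) : Subgroup (SpG m F) where
  carrier := {g | ∃ c : F, g = T v c}
  mul_mem' := by
    rintro _ _ ⟨c, rfl⟩ ⟨d, rfl⟩
    exact ⟨c + d, T_add v c d⟩
  one_mem' := ⟨0, (T_zero v).symm⟩
  inv_mem' := by
    rintro _ ⟨c, rfl⟩
    exact ⟨-c, T_inv v c⟩

/-- the transvection subgroup of `PSp` at `v` -/
def Xb (v : Vec m F) : Subgroup (Cfsg.PSp m F) := (XS v).map pr

lemma mem_Xb {v : Vec m F} {y : Cfsg.PSp m F} : y ∈ Xb v ↔ ∃ c : F, y = pr (T v c) := by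
  constructor
  · rintro ⟨_, ⟨c, rfl⟩, rfl⟩
    exact ⟨c, rfl⟩
  · rintro ⟨c, rfl⟩
    exact ⟨T v c, ⟨c, rfl⟩, rfl⟩

lemma pr_T_mem (v : Vec m F) (c : F) : pr (T v c) ∈ Xb v := mem_Xb.2 ⟨c, rfl⟩

lemma Xb_congr {v w : Vec m F} (h : Par v w) : Xb v = Xb w := by
  obtain ⟨a, ha, rfl⟩ := h
  ext y
  rw [mem_Xb, mem_Xb]
  constructor
  · rintro ⟨c, rfl⟩
    refine ⟨c / a ^ 2, ?_⟩
    rw [T_smul]
    congr 2
    field_simp
  · rintro ⟨c, rfl⟩
    exact ⟨a ^ 2 * c, by rw [T_smul]⟩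

/-- if `pr (T v c) = pr (T w d)` nontrivially, then `v` and `w` are proportional -/
lemma par_of_pr_T_eq [NeZero m] (hm : 2 ≤ m) {v w : Vec m F} (hv : v ≠ 0) {c d : F} (hc : c ≠ 0)
    (h : pr (T v c) = pr (T w d)) : Par w v := by
  obtain ⟨x, hx, hxv, hxw⟩ := exists_perp2 hm v w
  have e : T v c = T w d := by
    apply eq_of_pr_eq_of_fix h hx
    rw [T_mulVec, T_mulVec, hxv, hxw, mul_zero, mul_zero, zero_smul, zero_smul]
  obtain ⟨y, hy⟩ := exists_B_ne_zero hv
  have h1 := congrArg (fun g : SpG m F => g.1 *ᵥ y) e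
  simp only [T_mulVec] at h1
  have h2 : (c * B y v) • v = (d * B y w) • w := add_left_cancel h1
  have h3 : c * B y v ≠ 0 := mul_ne_zero hc hy
  have h4 : v = ((c * B y v)⁻¹ * (d * B y w)) • w := by
    rw [mul_smul, ← h2, smul_smul, inv_mul_cancel₀ h3, one_smul]
  refine ⟨(c * B y v)⁻¹ * (d * B y w), ?_, h4⟩
  intro h0
  rw [h0, zero_smul] at h4
  exact hv h4

lemma par_of_Xb_eq [NeZero m] (hm : 2 ≤ m) {v w : Vec m F} (hv : v ≠ 0) (h : Xb v = Xb w) :
    Par w v := by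
  have h1 : pr (T v 1) ∈ Xb w := h ▸ pr_T_mem v 1
  obtain ⟨d, hd⟩ := mem_Xb.1 h1
  exact par_of_pr_T_eq hm hv one_ne_zero hd

lemma par_of_Xb_le [NeZero m] (hm : 2 ≤ m) {v w : Vec m F} (hv : v ≠ 0) (h : Xb v ≤ Xb w) :
    Par w v := by
  have h1 : pr (T v 1) ∈ Xb w := h (pr_T_mem v 1)
  obtain ⟨d, hd⟩ := mem_Xb.1 h1
  exact par_of_pr_T_eq hm hv one_ne_zero hd

lemma T_comm_of_perp {v w : Vec m F} (h : B v w = 0) (c d : F) :
    T v c * T w d = T w d * T v c := by
  have h1 : T v c * T w d * (T v c)⁻¹ = T w d := by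
    rw [conj_T, T_mulVec]
    have : B w v = 0 := B_eq_zero_comm.1 h
    rw [this, mul_zero, zero_smul, add_zero]
  calc T v c * T w d = T v c * T w d * (T v c)⁻¹ * T v c := by group
    _ = T w d * T v c := by rw [h1]

/-- the transvection subgroups at `v` and `w` commute iff `v ⟂ w` -/
lemma comm_iff_perp [NeZero m] (hm : 2 ≤ m) {v w : Vec m F} (hv : v ≠ 0) (hw : w ≠ 0) :
    (∀ y ∈ Xb v, ∀ z ∈ Xb w, y * z = z * y) ↔ B v w = 0 := by
  constructor
  · intro h
    by_contra hs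
    have h1 := h _ (pr_T_mem v 1) _ (pr_T_mem w 1)
    rw [← map_mul, ← map_mul] at h1
    obtain ⟨x, hx, hxv, hxw⟩ := exists_perp2 hm v w
    have e : T v 1 * T w 1 = T w 1 * T v 1 := by
      apply eq_of_pr_eq_of_fix h1 hx
      have f1 : (T v 1).1 *ᵥ x = x := by
        rw [T_mulVec, hxv, mul_zero, zero_smul, add_zero]
      have f2 : (T w 1).1 *ᵥ x = x := by
        rw [T_mulVec, hxw, mul_zero, zero_smul, add_zero]
      rw [mul_mulVec, mul_mulVec, f1, f2, f1]
    have e2 : T v 1 * T w 1 * (T v 1)⁻¹ = T w 1 := by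
      rw [e]; group
    rw [conj_T] at e2
    set w' := (T v 1).1 *ᵥ w with hw'
    have hw'2 : w' = w + B w v • v := by
      rw [hw', T_mulVec, one_mul]
    have h2 := congrArg (fun g : SpG m F => g.1 *ᵥ w) e2
    simp only [T_mulVec, one_mul] at h2
    have h3 : B w w' • w' = B w w • w := add_left_cancel h2
    have h4 : B w w' = B w v * B w v := by
      rw [hw'2]
      show Cfsg.sympForm m F w (w + B w v • v) = _
      rw [sympForm_add_right, sympForm_self, zero_add, sympForm_smul_right]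
    have h5 : B w w = 0 := sympForm_self m w
    rw [h4, h5, zero_smul] at h3
    have hwv : B w v ≠ 0 := fun h0 => hs (B_eq_zero_comm.1 h0)
    have h6 : w' = 0 := by
      rcases smul_eq_zero.1 h3 with h | h
      · exact absurd h (mul_ne_zero hwv hwv)
      · exact h
    rw [h6, T_zero_left] at e2
    exact one_ne_zero ((T_eq_one_iff hw).1 e2.symm)
  · intro h y hy z hz
    obtain ⟨c, rfl⟩ := mem_Xb.1 hy
    obtain ⟨d, rfl⟩ := mem_Xb.1 hz
    rw [← map_mul, ← map_mul, T_comm_of_perp h]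

/-- conjugation moves transvection subgroups -/
lemma conj_smul_Xb (g : SpG m F) (v : Vec m F) :
    MulAut.conj (pr g) • Xb v = Xb (g.1 *ᵥ v) := by
  ext y
  rw [Subgroup.mem_pointwise_smul_iff_inv_smul_mem, mem_Xb, mem_Xb]
  constructor
  · rintro ⟨c, hc⟩
    refine ⟨c, ?_⟩
    rw [← conj_T, map_mul, map_mul, ← hc, MulAut.smul_def, MulAut.inv_apply, MulAut.conj_symm_apply,
      map_inv]
    group
  · rintro ⟨c, rfl⟩
    refine ⟨c, ?_⟩
    rw [← conj_T, map_mul, map_mul, MulAut.smul_def, MulAut.inv_apply, MulAut.conj_symm_apply,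
      map_inv]
    group

/-- an element of `Sp` mapping every vector to a multiple is central -/
lemma pr_eq_one_of_par [NeZero m] (g : SpG m F) (h : ∀ v : Vec m F, v ≠ 0 → Par v (g.1 *ᵥ v)) :
    pr g = 1 := by
  have hne : Nonempty (Fin m) := ⟨⟨0, Nat.pos_of_ne_zero (NeZero.ne m)⟩⟩
  set f : (Vec m F) →ₗ[F] (Vec m F) := Matrix.toLin' g.1 with hf
  obtain ⟨a, ha⟩ := f.exists_eq_smul_id_of_forall_notLinearIndependent fun v ↦ by
    by_cases hv : v = 0
    · simp [hv, linearIndependent_fin2]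
    · obtain ⟨c, hc0, hc⟩ := h v hv
      rw [LinearIndependent.pair_iff' hv]
      push Not
      exact ⟨c, by rw [hf, Matrix.toLin'_apply, hc]⟩
  have hg : g.1 = Matrix.scalar (Fin m ⊕ Fin m) a := by
    calc g.1 = LinearMap.toMatrix' f := by rw [hf, LinearMap.toMatrix'_toLin']
      _ = (algebraMap F (Module.End F (Vec m F)) a).toMatrix' := by
          rw [ha]; rfl
      _ = Matrix.scalar (Fin m ⊕ Fin m) a := LinearMap.toMatrix'_algebraMap a
  have hmem : Matrix.scalar (Fin m ⊕ Fin m) a ∈ symplecticGroup (Fin m) F := hg ▸ g.2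
  rw [Cfsg.Agent.Lib.Helper5.scalar_mem_symplecticGroup_iff] at hmem
  have h0 : (a - 1) * (a + 1) = 0 := by linear_combination hmem
  have hc : g ∈ Subgroup.center (SpG m F) := by
    rw [Cfsg.Agent.Lib.Helper5.mem_center_symplecticGroup_iff]
    rcases mul_eq_zero.1 h0 with h1 | h1
    · left
      rw [hg, sub_eq_zero.1 h1, map_one]
    · right
      rw [hg, eq_neg_of_add_eq_zero_left h1, map_neg, map_one]
  rw [pr_def]
  exact (QuotientGroup.eq_one_iff g).2 hc

lemma pr_eq_of_par [NeZero m] (g g' : SpG m F)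
    (h : ∀ v : Vec m F, v ≠ 0 → Par (g.1 *ᵥ v) (g'.1 *ᵥ v)) : pr g = pr g' := by
  have h1 : pr (g⁻¹ * g') = 1 := by
    apply pr_eq_one_of_par
    intro v hv
    obtain ⟨c, hc, e⟩ := h v hv
    refine ⟨c, hc, ?_⟩
    rw [mul_mulVec, e, mulVec_smul, inv_mulVec_mulVec]
  rw [map_mul, map_inv] at h1
  exact (inv_mul_eq_one.1 h1)

/-! ### The relation on points induced by an automorphism -/

/-- `β` maps the transvection subgroup at `v` onto the one at `v'` -/
def Rel (β : MulAut (Cfsg.PSp m F)) (v v' : Vec m F) : Prop := β • Xb v = Xb v'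

lemma Rel.comp {β₁ β₂ : MulAut (Cfsg.PSp m F)} {v v' v'' : Vec m F} (h₂ : Rel β₂ v v')
    (h₁ : Rel β₁ v' v'') : Rel (β₁ * β₂) v v'' := by
  unfold Rel at *
  rw [mul_smul, h₂, h₁]

lemma Rel.inv {β : MulAut (Cfsg.PSp m F)} {v v' : Vec m F} (h : Rel β v v') : Rel β⁻¹ v' v := by
  unfold Rel at *
  rw [← h, inv_smul_smul]

lemma Rel.one (v : Vec m F) : Rel (1 : MulAut (Cfsg.PSp m F)) v v := by
  unfold Rel
  rw [one_smul]

lemma rel_conj (g : SpG m F) (v : Vec m F) : Rel (MulAut.conj (pr g)) v (g.1 *ᵥ v) :=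
  conj_smul_Xb g v

lemma Rel.par_right {β : MulAut (Cfsg.PSp m F)} {v v' v'' : Vec m F} (h : Rel β v v')
    (hp : Par v' v'') : Rel β v v'' := by
  unfold Rel at *
  rw [h, Xb_congr hp]

lemma Rel.par_left {β : MulAut (Cfsg.PSp m F)} {v w v' : Vec m F} (h : Rel β v v')
    (hp : Par v w) : Rel β w v' := by
  unfold Rel at *
  rw [← Xb_congr hp, h]

lemma Rel.unique [NeZero m] (hm : 2 ≤ m) {β : MulAut (Cfsg.PSp m F)} {v v' v'' : Vec m F}
    (h1 : Rel β v v') (h2 : Rel β v v'') (hv' : v' ≠ 0) : Par v'' v' := by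
  unfold Rel at *
  exact par_of_Xb_eq hm hv' (h1.symm.trans h2)

lemma Rel.inj [NeZero m] (hm : 2 ≤ m) {β : MulAut (Cfsg.PSp m F)} {v w v' : Vec m F}
    (h1 : Rel β v v') (h2 : Rel β w v') (hv : v ≠ 0) : Par w v :=
  Rel.unique hm h1.inv h2.inv hv

lemma Rel.apply {β : MulAut (Cfsg.PSp m F)} {v v' : Vec m F} (h : Rel β v v') (c : F) :
    ∃ c' : F, β (pr (T v c)) = pr (T v' c') := by
  unfold Rel at h
  have h1 : β (pr (T v c)) ∈ β • Xb v := by
    rw [← MulAut.smul_def]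
    exact Subgroup.smul_mem_pointwise_smul _ _ _ (pr_T_mem v c)
  rw [h] at h1
  exact mem_Xb.1 h1

lemma Rel.perp [NeZero m] (hm : 2 ≤ m) {β : MulAut (Cfsg.PSp m F)} {v w v' w' : Vec m F}
    (h1 : Rel β v v') (h2 : Rel β w w') (hv : v ≠ 0) (hw : w ≠ 0) (hv' : v' ≠ 0) (hw' : w' ≠ 0) :
    B v w = 0 ↔ B v' w' = 0 := by
  have key : ∀ {β : MulAut (Cfsg.PSp m F)} {v w v' w' : Vec m F}, Rel β v v' → Rel β w w' →
      v ≠ 0 → w ≠ 0 → v' ≠ 0 → w' ≠ 0 → B v w = 0 → B v' w' = 0 := by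
    intro β v w v' w' h1 h2 hv hw hv' hw' h
    rw [← comm_iff_perp hm hv' hw']
    intro y hy z hz
    unfold Rel at h1 h2
    rw [← h1, Subgroup.mem_pointwise_smul_iff_inv_smul_mem] at hy
    rw [← h2, Subgroup.mem_pointwise_smul_iff_inv_smul_mem] at hz
    have := (comm_iff_perp hm hv hw).2 h _ hy _ hz
    have h3 := congrArg (fun x => β • x) this
    simp only [smul_mul', smul_inv_smul] at h3
    exact h3
  exact ⟨key h1 h2 hv hw hv' hw', key h1.inv h2.inv hv' hw' hv hw⟩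

lemma mulAut_mul_conj {G : Type*} [Group G] (β : MulAut G) (x : G) :
    β * MulAut.conj x = MulAut.conj (β x) * β := by
  ext y
  simp [MulAut.mul_apply, MulAut.conj_apply]

/-- equivariance of the relation -/
lemma Rel.equiv {β : MulAut (Cfsg.PSp m F)} {v v' : Vec m F} (h : Rel β v v') {g g' : SpG m F}
    (hg : β (pr g) = pr g') : Rel β (g.1 *ᵥ v) (g'.1 *ᵥ v') := by
  unfold Rel at *
  rw [← conj_smul_Xb, ← mul_smul, mulAut_mul_conj, hg, mul_smul, h, conj_smul_Xb]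

end Cfsg.Agent.Lib.Helper45.SpAut
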