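import Mathlib
import Cfsg.Agent.Lib.Helper45.SpAutX

set_option autoImplicit false
set_option linter.unusedSimpArgs false
set_option linter.unusedVariables false
set_option linter.unusedSectionVars false
set_option linter.unnecessarySeqFocus false

/-!
# The automorphisms of `PSp_{2m}(F)` induced by `GSp_{2m}(F)` and by field automorphisms
-/

namespace Cfsg.Agent.Lib.Helper45.SpAut

open Matrix Cfsg.Agent.Lib.Helper13 Pointwise
open Cfsg.Agent.Lib.Helper5.AutPSLn (Par)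

variable {F : Type*} [Field F] {m : ℕ}

lemma gl_inv_mul (g : GL (Fin m ⊕ Fin m) F) : (g⁻¹).1 * g.1 = 1 := by
  rw [← Units.val_mul, inv_mul_cancel]; rfl

lemma gl_mul_inv (g : GL (Fin m ⊕ Fin m) F) : g.1 * (g⁻¹).1 = 1 := by
  rw [← Units.val_mul, mul_inv_cancel]; rfl

/-- the multiplier property of elements of `GSp` -/
lemma exists_mult {g : GL (Fin m ⊕ Fin m) F} (hg : g ∈ Cfsg.GSp m F) :
    ∃ c : F, c ≠ 0 ∧ ∀ u v : Vec m F, B (g.1 *ᵥ u) (g.1 *ᵥ v) = c * B u v := by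
  obtain ⟨c, hc⟩ := hg
  exact ⟨c, c.ne_zero, hc⟩

lemma mem_GSp_of_mult {g : GL (Fin m ⊕ Fin m) F} {c : F} (hc : c ≠ 0)
    (h : ∀ u v : Vec m F, B (g.1 *ᵥ u) (g.1 *ᵥ v) = c * B u v) : g ∈ Cfsg.GSp m F :=
  ⟨Units.mk0 c hc, h⟩

lemma conj_mem_of_GSp {g : GL (Fin m ⊕ Fin m) F} (hg : g ∈ Cfsg.GSp m F) (s : SpG m F) :
    g.1 * s.1 * (g⁻¹).1 ∈ Matrix.symplecticGroup (Fin m) F := by
  obtain ⟨c, hc, h⟩ := exists_mult hg
  apply mem_symplectic_of_preserves
  intro u v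
  rw [← mulVec_mulVec, ← mulVec_mulVec, ← mulVec_mulVec, ← mulVec_mulVec]
  show B _ _ = B _ _
  rw [h, B_mulVec s]
  have h2 := h ((g⁻¹).1 *ᵥ u) ((g⁻¹).1 *ᵥ v)
  rw [mulVec_mulVec, mulVec_mulVec, gl_mul_inv, one_mulVec, one_mulVec] at h2
  rw [h2]

/-- conjugation by an element of `GSp` on `Sp` -/
def conjSp : ↥(Cfsg.GSp m F) →* MulAut (SpG m F) where
  toFun g :=
    { toFun := fun s => ⟨g.1.1 * s.1 * (g.1⁻¹).1, conj_mem_of_GSp g.2 s⟩
      invFun := fun s => ⟨(g.1⁻¹).1 * s.1 * ((g.1⁻¹)⁻¹).1, conj_mem_of_GSp (inv_mem g.2) s⟩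
      left_inv := fun s => by
        apply Subtype.ext
        show (g.1⁻¹).1 * (g.1.1 * s.1 * (g.1⁻¹).1) * ((g.1⁻¹)⁻¹).1 = s.1
        rw [inv_inv]
        calc (g.1⁻¹).1 * (g.1.1 * s.1 * (g.1⁻¹).1) * g.1.1
            = ((g.1⁻¹).1 * g.1.1) * s.1 * ((g.1⁻¹).1 * g.1.1) := by
              simp only [Matrix.mul_assoc]
          _ = s.1 := by rw [gl_inv_mul, Matrix.one_mul, Matrix.mul_one]
      right_inv := fun s => by
        apply Subtype.ext
        show g.1.1 * ((g.1⁻¹).1 * s.1 * ((g.1⁻¹)⁻¹).1) * (g.1⁻¹).1 = s.1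
        rw [inv_inv]
        calc g.1.1 * ((g.1⁻¹).1 * s.1 * g.1.1) * (g.1⁻¹).1
            = (g.1.1 * (g.1⁻¹).1) * s.1 * (g.1.1 * (g.1⁻¹).1) := by
              simp only [Matrix.mul_assoc]
          _ = s.1 := by rw [gl_mul_inv, Matrix.one_mul, Matrix.mul_one]
      map_mul' := fun s t => by
        apply Subtype.ext
        show g.1.1 * (s.1 * t.1) * (g.1⁻¹).1 = (g.1.1 * s.1 * (g.1⁻¹).1) * (g.1.1 * t.1 * (g.1⁻¹).1)
        calc g.1.1 * (s.1 * t.1) * (g.1⁻¹).1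
            = g.1.1 * s.1 * 1 * t.1 * (g.1⁻¹).1 := by
              simp only [Matrix.mul_assoc, Matrix.one_mul]
          _ = (g.1.1 * s.1 * (g.1⁻¹).1) * (g.1.1 * t.1 * (g.1⁻¹).1) := by
              rw [← gl_inv_mul g.1]
              simp only [Matrix.mul_assoc] }
  map_one' := by
    apply MulEquiv.ext
    intro s
    apply Subtype.ext
    show (1 : GL (Fin m ⊕ Fin m) F).1 * s.1 * ((1 : GL (Fin m ⊕ Fin m) F)⁻¹).1 = s.1
    simp
  map_mul' := fun g h => by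
    apply MulEquiv.ext
    intro s
    apply Subtype.ext
    show (g.1 * h.1).1 * s.1 * ((g.1 * h.1)⁻¹).1 = g.1.1 * (h.1.1 * s.1 * (h.1⁻¹).1) * (g.1⁻¹).1
    rw [_root_.mul_inv_rev, Units.val_mul, Units.val_mul]
    simp only [Matrix.mul_assoc]

@[simp] lemma conjSp_coe (g : ↥(Cfsg.GSp m F)) (s : SpG m F) :
    (conjSp g s).1 = g.1.1 * s.1 * (g.1⁻¹).1 := rfl

lemma J_map (σ : F ≃+* F) : (Matrix.J (Fin m) F).map σ = Matrix.J (Fin m) F := by
  ext i j
  rcases i with i | i <;> rcases j with j | j <;>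
    simp [Matrix.J, Matrix.map_apply, Matrix.one_apply, apply_ite]

lemma map_mem_symplectic (σ : F ≃+* F) (s : SpG m F) :
    s.1.map σ ∈ Matrix.symplecticGroup (Fin m) F := by
  rw [SymplecticGroup.mem_iff]
  have h := s.2
  rw [SymplecticGroup.mem_iff] at h
  have e1 : s.1.map σ * J (Fin m) F * (s.1.map σ)ᵀ = (s.1 * J (Fin m) F * s.1ᵀ).map σ := by
    have e0 : (s.1 * J (Fin m) F * s.1ᵀ).map σ =
        σ.toRingHom.mapMatrix (s.1 * J (Fin m) F * s.1ᵀ) := rfl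
    rw [e0, map_mul, map_mul]
    have e2 : σ.toRingHom.mapMatrix (J (Fin m) F) = J (Fin m) F := J_map σ
    rw [e2]
    rfl
  rw [e1, h, J_map]

/-- entrywise field automorphism on `Sp` -/
def fieldSp : (F ≃+* F) →* MulAut (SpG m F) where
  toFun σ :=
    { toFun := fun s => ⟨s.1.map σ, map_mem_symplectic σ s⟩
      invFun := fun s => ⟨s.1.map σ.symm, map_mem_symplectic σ.symm s⟩
      left_inv := fun s => by
        apply Subtype.ext
        ext i j
        simp [Matrix.map_apply]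
      right_inv := fun s => by
        apply Subtype.ext
        ext i j
        simp [Matrix.map_apply]
      map_mul' := fun s t => by
        apply Subtype.ext
        show σ.toRingHom.mapMatrix (s.1 * t.1) = σ.toRingHom.mapMatrix s.1 * σ.toRingHom.mapMatrix t.1
        rw [map_mul] }
  map_one' := by
    apply MulEquiv.ext
    intro s
    apply Subtype.ext
    ext i j
    simp [Matrix.map_apply]
  map_mul' := fun σ τ => by
    apply MulEquiv.ext
    intro s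
    apply Subtype.ext
    ext i j
    simp [Matrix.map_apply]

@[simp] lemma fieldSp_coe (σ : F ≃+* F) (s : SpG m F) : (fieldSp σ s).1 = s.1.map σ := rfl

/-- the automorphism of `PSp` induced by an element of `GSp` -/
noncomputable def Gam : ↥(Cfsg.GSp m F) →* MulAut (Cfsg.PSp m F) :=
  Cfsg.Agent.Lib.Helper5.AutPSL2.desc.comp conjSp

/-- the standard field automorphism of `PSp` -/
noncomputable def Phi : (F ≃+* F) →* MulAut (Cfsg.PSp m F) :=
  Cfsg.Agent.Lib.Helper5.AutPSL2.desc.comp fieldSp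

lemma Gam_pr (g : ↥(Cfsg.GSp m F)) (s : SpG m F) : Gam g (pr s) = pr (conjSp g s) := rfl

lemma Phi_pr (σ : F ≃+* F) (s : SpG m F) : Phi σ (pr s) = pr (fieldSp σ s) := rfl

lemma isInduced_Gam_mul_Phi (g : ↥(Cfsg.GSp m F)) (σ : F ≃+* F) :
    Cfsg.IsInducedBySemilinearPSp g.1 σ (Gam g * Phi σ) := by
  intro s s' h
  show (Gam g * Phi σ : MulAut (Cfsg.PSp m F)) (pr s) = pr s'
  rw [MulAut.mul_apply, Phi_pr, Gam_pr]
  congr 1
  apply Subtype.ext
  rw [conjSp_coe, fieldSp_coe, h]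

lemma Gam_mul_Phi_mem_gamma (g : ↥(Cfsg.GSp m F)) (σ : F ≃+* F) :
    Gam g * Phi σ ∈ Cfsg.gammaPSp m F :=
  Subgroup.subset_closure ⟨g.1, σ, g.2, isInduced_Gam_mul_Phi g σ⟩

lemma Gam_mem_gamma (g : ↥(Cfsg.GSp m F)) : Gam g ∈ Cfsg.gammaPSp m F := by
  have := Gam_mul_Phi_mem_gamma g (RingEquiv.refl F)
  have h1 : (Phi (RingEquiv.refl F) : MulAut (Cfsg.PSp m F)) = 1 := map_one Phi
  rwa [h1, mul_one] at this

lemma Phi_mem_gamma (σ : F ≃+* F) : (Phi σ : MulAut (Cfsg.PSp m F)) ∈ Cfsg.gammaPSp m F := by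
  have := Gam_mul_Phi_mem_gamma (1 : ↥(Cfsg.GSp m F)) σ
  rwa [map_one, one_mul] at this

/-- symplectic matrices as elements of `GSp` -/
def spToGSp (s : SpG m F) : ↥(Cfsg.GSp m F) :=
  ⟨⟨s.1, (s⁻¹).1, by rw [← Submonoid.coe_mul, mul_inv_cancel]; rfl,
      by rw [← Submonoid.coe_mul, inv_mul_cancel]; rfl⟩,
    mem_GSp_of_mult one_ne_zero (fun u v => by rw [one_mul]; exact B_mulVec s u v)⟩

lemma spToGSp_coe (s : SpG m F) : (spToGSp s).1.1 = s.1 := rfl

lemma spToGSp_inv_coe (s : SpG m F) : ((spToGSp s).1⁻¹).1 = (s⁻¹).1 := rfl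

/-- inner automorphisms are induced by `GSp` -/
lemma conj_pr_eq_Gam (s : SpG m F) : MulAut.conj (pr s) = Gam (spToGSp s) := by
  ext y
  obtain ⟨z, rfl⟩ := pr_surjective y
  rw [Gam_pr, MulAut.conj_apply, ← map_inv, ← map_mul, ← map_mul]
  congr 1

lemma conj_mem_gamma (y : Cfsg.PSp m F) : MulAut.conj y ∈ Cfsg.gammaPSp m F := by
  obtain ⟨z, rfl⟩ := pr_surjective y
  rw [conj_pr_eq_Gam]
  exact Gam_mem_gamma _

/-! ### Action on transvections -/

lemma Gam_T (g : ↥(Cfsg.GSp m F)) {c : F} (hc : c ≠ 0)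
    (h : ∀ u v : Vec m F, B (g.1.1 *ᵥ u) (g.1.1 *ᵥ v) = c * B u v) (v : Vec m F) (a : F) :
    Gam g (pr (T v a)) = pr (T (g.1.1 *ᵥ v) (a / c)) := by
  rw [Gam_pr]
  congr 1
  apply sp_ext
  intro x
  rw [conjSp_coe, ← mulVec_mulVec, ← mulVec_mulVec, T_mulVec, T_mulVec, mulVec_add,
    mulVec_mulVec, gl_mul_inv, one_mulVec, mulVec_smul]
  congr 2
  have h2 := h ((g.1⁻¹).1 *ᵥ x) v
  rw [mulVec_mulVec, gl_mul_inv, one_mulVec] at h2
  rw [h2]
  field_simp

lemma rel_Gam (g : ↥(Cfsg.GSp m F)) (v : Vec m F) : Rel (Gam g) v (g.1.1 *ᵥ v) := by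
  obtain ⟨c, hc, h⟩ := exists_mult g.2
  unfold Rel
  ext y
  rw [Subgroup.mem_pointwise_smul_iff_inv_smul_mem, mem_Xb, mem_Xb]
  constructor
  · rintro ⟨a, ha⟩
    refine ⟨a / c, ?_⟩
    rw [← Gam_T g hc h, ← ha, MulAut.smul_def, MulAut.apply_inv_self]
  · rintro ⟨a, rfl⟩
    refine ⟨a * c, ?_⟩
    rw [MulAut.smul_def, MulAut.inv_apply, MulEquiv.symm_apply_eq, Gam_T g hc h]
    congr 2
    field_simp

lemma Phi_T (σ : F ≃+* F) (v : Vec m F) (a : F) :
    Phi σ (pr (T v a)) = pr (T (fun i => σ (v i)) (σ a)) := by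
  rw [Phi_pr]
  congr 1
  apply Subtype.ext
  rw [fieldSp_coe]
  show (Cfsg.sympTransvection m v a).map σ = Cfsg.sympTransvection m (fun i => σ (v i)) (σ a)
  unfold Cfsg.sympTransvection
  ext i j
  simp only [Matrix.map_apply, Matrix.add_apply, Matrix.smul_apply, Matrix.vecMulVec_apply,
    smul_eq_mul, map_add, map_mul, Matrix.one_apply]
  congr 1
  · split_ifs <;> simp
  · congr 2
    simp only [Matrix.mulVec, dotProduct, map_sum, map_mul]
    apply Finset.sum_congr rfl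
    intro k _
    congr 1
    have := congrFun (congrFun (J_map (m := m) σ) j) k
    simpa [Matrix.map_apply] using this

lemma rel_Phi (σ : F ≃+* F) (v : Vec m F) :
    Rel (Phi σ : MulAut (Cfsg.PSp m F)) v (fun i => σ (v i)) := by
  unfold Rel
  ext y
  rw [Subgroup.mem_pointwise_smul_iff_inv_smul_mem, mem_Xb, mem_Xb]
  constructor
  · rintro ⟨a, ha⟩
    refine ⟨σ a, ?_⟩
    rw [← Phi_T, ← ha, MulAut.smul_def, MulAut.apply_inv_self]
  · rintro ⟨a, rfl⟩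
    refine ⟨σ.symm a, ?_⟩
    rw [MulAut.smul_def, MulAut.inv_apply, MulEquiv.symm_apply_eq, Phi_T, RingEquiv.apply_symm_apply]

end Cfsg.Agent.Lib.Helper45.SpAut
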