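import Mathlib
import Cfsg.Agent.Lib.Helper45.SpAutMaps
import Cfsg.Agent.Lib.Helper5.AutPSLnSylow
import Cfsg.Agent.Lib.Helper13.SympGen2

set_option autoImplicit false
set_option linter.unusedSimpArgs false
set_option linter.unusedVariables false
set_option linter.unusedSectionVars false
set_option linter.unnecessarySeqFocus false

/-!
# A Sylow `p`-subgroup of `PSp_{2m}(F)`
-/

namespace Cfsg.Agent.Lib.Helper45.SpAut

open Matrix Cfsg.Agent.Lib.Helper13 Pointwise
open Cfsg.Agent.Lib.Helper5.AutPSLn (Par IsUni Uni xr)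

variable {F : Type*} [Field F] {m : ℕ}

/-- basis vectors -/
def eV (i : Fin m) : Vec m F := Pi.single (Sum.inl i) 1

def fV (i : Fin m) : Vec m F := Pi.single (Sum.inr i) 1

lemma B_eV_right (x : Vec m F) (i : Fin m) : B x (eV i) = x (Sum.inr i) :=
  sympForm_single_inl_right m x i

lemma B_fV_right (x : Vec m F) (i : Fin m) : B x (fV i) = - x (Sum.inl i) :=
  sympForm_single_inr_right m x i

lemma B_eV_left (x : Vec m F) (i : Fin m) : B (eV i) x = - x (Sum.inr i) := by
  rw [B_swap, B_eV_right]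

lemma B_fV_left (x : Vec m F) (i : Fin m) : B (fV i) x = x (Sum.inl i) := by
  rw [B_swap, B_fV_right, neg_neg]

lemma eV_ne_zero (i : Fin m) : (eV i : Vec m F) ≠ 0 := by
  intro h
  have := congrFun h (Sum.inl i)
  simp [eV] at this

lemma fV_ne_zero (i : Fin m) : (fV i : Vec m F) ≠ 0 := by
  intro h
  have := congrFun h (Sum.inr i)
  simp [fV] at this

/-- vectors in the standard Lagrangian -/
def InL (y : Vec m F) : Prop := ∀ i : Fin m, y (Sum.inr i) = 0

lemma inL_eV (i : Fin m) : InL (eV i : Vec m F) := by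
  intro j
  simp [eV]

lemma InL.add {y z : Vec m F} (hy : InL y) (hz : InL z) : InL (y + z) := by
  intro i
  rw [Pi.add_apply, hy i, hz i, add_zero]

lemma InL.smul {y : Vec m F} (hy : InL y) (a : F) : InL (a • y) := by
  intro i
  rw [Pi.smul_apply, hy i, smul_zero]

lemma InL.sub {y z : Vec m F} (hy : InL y) (hz : InL z) : InL (y - z) := by
  intro i
  rw [Pi.sub_apply, hy i, hz i, sub_zero]

lemma inL_iff_perp {y : Vec m F} : InL y ↔ ∀ i : Fin m, B y (eV i) = 0 := by
  constructor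
  · intro h i
    rw [B_eV_right, h i]
  · intro h i
    rw [← B_eV_right y i, h i]

lemma InL.B_eq_zero {y z : Vec m F} (hy : InL y) (hz : InL z) : B y z = 0 := by
  show Cfsg.sympForm m F y z = 0
  rw [sympForm_expand]
  apply Finset.sum_eq_zero
  intro i _
  rw [hy i, hz i]
  ring

/-! ### The two pieces of the Sylow subgroup -/

lemma sl_mul_inv (A : SpecialLinearGroup (Fin m) F) : A.1 * (A⁻¹).1 = 1 := by
  have h1 : A.1 * (A⁻¹).1 = (A * A⁻¹).1 := rfl
  rw [h1, mul_inv_cancel]; rfl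

lemma sl_inv_mul (A : SpecialLinearGroup (Fin m) F) : (A⁻¹).1 * A.1 = 1 := by
  have h1 : (A⁻¹).1 * A.1 = (A⁻¹ * A).1 := rfl
  rw [h1, inv_mul_cancel]; rfl

lemma dMat_mem (A : SpecialLinearGroup (Fin m) F) :
    fromBlocks A.1 0 0 ((A⁻¹).1)ᵀ ∈ symplecticGroup (Fin m) F := by
  rw [SymplecticGroup.mem_iff, Matrix.J, fromBlocks_transpose, fromBlocks_multiply,
    fromBlocks_multiply]
  have h2 : ((A⁻¹).1)ᵀ * A.1ᵀ = 1 := by rw [← transpose_mul, sl_mul_inv, transpose_one]
  simp only [Matrix.mul_zero, Matrix.zero_mul, add_zero, zero_add, Matrix.mul_one, Matrix.mul_neg,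
    transpose_zero, transpose_transpose, Matrix.neg_mul, sl_mul_inv, h2, neg_zero]

/-- the Levi-type embedding `SL_m → Sp_{2m}` -/
def dHom : SpecialLinearGroup (Fin m) F →* SpG m F where
  toFun A := ⟨fromBlocks A.1 0 0 ((A⁻¹).1)ᵀ, dMat_mem A⟩
  map_one' := by
    apply Subtype.ext
    show fromBlocks (1 : SpecialLinearGroup (Fin m) F).1 0 0
      (((1 : SpecialLinearGroup (Fin m) F)⁻¹).1)ᵀ = 1
    rw [inv_one]
    have h1 : (1 : SpecialLinearGroup (Fin m) F).1 = 1 := rfl
    rw [h1, transpose_one, fromBlocks_one]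
  map_mul' A A' := by
    apply Subtype.ext
    show fromBlocks (A * A').1 0 0 (((A * A')⁻¹).1)ᵀ =
      fromBlocks A.1 0 0 ((A⁻¹).1)ᵀ * fromBlocks A'.1 0 0 ((A'⁻¹).1)ᵀ
    rw [fromBlocks_multiply, _root_.mul_inv_rev]
    have h1 : (A * A').1 = A.1 * A'.1 := rfl
    have h2 : (A'⁻¹ * A⁻¹).1 = (A'⁻¹).1 * (A⁻¹).1 := rfl
    rw [h1, h2, transpose_mul]
    simp only [Matrix.mul_zero, Matrix.zero_mul, add_zero, zero_add]

lemma dHom_coe (A : SpecialLinearGroup (Fin m) F) :
    (dHom A).1 = fromBlocks A.1 0 0 ((A⁻¹).1)ᵀ := rfl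

lemma dHom_mulVec (A : SpecialLinearGroup (Fin m) F) (x : Vec m F) :
    (dHom A).1 *ᵥ x = Sum.elim (A.1 *ᵥ (x ∘ Sum.inl)) (((A⁻¹).1)ᵀ *ᵥ (x ∘ Sum.inr)) := by
  rw [dHom_coe, fromBlocks_mulVec]
  simp only [zero_mulVec, add_zero, zero_add]

lemma dHom_inL (A : SpecialLinearGroup (Fin m) F) {y : Vec m F} (hy : InL y) :
    InL ((dHom A).1 *ᵥ y) := by
  intro i
  rw [dHom_mulVec, Sum.elim_inr]
  have : y ∘ Sum.inr = 0 := by
    ext j
    exact hy j
  rw [this, mulVec_zero]
  rfl

lemma nMat_mem {S : Matrix (Fin m) (Fin m) F} (hS : Sᵀ = S) :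
    fromBlocks 1 S 0 1 ∈ symplecticGroup (Fin m) F := by
  rw [SymplecticGroup.mem_iff, Matrix.J, fromBlocks_transpose, fromBlocks_multiply,
    fromBlocks_multiply]
  simp only [Matrix.mul_zero, Matrix.zero_mul, add_zero, zero_add, Matrix.mul_one, Matrix.mul_neg,
    transpose_zero, transpose_one, Matrix.one_mul, Matrix.neg_mul, hS, add_neg_cancel, neg_zero]

/-- the element `[1 S; 0 1]` for a symmetric matrix `S` -/
def nElt (S : Matrix (Fin m) (Fin m) F) (hS : Sᵀ = S) : SpG m F := ⟨fromBlocks 1 S 0 1, nMat_mem hS⟩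

lemma nElt_mulVec (S : Matrix (Fin m) (Fin m) F) (hS : Sᵀ = S) (x : Vec m F) :
    (nElt S hS).1 *ᵥ x = Sum.elim (x ∘ Sum.inl + S *ᵥ (x ∘ Sum.inr)) (x ∘ Sum.inr) := by
  show fromBlocks 1 S 0 1 *ᵥ x = _
  rw [fromBlocks_mulVec]
  simp only [zero_mulVec, zero_add, one_mulVec]

/-- the subgroup fixing the standard Lagrangian pointwise -/
def NS (m : ℕ) (F : Type*) [Field F] : Subgroup (SpG m F) where
  carrier := {g | ∀ y : Vec m F, InL y → g.1 *ᵥ y = y}
  mul_mem' := by
    intro g h hg hh y hy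
    rw [mul_mulVec, hh y hy, hg y hy]
  one_mem' := fun y _ => one_mulVec' y
  inv_mem' := by
    intro g hg y hy
    nth_rewrite 1 [← hg y hy]
    exact inv_mulVec_mulVec g y

lemma mem_NS {g : SpG m F} : g ∈ NS m F ↔ ∀ y : Vec m F, InL y → g.1 *ᵥ y = y := Iff.rfl

lemma nElt_mem_NS (S : Matrix (Fin m) (Fin m) F) (hS : Sᵀ = S) : nElt S hS ∈ NS m F := by
  intro y hy
  rw [nElt_mulVec]
  have : y ∘ Sum.inr = 0 := by
    ext j
    exact hy j
  rw [this, mulVec_zero, add_zero]
  ext i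
  rcases i with i | i
  · rfl
  · simp [hy i]

lemma T_mem_NS {v : Vec m F} (hv : InL v) (c : F) : T v c ∈ NS m F := by
  intro y hy
  rw [T_mulVec, hy.B_eq_zero hv, mul_zero, zero_smul, add_zero]

/-- elements of `NS` move every vector by an element of the Lagrangian -/
lemma NS_sub_inL {g : SpG m F} (hg : g ∈ NS m F) (x : Vec m F) : InL (g.1 *ᵥ x - x) := by
  rw [inL_iff_perp]
  intro i
  show Cfsg.sympForm m F _ _ = 0
  rw [sympForm_sub_left]
  show B _ _ - B _ _ = 0
  nth_rewrite 1 [← hg (eV i) (inL_eV i)]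
  rw [B_mulVec, sub_self]

lemma NS_pow_mulVec {g : SpG m F} (hg : g ∈ NS m F) (k : ℕ) (x : Vec m F) :
    (g ^ k).1 *ᵥ x = x + (k : F) • (g.1 *ᵥ x - x) := by
  induction k with
  | zero => simp [one_mulVec']
  | succ n ih =>
    rw [pow_succ', mul_mulVec, ih, mulVec_add, mulVec_smul, hg _ (NS_sub_inL hg x)]
    push_cast
    rw [add_smul, one_smul]
    abel

variable [Fintype F] (p : ℕ) [Fact p.Prime] [CharP F p]

lemma NS_isPGroup : IsPGroup p (NS m F) := by
  intro g
  refine ⟨1, ?_⟩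
  apply Subtype.ext
  apply sp_ext
  intro x
  rw [pow_one]
  show ((g.1 ^ p : SpG m F)).1 *ᵥ x = (1 : SpG m F).1 *ᵥ x
  rw [NS_pow_mulVec g.2, CharP.cast_eq_zero, zero_smul, add_zero, one_mulVec']

/-- the image of the unitriangular group -/
def DS (m : ℕ) (F : Type*) [Field F] [Fintype F] : Subgroup (SpG m F) := (Uni m F).map dHom

lemma DS_isPGroup : IsPGroup p (DS m F) :=
  (Cfsg.Agent.Lib.Helper5.AutPSLn.Uni_isPGroup p).map dHom

lemma DS_le_normalizer : DS m F ≤ Subgroup.normalizer (NS m F : Set (SpG m F)) := by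
  rintro _ ⟨A, hA, rfl⟩
  rw [Subgroup.mem_normalizer_iff]
  intro h
  constructor
  · intro hh y hy
    rw [mul_mulVec, mul_mulVec, ← map_inv, hh _ (dHom_inL _ hy), ← mul_mulVec, ← map_mul,
      mul_inv_cancel, map_one, one_mulVec']
  · intro hh y hy
    have h1 := hh _ (dHom_inL A hy)
    rw [mul_mulVec, mul_mulVec, inv_mulVec_mulVec] at h1
    exact mulVec_injective (dHom A) h1

/-- the Sylow subgroup of `Sp` -/
def US (m : ℕ) (F : Type*) [Field F] [Fintype F] : Subgroup (SpG m F) := DS m F ⊔ NS m F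

lemma US_isPGroup : IsPGroup p (US m F) :=
  IsPGroup.to_sup_of_normal_right' (DS_isPGroup p) (NS_isPGroup p) DS_le_normalizer

lemma DS_le_US : DS m F ≤ US m F := le_sup_left

lemma NS_le_US : NS m F ≤ US m F := le_sup_right

/-- every element of `US` preserves the Lagrangian -/
lemma US_inL {g : SpG m F} (hg : g ∈ US m F) {y : Vec m F} (hy : InL y) : InL (g.1 *ᵥ y) := by
  have hle : US m F ≤
      { carrier := {g | ∀ y : Vec m F, InL y → InL (g.1 *ᵥ y) ∧ InL ((g⁻¹).1 *ᵥ y)}
        mul_mem' := by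
          intro a b ha hb y hy
          constructor
          · rw [mul_mulVec]; exact (ha _ (hb y hy).1).1
          · rw [_root_.mul_inv_rev, mul_mulVec]; exact (hb _ (ha y hy).2).2
        one_mem' := fun y hy => by
          rw [inv_one, one_mulVec']; exact ⟨hy, hy⟩
        inv_mem' := by
          intro a ha y hy
          rw [inv_inv]
          exact ⟨(ha y hy).2, (ha y hy).1⟩ : Subgroup (SpG m F) } := by
    apply sup_le
    · rintro _ ⟨A, hA, rfl⟩ y hy
      refine ⟨dHom_inL A hy, ?_⟩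
      rw [← map_inv]
      exact dHom_inL _ hy
    · intro g hg y hy
      refine ⟨?_, ?_⟩
      · rw [hg y hy]; exact hy
      · rw [(NS m F).inv_mem hg y hy]; exact hy
  exact (hle hg y hy).1

/-- every element of `US` fixes the first basis vector -/
lemma US_fix_e0 [NeZero m] {g : SpG m F} (hg : g ∈ US m F) : g.1 *ᵥ (eV 0 : Vec m F) = eV 0 := by
  have hle : US m F ≤
      { carrier := {g | g.1 *ᵥ (eV 0 : Vec m F) = eV 0}
        mul_mem' := by
          intro a b ha hb
          show (a * b).1 *ᵥ _ = _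
          rw [mul_mulVec, hb, ha]
        one_mem' := one_mulVec' _
        inv_mem' := by
          intro a ha
          show (a⁻¹).1 *ᵥ _ = _
          nth_rewrite 1 [← ha]
          exact inv_mulVec_mulVec a _ : Subgroup (SpG m F) } := by
    apply sup_le
    · rintro _ ⟨A, hA, rfl⟩
      show (dHom A).1 *ᵥ _ = _
      rw [dHom_mulVec]
      ext i
      rcases i with i | i
      · rw [Sum.elim_inl]
        have h1 : ((eV 0 : Vec m F) ∘ Sum.inl) = Pi.single (0 : Fin m) 1 := by
          ext j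
          simp [eV, Pi.single_apply]
        rw [h1, mulVec_single_one, col_apply]
        have hA' : IsUni A.1 := hA
        rw [hA' i 0 (Fin.zero_le i)]
        simp [eV, Pi.single_apply, Matrix.one_apply]
      · rw [Sum.elim_inr]
        have h1 : ((eV 0 : Vec m F) ∘ Sum.inr) = 0 := by
          ext j
          simp [eV]
        rw [h1, mulVec_zero]
        simp [eV]
    · intro g hg
      exact hg _ (inL_eV 0)
  exact hle hg

end Cfsg.Agent.Lib.Helper45.SpAut
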