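import Mathlib
import Cfsg.Agent.Lib.Helper45.SpAutSylow

set_option autoImplicit false
set_option linter.unusedSimpArgs false
set_option linter.unusedVariables false
set_option linter.unusedSectionVars false
set_option linter.unnecessarySeqFocus false

/-!
# The image of `US` in `PSp` is a Sylow `p`-subgroup; automorphisms can be adjusted to normalize it
-/

namespace Cfsg.Agent.Lib.Helper45.SpAut

open Matrix Cfsg.Agent.Lib.Helper13 Pointwise
open Cfsg.Agent.Lib.Helper5.AutPSLn (Par IsUni Uni xr)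

variable {F : Type*} [Field F] {m : ℕ}

/-- data to unitriangular matrix -/
def uMat (f : Fin m × Fin m → F) : Matrix (Fin m) (Fin m) F :=
  fun i j => if i < j then f (i, j) else if i = j then 1 else 0

lemma isUni_uMat (f : Fin m × Fin m → F) : IsUni (uMat f) := by
  intro i j hji
  unfold uMat
  rw [if_neg (not_lt.2 hji), Matrix.one_apply]

/-- data to symmetric matrix -/
def sMat (f : Fin m × Fin m → F) : Matrix (Fin m) (Fin m) F :=
  fun i j => if i ≤ j then f (j, i) else f (i, j)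

lemma sMat_symm (f : Fin m × Fin m → F) : (sMat f)ᵀ = sMat f := by
  ext i j
  rw [transpose_apply]
  unfold sMat
  by_cases h1 : i ≤ j
  · by_cases h2 : j ≤ i
    · have : i = j := le_antisymm h1 h2
      subst this
      rfl
    · rw [if_neg h2, if_pos h1]
  · have h2 : j ≤ i := le_of_not_ge h1
    rw [if_pos h2, if_neg h1]

variable [Fintype F]

/-- the unitriangular element of `SL_m` attached to data -/
def uElt (f : Fin m × Fin m → F) : SpecialLinearGroup (Fin m) F :=
  ⟨uMat f, Cfsg.Agent.Lib.Helper5.AutPSLn.det_of_isUni (isUni_uMat f)⟩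

lemma uElt_mem (f : Fin m × Fin m → F) : uElt f ∈ Uni m F := isUni_uMat f

/-- the element of `US` attached to data -/
def iota (f : Fin m × Fin m → F) : SpG m F := dHom (uElt f) * nElt (sMat f) (sMat_symm f)

lemma iota_mem (f : Fin m × Fin m → F) : iota f ∈ US m F :=
  Subgroup.mul_mem _ (DS_le_US ⟨uElt f, uElt_mem f, rfl⟩) (NS_le_US (nElt_mem_NS _ _))

lemma iota_coe (f : Fin m × Fin m → F) :
    (iota f).1 = fromBlocks (uMat f) (uMat f * sMat f) 0 (((uElt f)⁻¹).1)ᵀ := by
  show fromBlocks (uElt f).1 0 0 (((uElt f)⁻¹).1)ᵀ * fromBlocks 1 (sMat f) 0 1 = _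
  rw [fromBlocks_multiply]
  simp only [Matrix.mul_zero, Matrix.zero_mul, add_zero, zero_add, Matrix.mul_one]
  rfl

lemma iota_injective : Function.Injective (iota : (Fin m × Fin m → F) → SpG m F) := by
  intro f f' h
  have h1 := congrArg Subtype.val h
  rw [iota_coe, iota_coe, fromBlocks_inj] at h1
  obtain ⟨hA, hAS, -, -⟩ := h1
  have hS : sMat f = sMat f' := by
    have h2 : ((uElt f)⁻¹).1 * (uMat f * sMat f) = ((uElt f)⁻¹).1 * (uMat f * sMat f') := by
      rw [hAS, hA]
    have h3 : ((uElt f)⁻¹).1 * uMat f = 1 := sl_inv_mul (uElt f)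
    rwa [← Matrix.mul_assoc, ← Matrix.mul_assoc, h3, Matrix.one_mul, Matrix.one_mul] at h2
  funext ⟨i, j⟩
  by_cases hij : i < j
  · have := congrFun (congrFun hA i) j
    unfold uMat at this
    rwa [if_pos hij, if_pos hij] at this
  · have hji : j ≤ i := not_lt.1 hij
    have := congrFun (congrFun hS j) i
    unfold sMat at this
    rwa [if_pos hji, if_pos hji] at this

/-- the candidate Sylow subgroup of `PSp` -/
def Ub (m : ℕ) (F : Type*) [Field F] [Fintype F] : Subgroup (Cfsg.PSp m F) := (US m F).map pr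

lemma pr_iota_injective [NeZero m] :
    Function.Injective (fun f : Fin m × Fin m → F => (⟨pr (iota f), iota f, iota_mem f, rfl⟩ : Ub m F)) := by
  intro f f' h
  have h1 : pr (iota f) = pr (iota f') := congrArg Subtype.val h
  apply iota_injective
  apply eq_of_pr_eq_of_fix h1 (eV_ne_zero (0 : Fin m))
  rw [US_fix_e0 (iota_mem f), US_fix_e0 (iota_mem f')]

lemma card_Ub_ge [NeZero m] : Fintype.card F ^ (m ^ 2) ≤ Nat.card (Ub m F) := by
  classical
  have h1 := Nat.card_le_card_of_injective _ (pr_iota_injective (m := m) (F := F))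
  rw [Nat.card_eq_fintype_card, Fintype.card_fun, Fintype.card_prod, Fintype.card_fin] at h1
  rwa [sq]

variable (p : ℕ) [Fact p.Prime] [CharP F p]

lemma Ub_isPGroup : IsPGroup p (Ub m F) := (US_isPGroup p).map pr

lemma Ub_index [NeZero m] : ¬ p ∣ (Ub m F).index := by
  classical
  intro hdvd
  obtain ⟨k, -, hk⟩ := FiniteField.card F p
  have hp : p.Prime := Fact.out
  obtain ⟨a, ha⟩ := (Ub_isPGroup (m := m) (F := F) p).exists_card_eq
  have h1 := card_Ub_ge (m := m) (F := F)
  rw [ha, hk, ← pow_mul] at h1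
  have h2 : (k : ℕ) * m ^ 2 ≤ a := (Nat.pow_le_pow_iff_right hp.one_lt).1 h1
  have h3 := Subgroup.card_mul_index (Ub m F)
  have h4 := Subgroup.card_eq_card_quotient_mul_card_subgroup (Subgroup.center (SpG m F))
  have h5 := Cfsg.Agent.Lib.Helper5.card_symplecticGroup_fin (F := F) m
  obtain ⟨t, ht⟩ := hdvd
  have h6 : Nat.card (Cfsg.PSp m F) = p ^ a * (p * t) := by
    rw [← h3, ha, ht]
  have hSp : p ^ ((k : ℕ) * m ^ 2) * ∏ i ∈ Finset.range m, (Fintype.card F ^ (2 * (i + 1)) - 1) =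
      p ^ a * (p * t) * Nat.card (Subgroup.center (SpG m F)) := by
    have h8 : Nat.card (SpG m F ⧸ Subgroup.center (SpG m F)) = p ^ a * (p * t) := h6
    rw [pow_mul, ← hk, ← h8, ← h4]
    exact h5.symm
  have h7 : p ^ ((k : ℕ) * m ^ 2) * p ∣
      p ^ ((k : ℕ) * m ^ 2) * ∏ i ∈ Finset.range m, (Fintype.card F ^ (2 * (i + 1)) - 1) := by
    rw [hSp]
    obtain ⟨d, rfl⟩ := Nat.exists_eq_add_of_le h2
    refine ⟨p ^ d * t * Nat.card (Subgroup.center (SpG m F)), ?_⟩
    rw [pow_add]
    ring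
  have h9 : p ∣ ∏ i ∈ Finset.range m, (Fintype.card F ^ (2 * (i + 1)) - 1) :=
    Nat.dvd_of_mul_dvd_mul_left (pow_pos hp.pos _) h7
  obtain ⟨i, -, hi⟩ := (Prime.dvd_finsetProd_iff hp.prime _).1 h9
  have h10 : p ∣ Fintype.card F ^ (2 * (i + 1)) := by
    rw [hk]
    exact dvd_pow (dvd_pow_self p k.ne_zero) (by omega)
  have h11 : 1 ≤ Fintype.card F ^ (2 * (i + 1)) := Nat.one_le_pow _ _ Fintype.card_pos
  have h12 : p ∣ 1 := by
    have := Nat.dvd_sub h10 hi
    rwa [Nat.sub_sub_self h11] at this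
  exact hp.one_lt.ne' (Nat.dvd_one.1 h12)

omit [Fact p.Prime] [CharP F p] in
/-- every automorphism can be adjusted by an inner automorphism to normalize `Ub` -/
lemma exists_conj_normalize [NeZero m] (p : ℕ) [Fact p.Prime] [CharP F p]
    (β : MulAut (Cfsg.PSp m F)) :
    ∃ c : Cfsg.PSp m F, (MulAut.conj c * β) • Ub m F = Ub m F := by
  let P0 : Sylow p (Cfsg.PSp m F) := (Ub_isPGroup p).toSylow (Ub_index p)
  have hP0 : (P0 : Subgroup (Cfsg.PSp m F)) = Ub m F := IsPGroup.toSylow_coe _ _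
  obtain ⟨c, hc⟩ := MulAction.exists_smul_eq (Cfsg.PSp m F) (β • P0) P0
  refine ⟨c, ?_⟩
  have h1 := congrArg (fun Q : Sylow p (Cfsg.PSp m F) => (Q : Subgroup (Cfsg.PSp m F))) hc
  simp only [Sylow.smul_def, Sylow.pointwise_smul_def] at h1
  rw [hP0] at h1
  rw [mul_smul]
  exact h1

/-- the centre of `Ub`, as a subgroup of `PSp` -/
def ZU (m : ℕ) (F : Type*) [Field F] [Fintype F] : Subgroup (Cfsg.PSp m F) :=
  Ub m F ⊓ Subgroup.centralizer (Ub m F : Set (Cfsg.PSp m F))

lemma mem_ZU {y : Cfsg.PSp m F} : y ∈ ZU m F ↔ y ∈ Ub m F ∧ ∀ z ∈ Ub m F, z * y = y * z := by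
  unfold ZU
  rw [Subgroup.mem_inf, Subgroup.mem_centralizer_iff]
  rfl

omit [Fact p.Prime] [CharP F p] in
lemma smul_ZU {β : MulAut (Cfsg.PSp m F)} (h : β • Ub m F = Ub m F) : β • ZU m F = ZU m F := by
  have key : ∀ {β : MulAut (Cfsg.PSp m F)}, β • Ub m F = Ub m F → β • ZU m F ≤ ZU m F := by
    intro β h y hy
    rw [Subgroup.mem_pointwise_smul_iff_inv_smul_mem, mem_ZU] at hy
    rw [mem_ZU]
    constructor
    · rw [← h, Subgroup.mem_pointwise_smul_iff_inv_smul_mem]
      exact hy.1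
    · intro z hz
      rw [← h, Subgroup.mem_pointwise_smul_iff_inv_smul_mem] at hz
      have := hy.2 _ hz
      have h3 := congrArg (fun x => β • x) this
      simp only [smul_mul', smul_inv_smul] at h3
      exact h3
  apply le_antisymm (key h)
  have h' : β⁻¹ • Ub m F = Ub m F := by
    nth_rewrite 1 [← h]
    rw [inv_smul_smul]
  have := key h'
  intro y hy
  rw [Subgroup.mem_pointwise_smul_iff_inv_smul_mem]
  apply this
  exact Subgroup.smul_mem_pointwise_smul _ _ _ hy

end Cfsg.Agent.Lib.Helper45.SpAut
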