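import Cfsg.Agent.Lib.Helper45.Critical
import Cfsg.Agent.Lib.Helper2.PResidual
import Cfsg.Prelude.Def_LocalStructure

/-!
# Iterated closures `V_δ^{(n)}` on the coset graph of an amalgam pair with strongly
`p`-embedded residues
-/

set_option autoImplicit false
open Cfsg
open scoped commutatorElement

namespace Cfsg.Agent.Lib.Helper45

section generalities

variable {X : Type*} [Group X]

theorem le_normalizer_of_commutator_le {A V C : Subgroup X} (hAV : A ≤ V) (hc : ⁅V, C⁆ ≤ A) :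
    C ≤ Subgroup.normalizer (A : Set X) := by
  apply le_normalizer_of_forall_map_le
  intro c hcC
  rintro _ ⟨a, ha, rfl⟩
  have h1 : ⁅a, c⁆ ∈ A := hc (Subgroup.commutator_mem_commutator (hAV ha) hcC)
  have e : (MulAut.conj c).toMonoidHom a = (⁅a, c⁆)⁻¹ * a := by
    simp only [commutatorElement_def, MulEquiv.coe_toMonoidHom, MulAut.conj_apply]
    group
  rw [e]
  exact A.mul_mem (A.inv_mem h1) ha

theorem le_normalizer_sup_of_le {A B C : Subgroup X} (hA : C ≤ Subgroup.normalizer (A : Set X))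
    (hB : C ≤ Subgroup.normalizer (B : Set X)) :
    C ≤ Subgroup.normalizer ((A ⊔ B : Subgroup X) : Set X) :=
  (le_inf hA hB).trans (Subgroup.normalizer_inf_normalizer_le_normalizer_sup A B)

theorem le_normalizer_commutator_of_le {A B C : Subgroup X}
    (hA : C ≤ Subgroup.normalizer (A : Set X)) (hB : C ≤ Subgroup.normalizer (B : Set X)) :
    C ≤ Subgroup.normalizer ((⁅A, B⁆ : Subgroup X) : Set X) := by
  apply le_normalizer_of_forall_map_le
  intro c hc
  rw [Subgroup.map_commutator]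
  exact Subgroup.commutator_mono (map_conj_le_of_le_normalizer hA hc)
    (map_conj_le_of_le_normalizer hB hc)

/-- Nilpotent action: if `V ≤ A [V, Q]` with `Q` nilpotent normalizing `A` and `V ≤ Q`, then
`V ≤ A`. -/
theorem le_of_le_sup_commutator_of_nilpotent {A V Q : Subgroup X}
    (hQA : Q ≤ Subgroup.normalizer (A : Set X)) (hVQ : V ≤ Q)
    (hnil : ∃ c, Q.lowerCentralSeries c = ⊥) (hV : V ≤ A ⊔ ⁅V, Q⁆) : V ≤ A := by
  obtain ⟨c, hc⟩ := hnil
  have hLQ : ∀ k, Q.lowerCentralSeries k ≤ Q := by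
    intro k
    induction k with
    | zero => exact le_rfl
    | succ k ih =>
      rw [Subgroup.lowerCentralSeries_succ, Subgroup.commutator_le]
      intro g₁ h₁ g₂ h₂
      exact Q.mul_mem (Q.mul_mem (Q.mul_mem (ih h₁) h₂) (Q.inv_mem (ih h₁))) (Q.inv_mem h₂)
  have key : ∀ k, V ≤ A ⊔ Q.lowerCentralSeries k := by
    intro k
    induction k with
    | zero => exact hVQ.trans le_sup_right
    | succ k ih =>
      have hcomm : ⁅V, Q⁆ ≤ A ⊔ Q.lowerCentralSeries (k + 1) := by
        rw [Subgroup.commutator_le]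
        intro v hv q hq
        have hv' : v ∈ ((Q.lowerCentralSeries k ⊔ A : Subgroup X) : Set X) := by
          rw [sup_comm]; exact ih hv
        rw [Subgroup.coe_mul_of_left_le_normalizer_right _ _ ((hLQ k).trans hQA)] at hv'
        obtain ⟨l, hl, a, ha, rfl⟩ := hv'
        have e : ⁅l * a, q⁆ = (l * ⁅a, q⁆ * l⁻¹) * ⁅l, q⁆ := by
          simp only [commutatorElement_def]; group
        rw [e]
        apply Subgroup.mul_mem_sup
        · have h1 : ⁅a, q⁆ ∈ A := by
            rw [commutatorElement_def]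
            have h2 : q * a⁻¹ * q⁻¹ ∈ A :=
              (Subgroup.mem_normalizer_iff.mp (hQA hq) a⁻¹).mp (A.inv_mem ha)
            have e2 : a * q * a⁻¹ * q⁻¹ = a * (q * a⁻¹ * q⁻¹) := by group
            rw [e2]; exact A.mul_mem ha h2
          exact (Subgroup.mem_normalizer_iff.mp (hQA (hLQ k hl)) _).mp h1
        · rw [Subgroup.lowerCentralSeries_succ]
          exact Subgroup.commutator_mem_commutator hl hq
      exact hV.trans (sup_le le_sup_left hcomm)
  have := key c
  rwa [hc, sup_bot_eq] at this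

theorem exists_sylow_mul_pResidual_mem {p : ℕ} [Fact p.Prime] {A : Type*} [Group A] [Finite A]
    (P : Sylow p A) (a : A) : ∃ t ∈ (P : Subgroup A), ∃ b ∈ Cfsg.pResidual p A, a = t * b := by
  have := Cfsg.Agent.Lib.Helper2.pResidual_normal (G := A) p
  have hq : IsPGroup p (A ⧸ Cfsg.pResidual p A) :=
    Cfsg.Agent.Lib.Helper2.isPGroup_quotient_pResidual p
  have hsurj : Function.Surjective (QuotientGroup.mk' (Cfsg.pResidual p A)) :=
    QuotientGroup.mk'_surjective _
  have htop : ((P.mapSurjective hsurj : Sylow p (A ⧸ Cfsg.pResidual p A)) :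
      Subgroup (A ⧸ Cfsg.pResidual p A)) = ⊤ :=
    ((P.mapSurjective hsurj).is_maximal' (hq.to_subgroup ⊤) le_top).symm
  have hmem : QuotientGroup.mk' (Cfsg.pResidual p A) a ∈
      ((P.mapSurjective hsurj : Sylow p (A ⧸ Cfsg.pResidual p A)) :
        Subgroup (A ⧸ Cfsg.pResidual p A)) := by
    rw [htop]; exact Subgroup.mem_top _
  rw [Sylow.coe_mapSurjective] at hmem
  obtain ⟨t, ht, hta⟩ := hmem
  refine ⟨t, ht, t⁻¹ * a, ?_, by group⟩
  have : (QuotientGroup.mk t : A ⧸ Cfsg.pResidual p A) = QuotientGroup.mk a := hta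
  exact QuotientGroup.eq.mp this

/-- A subgroup `L` of the finite group `H` containing (the image `T` of) a Sylow subgroup of `H`
is `T O^p(L)`. -/
theorem le_sylow_sup_pResidual {p : ℕ} [Fact p.Prime] {H L T : Subgroup X} [Finite ↥H]
    (P : Sylow p ↥H) (hPT : (P : Subgroup ↥H).map H.subtype = T) (hLH : L ≤ H) (hTL : T ≤ L) :
    L ≤ T ⊔ (pResidual p ↥L).map L.subtype := by
  have : Finite ↥L := Finite.of_injective _ (Subgroup.inclusion_injective hLH)
  have hTp0 : IsPGroup p ↥T := by rw [← hPT]; exact P.isPGroup'.map _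
  have hTp : IsPGroup p ↥(T.subgroupOf L) :=
    hTp0.comap_of_injective L.subtype L.subtype_injective
  obtain ⟨P', hP'⟩ := hTp.exists_le_sylow
  have hmax : (P' : Subgroup ↥L).map L.subtype ≤ T := by
    have hQp : IsPGroup p ↥(((P' : Subgroup ↥L).map L.subtype).subgroupOf H) :=
      (P'.isPGroup'.map L.subtype).comap_of_injective H.subtype H.subtype_injective
    have hle : (P : Subgroup ↥H) ≤ ((P' : Subgroup ↥L).map L.subtype).subgroupOf H := by
      intro a ha
      rw [Subgroup.mem_subgroupOf]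
      have haT : (a : X) ∈ T := by rw [← hPT]; exact ⟨a, ha, rfl⟩
      exact ⟨⟨a, hTL haT⟩, hP' (Subgroup.mem_subgroupOf.mpr haT), rfl⟩
    have heq := P.is_maximal' hQp hle
    intro y hy
    have hyH : y ∈ H := hLH (by obtain ⟨b, -, rfl⟩ := hy; exact b.2)
    have hyP : (⟨y, hyH⟩ : ↥H) ∈ (P : Subgroup ↥H) := by
      rw [← heq]; exact Subgroup.mem_subgroupOf.mpr hy
    rw [← hPT]; exact ⟨⟨y, hyH⟩, hyP, rfl⟩
  intro x hx
  obtain ⟨t, ht, b, hb, hxtb⟩ := exists_sylow_mul_pResidual_mem P' (⟨x, hx⟩ : ↥L)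
  have e : x = (t : X) * (b : X) := congrArg Subtype.val hxtb
  rw [e]
  exact Subgroup.mul_mem_sup (hmax ⟨t, ht, rfl⟩) ⟨b, hb, rfl⟩

end generalities

section generalities2

variable {X : Type*} [Group X]

theorem conj_comp_conj_inv (g : X) :
    (MulAut.conj g).toMonoidHom.comp (MulAut.conj g⁻¹).toMonoidHom = MonoidHom.id X := by
  ext x
  simp only [MonoidHom.coe_comp, MulEquiv.coe_toMonoidHom, Function.comp_apply, MulAut.conj_apply,
    MonoidHom.id_apply, inv_inv]
  group

theorem map_conj_map_conj_inv (g : X) (B : Subgroup X) :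
    (B.map (MulAut.conj g⁻¹).toMonoidHom).map (MulAut.conj g).toMonoidHom = B := by
  rw [Subgroup.map_map, conj_comp_conj_inv, Subgroup.map_id]

theorem map_conj_inv_map_conj (g : X) (B : Subgroup X) :
    (B.map (MulAut.conj g).toMonoidHom).map (MulAut.conj g⁻¹).toMonoidHom = B := by
  have := map_conj_map_conj_inv g⁻¹ B
  rwa [inv_inv] at this

theorem omegaOne_center_map_conj_le (p : ℕ) (B : Subgroup X) (g : X) :
    omegaOne p (B.map (MulAut.conj g).toMonoidHom ⊓
      Subgroup.centralizer ((B.map (MulAut.conj g).toMonoidHom : Subgroup X) : Set X)) ≤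
    (omegaOne p (B ⊓ Subgroup.centralizer (B : Set X))).map (MulAut.conj g).toMonoidHom := by
  have h1 := omegaOne_map_le p (MulAut.conj g⁻¹).toMonoidHom
    (center_map_le (B.map (MulAut.conj g).toMonoidHom) (MulAut.conj g⁻¹).toMonoidHom)
  rw [map_conj_inv_map_conj] at h1
  have h2 := Subgroup.map_mono (f := (MulAut.conj g).toMonoidHom) h1
  rwa [map_conj_map_conj_inv] at h2

/-- `Z_H` lies in any subgroup normalized by `H` that contains `Ω₁(Z(P))` for one Sylow `P`. -/
theorem sylowCenterClosure_le_of_le_normalizer {p : ℕ} [Fact p.Prime] {H W : Subgroup X}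
    [Finite ↥H] (P₁ : Sylow p ↥H)
    (hP₁ : omegaOne p (((P₁ : Subgroup ↥H).map H.subtype) ⊓
      Subgroup.centralizer (((P₁ : Subgroup ↥H).map H.subtype : Subgroup X) : Set X)) ≤ W)
    (hHW : H ≤ Subgroup.normalizer (W : Set X)) : sylowCenterClosure p H ≤ W := by
  unfold sylowCenterClosure
  apply iSup_le
  intro P
  obtain ⟨g, rfl⟩ := MulAction.exists_smul_eq (↥H) P₁ P
  rw [sylow_smul_map_subtype]
  refine (omegaOne_center_map_conj_le p _ _).trans ?_
  exact (Subgroup.map_mono hP₁).trans (map_conj_le_of_le_normalizer hHW g.2)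

theorem sylowCenterClosure_map_le {p : ℕ} (Φ : X ≃* X) (H : Subgroup X) :
    (sylowCenterClosure p H).map Φ.toMonoidHom ≤ sylowCenterClosure p (H.map Φ.toMonoidHom) := by
  unfold sylowCenterClosure
  rw [Subgroup.map_iSup]
  apply iSup_le
  intro S
  let e : ↥H ≃* ↥(H.map Φ.toMonoidHom) := Φ.subgroupMap H
  let S' : Sylow p ↥(H.map Φ.toMonoidHom) :=
    S.comapOfInjective e.symm.toMonoidHom e.symm.injective (by
      intro a _
      exact ⟨e a, e.symm_apply_apply a⟩)
  have hS' : (S' : Subgroup ↥(H.map Φ.toMonoidHom)).map (H.map Φ.toMonoidHom).subtype =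
      ((S : Subgroup ↥H).map H.subtype).map Φ.toMonoidHom := by
    ext y
    constructor
    · rintro ⟨b, hb, rfl⟩
      have hb' : e.symm b ∈ (S : Subgroup ↥H) := hb
      refine ⟨(e.symm b : X), ⟨e.symm b, hb', rfl⟩, ?_⟩
      have h1 : (e (e.symm b) : X) = Φ ((e.symm b : ↥H) : X) := rfl
      rw [e.apply_symm_apply] at h1
      exact h1.symm
    · rintro ⟨_, ⟨a, ha, rfl⟩, rfl⟩
      refine ⟨e a, ?_, rfl⟩
      show e.symm (e a) ∈ (S : Subgroup ↥H)
      rw [e.symm_apply_apply]
      exact ha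
  refine le_trans ?_ (le_iSup _ S')
  rw [hS']
  exact omegaOne_map_le p _ (center_map_le _ _)

theorem le_normalizer_pCoreOf (p : ℕ) (H : Subgroup X) :
    H ≤ Subgroup.normalizer (pCoreOf p H : Set X) := by
  have hn : ((pCoreOf p H).subgroupOf H).Normal := by
    have e : (pCoreOf p H).subgroupOf H = pCore p ↥H := by
      unfold pCoreOf
      ext x
      rw [Subgroup.mem_subgroupOf]
      constructor
      · rintro ⟨y, hy, hyx⟩
        rwa [← Subtype.ext hyx]
      · intro hx
        exact ⟨x, hx, rfl⟩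
    rw [e]
    exact Cfsg.Agent.Lib.Helper84.pCore_normal p ↥H
  exact (Subgroup.normal_subgroupOf_iff_le_normalizer (pCoreOf_le p H)).mp hn

theorem isPGroup_pCoreOf (p : ℕ) [Fact p.Prime] (H : Subgroup X) : IsPGroup p ↥(pCoreOf p H) := by
  unfold pCoreOf
  exact (Cfsg.Agent.Lib.Helper87.pCore_isPGroup p ↥H).map _

theorem commutator_le_of_le_normalizer {V Q : Subgroup X}
    (hQV : Q ≤ Subgroup.normalizer (V : Set X)) : ⁅V, Q⁆ ≤ V := by
  rw [Subgroup.commutator_le]
  intro v hv q hq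
  rw [commutatorElement_def]
  have h2 : q * v⁻¹ * q⁻¹ ∈ V :=
    (Subgroup.mem_normalizer_iff.mp (hQV hq) v⁻¹).mp (V.inv_mem hv)
  have e2 : v * q * v⁻¹ * q⁻¹ = v * (q * v⁻¹ * q⁻¹) := by group
  rw [e2]
  exact V.mul_mem hv h2

end generalities2

section vertexV

variable {X : Type*} [Group X] {M₁ M₂ : Subgroup X}

/-- Left multiplication by `g` as a graph homomorphism of the coset graph. -/
def cosetGraphSmulHom (g : X) : cosetGraph M₁ M₂ →g cosetGraph M₁ M₂ where
  toFun v := g • v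
  map_rel' h := cosetGraph_adj_smul M₁ M₂ g h

theorem cosetGraph_dist_smul_le (hconn : (cosetGraph M₁ M₂).Connected) (g : X)
    (a b : CosetVertex M₁ M₂) :
    (cosetGraph M₁ M₂).dist (g • a) (g • b) ≤ (cosetGraph M₁ M₂).dist a b := by
  obtain ⟨w, hw⟩ := hconn.exists_walk_length_eq_dist a b
  have h1 := SimpleGraph.dist_le (w.map (cosetGraphSmulHom g))
  rw [SimpleGraph.Walk.length_map, hw] at h1
  exact h1

theorem cosetGraph_dist_smul (hconn : (cosetGraph M₁ M₂).Connected) (g : X)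
    (a b : CosetVertex M₁ M₂) :
    (cosetGraph M₁ M₂).dist (g • a) (g • b) = (cosetGraph M₁ M₂).dist a b := by
  apply le_antisymm (cosetGraph_dist_smul_le hconn g a b)
  have h1 := cosetGraph_dist_smul_le hconn g⁻¹ (g • a) (g • b)
  rwa [inv_smul_smul, inv_smul_smul] at h1

theorem vertexZ_map_conj_le {p : ℕ} (g : X) (μ : CosetVertex M₁ M₂) :
    (vertexZ p μ).map (MulAut.conj g).toMonoidHom ≤ vertexZ p (g • μ) := by
  show (sylowCenterClosure p (MulAction.stabilizer X μ)).map (MulAut.conj g).toMonoidHom ≤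
    sylowCenterClosure p (MulAction.stabilizer X (g • μ))
  rw [MulAction.stabilizer_smul_eq_stabilizer_map_conj]
  exact sylowCenterClosure_map_le (MulAut.conj g) _

theorem vertexZ_le_vertexVIter {p : ℕ} {k : ℕ} {δ ν : CosetVertex M₁ M₂}
    (hd : (cosetGraph M₁ M₂).dist δ ν ≤ k) : vertexZ p ν ≤ vertexVIter p M₁ M₂ k δ :=
  le_iSup (fun ν : {ν : CosetVertex M₁ M₂ // (cosetGraph M₁ M₂).dist δ ν ≤ k} =>
    vertexZ p (ν : CosetVertex M₁ M₂)) ⟨ν, hd⟩

theorem vertexVIter_map_conj_le {p : ℕ} (hconn : (cosetGraph M₁ M₂).Connected) (g : X) (k : ℕ)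
    (μ : CosetVertex M₁ M₂) :
    (vertexVIter p M₁ M₂ k μ).map (MulAut.conj g).toMonoidHom ≤ vertexVIter p M₁ M₂ k (g • μ) := by
  unfold vertexVIter
  rw [Subgroup.map_iSup]
  apply iSup_le
  rintro ⟨ν, hν⟩
  refine (vertexZ_map_conj_le g ν).trans ?_
  apply vertexZ_le_vertexVIter
  rw [cosetGraph_dist_smul hconn]
  exact hν

theorem vertexVIter_smul {p : ℕ} (hconn : (cosetGraph M₁ M₂).Connected) (g : X) (k : ℕ)
    (μ : CosetVertex M₁ M₂) :
    vertexVIter p M₁ M₂ k (g • μ) = (vertexVIter p M₁ M₂ k μ).map (MulAut.conj g).toMonoidHom := by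
  apply le_antisymm
  · have h1 := vertexVIter_map_conj_le (p := p) hconn g⁻¹ k (g • μ)
    rw [inv_smul_smul] at h1
    have h2 := Subgroup.map_mono (f := (MulAut.conj g).toMonoidHom) h1
    rwa [map_conj_map_conj_inv] at h2
  · exact vertexVIter_map_conj_le hconn g k μ

theorem stabilizer_le_normalizer_vertexVIter {p : ℕ} (hconn : (cosetGraph M₁ M₂).Connected)
    (k : ℕ) (μ : CosetVertex M₁ M₂) :
    MulAction.stabilizer X μ ≤ Subgroup.normalizer (vertexVIter p M₁ M₂ k μ : Set X) := by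
  apply le_normalizer_of_forall_map_le
  intro g hg
  have h1 := vertexVIter_map_conj_le (p := p) hconn g k μ
  rwa [MulAction.mem_stabilizer_iff.mp hg] at h1

theorem vertexVIter_le_succ_of_adj {p : ℕ} (hconn : (cosetGraph M₁ M₂).Connected) {k : ℕ}
    {δ μ : CosetVertex M₁ M₂} (hadj : (cosetGraph M₁ M₂).Adj δ μ) :
    vertexVIter p M₁ M₂ k μ ≤ vertexVIter p M₁ M₂ (k + 1) δ := by
  have h2 : (cosetGraph M₁ M₂).dist δ μ = 1 := SimpleGraph.dist_eq_one_iff_adj.mpr hadj
  unfold vertexVIter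
  apply iSup_le
  rintro ⟨ν, hν⟩
  apply vertexZ_le_vertexVIter
  show (cosetGraph M₁ M₂).dist δ ν ≤ k + 1
  have h1 : (cosetGraph M₁ M₂).dist δ ν ≤
      (cosetGraph M₁ M₂).dist δ μ + (cosetGraph M₁ M₂).dist μ ν := hconn.dist_triangle
  have hν' : (cosetGraph M₁ M₂).dist μ ν ≤ k := hν
  omega

theorem dvd_card_stabilizer {p : ℕ} (h : IsCharPAmalgamPair p M₁ M₂) (μ : CosetVertex M₁ M₂) :
    p ∣ Nat.card ↥(MulAction.stabilizer X μ) := by
  obtain ⟨-, -, -, hd1, hd2, -⟩ := h
  rcases μ with q | q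
  · induction q using QuotientGroup.induction_on with
    | H x =>
      rw [stabilizer_inl, Subgroup.card_map_of_injective (MulAut.conj x).injective]
      exact hd1
  · induction q using QuotientGroup.induction_on with
    | H x =>
      rw [stabilizer_inr, Subgroup.card_map_of_injective (MulAut.conj x).injective]
      exact hd2

theorem vertexZ_ne_bot {p : ℕ} [hp : Fact p.Prime] (h : IsCharPAmalgamPair p M₁ M₂)
    (μ : CosetVertex M₁ M₂) : vertexZ p μ ≠ ⊥ := by
  intro hbot
  obtain ⟨ν, hν⟩ := exists_adj μ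
  have hgp := goodPair_of_adj h hν
  have hfin := hgp.finH
  have hdvd := dvd_card_stabilizer h μ
  obtain ⟨S⟩ : Nonempty (Sylow p ↥(MulAction.stabilizer X μ)) := inferInstance
  have hle := omegaOneCenter_le_vertexZ (p := p) μ S
  rw [hbot, le_bot_iff] at hle
  have hTp : IsPGroup p ↥((S : Subgroup ↥(MulAction.stabilizer X μ)).map
      (MulAction.stabilizer X μ).subtype) := S.isPGroup'.map _
  have hcen := eq_bot_of_omegaOne_eq_bot (hTp.to_le inf_le_left) hle
  have hcard : 1 < Nat.card ↥(S : Subgroup ↥(MulAction.stabilizer X μ)) := by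
    rw [Sylow.card_eq_multiplicity]
    exact Nat.one_lt_pow (Nat.Prime.factorization_pos_of_dvd hp.out Nat.card_pos.ne' hdvd).ne'
      hp.out.one_lt
  have hnt : Nontrivial ↥(S : Subgroup ↥(MulAction.stabilizer X μ)) :=
    Finite.one_lt_card_iff_nontrivial.mp hcard
  have hcnt := IsPGroup.center_nontrivial S.isPGroup'
  obtain ⟨z, hz⟩ := exists_ne (1 : ↥(Subgroup.center ↥(S : Subgroup ↥(MulAction.stabilizer X μ))))
  apply hz
  have hzmem : (((z : ↥(S : Subgroup ↥(MulAction.stabilizer X μ))) :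
      ↥(MulAction.stabilizer X μ)) : X) ∈
      ((S : Subgroup ↥(MulAction.stabilizer X μ)).map (MulAction.stabilizer X μ).subtype) ⊓
      Subgroup.centralizer (((S : Subgroup ↥(MulAction.stabilizer X μ)).map
        (MulAction.stabilizer X μ).subtype : Subgroup X) : Set X) := by
    refine ⟨⟨_, (z : ↥(S : Subgroup ↥(MulAction.stabilizer X μ))).2, rfl⟩, ?_⟩
    show _ ∈ Subgroup.centralizer _
    rw [Subgroup.mem_centralizer_iff]
    rintro _ ⟨a, ha, rfl⟩
    have h1 := Subgroup.mem_center_iff.mp z.2 ⟨a, ha⟩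
    have h2 := congrArg (fun t : ↥(S : Subgroup ↥(MulAction.stabilizer X μ)) =>
      ((t : ↥(MulAction.stabilizer X μ)) : X)) h1
    exact h2
  rw [hcen, Subgroup.mem_bot] at hzmem
  apply Subtype.ext
  apply Subtype.ext
  apply Subtype.ext
  exact hzmem

/-- Under the standing hypothesis a vertex stabilizer is generated by an edge stabilizer and
`O^p` of its `p`-element closure. -/
theorem stabilizer_le_edge_sup_residual {p : ℕ} [Fact p.Prime] (h : IsSpeAmalgamPair p M₁ M₂)
    {δ μ : CosetVertex M₁ M₂} (hμ : (cosetGraph M₁ M₂).Adj δ μ) :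
    MulAction.stabilizer X δ ≤ (MulAction.stabilizer X δ ⊓ MulAction.stabilizer X μ) ⊔
      (pResidual p ↥(pElementClosure p (MulAction.stabilizer X δ))).map
        (pElementClosure p (MulAction.stabilizer X δ)).subtype := by
  have hgp := goodPair_of_adj h.1 hμ
  have hnc := normCond_of_adj h hμ
  have hfδ := hgp.finH
  have hfe : Finite ↥(edgeStabilizer δ μ) :=
    Finite.of_injective _ (Subgroup.inclusion_injective
      (inf_le_left : MulAction.stabilizer X δ ⊓ MulAction.stabilizer X μ ≤ MulAction.stabilizer X δ))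
  obtain ⟨S⟩ : Nonempty (Sylow p ↥(edgeStabilizer δ μ)) := inferInstance
  obtain ⟨T, hT⟩ : ∃ T : Subgroup X,
      T = (S : Subgroup ↥(edgeStabilizer δ μ)).map (edgeStabilizer δ μ).subtype := ⟨_, rfl⟩
  have hTp : IsPGroup p ↥T := by rw [hT]; exact S.isPGroup'.map _
  have hTle : T ≤ edgeStabilizer δ μ := by
    rw [hT]
    rintro _ ⟨a, -, rfl⟩
    exact a.2
  have hTcard : Nat.card ↥T = p ^ (Nat.card ↥(MulAction.stabilizer X δ ⊓
      MulAction.stabilizer X μ)).factorization p := by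
    rw [hT, Subgroup.card_subtype, Sylow.card_eq_multiplicity]
  obtain ⟨-, hN2⟩ := hnc T hTle hTcard
  obtain ⟨P₁, hP₁⟩ := hgp.exists_sylow_left S
  rw [← hT] at hP₁
  have hTK1 : T ≤ pElementClosure p (MulAction.stabilizer X δ) :=
    le_pElementClosure_of_isPGroup (hTle.trans inf_le_left) hTp
  have hF1 := frattini_le P₁ hP₁ (pElementClosure_le p _) (le_normalizer_pElementClosure p _) hTK1
  have hL := le_sylow_sup_pResidual P₁ hP₁ (pElementClosure_le p _) hTK1
  exact hF1.trans (sup_le (hN2.trans le_sup_left)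
    (hL.trans (sup_le (hTle.trans le_sup_left) le_sup_right)))

end vertexV

section main

variable {X : Type*} [Group X] {M₁ M₂ : Subgroup X}

theorem eq_bot_of_normalized_by_adjacent {p : ℕ} (h : IsCharPAmalgamPair p M₁ M₂)
    {δ μ : CosetVertex M₁ M₂} (hμ : (cosetGraph M₁ M₂).Adj δ μ) (U : Subgroup X)
    (hU : U ≤ MulAction.stabilizer X δ ⊓ MulAction.stabilizer X μ)
    (h1 : MulAction.stabilizer X δ ≤ Subgroup.normalizer (U : Set X))
    (h2 : MulAction.stabilizer X μ ≤ Subgroup.normalizer (U : Set X)) : U = ⊥ :=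
  eq_bot_of_normalized_by_stabilizers h.1.1 h.1.2.2.2 hμ U hU
    (MulAction.stabilizer X δ) (MulAction.stabilizer X μ) le_rfl h1
    (fun ν ν' a b => stabilizer_transitive δ ν ν' a b) le_rfl h2
    (fun ν ν' a b => stabilizer_transitive μ ν ν' a b)

/-- `O^p(L_λ)` does not centralize `V_λ^{(n)} / V_λ^{(n-2)}`. -/
theorem vertexVIter_two_step_noncentral {p : ℕ} [Fact p.Prime] (h : IsSpeAmalgamPair p M₁ M₂)
    (lam : CosetVertex M₁ M₂) (n : ℕ) (hn : 2 ≤ n)
    (hVQ : vertexVIter p M₁ M₂ n lam ≤ vertexQ p lam) :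
    ¬ ⁅vertexVIter p M₁ M₂ n lam,
      ((pResidual p ↥(pElementClosure p (MulAction.stabilizer X lam))).map
        (pElementClosure p (MulAction.stabilizer X lam)).subtype)⁆ ≤
      vertexVIter p M₁ M₂ (n - 2) lam := by
  intro hcon
  have hconn := cosetGraph_connected M₁ M₂ h.1.1.1
  obtain ⟨μ, hμ⟩ := exists_adj lam
  have hA1 : vertexVIter p M₁ M₂ (n - 2) lam ≤ vertexVIter p M₁ M₂ (n - 1) μ := by
    have h1 := vertexVIter_le_succ_of_adj (p := p) hconn (k := n - 2) hμ.symm
    rwa [show n - 2 + 1 = n - 1 by omega] at h1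
  have hA2 : vertexVIter p M₁ M₂ (n - 1) μ ≤ vertexVIter p M₁ M₂ n lam := by
    have h1 := vertexVIter_le_succ_of_adj (p := p) hconn (k := n - 1) hμ
    rwa [show n - 1 + 1 = n by omega] at h1
  have hR := le_normalizer_of_commutator_le hA2 (hcon.trans hA1)
  have hGμ := stabilizer_le_normalizer_vertexVIter (p := p) hconn (n - 1) μ
  have hGl : MulAction.stabilizer X lam ≤
      Subgroup.normalizer (vertexVIter p M₁ M₂ (n - 1) μ : Set X) :=
    (stabilizer_le_edge_sup_residual h hμ).trans (sup_le (inf_le_right.trans hGμ) hR)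
  have hAe : vertexVIter p M₁ M₂ (n - 1) μ ≤
      MulAction.stabilizer X lam ⊓ MulAction.stabilizer X μ :=
    hA2.trans (hVQ.trans (le_inf (pCoreOf_le p _) (vertexQ_le_stabilizer_of_adj h.1 hμ)))
  have hbot := eq_bot_of_normalized_by_adjacent h.1 hμ _ hAe hGl hGμ
  have hZ : vertexZ p μ ≤ vertexVIter p M₁ M₂ (n - 1) μ :=
    vertexZ_le_vertexVIter (by rw [SimpleGraph.dist_self]; omega)
  rw [hbot, le_bot_iff] at hZ
  exact vertexZ_ne_bot h.1 μ hZ

/-- `O^p(L_λ)` does not centralize `V_λ^{(n)} / [V_λ^{(n)}, Q_λ]`. -/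
theorem vertexVIter_mod_core_noncentral {p : ℕ} [Fact p.Prime] (h : IsSpeAmalgamPair p M₁ M₂)
    (lam : CosetVertex M₁ M₂) (n : ℕ) (hn : 1 ≤ n)
    (hVQ : vertexVIter p M₁ M₂ n lam ≤ vertexQ p lam) :
    ¬ ⁅vertexVIter p M₁ M₂ n lam,
      ((pResidual p ↥(pElementClosure p (MulAction.stabilizer X lam))).map
        (pElementClosure p (MulAction.stabilizer X lam)).subtype)⁆ ≤
      ⁅vertexVIter p M₁ M₂ n lam, vertexQ p lam⁆ := by
  intro hcon
  have hconn := cosetGraph_connected M₁ M₂ h.1.1.1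
  obtain ⟨μ, hμ⟩ := exists_adj lam
  have hgp := goodPair_of_adj h.1 hμ
  have hfl := hgp.finH
  have hAV : vertexVIter p M₁ M₂ (n - 1) μ ≤ vertexVIter p M₁ M₂ n lam := by
    have h1 := vertexVIter_le_succ_of_adj (p := p) hconn (k := n - 1) hμ
    rwa [show n - 1 + 1 = n by omega] at h1
  have hGlV := stabilizer_le_normalizer_vertexVIter (p := p) hconn n lam
  have hGlQ := le_normalizer_pCoreOf p (MulAction.stabilizer X lam)
  have hQGl : vertexQ p lam ≤ MulAction.stabilizer X lam := pCoreOf_le p _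
  have hQGμ : vertexQ p lam ≤ MulAction.stabilizer X μ := vertexQ_le_stabilizer_of_adj h.1 hμ
  have hCV : ⁅vertexVIter p M₁ M₂ n lam, vertexQ p lam⁆ ≤ vertexVIter p M₁ M₂ n lam :=
    commutator_le_of_le_normalizer (hQGl.trans hGlV)
  have hWV : vertexVIter p M₁ M₂ (n - 1) μ ⊔ ⁅vertexVIter p M₁ M₂ n lam, vertexQ p lam⁆ ≤
      vertexVIter p M₁ M₂ n lam := sup_le hAV hCV
  have hRW := le_normalizer_of_commutator_le hWV (hcon.trans le_sup_right)
  have hGμA := stabilizer_le_normalizer_vertexVIter (p := p) hconn (n - 1) μ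
  have hEW : MulAction.stabilizer X lam ⊓ MulAction.stabilizer X μ ≤ Subgroup.normalizer
      ((vertexVIter p M₁ M₂ (n - 1) μ ⊔ ⁅vertexVIter p M₁ M₂ n lam, vertexQ p lam⁆ :
        Subgroup X) : Set X) :=
    le_normalizer_sup_of_le (inf_le_right.trans hGμA)
      (le_normalizer_commutator_of_le (inf_le_left.trans hGlV) (inf_le_left.trans hGlQ))
  have hGlW : MulAction.stabilizer X lam ≤ Subgroup.normalizer
      ((vertexVIter p M₁ M₂ (n - 1) μ ⊔ ⁅vertexVIter p M₁ M₂ n lam, vertexQ p lam⁆ :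
        Subgroup X) : Set X) :=
    (stabilizer_le_edge_sup_residual h hμ).trans (sup_le hEW hRW)
  -- `Z_λ` lies in `W`
  have hZlW : vertexZ p lam ≤
      vertexVIter p M₁ M₂ (n - 1) μ ⊔ ⁅vertexVIter p M₁ M₂ n lam, vertexQ p lam⁆ := by
    have hfe : Finite ↥(MulAction.stabilizer X lam ⊓ MulAction.stabilizer X μ) :=
      Finite.of_injective _ (Subgroup.inclusion_injective
        (inf_le_left : MulAction.stabilizer X lam ⊓ MulAction.stabilizer X μ ≤
          MulAction.stabilizer X lam))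
    obtain ⟨S₀⟩ : Nonempty (Sylow p ↥(MulAction.stabilizer X lam ⊓ MulAction.stabilizer X μ)) :=
      inferInstance
    obtain ⟨P₁, hP₁⟩ := hgp.exists_sylow_left S₀
    obtain ⟨P₂, hP₂⟩ := hgp.exists_sylow_right S₀
    apply sylowCenterClosure_le_of_le_normalizer P₁ _ hGlW
    rw [hP₁, ← hP₂]
    refine (omegaOneCenter_le_vertexZ μ P₂).trans ?_
    refine le_trans ?_ le_sup_left
    exact vertexZ_le_vertexVIter (by rw [SimpleGraph.dist_self]; omega)
  -- `V ≤ W`
  have hVW : vertexVIter p M₁ M₂ n lam ≤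
      vertexVIter p M₁ M₂ (n - 1) μ ⊔ ⁅vertexVIter p M₁ M₂ n lam, vertexQ p lam⁆ := by
    have hstep : ∀ ν : {ν : CosetVertex M₁ M₂ // (cosetGraph M₁ M₂).dist lam ν ≤ n},
        vertexZ p (ν : CosetVertex M₁ M₂) ≤
        vertexVIter p M₁ M₂ (n - 1) μ ⊔ ⁅vertexVIter p M₁ M₂ n lam, vertexQ p lam⁆ := by
      rintro ⟨ν, hν⟩
      show vertexZ p ν ≤ _
      by_cases hνl : ν = lam
      · rw [hνl]; exact hZlW
      · obtain ⟨μ', hμ', hd⟩ := exists_adj_dist_succ hconn (Ne.symm hνl)
        obtain ⟨g, hg, rfl⟩ := stabilizer_transitive lam μ μ' hμ hμ'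
        have h1 : vertexZ p ν ≤ vertexVIter p M₁ M₂ (n - 1) (g • μ) :=
          vertexZ_le_vertexVIter (by omega)
        rw [vertexVIter_smul hconn] at h1
        exact h1.trans ((Subgroup.map_mono le_sup_left).trans
          (map_conj_le_of_le_normalizer hGlW hg))
    conv_lhs => unfold vertexVIter
    exact iSup_le hstep
  -- nilpotent action
  have hQfin : Finite ↥(vertexQ p lam) :=
    Finite.of_injective _ (Subgroup.inclusion_injective hQGl)
  have hQnil : Group.IsNilpotent ↥(vertexQ p lam) :=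
    (isPGroup_pCoreOf p (MulAction.stabilizer X lam)).isNilpotent
  have hnil := (Subgroup.isNilpotent_iff_lowerCentralSeries (vertexQ p lam)).mp hQnil
  have hVA := le_of_le_sup_commutator_of_nilpotent (hQGμ.trans hGμA) hVQ hnil hVW
  have hVeq : vertexVIter p M₁ M₂ n lam = vertexVIter p M₁ M₂ (n - 1) μ :=
    le_antisymm hVA hAV
  have hGμV : MulAction.stabilizer X μ ≤
      Subgroup.normalizer (vertexVIter p M₁ M₂ n lam : Set X) := by
    rw [hVeq]; exact hGμA
  have hbot := eq_bot_of_normalized_by_adjacent h.1 hμ _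
    (hVQ.trans (le_inf hQGl hQGμ)) hGlV hGμV
  have hZ : vertexZ p lam ≤ vertexVIter p M₁ M₂ n lam :=
    vertexZ_le_vertexVIter (by rw [SimpleGraph.dist_self]; omega)
  rw [hbot, le_bot_iff] at hZ
  exact vertexZ_ne_bot h.1 lam hZ

end main

end Cfsg.Agent.Lib.Helper45
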