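import Mathlib
import Cfsg.Agent.Lib.Helper37.FusDefs

/-! FUS-C sub-hive (owner helper61), leaves FUSC-A2 + FUSC-A3 (helper45). -/

set_option autoImplicit false

namespace Cfsg.Agent.Lib.Helper37.Fus

open Polynomial

universe u v

variable {F : Type u} [Field F]

section partA

variable {W : Type v} [AddCommGroup W] [Module F W]

theorem fusCA2_key (β : LinearMap.BilinForm F W) {ι : Type*} (u u' : ι → W)
    (hG : ∀ i j, β (u i) (u j) = β (u' i) (u' j)) (c d : ι →₀ F) :
    β (Finsupp.linearCombination F u c) (Finsupp.linearCombination F u d) =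
      β (Finsupp.linearCombination F u' c) (Finsupp.linearCombination F u' d) := by
  induction c using Finsupp.induction_linear with
  | zero => simp
  | add c₁ c₂ h₁ h₂ => simp only [map_add, LinearMap.add_apply, h₁, h₂]
  | single i a =>
    induction d using Finsupp.induction_linear with
    | zero => simp
    | add d₁ d₂ h₁ h₂ => simp only [map_add, h₁, h₂]
    | single j b =>
      simp only [Finsupp.linearCombination_single, map_smul, LinearMap.smul_apply, hG]

/-- FUSC-A2 (generic) : two spanning families with the same Gram matrix differ by an isometry. -/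
theorem fusC_isometry_of_gram (β : LinearMap.BilinForm F W)
    (hs : ∀ u v, β u v = β v u) (hnd : ∀ u, (∀ v, β u v = 0) → u = 0)
    {ι : Type*} (u u' : ι → W) (hu : Submodule.span F (Set.range u) = ⊤)
    (hu' : Submodule.span F (Set.range u') = ⊤)
    (hG : ∀ i j, β (u i) (u j) = β (u' i) (u' j)) :
    ∃ σ : W →ₗ[F] W, (∀ i, σ (u i) = u' i) ∧ ∀ x y, β (σ x) (σ y) = β x y := by
  have _ := hs
  set T := Finsupp.linearCombination F u with hT
  set T' := Finsupp.linearCombination F u' with hT'
  have hsurj : Function.Surjective T := by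
    rw [← LinearMap.range_eq_top, hT, Finsupp.range_linearCombination, hu]
  have hsurj' : Function.Surjective T' := by
    rw [← LinearMap.range_eq_top, hT', Finsupp.range_linearCombination, hu']
  have key : ∀ c d, β (T c) (T d) = β (T' c) (T' d) := fusCA2_key β u u' hG
  have hker : LinearMap.ker T ≤ LinearMap.ker T' := by
    intro c hc
    rw [LinearMap.mem_ker] at hc ⊢
    apply hnd
    intro v
    obtain ⟨d, rfl⟩ := hsurj' v
    rw [← key, hc, map_zero, LinearMap.zero_apply]
  let σ : W →ₗ[F] W :=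
    ((LinearMap.ker T).liftQ T' hker) ∘ₗ (T.quotKerEquivOfSurjective hsurj).symm.toLinearMap
  have hσ : ∀ c, σ (T c) = T' c := by
    intro c
    have h1 : (T.quotKerEquivOfSurjective hsurj).symm (T c) = Submodule.Quotient.mk c := by
      rw [LinearEquiv.symm_apply_eq]
      rfl
    show ((LinearMap.ker T).liftQ T' hker) ((T.quotKerEquivOfSurjective hsurj).symm (T c)) = _
    rw [h1, Submodule.liftQ_apply]
  refine ⟨σ, ?_, ?_⟩
  · intro i
    have h1 : T (Finsupp.single i 1) = u i := by
      rw [hT, Finsupp.linearCombination_single, one_smul]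
    have h2 : T' (Finsupp.single i 1) = u' i := by
      rw [hT', Finsupp.linearCombination_single, one_smul]
    rw [← h1, hσ, h2]
  · intro x y
    obtain ⟨c, rfl⟩ := hsurj x
    obtain ⟨d, rfl⟩ := hsurj y
    rw [hσ, hσ, key]

theorem fusCA3_span (α : W →ₗ[F] W) (w' : W) (hcyc : ∀ w, ∃ f : F[X], w = aeval α f w') :
    Submodule.span F (Set.range fun i : ℕ => (α ^ i) w') = ⊤ := by
  rw [eq_top_iff]
  intro w _
  obtain ⟨f, rfl⟩ := hcyc w
  rw [Polynomial.aeval_eq_sum_range, LinearMap.sum_apply]
  apply Submodule.sum_mem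
  intro i _
  rw [LinearMap.smul_apply]
  apply Submodule.smul_mem
  exact Submodule.subset_span ⟨i, Eq.refl _⟩

/-- FUSC-A3 : the isometric involution `f(α) w' ↦ f(α') w'` attached to a cyclic vector `w'`
(FUSC-A2 with `u i = (α ^ i) w'`, `u' i = (α' ^ i) w'`). -/
theorem fusC_sigma (β : LinearMap.BilinForm F W)
    (hs : ∀ u v, β u v = β v u) (hnd : ∀ u, (∀ v, β u v = 0) → u = 0)
    (α α' : W →ₗ[F] W) (hα : ∀ u v, β (α u) (α v) = β u v) (hαα' : α * α' = 1) (hα'α : α' * α = 1)
    (w' : W) (hcyc : ∀ w, ∃ f : F[X], w = aeval α f w') (hcyc' : ∀ w, ∃ f : F[X], w = aeval α' f w') :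
    ∃ σ : W →ₗ[F] W, σ w' = w' ∧ σ * σ = 1 ∧ (∀ u v, β (σ u) (σ v) = β u v) ∧ σ * α = α' * σ := by
  have hαα'v : ∀ v, α (α' v) = v := fun v => by
    have := congrArg (fun f : Module.End F W => f v) hαα'
    simpa using this
  have hα'αv : ∀ v, α' (α v) = v := fun v => by
    have := congrArg (fun f : Module.End F W => f v) hα'α
    simpa using this
  -- adjoints
  have hadj : ∀ u v, β (α u) v = β u (α' v) := by
    intro u v
    conv_lhs => rw [← hαα'v v]
    exact hα u (α' v)
  have hadj' : ∀ u v, β (α' u) v = β u (α v) := by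
    intro u v
    rw [← hα (α' u) v, hαα'v]
  have hadjk : ∀ k : ℕ, ∀ u v, β ((α ^ k) u) v = β u ((α' ^ k) v) := by
    intro k
    induction k with
    | zero => intro u v; simp
    | succ k ih =>
      intro u v
      rw [pow_succ', Module.End.mul_apply, hadj, ih, pow_succ, Module.End.mul_apply]
  have hadjk' : ∀ k : ℕ, ∀ u v, β ((α' ^ k) u) v = β u ((α ^ k) v) := by
    intro k
    induction k with
    | zero => intro u v; simp
    | succ k ih =>
      intro u v
      rw [pow_succ', Module.End.mul_apply, hadj', ih, pow_succ, Module.End.mul_apply]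
  have hcomm : Commute α α' := by
    show α * α' = α' * α
    rw [hαα', hα'α]
  have hG : ∀ i j : ℕ, β ((α ^ i) w') ((α ^ j) w') = β ((α' ^ i) w') ((α' ^ j) w') := by
    intro i j
    have h1 : (α' ^ i) ((α ^ j) w') = (α ^ j) ((α' ^ i) w') := by
      have := (hcomm.symm.pow_pow i j).eq
      have h2 := congrArg (fun f : Module.End F W => f w') this
      simpa [Module.End.mul_apply] using h2
    have hR : β ((α' ^ i) w') ((α' ^ j) w') = β w' ((α ^ j) ((α' ^ i) w')) := by
      rw [hadjk', hs, hadjk, hadjk']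
    rw [hadjk, hR, h1]
  obtain ⟨σ, hσu, hσiso⟩ := fusC_isometry_of_gram β hs hnd (fun i : ℕ => (α ^ i) w')
    (fun i : ℕ => (α' ^ i) w') (fusCA3_span α w' hcyc) (fusCA3_span α' w' hcyc') hG
  have hspan := fusCA3_span α w' hcyc
  have h0 : σ w' = w' := by
    have := hσu 0
    simpa using this
  have hσα : σ * α = α' * σ := by
    apply LinearMap.ext_on hspan
    rintro _ ⟨i, rfl⟩
    show σ (α ((α ^ i) w')) = α' (σ ((α ^ i) w'))
    have h1 : α ((α ^ i) w') = (α ^ (i + 1)) w' := by
      rw [pow_succ', Module.End.mul_apply]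
    have h2 : σ ((α ^ (i + 1)) w') = (α' ^ (i + 1)) w' := hσu (i + 1)
    have h3 : σ ((α ^ i) w') = (α' ^ i) w' := hσu i
    rw [h1, h2, h3, pow_succ', Module.End.mul_apply]
  have hσαv : ∀ v, σ (α v) = α' (σ v) := fun v => by
    have := congrArg (fun f : Module.End F W => f v) hσα
    simpa [Module.End.mul_apply] using this
  have hσα'v : ∀ v, σ (α' v) = α (σ v) := by
    intro v
    have h1 := hσαv (α' v)
    rw [hαα'v] at h1
    rw [h1, hαα'v]
  have hσα'k : ∀ k : ℕ, ∀ v, σ ((α' ^ k) v) = (α ^ k) (σ v) := by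
    intro k
    induction k with
    | zero => intro v; simp
    | succ k ih =>
      intro v
      rw [pow_succ', Module.End.mul_apply, hσα'v, ih, pow_succ', Module.End.mul_apply]
  refine ⟨σ, h0, ?_, hσiso, hσα⟩
  apply LinearMap.ext_on hspan
  rintro _ ⟨i, rfl⟩
  show σ (σ ((α ^ i) w')) = (α ^ i) w'
  have h3 : σ ((α ^ i) w') = (α' ^ i) w' := hσu i
  rw [h3, hσα'k, h0]

end partA

end Cfsg.Agent.Lib.Helper37.Fus
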