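import Mathlib
import Cfsg.Agent.Lib.Helper45.AutPSLGF

set_option autoImplicit false
set_option linter.unusedSimpArgs false
set_option linter.unusedVariables false
set_option linter.unnecessarySeqFocus false
set_option linter.unusedSectionVars false
set_option linter.style.haveILetI false

/-!
# Elements of prime order in the coset of a field or graph-field automorphism
-/

namespace Cfsg.Agent.Lib.Helper45.AutPSL

open Matrix Cfsg.Agent.Lib.Helper5.AutPSLn

lemma orderOf_conj_eq {A : Type*} [Group A] (a x : A) : orderOf (a * x * a⁻¹) = orderOf x := by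
  rw [← MulAut.conj_apply]
  exact MulEquiv.orderOf_eq (MulAut.conj a) x

/-- transfer of the coset statement along a conjugation normalising `D` -/
theorem transfer {A : Type*} [Group A] (D : Subgroup A) [hD : D.Normal] (x φ₀ α δ : A)
    (hx : α * x * α⁻¹ = φ₀) (hδ : δ ∈ D) (r : ℕ)
    (H : ∀ δ' ∈ D, (δ' * φ₀) ^ r = 1 → ∃ h ∈ D, δ' * φ₀ = h * φ₀ * h⁻¹)
    (hord : (δ * x) ^ r = 1) : ∃ h ∈ D, δ * x = h * x * h⁻¹ := by
  have h1 : α * δ * α⁻¹ ∈ D := hD.conj_mem δ hδ α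
  have h2 : α * δ * α⁻¹ * φ₀ = α * (δ * x) * α⁻¹ := by rw [← hx]; group
  have h3 : (α * δ * α⁻¹ * φ₀) ^ r = 1 := by rw [h2, conj_pow, hord]; group
  obtain ⟨h, hh, e⟩ := H _ h1 h3
  refine ⟨α⁻¹ * h * α, ?_, ?_⟩
  · have := hD.conj_mem h hh α⁻¹
    simpa using this
  · have : δ * x = α⁻¹ * (α * δ * α⁻¹ * φ₀) * α := by rw [h2]; group
    rw [this, e, ← hx]; group

variable {n : ℕ} {F : Type*} [Field F] [Fintype F]

/-- a graph-field automorphism of prime order has order two -/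
theorem graph_field_order (hn3 : 3 ≤ n) (σ : F ≃+* F) (hσ1 : σ ≠ 1) (r : ℕ) (hr : r.Prime)
    (hord : orderOf (PhiIota σ : MulAut (Matrix.ProjectiveSpecialLinearGroup (Fin n) F)) = r) :
    r = 2 ∧ orderOf σ = 2 := by
  have hp : (PhiIota σ : MulAut (Matrix.ProjectiveSpecialLinearGroup (Fin n) F)) ^ r = 1 := by
    rw [← hord]; exact pow_orderOf_eq_one _
  rw [PhiIota_pow] at hp
  rcases hr.eq_two_or_odd' with rfl | hodd
  · refine ⟨rfl, ?_⟩
    rw [Iota_sq, mul_one] at hp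
    have h1 : σ ^ 2 = 1 := by
      apply Phi_injective (n := n) (by omega)
      rw [hp, map_one]
    exact orderOf_eq_prime h1 hσ1
  · exfalso
    obtain ⟨m, rfl⟩ := hodd
    have h1 : (Iota : MulAut (Matrix.ProjectiveSpecialLinearGroup (Fin n) F)) ^ (2 * m + 1) = Iota := by
      rw [pow_succ, pow_mul, Iota_sq, one_pow, one_mul]
    rw [h1] at hp
    have h2 : (Iota : MulAut (Matrix.ProjectiveSpecialLinearGroup (Fin n) F)) =
        Gam 1 * Phi ((σ ^ (2 * m + 1))⁻¹) := by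
      rw [map_one, one_mul, map_inv]
      exact (inv_eq_of_mul_eq_one_right hp).symm
    exact Iota_ne_Gam_Phi hn3 _ _ h2

/-- **S2697**, in terms of the standard maps -/
theorem coset_conj {p f : ℕ} [Fact p.Prime] (hF : Fintype.card F = p ^ f) (hn : 2 ≤ n)
    (x δ : MulAut (Matrix.ProjectiveSpecialLinearGroup (Fin n) F))
    (hx : Cfsg.IsFieldAutClassPSL x ∨ Cfsg.IsGraphFieldAutClassPSL x) {r : ℕ} (hr : r.Prime)
    (hxr : orderOf x = r) (hδ : δ ∈ Cfsg.inndiagPSL n F) (hpow : (δ * x) ^ r = 1) :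
    Cfsg.IsConjUnder (Cfsg.inndiagPSL n F) x (δ * x) := by
  have hchar : CharP F p := charP_of_card_eq_prime_pow hF
  haveI hnorm := inndiag_normal (F := F) hn p
  rcases hx with ⟨α, σ, hσ1, hstd⟩ | ⟨hn3, α, φ, γ, σ, hσ1, hφ, hγ, hαx⟩
  · rw [isStdField_iff] at hstd
    have hσr : orderOf σ = r := by
      rw [← orderOf_injective (Phi : (F ≃+* F) →* MulAut (Matrix.ProjectiveSpecialLinearGroup (Fin n) F))
        (Phi_injective hn) σ, ← hstd, orderOf_conj_eq, hxr]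
    apply transfer (Cfsg.inndiagPSL n F) x (Phi σ) α δ hstd hδ r _ hpow
    intro δ' hδ' hδ'r
    obtain ⟨g, rfl⟩ := (mem_inndiag_iff _).1 hδ'
    obtain ⟨k, hk⟩ := field_case hn σ r hσr hr.pos g hδ'r
    exact ⟨Gam k, (mem_inndiag_iff _).2 ⟨k, rfl⟩, hk⟩
  · rw [isStdField_iff] at hφ
    rw [isInvT_iff] at hγ
    subst hφ hγ
    have hαx' : α * x * α⁻¹ = PhiIota σ := hαx
    have hord : orderOf (PhiIota σ : MulAut (Matrix.ProjectiveSpecialLinearGroup (Fin n) F)) = r := by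
      rw [← hαx', orderOf_conj_eq, hxr]
    obtain ⟨rfl, hσ2⟩ := graph_field_order hn3 σ hσ1 r hr hord
    apply transfer (Cfsg.inndiagPSL n F) x (PhiIota σ) α δ hαx' hδ 2 _ hpow
    intro δ' hδ' hδ'r
    obtain ⟨g, rfl⟩ := (mem_inndiag_iff _).1 hδ'
    obtain ⟨k, hk⟩ := graph_field_case hn3 p f hF σ hσ2 g hδ'r
    exact ⟨Gam k, (mem_inndiag_iff _).2 ⟨k, rfl⟩, hk⟩

end Cfsg.Agent.Lib.Helper45.AutPSL
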