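import Mathlib
import Cfsg.Agent.Lib.Helper45.SpAutSylow2
import Cfsg.Agent.Lib.Helper5.AutPSLnXr

set_option autoImplicit false
set_option linter.unusedSimpArgs false
set_option linter.unusedVariables false
set_option linter.unusedSectionVars false
set_option linter.unnecessarySeqFocus false

/-!
# The centre of the Sylow subgroup `Ub` of `PSp_{2m}(F)`
-/

namespace Cfsg.Agent.Lib.Helper45.SpAut

open Matrix Cfsg.Agent.Lib.Helper13 Pointwise
open Cfsg.Agent.Lib.Helper5.AutPSLn (Par IsUni Uni xr)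

variable {F : Type*} [Field F] {m : ℕ}

/-- the element `x ↦ x + a B(x,u) u + b (B(x,u) w + B(x,w) u)` for `u ⟂ w` -/
def Psi (u w : Vec m F) (a b : F) : SpG m F := T u (a - b) * T w (-b) * T (u + w) b

lemma Psi_mulVec {u w : Vec m F} (huw : B u w = 0) (a b : F) (x : Vec m F) :
    (Psi u w a b).1 *ᵥ x = x + (a * B x u) • u + (b * B x u) • w + (b * B x w) • u := by
  have hwu : B w u = 0 := B_eq_zero_comm.1 huw
  have huu : B u u = 0 := sympForm_self m u
  have hww : B w w = 0 := sympForm_self m w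
  unfold Psi
  rw [mul_mulVec, mul_mulVec, T_mulVec, T_mulVec, T_mulVec]
  simp only [B, sympForm_add_left, sympForm_add_right, sympForm_smul_left, sympForm_smul_right]
  simp only [B] at huw hwu huu hww
  rw [huw, hwu, huu, hww]
  module

lemma conj_Psi (g : SpG m F) (u w : Vec m F) (a b : F) :
    g * Psi u w a b * g⁻¹ = Psi (g.1 *ᵥ u) (g.1 *ᵥ w) a b := by
  unfold Psi
  rw [← mulVec_add, ← conj_T, ← conj_T, ← conj_T]
  group

lemma Psi_zero (u w : Vec m F) (a : F) : Psi u w a 0 = T u a := by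
  unfold Psi
  rw [sub_zero, neg_zero, T_zero, T_zero, mul_one, mul_one]

lemma pow_mulVec_of_smul (g : SpG m F) {v : Vec m F} {c : F} (h : g.1 *ᵥ v = c • v) (k : ℕ) :
    (g ^ k).1 *ᵥ v = c ^ k • v := by
  induction k with
  | zero => simp [one_mulVec']
  | succ n ih =>
    rw [pow_succ, mul_mulVec, h, mulVec_smul, ih, smul_smul, pow_succ, mul_comm]

lemma T_one_eq {v w : Vec m F} (hv : v ≠ 0) (h : T w 1 = T v 1) : w = v ∨ w = -v := by
  obtain ⟨x, hx⟩ := exists_B_ne_zero hv
  have h1 := congrArg (fun g : SpG m F => g.1 *ᵥ x) h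
  simp only [T_mulVec, one_mul] at h1
  have h2 : B x w • w = B x v • v := add_left_cancel h1
  have hxw : B x w ≠ 0 := by
    intro h0
    rw [h0, zero_smul] at h2
    rcases smul_eq_zero.1 h2.symm with h3 | h3
    · exact hx h3
    · exact hv h3
  set a := B x w / B x v with ha
  have hv2 : v = a • w := by
    rw [ha, div_eq_inv_mul, mul_smul, h2, smul_smul, inv_mul_cancel₀ hx, one_smul]
  have hw0 : w ≠ 0 := by
    rintro rfl
    rw [smul_zero] at hv2
    exact hv hv2
  have h3 : B x v = a * B x w := by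
    nth_rewrite 1 [hv2]
    exact sympForm_smul_right m a x w
  have h4 : B x w • w = (a * B x w * a) • w := by
    rw [h2, h3]
    nth_rewrite 1 [hv2]
    rw [smul_smul]
  have h5 : B x w = a * B x w * a := by
    by_contra hne
    have : (B x w - a * B x w * a) • w = 0 := by
      rw [sub_smul, ← h4, sub_self]
    rcases smul_eq_zero.1 this with h6 | h6
    · exact hne (sub_eq_zero.1 h6)
    · exact hw0 h6
  have h6 : (a - 1) * (a + 1) = 0 := by
    have : B x w * ((a - 1) * (a + 1)) = 0 := by linear_combination -h5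
    rcases mul_eq_zero.1 this with h7 | h7
    · exact absurd h7 hxw
    · exact h7
  rcases mul_eq_zero.1 h6 with h7 | h7
  · left
    have : a = 1 := sub_eq_zero.1 h7
    rw [this, one_smul] at hv2
    exact hv2.symm
  · right
    have : a = -1 := eq_neg_of_add_eq_zero_left h7
    rw [this, neg_one_smul] at hv2
    rw [hv2, neg_neg]

variable [Fintype F]

omit [Fintype F] in
lemma two_eq_zero_of_p_two (p : ℕ) [Fact p.Prime] [CharP F p] (h2 : p = 2) : (2 : F) = 0 := by
  have := CharP.cast_eq_zero F p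
  rw [h2] at this
  exact_mod_cast this

/-- an element of the `p`-group `US` cannot negate a vector -/
lemma US_fix_of_pm (p : ℕ) [Fact p.Prime] [CharP F p] {z : SpG m F} (hz : z ∈ US m F) {v : Vec m F}
    (h : z.1 *ᵥ v = v ∨ z.1 *ᵥ v = -v) : z.1 *ᵥ v = v := by
  rcases h with h | h
  · exact h
  · by_cases h2 : p = 2
    · rw [h]
      have h3 : (2 : F) = 0 := two_eq_zero_of_p_two p h2
      have : v + v = 0 := by rw [← two_smul F v, h3, zero_smul]
      exact neg_eq_of_add_eq_zero_left this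
    · obtain ⟨k, hk⟩ := US_isPGroup (m := m) (F := F) p ⟨z, hz⟩
      have hk' : z ^ p ^ k = 1 := by
        have := congrArg Subtype.val hk
        simpa using this
      have h3 : z.1 *ᵥ v = (-1 : F) • v := by rw [h, neg_one_smul]
      have h4 := pow_mulVec_of_smul z h3 (p ^ k)
      have hodd : Odd (p ^ k) := (Nat.Prime.odd_of_ne_two Fact.out h2).pow
      rw [hk', one_mulVec', hodd.neg_one_pow, neg_one_smul] at h4
      rw [h, ← h4]

/-- commuting images of elements of `US` come from commuting elements -/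
lemma comm_lift [NeZero m] {g h : SpG m F} (hg : g ∈ US m F) (hh : h ∈ US m F)
    (hc : pr g * pr h = pr h * pr g) : g * h = h * g := by
  rw [← map_mul, ← map_mul] at hc
  apply eq_of_pr_eq_of_fix hc (eV_ne_zero (0 : Fin m))
  rw [US_fix_e0 (Subgroup.mul_mem _ hg hh), US_fix_e0 (Subgroup.mul_mem _ hh hg)]

lemma mem_Ub_iff {y : Cfsg.PSp m F} : y ∈ Ub m F ↔ ∃ g ∈ US m F, pr g = y := Iff.rfl

/-- a lift of a central element of `Ub` commutes with `US` -/
lemma comm_of_mem_ZU [NeZero m] {z : SpG m F} (hz : z ∈ US m F) (hZ : pr z ∈ ZU m F)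
    {g : SpG m F} (hg : g ∈ US m F) : z * g = g * z := by
  apply comm_lift hz hg
  exact ((mem_ZU.1 hZ).2 _ ⟨g, hg, rfl⟩).symm

/-- (C1) a lift in `US` of a central element of `Ub` fixes the Lagrangian pointwise -/
lemma mem_NS_of_mem_ZU [NeZero m] (p : ℕ) [Fact p.Prime] [CharP F p] {z : SpG m F}
    (hz : z ∈ US m F) (hZ : pr z ∈ ZU m F) :
    z ∈ NS m F := by
  intro v hv
  by_cases hv0 : v = 0
  · rw [hv0, mulVec_zero]
  · apply US_fix_of_pm p hz
    have h1 := comm_of_mem_ZU hz hZ (NS_le_US (T_mem_NS hv 1))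
    have h2 : z * T v 1 * z⁻¹ = T v 1 := by rw [h1]; group
    rw [conj_T] at h2
    exact T_one_eq hv0 h2

/-! ### The action of the root elements of the Levi part -/

omit [Fintype F] in
lemma single_mulVec' (i j : Fin m) (c : F) (u : Fin m → F) :
    (Matrix.single i j c) *ᵥ u = Pi.single i (c * u j) := by
  rw [Matrix.single_mulVec]
  ext k
  simp [Function.update_apply, Pi.single_apply]

lemma dHom_xr_mulVec {i j : Fin m} (hij : i ≠ j) (x : Vec m F) :
    (dHom (xr i j (1 : F))).1 *ᵥ x = x + x (Sum.inl j) • eV i - x (Sum.inr i) • fV j := by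
  rw [dHom_mulVec, ← Cfsg.Agent.Lib.Helper5.AutPSLn.xr_neg hij,
    Cfsg.Agent.Lib.Helper5.AutPSLn.xr_val hij, Cfsg.Agent.Lib.Helper5.AutPSLn.xr_val hij,
    transpose_add, transpose_one, transpose_single, add_mulVec, add_mulVec, one_mulVec, one_mulVec,
    single_mulVec', single_mulVec']
  ext k
  rcases k with k | k
  · simp [eV, fV, Pi.single_apply]
  · simp [eV, fV, Pi.single_apply]
    split_ifs <;> ring

lemma dHom_xr_mem {i j : Fin m} (hij : i < j) : dHom (xr i j (1 : F)) ∈ US m F :=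
  DS_le_US ⟨_, Cfsg.Agent.Lib.Helper5.AutPSLn.xr_mem_Uni hij 1, rfl⟩

/-- the displacement of `f_k` under an element of `NS` -/
def ell (z : SpG m F) (k : Fin m) : Vec m F := z.1 *ᵥ fV k - fV k

omit [Fintype F] in
lemma ell_inL {z : SpG m F} (hz : z ∈ NS m F) (k : Fin m) : InL (ell z k) := NS_sub_inL hz _

omit [Fintype F] in
lemma z_fV (z : SpG m F) (k : Fin m) : z.1 *ᵥ fV k = fV k + ell z k := by
  unfold ell; abel

omit [Fintype F] in
/-- symmetry of the displacement matrix -/
lemma ell_symm {z : SpG m F} (hz : z ∈ NS m F) (k l : Fin m) :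
    ell z l (Sum.inl k) = ell z k (Sum.inl l) := by
  have h1 : B (z.1 *ᵥ fV k) (z.1 *ᵥ fV l) = B (fV k : Vec m F) (fV l) := B_mulVec z _ _
  rw [z_fV, z_fV] at h1
  have h2 : B (fV k + ell z k) (fV l + ell z l) =
      B (fV k : Vec m F) (fV l) + B (fV k) (ell z l) + B (ell z k) (fV l) + B (ell z k) (ell z l) := by
    show Cfsg.sympForm m F _ _ = _
    rw [sympForm_add_left, sympForm_add_right, sympForm_add_right]
    show _ = B _ _ + B _ _ + B _ _ + B _ _
    ring
  rw [h2, (ell_inL hz k).B_eq_zero (ell_inL hz l)] at h1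
  simp only [B_fV_left, B_fV_right] at h1
  linear_combination h1

/-- (C2) the key relation from commuting with a root element of the Levi part -/
lemma ell_rel [NeZero m] {z : SpG m F} (hz : z ∈ US m F) (hzN : z ∈ NS m F) (hZ : pr z ∈ ZU m F)
    {i j : Fin m} (hij : i < j) : ell z j = -(ell z i (Sum.inl j) • eV i) := by
  have h1 := comm_of_mem_ZU hz hZ (dHom_xr_mem (F := F) hij)
  have h2 := congrArg (fun g : SpG m F => g.1 *ᵥ fV i) h1
  simp only [mul_mulVec] at h2
  rw [dHom_xr_mulVec hij.ne, dHom_xr_mulVec hij.ne] at h2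
  have e1 : (fV i : Vec m F) (Sum.inl j) = 0 := by simp [fV]
  have e2 : (fV i : Vec m F) (Sum.inr i) = 1 := by simp [fV]
  rw [e1, e2, zero_smul, add_zero, one_smul, mulVec_sub, z_fV, z_fV] at h2
  have e3 : (fV i + ell z i : Vec m F) (Sum.inr i) = 1 := by
    rw [Pi.add_apply, e2, ell_inL hzN i i, add_zero]
  have e4 : (fV i + ell z i : Vec m F) (Sum.inl j) = ell z i (Sum.inl j) := by
    rw [Pi.add_apply, e1, zero_add]
  rw [e3, e4, one_smul] at h2
  -- h2 : fV i + ell i - (fV j + ell j) = fV i + ell i + c • eV i - fV j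
  have h3 : ell z j = -(ell z i (Sum.inl j) • eV i) := by
    have := h2
    have h4 : ell z j = (fV i + ell z i - fV j) - (fV i + ell z i - (fV j + ell z j)) := by abel
    rw [h4, this]
    abel
  exact h3

end Cfsg.Agent.Lib.Helper45.SpAut

namespace Cfsg.Agent.Lib.Helper45.SpAut

open Matrix Cfsg.Agent.Lib.Helper13 Pointwise
open Cfsg.Agent.Lib.Helper5.AutPSLn (Par IsUni Uni xr)

variable {F : Type*} [Field F] {m : ℕ}

lemma sp_ext_basis {g h : SpG m F}
    (H : ∀ i : Fin m ⊕ Fin m, g.1 *ᵥ Pi.single i 1 = h.1 *ᵥ Pi.single i 1) : g = h := by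
  apply Subtype.ext
  ext i j
  have := congrFun (H j) i
  rwa [mulVec_single_one, mulVec_single_one] at this

lemma eV_apply_inl (i k : Fin m) : (eV i : Vec m F) (Sum.inl k) = if k = i then 1 else 0 := by
  simp [eV, Pi.single_apply]

lemma eV_apply_inr (i k : Fin m) : (eV i : Vec m F) (Sum.inr k) = 0 := by
  simp [eV]

lemma fV_apply_inr (i k : Fin m) : (fV i : Vec m F) (Sum.inr k) = if k = i then 1 else 0 := by
  simp [fV, Pi.single_apply]

lemma fV_apply_inl (i k : Fin m) : (fV i : Vec m F) (Sum.inl k) = 0 := by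
  simp [fV]

variable [Fintype F]

/-- the centre of `Ub` consists of images of the elements `Psi e₀ e₁ a b` with `2 b = 0` -/
theorem ZU_le [NeZero m] (hm : 2 ≤ m) (p : ℕ) [Fact p.Prime] [CharP F p] {y : Cfsg.PSp m F}
    (hy : y ∈ ZU m F) :
    ∃ a b : F, 2 * b = 0 ∧ y = pr (Psi (eV 0) (eV ⟨1, hm⟩) a b) := by
  obtain ⟨z, hz, rfl⟩ := (mem_ZU.1 hy).1
  have hzN : z ∈ NS m F := mem_NS_of_mem_ZU p hz hy
  set i1 : Fin m := ⟨1, hm⟩ with hi1
  have h01 : (0 : Fin m) < i1 := by
    rw [Fin.lt_def]; simp [hi1]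
  have hne : i1 ≠ 0 := h01.ne'
  -- (i) displacement vanishes for j ≥ 2
  have hl2 : ∀ j : Fin m, j ≠ 0 → j ≠ i1 → ell z j = 0 := by
    intro j hj0 hj1
    have h0j : (0 : Fin m) < j := Fin.pos_iff_ne_zero.2 hj0
    have h1j : i1 < j := by
      rw [Fin.lt_def]
      have : (j : ℕ) ≠ 0 := fun h => hj0 (Fin.ext h)
      have : (j : ℕ) ≠ 1 := fun h => hj1 (Fin.ext h)
      simp only [hi1]
      omega
    have r0 := ell_rel hz hzN hy h0j
    have r1 := ell_rel hz hzN hy h1j
    have h2 := congrFun r1 (Sum.inl 0)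
    rw [Pi.neg_apply, Pi.smul_apply, eV_apply_inl, if_neg hne.symm, smul_zero, neg_zero] at h2
    have h3 := congrFun r0 (Sum.inl 0)
    rw [Pi.neg_apply, Pi.smul_apply, eV_apply_inl, if_pos rfl, smul_eq_mul, mul_one, h2] at h3
    rw [r0, neg_eq_zero.1 h3.symm, zero_smul, neg_zero]
  -- (ii) the displacement of f₁
  have r01 := ell_rel hz hzN hy h01
  set b := ell z i1 (Sum.inl 0) with hb
  have hsym : ell z i1 (Sum.inl 0) = ell z 0 (Sum.inl i1) := ell_symm hzN 0 i1
  have hb2 : b = -ell z 0 (Sum.inl i1) := by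
    have := congrFun r01 (Sum.inl 0)
    rw [Pi.neg_apply, Pi.smul_apply, eV_apply_inl, if_pos rfl, smul_eq_mul, mul_one] at this
    exact this
  have h2b : 2 * b = 0 := by
    have : b = -b := by
      nth_rewrite 2 [hb]
      rw [hsym]; exact hb2
    linear_combination this
  have hl1 : ell z i1 = b • eV 0 := by
    rw [r01, ← hsym, ← hb]
    have : -b = b := by linear_combination -h2b
    rw [← neg_smul, this]
  -- (iii) the displacement of f₀
  set a := ell z 0 (Sum.inl 0) with ha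
  have hl0 : ell z 0 = a • eV 0 + b • eV i1 := by
    ext k
    rcases k with k | k
    · rw [Pi.add_apply, Pi.smul_apply, Pi.smul_apply, eV_apply_inl, eV_apply_inl]
      by_cases hk0 : k = 0
      · subst hk0
        rw [if_pos rfl, if_neg hne.symm]
        simp [ha]
      · rw [if_neg hk0]
        by_cases hk1 : k = i1
        · rw [if_pos hk1, hk1, ← hsym]
          simp [hb]
        · rw [if_neg hk1, ← ell_symm hzN 0 k, hl2 k hk0 hk1]
          simp
    · rw [ell_inL hzN 0 k, Pi.add_apply, Pi.smul_apply, Pi.smul_apply, eV_apply_inr, eV_apply_inr]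
      simp
  refine ⟨a, b, h2b, ?_⟩
  congr 1
  apply sp_ext_basis
  have hperp : B (eV 0 : Vec m F) (eV i1) = 0 := (inL_eV 0).B_eq_zero (inL_eV i1)
  intro k
  rcases k with k | k
  · show z.1 *ᵥ eV k = (Psi (eV 0) (eV i1) a b).1 *ᵥ eV k
    rw [hzN _ (inL_eV k), Psi_mulVec hperp, (inL_eV k).B_eq_zero (inL_eV 0),
      (inL_eV k).B_eq_zero (inL_eV i1)]
    simp
  · show z.1 *ᵥ fV k = (Psi (eV 0) (eV i1) a b).1 *ᵥ fV k
    rw [z_fV, Psi_mulVec hperp, B_eV_right, B_eV_right, fV_apply_inr, fV_apply_inr]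
    by_cases hk0 : k = 0
    · subst hk0
      rw [hl0, if_pos rfl, if_neg hne]
      module
    · rw [if_neg (fun h => hk0 h.symm)]
      by_cases hk1 : k = i1
      · subst hk1
        rw [if_pos rfl, hl1]
        module
      · rw [if_neg (fun h => hk1 h.symm), hl2 k hk0 hk1]
        module

/-- the transvection subgroup at `e₀` is central in `Ub` -/
theorem Xb_le_ZU [NeZero m] : Xb (eV 0 : Vec m F) ≤ ZU m F := by
  intro y hy
  obtain ⟨c, rfl⟩ := mem_Xb.1 hy
  rw [mem_ZU]
  refine ⟨⟨_, NS_le_US (T_mem_NS (inL_eV 0) c), rfl⟩, ?_⟩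
  rintro _ ⟨g, hg, rfl⟩
  rw [← map_mul, ← map_mul]
  congr 1
  have h1 : g * T (eV 0) c * g⁻¹ = T (eV 0) c := by
    rw [conj_T, US_fix_e0 hg]
  calc g * T (eV 0) c = g * T (eV 0) c * g⁻¹ * g := by group
    _ = T (eV 0) c * g := by rw [h1]

end Cfsg.Agent.Lib.Helper45.SpAut
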