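import Mathlib
import Cfsg.Agent.Lib.Helper45.SpAutCenter

set_option autoImplicit false
set_option linter.unusedSimpArgs false
set_option linter.unusedVariables false
set_option linter.unusedSectionVars false
set_option linter.unnecessarySeqFocus false

/-!
# Characteristic two: transvections are recognised by the orders of products of conjugates
-/

namespace Cfsg.Agent.Lib.Helper45.SpAut

open Matrix Cfsg.Agent.Lib.Helper13 Pointwise
open Cfsg.Agent.Lib.Helper5.AutPSLn (Par IsUni Uni xr)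

variable {F : Type*} [Field F] {m : ℕ}

/-- the product of `y` with any conjugate has order `1`, `2` or not dividing `4` -/
def OT (y : Cfsg.PSp m F) : Prop :=
  ∀ g : Cfsg.PSp m F, (y * (g * y * g⁻¹)) ^ 4 = 1 → (y * (g * y * g⁻¹)) ^ 2 = 1

lemma OT_map (β : MulAut (Cfsg.PSp m F)) {y : Cfsg.PSp m F} (h : OT y) : OT (β y) := by
  intro g hg
  obtain ⟨g0, rfl⟩ := β.surjective g
  have e : β y * (β g0 * β y * (β g0)⁻¹) = β (y * (g0 * y * g0⁻¹)) := by
    simp only [map_mul, map_inv]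
  rw [e, ← map_pow] at hg ⊢
  have h1 : (y * (g0 * y * g0⁻¹)) ^ 4 = 1 := by
    apply β.injective
    rw [hg, map_one]
  rw [h g0 h1, map_one]

/-- in characteristic two every symplectic transvection has the property `OT` -/
theorem OT_transv [NeZero m] (hm : 2 ≤ m) (h2 : (2 : F) = 0) (v : Vec m F) (c : F) :
    OT (pr (T v c)) := by
  intro g hg
  obtain ⟨h, rfl⟩ := pr_surjective g
  have e : pr (T v c) * (pr h * pr (T v c) * (pr h)⁻¹) = pr (T v c * T (h.1 *ᵥ v) c) := by
    rw [← conj_T]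
    simp only [map_mul, map_inv]
  rw [e, ← map_pow] at hg ⊢
  obtain ⟨w, hw⟩ : ∃ w : Vec m F, w = h.1 *ᵥ v := ⟨_, rfl⟩
  rw [← hw] at hg ⊢
  obtain ⟨u, hu⟩ : ∃ u : SpG m F, u = T v c * T w c := ⟨_, rfl⟩
  rw [← hu] at hg ⊢
  have hcc : c + c = 0 := by rw [← two_mul, h2, zero_mul]
  by_cases hc : c = 0
  · have : u = 1 := by rw [hu, hc, T_zero, T_zero, mul_one]
    rw [this, one_pow, map_one]
  by_cases hs : B v w = 0
  · -- commuting case
    have : u ^ 2 = 1 := by
      rw [hu, sq]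
      calc T v c * T w c * (T v c * T w c) = T v c * (T w c * T v c) * T w c := by group
        _ = T v c * (T v c * T w c) * T w c := by rw [T_comm_of_perp hs]
        _ = (T v c * T v c) * (T w c * T w c) := by group
        _ = 1 := by rw [T_add, T_add, hcc, T_zero, T_zero, mul_one]
    rw [this, map_one]
  · -- non-commuting case: the fourth power is not trivial
    exfalso
    obtain ⟨x, hx, hxv, hxw⟩ := exists_perp2 hm v w
    have a1 : (T w c).1 *ᵥ x = x := by
      rw [T_mulVec, hxw, mul_zero, zero_smul, add_zero]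
    have a2 : (T v c).1 *ᵥ x = x := by
      rw [T_mulVec, hxv, mul_zero, zero_smul, add_zero]
    have hux : u.1 *ᵥ x = x := by
      rw [hu, mul_mulVec, a1, a2]
    have hu4 : u ^ 4 = 1 := by
      apply eq_of_pr_eq_of_fix (by rw [hg, map_one]) hx
      have h4 : (u ^ 4).1 *ᵥ x = (1 : F) ^ 4 • x := pow_mulVec_of_smul u (by rw [hux, one_smul]) 4
      rw [h4, one_pow, one_smul, one_mulVec']
    obtain ⟨s, hs'⟩ : ∃ s : F, s = B v w := ⟨_, rfl⟩
    rw [← hs'] at hs
    obtain ⟨τ, hτ⟩ : ∃ τ : F, τ = c * s := ⟨_, rfl⟩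
    have hwv : B w v = -s := by rw [hs', B_swap w v]
    have b1 : (T w c).1 *ᵥ v = v + τ • w := by
      rw [T_mulVec, ← hs', ← hτ]
    have b2 : (T v c).1 *ᵥ v = v := by
      rw [T_mulVec, show B v v = 0 from sympForm_self m v, mul_zero, zero_smul, add_zero]
    have b3 : (T v c).1 *ᵥ w = w + (-τ) • v := by
      rw [T_mulVec, hwv, hτ]
      congr 2
      ring
    have b4 : (T w c).1 *ᵥ w = w := by
      rw [T_mulVec, show B w w = 0 from sympForm_self m w, mul_zero, zero_smul, add_zero]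
    have huv : u.1 *ᵥ v = (1 - τ ^ 2) • v + τ • w := by
      rw [hu, mul_mulVec, b1, mulVec_add, mulVec_smul, b2, b3]
      module
    have huw : u.1 *ᵥ w = (-τ) • v + w := by
      rw [hu, mul_mulVec, b4, b3]
      module
    have hlin : ∀ α β : F, u.1 *ᵥ (α • v + β • w) =
        (α * (1 - τ ^ 2) - β * τ) • v + (α * τ + β) • w := by
      intro α β
      rw [mulVec_add, mulVec_smul, mulVec_smul, huv, huw]
      module
    obtain ⟨β4, h4w⟩ : ∃ β4 : F, (u ^ 4).1 *ᵥ w = (τ ^ 7) • v + β4 • w := by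
      have e1 : (u ^ 4) = u * (u * (u * u)) := by
        simp only [pow_succ, pow_zero, one_mul, mul_assoc]
      have e0 : w = (0 : F) • v + (1 : F) • w := by module
      rw [e1, mul_mulVec, mul_mulVec, mul_mulVec]
      nth_rewrite 1 [e0]
      rw [hlin, hlin, hlin, hlin]
      have hα : (((0 * (1 - τ ^ 2) - 1 * τ) * (1 - τ ^ 2) - (0 * τ + 1) * τ) * (1 - τ ^ 2) -
            ((0 * (1 - τ ^ 2) - 1 * τ) * τ + (0 * τ + 1)) * τ) * (1 - τ ^ 2) -
          (((0 * (1 - τ ^ 2) - 1 * τ) * (1 - τ ^ 2) - (0 * τ + 1) * τ) * τ +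
            ((0 * (1 - τ ^ 2) - 1 * τ) * τ + (0 * τ + 1))) * τ = τ ^ 7 := by
        linear_combination (-3 * τ ^ 5 + 5 * τ ^ 3 - 2 * τ) * h2
      rw [hα]
      exact ⟨_, rfl⟩
    rw [hu4, one_mulVec'] at h4w
    have h5 : B w w = B ((τ ^ 7) • v + β4 • w) w := by
      rw [← h4w]
    rw [show B w w = 0 from sympForm_self m w] at h5
    have h6 : B ((τ ^ 7) • v + β4 • w) w = τ ^ 7 * s := by
      show Cfsg.sympForm m F _ _ = _
      rw [sympForm_add_left, sympForm_smul_left, sympForm_smul_left, sympForm_self, mul_zero,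
        add_zero, hs']
    rw [h6] at h5
    have hτne : τ ≠ 0 := hτ ▸ mul_ne_zero hc hs
    exact (mul_ne_zero (pow_ne_zero 7 hτne) hs) h5.symm

/-- in characteristic two and rank at least three, the non-transvection central elements of the
Sylow subgroup do not have the property `OT` -/
theorem OT_fail [NeZero m] (hm : 3 ≤ m) (h2 : (2 : F) = 0) (a b : F) (hb : b ≠ 0) :
    ¬ OT (pr (Psi (eV 0) (eV ⟨1, by omega⟩) a b : SpG m F)) := by
  intro hOT
  obtain ⟨i1, hi1⟩ : ∃ i : Fin m, i = ⟨1, by omega⟩ := ⟨_, rfl⟩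
  obtain ⟨i2, hi2⟩ : ∃ i : Fin m, i = ⟨2, by omega⟩ := ⟨_, rfl⟩
  rw [← hi1] at hOT
  have h01 : (0 : Fin m) ≠ i1 := by
    rw [hi1]; intro h; have := congrArg Fin.val h; simp at this
  have h02 : (0 : Fin m) ≠ i2 := by
    rw [hi2]; intro h; have := congrArg Fin.val h; simp at this
  have h12 : i1 ≠ i2 := by
    rw [hi1, hi2]; intro h; have := congrArg Fin.val h; simp at this
  have g00 : B (eV i2 : Vec m F) (fV 0) = 0 := by
    rw [B_fV_right, eV_apply_inl, if_neg h02, neg_zero]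
  -- Witt's lemma
  obtain ⟨Q, hQ⟩ := exists_sp_frame (F := F) m 2 ![eV 0, eV i1] ![eV i2, fV 0]
    (by
      rw [LinearIndependent.pair_iff]
      intro s t hst
      have e0 := congrFun hst (Sum.inl 0)
      have e1 := congrFun hst (Sum.inl i1)
      simp only [Pi.add_apply, Pi.smul_apply, eV_apply_inl, if_true, if_neg h01, ↓reduceIte,
        if_neg h01.symm, smul_eq_mul, mul_one, mul_zero, add_zero, zero_add, Pi.zero_apply] at e0 e1
      exact ⟨e0, e1⟩)
    (by
      rw [LinearIndependent.pair_iff]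
      intro s t hst
      have e0 := congrFun hst (Sum.inl i2)
      have e1 := congrFun hst (Sum.inr 0)
      simp only [Pi.add_apply, Pi.smul_apply, eV_apply_inl, eV_apply_inr, fV_apply_inl,
        fV_apply_inr, if_true, ↓reduceIte, smul_eq_mul, mul_one, mul_zero, add_zero, zero_add,
        Pi.zero_apply] at e0 e1
      exact ⟨e0, e1⟩)
    (by
      intro i j
      fin_cases i <;> fin_cases j <;>
        simp only [Fin.zero_eta, Fin.mk_one, Matrix.cons_val_zero, Matrix.cons_val_one,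
          Matrix.head_cons, Fin.isValue]
      · rw [sympForm_self, sympForm_self]
      · rw [show Cfsg.sympForm m F (eV i2) (fV 0) = 0 from g00]
        exact ((inL_eV 0).B_eq_zero (inL_eV i1)).symm
      · rw [show Cfsg.sympForm m F (fV 0) (eV i2) = 0 from B_eq_zero_comm.1 g00]
        exact ((inL_eV i1).B_eq_zero (inL_eV 0)).symm
      · rw [sympForm_self, sympForm_self])
  have hQ0 : Q.1 *ᵥ (eV 0 : Vec m F) = eV i2 := hQ 0
  have hQ1 : Q.1 *ᵥ (eV i1 : Vec m F) = fV 0 := hQ 1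
  obtain ⟨z, hz⟩ : ∃ z : SpG m F, z = Psi (eV 0) (eV i1) a b := ⟨_, rfl⟩
  obtain ⟨z', hz'⟩ : ∃ z' : SpG m F, z' = Psi (eV i2) (fV 0) a b := ⟨_, rfl⟩
  have hconj : Q * z * Q⁻¹ = z' := by rw [hz, hz', conj_Psi, hQ0, hQ1]
  rw [← hz] at hOT
  have key := hOT (pr Q)
  have e : pr z * (pr Q * pr z * (pr Q)⁻¹) = pr (z * z') := by
    rw [← hconj]; simp only [map_mul, map_inv]
  rw [e, ← map_pow, ← map_pow] at key
  obtain ⟨u, hu⟩ : ∃ u : SpG m F, u = z * z' := ⟨_, rfl⟩
  rw [← hu] at key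
  have p01 : B (eV 0 : Vec m F) (eV i1) = 0 := (inL_eV 0).B_eq_zero (inL_eV i1)
  -- the action of `z` and `z'`
  have hzx : ∀ x : Vec m F, z.1 *ᵥ x = x + (a * B x (eV 0)) • eV 0 + (b * B x (eV 0)) • eV i1 +
      (b * B x (eV i1)) • eV 0 := by
    intro x; rw [hz, Psi_mulVec p01]
  have hz'x : ∀ x : Vec m F, z'.1 *ᵥ x = x + (a * B x (eV i2)) • eV i2 + (b * B x (eV i2)) • fV 0 +
      (b * B x (fV 0)) • eV i2 := by
    intro x; rw [hz', Psi_mulVec g00]
  have huL : ∀ y : Vec m F, InL y → u.1 *ᵥ y = y + (b * B y (fV 0)) • eV i2 := by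
    intro y hy
    have h1 : z'.1 *ᵥ y = y + (b * B y (fV 0)) • eV i2 := by
      rw [hz'x, hy.B_eq_zero (inL_eV i2)]
      module
    have h3 : InL (y + (b * B y (fV 0)) • eV i2) := hy.add ((inL_eV i2).smul _)
    rw [hu, mul_mulVec, h1, hzx, h3.B_eq_zero (inL_eV 0), h3.B_eq_zero (inL_eV i1)]
    module
  have hu2 : u ^ 2 ∈ NS m F := by
    intro y hy
    have h3 : InL (y + (b * B y (fV 0)) • eV i2) := hy.add ((inL_eV i2).smul _)
    rw [sq, mul_mulVec, huL y hy, huL _ h3]
    have : B (y + (b * B y (fV 0)) • eV i2) (fV 0) = B y (fV 0) := by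
      show Cfsg.sympForm m F _ _ = _
      rw [sympForm_add_left, sympForm_smul_left, show Cfsg.sympForm m F (eV i2) (fV 0) = 0 from g00,
        mul_zero, add_zero]
    rw [this]
    have h4 : y + (b * B y (fV 0)) • eV i2 + (b * B y (fV 0)) • eV i2 =
        y + ((2 : F) * (b * B y (fV 0))) • (eV i2 : Vec m F) := by module
    rw [h4, h2, zero_mul, zero_smul, add_zero]
  have hu4 : u ^ 4 = 1 := by
    have e4 : u ^ 4 = (u ^ 2) ^ 2 := by rw [← pow_mul]
    rw [e4]
    apply sp_ext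
    intro x
    rw [NS_pow_mulVec hu2, one_mulVec']
    push_cast
    rw [h2, zero_smul, add_zero]
  have h1 := key (by rw [hu4, map_one])
  have hu2' : u ^ 2 = 1 := by
    apply eq_of_pr_eq_of_fix (h1.trans (map_one pr).symm) (eV_ne_zero i1)
    rw [hu2 _ (inL_eV i1), one_mulVec']
  -- contradiction at `f₁`
  have c1 : z'.1 *ᵥ (fV i1 : Vec m F) = fV i1 := by
    rw [hz'x, B_eV_right, B_fV_right, fV_apply_inr, if_neg h12.symm, fV_apply_inl]
    simp
  have c2 : z.1 *ᵥ (fV i1 : Vec m F) = fV i1 + b • eV 0 := by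
    rw [hzx, B_eV_right, B_eV_right, fV_apply_inr, if_neg h01, fV_apply_inr, if_pos rfl]
    module
  have c3 : u.1 *ᵥ (fV i1 : Vec m F) = fV i1 + b • eV 0 := by
    rw [hu, mul_mulVec, c1, c2]
  have c4 : u.1 *ᵥ (eV 0 : Vec m F) = eV 0 + (-b) • eV i2 := by
    rw [huL _ (inL_eV 0), B_fV_right, eV_apply_inl, if_pos rfl]
    congr 2
    ring
  have c5 : (u ^ 2).1 *ᵥ (fV i1 : Vec m F) = fV i1 + b • eV 0 + b • (eV 0 + (-b) • eV i2) := by
    rw [sq, mul_mulVec, c3, mulVec_add, mulVec_smul, c3, c4]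
  rw [hu2', one_mulVec'] at c5
  have c6 := congrFun c5 (Sum.inl i2)
  simp only [Pi.add_apply, Pi.smul_apply, eV_apply_inl, fV_apply_inl, if_neg h02.symm, if_true,
    ↓reduceIte, smul_eq_mul, mul_zero, mul_one, zero_add, add_zero] at c6
  have : b * b = 0 := by linear_combination c6
  exact hb (mul_self_eq_zero.1 this)

end Cfsg.Agent.Lib.Helper45.SpAut
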