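import Mathlib
import Cfsg.Agent.Lib.Helper45.SpAutOT

set_option autoImplicit false
set_option linter.unusedSimpArgs false
set_option linter.unusedVariables false
set_option linter.unusedSectionVars false
set_option linter.unnecessarySeqFocus false

/-!
# Every automorphism of `PSp_{2m}(F)` permutes the transvection subgroups
-/

namespace Cfsg.Agent.Lib.Helper45.SpAut

open Matrix Cfsg.Agent.Lib.Helper13 Pointwise
open Cfsg.Agent.Lib.Helper5.AutPSLn (Par IsUni Uni xr)

variable {F : Type*} [Field F] [Fintype F] {m : ℕ}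

/-- an automorphism normalizing the centre of `Ub` maps the transvection group at `e₀` into itself -/
lemma smul_Xb_e0_le [NeZero m] (hm : 2 ≤ m) (p : ℕ) [Fact p.Prime] [CharP F p]
    (h4 : m = 2 → p ≠ 2) {β : MulAut (Cfsg.PSp m F)} (hZ : β • ZU m F = ZU m F) :
    β • Xb (eV 0 : Vec m F) ≤ Xb (eV 0) := by
  intro y hy
  rw [Subgroup.mem_pointwise_smul_iff_inv_smul_mem] at hy
  obtain ⟨c0, hc0⟩ := mem_Xb.1 hy
  have hy2 : y = β (pr (T (eV 0) c0)) := by
    rw [← hc0, MulAut.smul_def, MulAut.apply_inv_self]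
  have h1 : y ∈ ZU m F := by
    rw [← hZ, Subgroup.mem_pointwise_smul_iff_inv_smul_mem]
    exact Xb_le_ZU hy
  obtain ⟨a, b, h2b, hab⟩ := ZU_le hm p h1
  have hb : b = 0 := by
    by_cases hp2 : p = 2
    · have h2 : (2 : F) = 0 := two_eq_zero_of_p_two p hp2
      have hm3 : 3 ≤ m := by
        rcases Nat.lt_or_ge m 3 with h | h
        · exact absurd hp2 (h4 (by omega))
        · exact h
      by_contra hb
      have hOT : OT y := by
        rw [hy2]
        exact OT_map β (OT_transv hm h2 _ _)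
      rw [hab] at hOT
      exact OT_fail hm3 h2 a b hb hOT
    · have h2 : (2 : F) ≠ 0 := by
        intro h
        have h3 : ((2 : ℕ) : F) = 0 := by exact_mod_cast h
        have h5 := (CharP.cast_eq_zero_iff F p 2).1 h3
        exact hp2 ((Nat.prime_dvd_prime_iff_eq Fact.out Nat.prime_two).1 h5)
      rcases mul_eq_zero.1 h2b with h | h
      · exact absurd h h2
      · exact h
  rw [hab, hb, Psi_zero]
  exact pr_T_mem _ _

lemma smul_Xb_e0_eq [NeZero m] (hm : 2 ≤ m) (p : ℕ) [Fact p.Prime] [CharP F p]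
    (h4 : m = 2 → p ≠ 2) {β : MulAut (Cfsg.PSp m F)} (hZ : β • ZU m F = ZU m F) :
    β • Xb (eV 0 : Vec m F) = Xb (eV 0) := by
  apply le_antisymm (smul_Xb_e0_le hm p h4 hZ)
  have hZ' : β⁻¹ • ZU m F = ZU m F := by
    nth_rewrite 1 [← hZ]
    rw [inv_smul_smul]
  have := smul_Xb_e0_le hm p h4 hZ'
  intro y hy
  rw [Subgroup.mem_pointwise_smul_iff_inv_smul_mem]
  apply this
  exact Subgroup.smul_mem_pointwise_smul _ _ _ hy

/-- Step A for the base point -/
theorem exists_rel_e0 [NeZero m] (hm : 2 ≤ m) (p : ℕ) [Fact p.Prime] [CharP F p]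
    (h4 : m = 2 → p ≠ 2) (β : MulAut (Cfsg.PSp m F)) :
    ∃ v' : Vec m F, v' ≠ 0 ∧ Rel β (eV 0) v' := by
  obtain ⟨c, hc⟩ := exists_conj_normalize p β
  have hZ := smul_ZU hc
  have h1 : Rel (MulAut.conj c * β) (eV 0 : Vec m F) (eV 0) := smul_Xb_e0_eq hm p h4 hZ
  obtain ⟨g, rfl⟩ := pr_surjective c
  have h2 : Rel (MulAut.conj (pr g⁻¹)) (eV 0 : Vec m F) ((g⁻¹).1 *ᵥ eV 0) := rel_conj _ _
  have h3 := h1.comp h2
  have e : MulAut.conj (pr g⁻¹) * (MulAut.conj (pr g) * β) = β := by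
    rw [← mul_assoc, ← map_mul, ← map_mul, inv_mul_cancel, map_one, map_one, one_mul]
  rw [e] at h3
  exact ⟨_, mulVec_ne_zero _ (eV_ne_zero 0), h3⟩

/-- Step A: every automorphism maps transvection subgroups to transvection subgroups -/
theorem exists_rel [NeZero m] (hm : 2 ≤ m) (p : ℕ) [Fact p.Prime] [CharP F p]
    (h4 : m = 2 → p ≠ 2) (β : MulAut (Cfsg.PSp m F)) {v : Vec m F} (hv : v ≠ 0) :
    ∃ v' : Vec m F, v' ≠ 0 ∧ Rel β v v' := by
  obtain ⟨v0, hv0, h0⟩ := exists_rel_e0 hm p h4 β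
  obtain ⟨A, -, hA⟩ := exists_transv_of_ne_zero m (eV 0 : Vec m F) v (eV_ne_zero 0) hv
  obtain ⟨g', hg'⟩ := pr_surjective (β (pr A))
  have := h0.equiv hg'.symm
  rw [hA] at this
  exact ⟨_, mulVec_ne_zero _ hv0, this⟩

end Cfsg.Agent.Lib.Helper45.SpAut
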