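import Mathlib
import Cfsg.Agent.Lib.Helper45.SpAutStepA

set_option autoImplicit false
set_option linter.unusedSimpArgs false
set_option linter.unusedVariables false
set_option linter.unusedSectionVars false
set_option linter.unnecessarySeqFocus false

/-!
# Normalizing an automorphism of `PSp_{2m}(F)` on the standard symplectic frame
-/

namespace Cfsg.Agent.Lib.Helper45.SpAut

open Matrix Cfsg.Agent.Lib.Helper13 Pointwise
open Cfsg.Agent.Lib.Helper5.AutPSLn (Par)

variable {F : Type*} [Field F] {m : ℕ}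

/-- the conclusion of Step A, as a hypothesis for the later steps -/
def StepA (m : ℕ) (F : Type*) [Field F] : Prop :=
  ∀ (β : MulAut (Cfsg.PSp m F)) (v : Vec m F), v ≠ 0 → ∃ v' : Vec m F, v' ≠ 0 ∧ Rel β v v'

/-- the conclusion of Step A for a single automorphism -/
def StepAt (β : MulAut (Cfsg.PSp m F)) : Prop :=
  ∀ v : Vec m F, v ≠ 0 → ∃ v' : Vec m F, v' ≠ 0 ∧ Rel β v v'

/-- the standard basis vector at a general index -/
def bV (s : Fin m ⊕ Fin m) : Vec m F := Pi.single s 1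

lemma bV_inl (i : Fin m) : (bV (Sum.inl i) : Vec m F) = eV i := rfl

lemma bV_inr (i : Fin m) : (bV (Sum.inr i) : Vec m F) = fV i := rfl

lemma bV_ne_zero (s : Fin m ⊕ Fin m) : (bV s : Vec m F) ≠ 0 := by
  intro h
  have := congrFun h s
  simp [bV] at this

lemma B_bV_bV (s t : Fin m ⊕ Fin m) : B (bV s : Vec m F) (bV t) = Matrix.J (Fin m) F s t :=
  sympForm_single_single m s t

/-- the partner index -/
def swp (s : Fin m ⊕ Fin m) : Fin m ⊕ Fin m := Sum.swap s

lemma J_swp (s : Fin m ⊕ Fin m) : Matrix.J (Fin m) F s (swp s) ≠ 0 := by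
  rcases s with i | i <;> simp [Matrix.J, swp]

lemma J_eq_zero_of_ne {s t : Fin m ⊕ Fin m} (h : t ≠ swp s) : Matrix.J (Fin m) F s t = 0 := by
  rcases s with i | i <;> rcases t with j | j
  · simp [Matrix.J]
  · have : i ≠ j := fun e => h (by rw [e]; rfl)
    simp [Matrix.J, Matrix.one_apply, this]
  · have : i ≠ j := fun e => h (by rw [e]; rfl)
    simp [Matrix.J, Matrix.one_apply, this]
  · simp [Matrix.J]

/-- Witt's lemma for a full symplectic frame -/
theorem exists_sp_of_gram (Y : Fin m ⊕ Fin m → Vec m F)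
    (hG : ∀ s t, B (Y s) (Y t) = Matrix.J (Fin m) F s t) :
    ∃ Q : SpG m F, ∀ s, Q.1 *ᵥ bV s = Y s := by
  classical
  let e : Fin m ⊕ Fin m ≃ Fin (m + m) := finSumFinEquiv
  have hx : LinearIndependent F (fun k : Fin (m + m) => (bV (e.symm k) : Vec m F)) := by
    have h1 := (Pi.basisFun F (Fin m ⊕ Fin m)).linearIndependent
    have h2 := h1.comp _ e.symm.injective
    convert h2 using 1
    ext k s
    simp [bV, Pi.basisFun_apply]
  have hy : LinearIndependent F (fun k : Fin (m + m) => Y (e.symm k)) := by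
    rw [Fintype.linearIndependent_iff]
    intro g hg k
    have h1 : ∑ s : Fin m ⊕ Fin m, g (e s) • Y s = 0 := by
      rw [← hg, ← Equiv.sum_comp e.symm]
      apply Finset.sum_congr rfl
      intro i _
      rw [Equiv.apply_symm_apply]
    have h2 : ∀ t : Fin m ⊕ Fin m, ∑ s, g (e s) * Matrix.J (Fin m) F s t = 0 := by
      intro t
      have h3 : sympBilin F m (∑ s : Fin m ⊕ Fin m, g (e s) • Y s) (Y t) = 0 := by
        rw [h1, map_zero, LinearMap.zero_apply]
      rw [LinearMap.map_sum₂] at h3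
      rw [← h3]
      apply Finset.sum_congr rfl
      intro s _
      rw [map_smul, LinearMap.smul_apply, smul_eq_mul, sympBilin_apply, ← hG]
    have h4 := h2 (swp (e.symm k))
    rw [Finset.sum_eq_single (e.symm k)] at h4
    · rw [Equiv.apply_symm_apply] at h4
      rcases mul_eq_zero.1 h4 with h5 | h5
      · exact h5
      · exact absurd h5 (J_swp _)
    · intro s _ hs
      have : swp (e.symm k) ≠ swp s := by
        intro h
        apply hs
        have := congrArg Sum.swap h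
        simpa [swp] using this.symm
      rw [J_eq_zero_of_ne this, mul_zero]
    · intro h; exact absurd (Finset.mem_univ _) h
  obtain ⟨Q, hQ⟩ := exists_sp_frame (F := F) m (m + m) _ _ hx hy (by
    intro i j
    show B _ _ = B _ _
    rw [hG, B_bV_bV])
  refine ⟨Q, fun s => ?_⟩
  have := hQ (e s)
  simpa using this

/-- an automorphism fixes all the points of the standard frame -/
def FixFrame (β : MulAut (Cfsg.PSp m F)) : Prop := ∀ s : Fin m ⊕ Fin m, Rel β (bV s) (bV s)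

lemma FixFrame.eV {β : MulAut (Cfsg.PSp m F)} (h : FixFrame β) (i : Fin m) : Rel β (eV i) (eV i) :=
  h (Sum.inl i)

lemma FixFrame.fV {β : MulAut (Cfsg.PSp m F)} (h : FixFrame β) (i : Fin m) : Rel β (fV i) (fV i) :=
  h (Sum.inr i)

/-- (N1) every automorphism can be adjusted by an inner automorphism to fix the standard frame -/
theorem exists_fixFrame' [NeZero m] (hm : 2 ≤ m) (β : MulAut (Cfsg.PSp m F)) (hA : StepAt β) :
    ∃ Q : SpG m F, FixFrame (MulAut.conj (pr Q) * β) := by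
  classical
  choose! Y0 hY0 hR0 using fun s : Fin m ⊕ Fin m => hA (bV s) (bV_ne_zero s)
  -- Gram values of `Y0`
  have hzero : ∀ s t, t ≠ swp s → B (Y0 s) (Y0 t) = 0 := by
    intro s t hst
    rw [← Rel.perp hm (hR0 s) (hR0 t) (bV_ne_zero s) (bV_ne_zero t) (hY0 s) (hY0 t), B_bV_bV,
      J_eq_zero_of_ne hst]
  have hne : ∀ s, B (Y0 s) (Y0 (swp s)) ≠ 0 := by
    intro s h
    rw [← Rel.perp hm (hR0 s) (hR0 (swp s)) (bV_ne_zero s) (bV_ne_zero _) (hY0 s) (hY0 _),
      B_bV_bV] at h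
    exact J_swp s h
  -- rescale the second halves
  let Y : Fin m ⊕ Fin m → Vec m F := fun s =>
    match s with
    | Sum.inl i => Y0 (Sum.inl i)
    | Sum.inr i => (B (Y0 (Sum.inr i)) (Y0 (Sum.inl i)))⁻¹ • Y0 (Sum.inr i)
  have hYl : ∀ i, Y (Sum.inl i) = Y0 (Sum.inl i) := fun i => rfl
  have hYr : ∀ i, Y (Sum.inr i) = (B (Y0 (Sum.inr i)) (Y0 (Sum.inl i)))⁻¹ • Y0 (Sum.inr i) :=
    fun i => rfl
  have hc : ∀ i : Fin m, B (Y0 (Sum.inr i)) (Y0 (Sum.inl i)) ≠ 0 := fun i => hne (Sum.inr i)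
  have hRel : ∀ s, Rel β (bV s) (Y s) := by
    intro s
    rcases s with i | i
    · exact hR0 _
    · exact (hR0 (Sum.inr i)).par_right ⟨_, inv_ne_zero (hc i), rfl⟩
  have hG : ∀ s t, B (Y s) (Y t) = Matrix.J (Fin m) F s t := by
    intro s t
    rcases s with i | i <;> rcases t with j | j
    · rw [hYl, hYl, hzero _ _ (by show Sum.inl j ≠ Sum.inr i; simp)]
      simp [Matrix.J]
    · rw [hYl, hYr]
      have e1 : B (Y0 (Sum.inl i)) ((B (Y0 (Sum.inr j)) (Y0 (Sum.inl j)))⁻¹ • Y0 (Sum.inr j)) =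
          (B (Y0 (Sum.inr j)) (Y0 (Sum.inl j)))⁻¹ * B (Y0 (Sum.inl i)) (Y0 (Sum.inr j)) :=
        sympForm_smul_right m _ _ _
      rw [e1]
      by_cases hij : i = j
      · subst hij
        rw [B_swap (Y0 (Sum.inl i)), mul_neg, inv_mul_cancel₀ (hc i)]
        simp [Matrix.J]
      · have e2 : B (Y0 (Sum.inl i)) (Y0 (Sum.inr j)) = 0 :=
          hzero _ _ (by show Sum.inr j ≠ Sum.inr i; intro h; exact hij (Sum.inr.inj h).symm)
        rw [e2, mul_zero]
        simp [Matrix.J, Matrix.one_apply, hij]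
    · rw [hYl, hYr]
      have e1 : B ((B (Y0 (Sum.inr i)) (Y0 (Sum.inl i)))⁻¹ • Y0 (Sum.inr i)) (Y0 (Sum.inl j)) =
          (B (Y0 (Sum.inr i)) (Y0 (Sum.inl i)))⁻¹ * B (Y0 (Sum.inr i)) (Y0 (Sum.inl j)) :=
        sympForm_smul_left m _ _ _
      rw [e1]
      by_cases hij : i = j
      · subst hij
        rw [inv_mul_cancel₀ (hc i)]
        simp [Matrix.J]
      · have e2 : B (Y0 (Sum.inr i)) (Y0 (Sum.inl j)) = 0 :=
          hzero _ _ (by show Sum.inl j ≠ Sum.inl i; intro h; exact hij (Sum.inl.inj h).symm)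
        rw [e2, mul_zero]
        simp [Matrix.J, Matrix.one_apply, hij]
    · rw [hYr, hYr]
      have e1 : B ((B (Y0 (Sum.inr i)) (Y0 (Sum.inl i)))⁻¹ • Y0 (Sum.inr i))
          ((B (Y0 (Sum.inr j)) (Y0 (Sum.inl j)))⁻¹ • Y0 (Sum.inr j)) =
          (B (Y0 (Sum.inr i)) (Y0 (Sum.inl i)))⁻¹ * ((B (Y0 (Sum.inr j)) (Y0 (Sum.inl j)))⁻¹ *
            B (Y0 (Sum.inr i)) (Y0 (Sum.inr j))) := by
        show Cfsg.sympForm m F _ _ = _
        rw [sympForm_smul_left, sympForm_smul_right]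
      have e2 : B (Y0 (Sum.inr i)) (Y0 (Sum.inr j)) = 0 :=
        hzero _ _ (by show Sum.inr j ≠ Sum.inl i; simp)
      rw [e1, e2, mul_zero, mul_zero]
      simp [Matrix.J]
  obtain ⟨Q, hQ⟩ := exists_sp_of_gram Y hG
  refine ⟨Q⁻¹, fun s => ?_⟩
  have h1 := (hRel s).comp (rel_conj Q⁻¹ (Y s))
  rw [← hQ s, inv_mulVec_mulVec] at h1
  exact h1

theorem exists_fixFrame [NeZero m] (hm : 2 ≤ m) (hA : StepA m F) (β : MulAut (Cfsg.PSp m F)) :
    ∃ Q : SpG m F, FixFrame (MulAut.conj (pr Q) * β) :=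
  exists_fixFrame' hm β (hA β)

end Cfsg.Agent.Lib.Helper45.SpAut
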