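import Mathlib
import Cfsg.Agent.Lib.Helper45.SpAutFrame

set_option autoImplicit false
set_option linter.unusedSimpArgs false
set_option linter.unusedVariables false
set_option linter.unusedSectionVars false
set_option linter.unnecessarySeqFocus false

/-!
# Diagonal elements of `GSp` and the normalization of the unit points
-/

namespace Cfsg.Agent.Lib.Helper45.SpAut

open Matrix Cfsg.Agent.Lib.Helper13 Pointwise
open Cfsg.Agent.Lib.Helper5.AutPSLn (Par)

variable {F : Type*} [Field F] {m : ℕ}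

lemma B_bV_right (x : Vec m F) (s : Fin m ⊕ Fin m) :
    B x (bV (swp s)) = match s with
      | Sum.inl i => - x (Sum.inl i)
      | Sum.inr i => x (Sum.inr i) := by
  rcases s with i | i
  · exact B_fV_right x i
  · exact B_eV_right x i

lemma B_bV_swp_eq_zero_iff (x : Vec m F) (s : Fin m ⊕ Fin m) : B x (bV (swp s)) = 0 ↔ x s = 0 := by
  rcases s with i | i
  · show B x (fV i) = 0 ↔ _
    rw [B_fV_right, neg_eq_zero]
  · show B x (eV i) = 0 ↔ _
    rw [B_eV_right]

/-- an automorphism fixing the frame preserves the zero pattern of coordinates -/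
lemma FixFrame.coord_zero_iff [NeZero m] (hm : 2 ≤ m) {β : MulAut (Cfsg.PSp m F)} (hβ : FixFrame β)
    {v v' : Vec m F} (hv : v ≠ 0) (hv' : v' ≠ 0) (h : Rel β v v') (s : Fin m ⊕ Fin m) :
    v s = 0 ↔ v' s = 0 := by
  rw [← B_bV_swp_eq_zero_iff, ← B_bV_swp_eq_zero_iff]
  exact Rel.perp hm h (hβ (swp s)) hv (bV_ne_zero _) hv' (bV_ne_zero _)

/-! ### Diagonal elements -/

/-- the diagonal matrix with given unit entries, in `GL` -/
def diagGL (d : Fin m ⊕ Fin m → Fˣ) : GL (Fin m ⊕ Fin m) F :=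
  ⟨diagonal (fun k => (d k : F)), diagonal (fun k => ((d k)⁻¹ : Fˣ)),
    by rw [diagonal_mul_diagonal]; simp,
    by rw [diagonal_mul_diagonal]; simp⟩

lemma diagGL_mulVec (d : Fin m ⊕ Fin m → Fˣ) (v : Vec m F) :
    (diagGL d).1 *ᵥ v = fun k => (d k : F) * v k := by
  ext k
  exact mulVec_diagonal _ _ _

/-- the diagonal entries of a torus element with multiplier `l` -/
def diagVec (t : Fin m → Fˣ) (l : Fˣ) : Fin m ⊕ Fin m → Fˣ := Sum.elim t (fun i => l * (t i)⁻¹)

lemma diag_mult (t : Fin m → Fˣ) (l : Fˣ) (u v : Vec m F) :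
    B ((diagGL (diagVec t l)).1 *ᵥ u) ((diagGL (diagVec t l)).1 *ᵥ v) = (l : F) * B u v := by
  rw [diagGL_mulVec, diagGL_mulVec]
  show Cfsg.sympForm m F _ _ = _ * Cfsg.sympForm m F _ _
  rw [sympForm_expand, sympForm_expand, Finset.mul_sum]
  apply Finset.sum_congr rfl
  intro i _
  simp only [diagVec, Sum.elim_inl, Sum.elim_inr, Units.val_mul, Units.val_inv_eq_inv_val]
  have : (t i : F) ≠ 0 := (t i).ne_zero
  field_simp

/-- the torus element of `GSp` -/
def diagG (t : Fin m → Fˣ) (l : Fˣ) : ↥(Cfsg.GSp m F) :=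
  ⟨diagGL (diagVec t l), mem_GSp_of_mult l.ne_zero (diag_mult t l)⟩

lemma diagG_mulVec (t : Fin m → Fˣ) (l : Fˣ) (v : Vec m F) :
    (diagG t l).1.1 *ᵥ v = fun k => (diagVec t l k : F) * v k := diagGL_mulVec _ v

lemma diagG_bV (t : Fin m → Fˣ) (l : Fˣ) (s : Fin m ⊕ Fin m) :
    (diagG t l).1.1 *ᵥ (bV s : Vec m F) = (diagVec t l s : F) • bV s := by
  rw [diagG_mulVec]
  ext k
  simp only [bV, Pi.smul_apply, Pi.single_apply, smul_eq_mul]
  split_ifs with h
  · rw [h]
  · simp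

lemma Gam_diagG_T (t : Fin m → Fˣ) (l : Fˣ) (v : Vec m F) (a : F) :
    Gam (diagG t l) (pr (T v a)) = pr (T ((diagG t l).1.1 *ᵥ v) (a / l)) :=
  Gam_T (diagG t l) l.ne_zero (diag_mult t l) v a

lemma fixFrame_Gam_diagG_mul {β : MulAut (Cfsg.PSp m F)} (hβ : FixFrame β) (t : Fin m → Fˣ)
    (l : Fˣ) : FixFrame (Gam (diagG t l) * β) := by
  intro s
  have h1 := (hβ s).comp (rel_Gam (diagG t l) (bV s))
  rw [diagG_bV] at h1
  exact h1.par_right (Par.symm ⟨_, (diagVec t l s).ne_zero, rfl⟩)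

lemma pr_T_ne_one [NeZero m] {v : Vec m F} (hv : v ≠ 0) {c : F} (hc : c ≠ 0) :
    pr (T v c) ≠ 1 := by
  intro h
  have h1 : T v c = 1 := by
    apply eq_of_pr_eq_of_fix (h.trans (map_one pr).symm) hv
    rw [T_mulVec, show B v v = 0 from sympForm_self m v, mul_zero, zero_smul, add_zero,
      one_mulVec']
  exact hc ((T_eq_one_iff hv).1 h1)

lemma pr_T_injective [NeZero m] {v : Vec m F} (hv : v ≠ 0) {c d : F}
    (h : pr (T v c) = pr (T v d)) : c = d := by
  have h1 : T v c = T v d := by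
    apply eq_of_pr_eq_of_fix h hv
    rw [T_mulVec, T_mulVec, show B v v = 0 from sympForm_self m v, mul_zero, mul_zero]
  exact T_injective hv h1

/-- the frame, the unit points and one transvection are fixed -/
def Normalized [NeZero m] (β : MulAut (Cfsg.PSp m F)) : Prop :=
  FixFrame β ∧ (∀ j : Fin m, j ≠ 0 → Rel β (eV 0 + eV j) (eV 0 + eV j)) ∧
    β (pr (T (eV 0) 1)) = pr (T (eV 0) 1)

lemma eV_add_ne_zero [NeZero m] {j : Fin m} (hj : j ≠ 0) : (eV 0 + eV j : Vec m F) ≠ 0 := by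
  intro h
  have := congrFun h (Sum.inl 0)
  rw [Pi.add_apply, eV_apply_inl, eV_apply_inl, if_pos rfl, if_neg hj.symm, add_zero] at this
  exact one_ne_zero this

/-- (N2) normalization by a diagonal element -/
theorem exists_normalized' [NeZero m] (hm : 2 ≤ m) {β : MulAut (Cfsg.PSp m F)} (hA : StepAt β)
    (hβ : FixFrame β) : ∃ g : ↥(Cfsg.GSp m F), Normalized (Gam g * β) := by
  classical
  choose! U hU0 hUR using fun j : Fin m => hA (eV 0 + eV j)
  -- coordinates of the images of the unit points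
  have hcoord : ∀ j : Fin m, j ≠ 0 → ∀ s, U j s = 0 ↔ (eV 0 + eV j : Vec m F) s = 0 := by
    intro j hj s
    exact (hβ.coord_zero_iff hm (eV_add_ne_zero hj) (hU0 j (eV_add_ne_zero hj))
      (hUR j (eV_add_ne_zero hj)) s).symm
  have hα : ∀ j : Fin m, j ≠ 0 → U j (Sum.inl 0) ≠ 0 := by
    intro j hj h
    have := (hcoord j hj _).1 h
    rw [Pi.add_apply, eV_apply_inl, eV_apply_inl, if_pos rfl, if_neg hj.symm, add_zero] at this
    exact one_ne_zero this
  have hγ : ∀ j : Fin m, j ≠ 0 → U j (Sum.inl j) ≠ 0 := by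
    intro j hj h
    have := (hcoord j hj _).1 h
    rw [Pi.add_apply, eV_apply_inl, eV_apply_inl, if_neg hj, if_pos rfl, zero_add] at this
    exact one_ne_zero this
  have hzero : ∀ j : Fin m, j ≠ 0 → ∀ s, s ≠ Sum.inl 0 → s ≠ Sum.inl j → U j s = 0 := by
    intro j hj s hs0 hsj
    rw [hcoord j hj]
    rcases s with k | k
    · rw [Pi.add_apply, eV_apply_inl, eV_apply_inl, if_neg (fun h => hs0 (by rw [h])),
        if_neg (fun h => hsj (by rw [h])), add_zero]
    · rw [Pi.add_apply, eV_apply_inr, eV_apply_inr, add_zero]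
  let t : Fin m → Fˣ := fun j =>
    if hj : j = 0 then 1 else Units.mk0 (U j (Sum.inl 0) / U j (Sum.inl j))
      (div_ne_zero (hα j hj) (hγ j hj))
  have ht0 : t 0 = 1 := dif_pos rfl
  have htj : ∀ j : Fin m, j ≠ 0 → (t j : F) = U j (Sum.inl 0) / U j (Sum.inl j) := by
    intro j hj
    simp only [t, dif_neg hj, Units.val_mk0]
  set β₁ := Gam (diagG t 1) * β with hβ₁
  have hF1 : FixFrame β₁ := fixFrame_Gam_diagG_mul hβ t 1
  have hU1 : ∀ j : Fin m, j ≠ 0 → Rel β₁ (eV 0 + eV j) (eV 0 + eV j) := by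
    intro j hj
    have h1 := (hUR j (eV_add_ne_zero hj)).comp (rel_Gam (diagG t 1) (U j))
    refine h1.par_right (Par.symm ⟨U j (Sum.inl 0), hα j hj, ?_⟩)
    rw [diagG_mulVec]
    ext s
    by_cases hs0 : s = Sum.inl 0
    · subst hs0
      simp only [diagVec, Sum.elim_inl, ht0, Units.val_one, one_mul, Pi.smul_apply, Pi.add_apply,
        eV_apply_inl, if_true, ↓reduceIte, if_neg hj.symm, add_zero, smul_eq_mul, mul_one]
    · by_cases hsj : s = Sum.inl j
      · subst hsj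
        simp only [diagVec, Sum.elim_inl, htj j hj, Pi.smul_apply, Pi.add_apply,
          eV_apply_inl, if_true, ↓reduceIte, if_neg hj, zero_add, smul_eq_mul, mul_one]
        field_simp [hγ j hj]
      · rw [hzero j hj s hs0 hsj, mul_zero]
        have : (eV 0 + eV j : Vec m F) s = 0 := by
          rw [← hcoord j hj]; exact hzero j hj s hs0 hsj
        rw [Pi.smul_apply, this, smul_zero]
  -- second step: the multiplier
  obtain ⟨a₁, ha₁⟩ := (hF1.eV 0).apply 1
  have ha₁0 : a₁ ≠ 0 := by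
    rintro rfl
    rw [T_zero, map_one] at ha₁
    have : pr (T (eV 0 : Vec m F) 1) = 1 := by
      apply β₁.injective
      rw [ha₁, map_one]
    exact pr_T_ne_one (eV_ne_zero 0) one_ne_zero this
  refine ⟨diagG 1 (Units.mk0 a₁ ha₁0) * diagG t 1, ?_⟩
  rw [map_mul, mul_assoc, ← hβ₁]
  refine ⟨fixFrame_Gam_diagG_mul hF1 _ _, ?_, ?_⟩
  · intro j hj
    have h1 := (hU1 j hj).comp (rel_Gam (diagG 1 (Units.mk0 a₁ ha₁0)) (eV 0 + eV j))
    convert h1 using 1
    rw [diagG_mulVec]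
    ext s
    rcases s with k | k
    · simp [diagVec]
    · simp [diagVec, eV_apply_inr]
  · rw [MulAut.mul_apply, ha₁, Gam_diagG_T]
    have h1 : (diagG (1 : Fin m → Fˣ) (Units.mk0 a₁ ha₁0)).1.1 *ᵥ (eV 0 : Vec m F) = eV 0 := by
      show (diagG (1 : Fin m → Fˣ) (Units.mk0 a₁ ha₁0)).1.1 *ᵥ (bV (Sum.inl 0) : Vec m F) = _
      rw [diagG_bV]
      simp [diagVec, bV_inl]
    rw [h1, Units.val_mk0, div_self ha₁0]

theorem exists_normalized [NeZero m] (hm : 2 ≤ m) (hA : StepA m F) {β : MulAut (Cfsg.PSp m F)}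
    (hβ : FixFrame β) : ∃ g : ↥(Cfsg.GSp m F), Normalized (Gam g * β) :=
  exists_normalized' hm (hA β) hβ

end Cfsg.Agent.Lib.Helper45.SpAut
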