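import Mathlib
import Cfsg.Agent.Lib.Helper45.SpAutDiag

set_option autoImplicit false
set_option linter.unusedSimpArgs false
set_option linter.unusedVariables false
set_option linter.unusedSectionVars false
set_option linter.unnecessarySeqFocus false

/-!
# The rank one analysis: the action of an automorphism on a pair of opposite transvection groups
-/

namespace Cfsg.Agent.Lib.Helper45.SpAut

open Matrix Cfsg.Agent.Lib.Helper13 Pointwise
open Cfsg.Agent.Lib.Helper5.AutPSLn (Par)

variable {F : Type*} [Field F] {m : ℕ}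

open Classical in
/-- the coefficient function of `β` on the transvection group at `u` -/
noncomputable def coef (β : MulAut (Cfsg.PSp m F)) (u : Vec m F) (c : F) : F :=
  if h : ∃ c' : F, β (pr (T u c)) = pr (T u c') then h.choose else 0

lemma coef_spec {β : MulAut (Cfsg.PSp m F)} {u : Vec m F} (hR : Rel β u u) (c : F) :
    β (pr (T u c)) = pr (T u (coef β u c)) := by
  have h := hR.apply c
  unfold coef
  rw [dif_pos h]
  exact h.choose_spec

section
variable [NeZero m] {β : MulAut (Cfsg.PSp m F)} {u : Vec m F}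

lemma coef_unique (hu : u ≠ 0) (hR : Rel β u u) {c c' : F}
    (h : β (pr (T u c)) = pr (T u c')) : coef β u c = c' :=
  pr_T_injective hu ((coef_spec hR c).symm.trans h)

lemma coef_add (hu : u ≠ 0) (hR : Rel β u u) (c d : F) :
    coef β u (c + d) = coef β u c + coef β u d := by
  apply coef_unique hu hR
  rw [← T_add, map_mul, map_mul, coef_spec hR, coef_spec hR, ← map_mul, T_add]

lemma coef_zero (hu : u ≠ 0) (hR : Rel β u u) : coef β u 0 = 0 := by
  apply coef_unique hu hR
  rw [T_zero, map_one, map_one]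

lemma coef_neg (hu : u ≠ 0) (hR : Rel β u u) (c : F) : coef β u (-c) = -coef β u c := by
  have := coef_add hu hR c (-c)
  rw [add_neg_cancel, coef_zero hu hR] at this
  exact (neg_eq_of_add_eq_zero_right this.symm).symm

lemma coef_sub (hu : u ≠ 0) (hR : Rel β u u) (c d : F) :
    coef β u (c - d) = coef β u c - coef β u d := by
  rw [sub_eq_add_neg, coef_add hu hR, coef_neg hu hR, sub_eq_add_neg]

lemma coef_injective (hu : u ≠ 0) (hR : Rel β u u) : Function.Injective (coef β u) := by
  intro c d h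
  have h1 : β (pr (T u c)) = β (pr (T u d)) := by
    rw [coef_spec hR, coef_spec hR, h]
  exact pr_T_injective hu (β.injective h1)

lemma coef_ne_zero (hu : u ≠ 0) (hR : Rel β u u) {c : F} (hc : c ≠ 0) : coef β u c ≠ 0 := by
  intro h
  apply hc
  apply coef_injective hu hR
  rw [h, coef_zero hu hR]

lemma coef_surjective (hu : u ≠ 0) (hR : Rel β u u) : Function.Surjective (coef β u) := by
  intro c
  obtain ⟨d, hd⟩ := hR.inv.apply c
  refine ⟨d, ?_⟩
  apply coef_unique hu hR
  rw [← hd, MulAut.apply_inv_self]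

lemma coef_par {a : F} (ha : a ≠ 0) (hu : u ≠ 0) (hR : Rel β u u) (c : F) :
    coef β (a • u) c = coef β u (a ^ 2 * c) / a ^ 2 := by
  have hR' : Rel β (a • u) (a • u) := (hR.par_left ⟨a, ha, rfl⟩).par_right ⟨a, ha, rfl⟩
  apply coef_unique (smul_ne_zero ha hu) hR'
  rw [T_smul, T_smul, coef_spec hR]
  congr 2
  field_simp

end

/-! ### The elements `n(a)` -/

/-- the element `T u a * T w a⁻¹ * T u a` -/
def nE (u w : Vec m F) (a : F) : SpG m F := T u a * T w a⁻¹ * T u a

lemma T3_w {u w : Vec m F} (huw : B u w = 1) (a b : F) :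
    (T u a * T w b * T u a).1 *ᵥ w = (1 - a * b) • w + (-(a * (2 - a * b))) • u := by
  have hwu : B w u = -1 := by rw [B_swap, huw]
  have t1 : (T u a).1 *ᵥ w = w + (-a) • u := by
    rw [T_mulVec, hwu, mul_neg, mul_one]
  have t2 : (T w b).1 *ᵥ u = u + b • w := by
    rw [T_mulVec, huw, mul_one]
  have t3 : (T u a).1 *ᵥ u = u := by
    rw [T_mulVec, show B u u = 0 from sympForm_self m u, mul_zero, zero_smul, add_zero]
  have t4 : (T w b).1 *ᵥ w = w := by
    rw [T_mulVec, show B w w = 0 from sympForm_self m w, mul_zero, zero_smul, add_zero]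
  rw [mul_mulVec, mul_mulVec, t1, mulVec_add, mulVec_smul, t4, t2, mulVec_add, mulVec_smul,
    mulVec_add, mulVec_smul, t1, t3]
  module

lemma T3_u {u w : Vec m F} (huw : B u w = 1) (a b : F) :
    (T u a * T w b * T u a).1 *ᵥ u = (1 - a * b) • u + b • w := by
  have hwu : B w u = -1 := by rw [B_swap, huw]
  have t1 : (T u a).1 *ᵥ w = w + (-a) • u := by
    rw [T_mulVec, hwu, mul_neg, mul_one]
  have t2 : (T w b).1 *ᵥ u = u + b • w := by
    rw [T_mulVec, huw, mul_one]
  have t3 : (T u a).1 *ᵥ u = u := by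
    rw [T_mulVec, show B u u = 0 from sympForm_self m u, mul_zero, zero_smul, add_zero]
  rw [mul_mulVec, mul_mulVec, t3, t2, mulVec_add, mulVec_smul, t3, t1]
  module

lemma nE_w {u w : Vec m F} (huw : B u w = 1) {a : F} (ha : a ≠ 0) :
    (nE u w a).1 *ᵥ w = (-a) • u := by
  unfold nE
  rw [T3_w huw, mul_inv_cancel₀ ha]
  module

lemma nE_u {u w : Vec m F} (huw : B u w = 1) {a : F} (ha : a ≠ 0) :
    (nE u w a).1 *ᵥ u = a⁻¹ • w := by
  unfold nE
  rw [T3_u huw, mul_inv_cancel₀ ha]
  module

lemma hE_u {u w : Vec m F} (huw : B u w = 1) {a b : F} (ha : a ≠ 0) (hb : b ≠ 0) :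
    (nE u w a * (nE u w b)⁻¹).1 *ᵥ u = (a / b) • u := by
  have h1 : ((nE u w b)⁻¹).1 *ᵥ u = (-b⁻¹) • w := by
    apply mulVec_injective (nE u w b)
    show (nE u w b).1 *ᵥ (((nE u w b)⁻¹).1 *ᵥ u) = (nE u w b).1 *ᵥ ((-b⁻¹) • w)
    rw [mulVec_inv_mulVec, mulVec_smul, nE_w huw hb, smul_smul]
    have : -b⁻¹ * -b = 1 := by field_simp
    rw [this, one_smul]
  rw [mul_mulVec, h1, mulVec_smul, nE_w huw ha, smul_smul]
  congr 1
  field_simp

section
variable [NeZero m] {β : MulAut (Cfsg.PSp m F)} {u w : Vec m F}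

lemma ne_zero_of_B_eq_one_left (huw : B u w = 1) : u ≠ 0 := by
  rintro rfl
  rw [show B (0 : Vec m F) w = 0 from sympForm_zero_left m w] at huw
  exact zero_ne_one huw

lemma ne_zero_of_B_eq_one_right (huw : B u w = 1) : w ≠ 0 := by
  rintro rfl
  rw [show B u (0 : Vec m F) = 0 from sympForm_zero_right m u] at huw
  exact zero_ne_one huw

/-- (R1) the coefficient functions at two opposite points determine each other -/
theorem coef_mul_coef (hm : 2 ≤ m) (huw : B u w = 1) (hRu : Rel β u u) (hRw : Rel β w w) {a : F}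
    (ha : a ≠ 0) : coef β u a * coef β w a⁻¹ = 1 := by
  have hu := ne_zero_of_B_eq_one_left huw
  have hw := ne_zero_of_B_eq_one_right huw
  set a' := coef β u a with ha'
  set b' := coef β w a⁻¹ with hb'
  have h1 : β (pr (nE u w a)) = pr (T u a' * T w b' * T u a') := by
    unfold nE
    rw [map_mul, map_mul, map_mul, map_mul, coef_spec hRu, coef_spec hRw, ← map_mul, ← map_mul]
  have h2 := hRw.equiv h1
  rw [nE_w huw ha] at h2
  have h3 : Rel β u ((T u a' * T w b' * T u a').1 *ᵥ w) :=
    h2.par_left ⟨-a⁻¹, neg_ne_zero.2 (inv_ne_zero ha), by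
      rw [smul_smul]
      have : -a⁻¹ * -a = 1 := by field_simp
      rw [this, one_smul]⟩
  obtain ⟨c, hc, e⟩ := Rel.unique hm hRu h3 hu
  rw [T3_w huw] at e
  have h4 := congrArg (fun x => B u x) e
  simp only [B, sympForm_smul_right, sympForm_add_right, sympForm_self] at h4
  simp only [B] at huw
  rw [huw] at h4
  have h5 : c * (1 - a' * b') = 0 := by linear_combination -h4
  rcases mul_eq_zero.1 h5 with h6 | h6
  · exact absurd h6 hc
  · linear_combination -h6

lemma map_nE (hm : 2 ≤ m) (huw : B u w = 1) (hRu : Rel β u u) (hRw : Rel β w w) {a : F}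
    (ha : a ≠ 0) : β (pr (nE u w a)) = pr (nE u w (coef β u a)) := by
  have hu := ne_zero_of_B_eq_one_left huw
  have h0 := coef_mul_coef hm huw hRu hRw ha
  have h1 : coef β w a⁻¹ = (coef β u a)⁻¹ := eq_inv_of_mul_eq_one_right h0
  unfold nE
  simp only [map_mul, coef_spec hRu, coef_spec hRw, h1]

/-- (R2) the coefficient function is semi-multiplicative on squares -/
theorem coef_sq_mul (hm : 2 ≤ m) (huw : B u w = 1) (hRu : Rel β u u) (hRw : Rel β w w) {a : F}
    (ha : a ≠ 0) (d : F) :
    coef β u (a ^ 2 * d) = (coef β u a / coef β u 1) ^ 2 * coef β u d := by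
  have hu := ne_zero_of_B_eq_one_left huw
  apply coef_unique hu hRu
  have ha' := coef_ne_zero hu hRu ha
  have h1' := coef_ne_zero hu hRu (one_ne_zero (α := F))
  have e1 : T u (a ^ 2 * d) = (nE u w a * (nE u w 1)⁻¹) * T u d * (nE u w a * (nE u w 1)⁻¹)⁻¹ := by
    rw [conj_T, hE_u huw ha one_ne_zero, div_one, T_smul]
  have e2 : T u ((coef β u a / coef β u 1) ^ 2 * coef β u d) =
      (nE u w (coef β u a) * (nE u w (coef β u 1))⁻¹) * T u (coef β u d) *
        (nE u w (coef β u a) * (nE u w (coef β u 1))⁻¹)⁻¹ := by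
    rw [conj_T, hE_u huw ha' h1', T_smul]
  rw [e1, e2]
  simp only [map_mul, map_inv, map_nE hm huw hRu hRw ha, map_nE hm huw hRu hRw one_ne_zero,
    coef_spec hRu]

end

/-! ### From semi-multiplicative additive bijections to field automorphisms -/

theorem exists_ringEquiv_of_sq [Fintype F] (α : F → F) (hadd : ∀ x y, α (x + y) = α x + α y)
    (hbij : Function.Bijective α) (h1 : α 1 = 1)
    (hsq : ∀ a d : F, α (a ^ 2 * d) = (α a) ^ 2 * α d) :
    ∃ σ : F ≃+* F, ∀ x, σ x = α x := by
  have h0 : α 0 = 0 := by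
    have := hadd 0 0
    rw [add_zero] at this
    exact (add_eq_left.1 this.symm)
  have hneg : ∀ x, α (-x) = -α x := by
    intro x
    have := hadd x (-x)
    rw [add_neg_cancel, h0] at this
    exact (neg_eq_of_add_eq_zero_right this.symm).symm
  have hsq1 : ∀ a : F, α (a ^ 2) = (α a) ^ 2 := by
    intro a
    have := hsq a 1
    rwa [mul_one, h1, mul_one] at this
  have hmul : ∀ x y, α (x * y) = α x * α y := by
    intro x y
    by_cases h2 : (2 : F) = 0
    · have hch : ringChar F = 2 :=
        CharP.ringChar_of_prime_eq_zero Nat.prime_two (by exact_mod_cast h2)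
      obtain ⟨e, he⟩ := FiniteField.isSquare_of_char_two hch x
      have : x = e ^ 2 := by rw [he, sq]
      rw [this, hsq, hsq1]
    · have e1 : α ((x + y) ^ 2) - α ((x - y) ^ 2) = 4 * (α x * α y) := by
        rw [hsq1, hsq1, hadd, sub_eq_add_neg x y, hadd, hneg]
        ring
      have e2 : α ((x + y) ^ 2) - α ((x - y) ^ 2) = 4 * α (x * y) := by
        have e3 : (x + y) ^ 2 = (x - y) ^ 2 + (x * y + x * y + (x * y + x * y)) := by ring
        rw [e3, hadd, hadd, hadd]
        ring
      have e4 : (4 : F) * (α (x * y) - α x * α y) = 0 := by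
        linear_combination e1 - e2
      have h4 : (4 : F) ≠ 0 := by
        have : (4 : F) = 2 * 2 := by norm_num
        rw [this]
        exact mul_ne_zero h2 h2
      rcases mul_eq_zero.1 e4 with h | h
      · exact absurd h h4
      · exact sub_eq_zero.1 h
  let f : F →+* F :=
    { toFun := α
      map_one' := h1
      map_mul' := hmul
      map_zero' := h0
      map_add' := hadd }
  exact ⟨RingEquiv.ofBijective f hbij, fun x => rfl⟩

end Cfsg.Agent.Lib.Helper45.SpAut
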