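import Mathlib
import Cfsg.Agent.Lib.Helper45.SpAutSL2

set_option autoImplicit false
set_option linter.unusedSimpArgs false
set_option linter.unusedVariables false
set_option linter.unusedSectionVars false
set_option linter.unnecessarySeqFocus false

/-!
# A normalized automorphism acts on the frame transvections through one field automorphism
-/

namespace Cfsg.Agent.Lib.Helper45.SpAut

open Matrix Cfsg.Agent.Lib.Helper13 Pointwise
open Cfsg.Agent.Lib.Helper5.AutPSLn (Par)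

variable {F : Type*} [Field F] {m : ℕ}

lemma B_fV_eV (i : Fin m) : B (fV i : Vec m F) (eV i) = 1 := by
  rw [B_fV_left, eV_apply_inl, if_pos rfl]

lemma B_fV_unit [NeZero m] {j : Fin m} (hj : j ≠ 0) : B (fV 0 : Vec m F) (eV 0 + eV j) = 1 := by
  rw [B_fV_left, Pi.add_apply, eV_apply_inl, eV_apply_inl, if_pos rfl, if_neg hj.symm, add_zero]

lemma B_fV_unit' [NeZero m] {j : Fin m} (hj : j ≠ 0) : B (fV j : Vec m F) (eV 0 + eV j) = 1 := by
  rw [B_fV_left, Pi.add_apply, eV_apply_inl, eV_apply_inl, if_neg hj, if_pos rfl, zero_add]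

lemma B_eV_neg_fV (i : Fin m) : B (eV i : Vec m F) (-fV i) = 1 := by
  rw [B_eV_left, Pi.neg_apply, fV_apply_inr, if_pos rfl, neg_neg]

/-- if `φ a * α a⁻¹ = 1 = φ a * υ a⁻¹` for all nonzero `a`, then `α = υ` on nonzero elements -/
lemma eq_of_mul_inv {φ α υ : F → F} (h1 : ∀ a : F, a ≠ 0 → φ a * α a⁻¹ = 1)
    (h2 : ∀ a : F, a ≠ 0 → φ a * υ a⁻¹ = 1) {c : F} (hc : c ≠ 0) : α c = υ c := by
  have e1 := h1 c⁻¹ (inv_ne_zero hc)
  have e2 := h2 c⁻¹ (inv_ne_zero hc)
  rw [inv_inv] at e1 e2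
  have hφ : φ c⁻¹ ≠ 0 := by
    intro h
    rw [h, zero_mul] at e1
    exact zero_ne_one e1
  exact mul_left_cancel₀ hφ (e1.trans e2.symm)

/-- (N3)+(N4): a normalized automorphism acts through one field automorphism on all the
transvection groups of the frame -/
theorem exists_sigma [Fintype F] [NeZero m] (hm : 2 ≤ m) {β : MulAut (Cfsg.PSp m F)}
    (hN : Normalized β) :
    ∃ σ : F ≃+* F, ∀ (i : Fin m) (c : F),
      β (pr (T (eV i) c)) = pr (T (eV i) (σ c)) ∧ β (pr (T (fV i) c)) = pr (T (fV i) (σ c)) := by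
  obtain ⟨hF, hU, h1⟩ := hN
  have hRe : ∀ i, Rel β (eV i : Vec m F) (eV i) := hF.eV
  have hRf : ∀ i, Rel β (fV i : Vec m F) (fV i) := hF.fV
  have hRnf : Rel β (-fV 0 : Vec m F) (-fV 0) := by
    have hp : Par (fV 0 : Vec m F) (-fV 0) := ⟨-1, neg_ne_zero.2 one_ne_zero, by rw [neg_one_smul]⟩
    exact ((hRf 0).par_left hp).par_right hp
  set α := coef β (eV 0 : Vec m F) with hα
  have he0 := eV_ne_zero (F := F) (0 : Fin m)
  have hα1 : α 1 = 1 := coef_unique he0 (hRe 0) h1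
  have hα0 : α 0 = 0 := coef_zero he0 (hRe 0)
  have hsq : ∀ a d : F, α (a ^ 2 * d) = (α a) ^ 2 * α d := by
    intro a d
    by_cases ha : a = 0
    · rw [ha]
      simp [hα0]
    · have := coef_sq_mul hm (B_eV_neg_fV 0) (hRe 0) hRnf ha d
      rw [← hα, hα1, div_one] at this
      exact this
  obtain ⟨σ, hσ⟩ := exists_ringEquiv_of_sq α (coef_add he0 (hRe 0))
    ⟨coef_injective he0 (hRe 0), coef_surjective he0 (hRe 0)⟩ hα1 hsq
  -- the coefficient functions at the other points of the frame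
  have hR0 : ∀ a : F, a ≠ 0 → coef β (fV 0) a * α a⁻¹ = 1 := fun a ha =>
    coef_mul_coef hm (B_fV_eV 0) (hRf 0) (hRe 0) ha
  have hαj : ∀ j : Fin m, ∀ c : F, coef β (eV j) c = α c := by
    intro j c
    by_cases hj : j = 0
    · rw [hj]
    by_cases hc : c = 0
    · rw [hc, coef_zero (eV_ne_zero j) (hRe j), hα0]
    have e1 : α c = coef β (eV 0 + eV j) c :=
      eq_of_mul_inv hR0 (fun a ha => coef_mul_coef hm (B_fV_unit hj) (hRf 0) (hU j hj) ha) hc
    have e2 : coef β (eV j) c = coef β (eV 0 + eV j) c :=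
      eq_of_mul_inv (fun a ha => coef_mul_coef hm (B_fV_eV j) (hRf j) (hRe j) ha)
        (fun a ha => coef_mul_coef hm (B_fV_unit' hj) (hRf j) (hU j hj) ha) hc
    rw [e2, ← e1]
  have hφj : ∀ j : Fin m, ∀ c : F, coef β (fV j) c = σ c := by
    intro j c
    by_cases hc : c = 0
    · rw [hc, coef_zero (fV_ne_zero j) (hRf j), map_zero]
    have e1 := coef_mul_coef hm (B_fV_eV j) (hRf j) (hRe j) hc
    rw [hαj, ← hσ, map_inv₀] at e1
    have hσc : σ c ≠ 0 := by
      intro h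
      rw [h, _root_.inv_zero, mul_zero] at e1
      exact zero_ne_one e1
    field_simp at e1
    exact e1
  refine ⟨σ, ?_⟩
  intro i c
  refine ⟨?_, ?_⟩
  · rw [coef_spec (hRe i), hαj, hσ]
  · rw [coef_spec (hRf i), hφj]

end Cfsg.Agent.Lib.Helper45.SpAut
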