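import Mathlib
import Cfsg.Agent.Lib.Helper45.SpAutLink

set_option autoImplicit false
set_option linter.unusedSimpArgs false
set_option linter.unusedVariables false
set_option linter.unusedSectionVars false
set_option linter.unnecessarySeqFocus false

/-!
# An automorphism fixing the frame transvections elementwise and the unit points is trivial
-/

namespace Cfsg.Agent.Lib.Helper45.SpAut

open Matrix Cfsg.Agent.Lib.Helper13 Pointwise
open Cfsg.Agent.Lib.Helper5.AutPSLn (Par)

variable {F : Type*} [Field F] {m : ℕ}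

/-- the subgroup of `Sp` fixed elementwise (modulo the centre) by `β` -/
def FixS (β : MulAut (Cfsg.PSp m F)) : Subgroup (SpG m F) where
  carrier := {g | β (pr g) = pr g}
  mul_mem' := by
    intro a b ha hb
    show β (pr (a * b)) = pr (a * b)
    rw [map_mul, map_mul, ha, hb]
  one_mem' := by
    show β (pr 1) = pr 1
    rw [map_one, map_one]
  inv_mem' := by
    intro a ha
    show β (pr a⁻¹) = pr a⁻¹
    rw [map_inv, map_inv, ha]

lemma mem_FixS {β : MulAut (Cfsg.PSp m F)} {g : SpG m F} : g ∈ FixS β ↔ β (pr g) = pr g := Iff.rfl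

lemma rel_of_mem_FixS {β : MulAut (Cfsg.PSp m F)} {g : SpG m F} (hg : g ∈ FixS β) {v : Vec m F}
    (h : Rel β v v) : Rel β (g.1 *ᵥ v) (g.1 *ᵥ v) := h.equiv hg

lemma step_e (i : Fin m) (c : F) (x : Vec m F) :
    (T (eV i) c).1 *ᵥ x = x + (c * x (Sum.inr i)) • eV i := by
  rw [T_mulVec, B_eV_right]

lemma step_f (i : Fin m) (c : F) (x : Vec m F) :
    (T (fV i) c).1 *ᵥ x = x + (-(c * x (Sum.inl i))) • fV i := by
  rw [T_mulVec, B_fV_right, mul_neg]

/-- all the frame transvections are fixed elementwise -/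
def FixT (β : MulAut (Cfsg.PSp m F)) : Prop :=
  ∀ (i : Fin m) (c : F), T (eV i) c ∈ FixS β ∧ T (fV i) c ∈ FixS β

/-- the indicator of the support in the plane `i` -/
noncomputable def ind (x : Vec m F) (i : Fin m) : F := by
  classical
  exact if x (Sum.inl i) ≠ 0 ∨ x (Sum.inr i) ≠ 0 then 1 else 0

lemma plane_norm1 {β : MulAut (Cfsg.PSp m F)} (hT : FixT β) (i : Fin m) (x : Vec m F)
    (hq : x (Sum.inr i) ≠ 0) :
    ∃ g ∈ FixS β, (∀ s, s ≠ Sum.inl i → s ≠ Sum.inr i → (g.1 *ᵥ x) s = x s) ∧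
      (g.1 *ᵥ x) (Sum.inr i) = 0 ∧ (g.1 *ᵥ x) (Sum.inl i) = 1 := by
  set p := x (Sum.inl i) with hp
  set q := x (Sum.inr i) with hq'
  refine ⟨T (fV i) q * T (eV i) ((1 - p) / q), (FixS β).mul_mem (hT i _).2 (hT i _).1, ?_, ?_, ?_⟩
  · intro s hs1 hs2
    rw [mul_mulVec, step_e, step_f]
    simp only [Pi.add_apply, Pi.smul_apply, eV, fV, Pi.single_apply, if_neg hs1, if_neg hs2,
      smul_zero, add_zero]
  · rw [mul_mulVec, step_e, step_f]
    simp only [Pi.add_apply, Pi.smul_apply, eV_apply_inr, eV_apply_inl, fV_apply_inr, fV_apply_inl,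
      if_true, ↓reduceIte, smul_eq_mul, mul_zero, mul_one, add_zero, ← hp, ← hq']
    field_simp
    ring
  · rw [mul_mulVec, step_e, step_f]
    simp only [Pi.add_apply, Pi.smul_apply, eV_apply_inr, eV_apply_inl, fV_apply_inr, fV_apply_inl,
      if_true, ↓reduceIte, smul_eq_mul, mul_zero, mul_one, add_zero, ← hp, ← hq']
    field_simp
    ring

lemma plane_norm {β : MulAut (Cfsg.PSp m F)} (hT : FixT β) (i : Fin m) (x : Vec m F) :
    ∃ g ∈ FixS β, (∀ s, s ≠ Sum.inl i → s ≠ Sum.inr i → (g.1 *ᵥ x) s = x s) ∧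
      (g.1 *ᵥ x) (Sum.inr i) = 0 ∧ (g.1 *ᵥ x) (Sum.inl i) = ind x i := by
  classical
  by_cases hq : x (Sum.inr i) ≠ 0
  · obtain ⟨g, hg, h1, h2, h3⟩ := plane_norm1 hT i x hq
    refine ⟨g, hg, h1, h2, ?_⟩
    rw [h3, ind, if_pos (Or.inr hq)]
  · push Not at hq
    by_cases hp : x (Sum.inl i) ≠ 0
    · -- first make the second coordinate nonzero
      set x' := (T (fV i) (-(x (Sum.inl i))⁻¹)).1 *ᵥ x with hx'
      have e1 : ∀ s, s ≠ Sum.inr i → x' s = x s := by
        intro s hs
        rw [hx', step_f]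
        simp only [Pi.add_apply, Pi.smul_apply, fV, Pi.single_apply, if_neg hs, smul_zero, add_zero]
      have e2 : x' (Sum.inr i) = 1 := by
        rw [hx', step_f]
        simp only [Pi.add_apply, Pi.smul_apply, fV_apply_inr, if_true, ↓reduceIte, smul_eq_mul,
          mul_one, hq, zero_add]
        field_simp
      obtain ⟨g, hg, h1, h2, h3⟩ := plane_norm1 hT i x' (by rw [e2]; exact one_ne_zero)
      refine ⟨g * T (fV i) (-(x (Sum.inl i))⁻¹), (FixS β).mul_mem hg (hT i _).2, ?_, ?_, ?_⟩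
      · intro s hs1 hs2
        rw [mul_mulVec, ← hx', h1 s hs1 hs2, e1 s hs2]
      · rw [mul_mulVec, ← hx', h2]
      · rw [mul_mulVec, ← hx', h3, ind, if_pos (Or.inl hp)]
    · push Not at hp
      refine ⟨1, (FixS β).one_mem, fun s _ _ => by rw [one_mulVec'], by rw [one_mulVec', hq], ?_⟩
      rw [one_mulVec', hp, ind, if_neg]
      push Not
      exact ⟨hp, hq⟩

/-- the support vector -/
noncomputable def eI (x : Vec m F) : Vec m F := fun s =>
  match s with
  | Sum.inl i => ind x i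
  | Sum.inr _ => 0

/-- (O1) every vector can be moved to its support vector by the fixed subgroup -/
theorem exists_mem_FixS_eq_eI {β : MulAut (Cfsg.PSp m F)} (hT : FixT β) (x : Vec m F) :
    ∃ g ∈ FixS β, g.1 *ᵥ x = eI x := by
  classical
  have key : ∀ S : Finset (Fin m), ∃ g ∈ FixS β, ∀ i : Fin m,
      (i ∈ S → (g.1 *ᵥ x) (Sum.inr i) = 0 ∧ (g.1 *ᵥ x) (Sum.inl i) = ind x i) ∧
      (i ∉ S → (g.1 *ᵥ x) (Sum.inl i) = x (Sum.inl i) ∧ (g.1 *ᵥ x) (Sum.inr i) = x (Sum.inr i)) := by
    intro S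
    induction S using Finset.induction_on with
    | empty =>
      refine ⟨1, (FixS β).one_mem, fun i => ⟨fun h => absurd h (Finset.notMem_empty i), fun _ => ?_⟩⟩
      rw [one_mulVec']
      exact ⟨rfl, rfl⟩
    | insert a S ha ih =>
      obtain ⟨g, hg, hgx⟩ := ih
      obtain ⟨g', hg', h1, h2, h3⟩ := plane_norm hT a (g.1 *ᵥ x)
      refine ⟨g' * g, (FixS β).mul_mem hg' hg, fun i => ⟨fun hi => ?_, fun hi => ?_⟩⟩
      · rw [mul_mulVec]
        by_cases hia : i = a
        · subst hia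
          refine ⟨h2, ?_⟩
          rw [h3, ind, ind, ((hgx i).2 ha).1, ((hgx i).2 ha).2]
        · have hiS : i ∈ S := (Finset.mem_insert.1 hi).resolve_left hia
          rw [h1 _ (by simp) (by intro h; exact hia (Sum.inr.inj h)),
            h1 _ (by intro h; exact hia (Sum.inl.inj h)) (by simp)]
          exact (hgx i).1 hiS
      · rw [mul_mulVec]
        have hia : i ≠ a := fun h => hi (h ▸ Finset.mem_insert_self _ _)
        have hiS : i ∉ S := fun h => hi (Finset.mem_insert_of_mem h)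
        rw [h1 _ (by intro h; exact hia (Sum.inl.inj h)) (by simp),
          h1 _ (by simp) (by intro h; exact hia (Sum.inr.inj h))]
        exact (hgx i).2 hiS
  obtain ⟨g, hg, hgx⟩ := key Finset.univ
  refine ⟨g, hg, ?_⟩
  ext s
  rcases s with i | i
  · exact ((hgx i).1 (Finset.mem_univ i)).2
  · exact ((hgx i).1 (Finset.mem_univ i)).1

end Cfsg.Agent.Lib.Helper45.SpAut
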