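import Mathlib
import Cfsg.Agent.Lib.Helper45.SpAutOrbit

set_option autoImplicit false
set_option linter.unusedSimpArgs false
set_option linter.unusedVariables false
set_option linter.unusedSectionVars false
set_option linter.unnecessarySeqFocus false

/-!
# The automorphism group of `PSp_{2m}(F)`: every automorphism is induced by a semilinear
conformal symplectic map
-/

namespace Cfsg.Agent.Lib.Helper45.SpAut

open Matrix Cfsg.Agent.Lib.Helper13 Pointwise
open Cfsg.Agent.Lib.Helper5.AutPSLn (Par)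

variable {F : Type*} [Field F] {m : ℕ}

lemma ind_eq (x : Vec m F) (i : Fin m) : ind x i = 1 ∨ ind x i = 0 := by
  classical
  unfold ind
  split_ifs
  · left; rfl
  · right; rfl

lemma ind_eq_one_iff (x : Vec m F) (i : Fin m) :
    ind x i = 1 ↔ (x (Sum.inl i) ≠ 0 ∨ x (Sum.inr i) ≠ 0) := by
  classical
  unfold ind
  split_ifs with h
  · simp [h]
  · simp only [zero_ne_one, false_iff]
    exact h

lemma eI_inl (x : Vec m F) (i : Fin m) : eI x (Sum.inl i) = ind x i := rfl

lemma eI_inr (x : Vec m F) (i : Fin m) : eI x (Sum.inr i) = 0 := rfl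

lemma B_eI_fV (x : Vec m F) (k : Fin m) : B (eI x) (fV k) = -ind x k := by
  rw [B_fV_right, eI_inl]

section
variable [NeZero m] {β : MulAut (Cfsg.PSp m F)}

/-- a vector is fixed as soon as its support vector is -/
lemma rel_of_rel_eI (hT : FixT β) {x : Vec m F} (h : Rel β (eI x) (eI x)) : Rel β x x := by
  obtain ⟨g, hg, hgx⟩ := exists_mem_FixS_eq_eI hT x
  have h1 := rel_of_mem_FixS ((FixS β).inv_mem hg) h
  rwa [← hgx, inv_mulVec_mulVec] at h1

/-- the support vector is fixed if the image has constant coefficients on the support -/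
lemma rel_eI_of_const (hm : 2 ≤ m) (hF : FixFrame β) {x w : Vec m F} {i₀ : Fin m}
    (hi₀ : ind x i₀ = 1) (hw : w ≠ 0) (hR : Rel β (eI x) w)
    (hc : ∀ j, ind x j = 1 → w (Sum.inl j) = w (Sum.inl i₀)) : Rel β (eI x) (eI x) := by
  have hv : eI x ≠ 0 := by
    intro h
    have := congrFun h (Sum.inl i₀)
    rw [eI_inl, hi₀] at this
    exact one_ne_zero this
  have hpat := hF.coord_zero_iff hm hv hw hR
  have hc0 : w (Sum.inl i₀) ≠ 0 := by
    intro h
    have := (hpat _).2 h
    rw [eI_inl, hi₀] at this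
    exact one_ne_zero this
  apply hR.par_right
  refine Par.symm ⟨w (Sum.inl i₀), hc0, ?_⟩
  ext s
  rcases s with j | j
  · rw [Pi.smul_apply, eI_inl]
    rcases ind_eq x j with h | h
    · rw [h, hc j h, smul_eq_mul, mul_one]
    · rw [h, smul_zero]
      apply (hpat _).1
      rw [eI_inl, h]
  · rw [Pi.smul_apply, eI_inr, smul_zero]
    exact (hpat _).1 (eI_inr x j)

lemma eI_sub_fV {j : Fin m} (hj : j ≠ 0) : eI (fV 0 - fV j : Vec m F) = eV 0 + eV j := by
  classical
  ext s
  rcases s with i | i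
  · rw [eI_inl, Pi.add_apply, eV_apply_inl, eV_apply_inl]
    unfold ind
    simp only [Pi.sub_apply, fV_apply_inl, fV_apply_inr, sub_zero]
    by_cases hi0 : i = 0
    · subst hi0
      simp [hj.symm]
    · by_cases hij : i = j
      · subst hij
        simp [hi0]
      · simp [hi0, hij]
  · rw [eI_inr, Pi.add_apply, eV_apply_inr, eV_apply_inr, add_zero]

/-- Lemma A: the test vectors `f₀ - f_j` are fixed -/
lemma rel_test (hT : FixT β) (hU : ∀ j : Fin m, j ≠ 0 → Rel β (eV 0 + eV j) (eV 0 + eV j))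
    {j : Fin m} (hj : j ≠ 0) : Rel β (fV 0 - fV j : Vec m F) (fV 0 - fV j) := by
  apply rel_of_rel_eI hT
  rw [eI_sub_fV hj]
  exact hU j hj

/-- Lemma B+C: vectors whose support contains the index `0` are fixed -/
lemma rel_of_ind_zero' (hm : 2 ≤ m) (hA : StepAt β) (hF : FixFrame β) (hT : FixT β)
    (hU : ∀ j : Fin m, j ≠ 0 → Rel β (eV 0 + eV j) (eV 0 + eV j)) {x : Vec m F}
    (h0 : ind x 0 = 1) : Rel β x x := by
  apply rel_of_rel_eI hT
  have hv : eI x ≠ 0 := by
    intro h
    have := congrFun h (Sum.inl 0)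
    rw [eI_inl, h0] at this
    exact one_ne_zero this
  obtain ⟨w, hw, hR⟩ := hA (eI x) hv
  apply rel_eI_of_const hm hF h0 hw hR
  intro j hj1
  by_cases hj : j = 0
  · rw [hj]
  have ht := rel_test hT hU hj
  have htne : (fV 0 - fV j : Vec m F) ≠ 0 := by
    intro h
    have := congrFun h (Sum.inr 0)
    rw [Pi.sub_apply, fV_apply_inr, fV_apply_inr, if_pos rfl, if_neg (Ne.symm hj), sub_zero] at this
    exact one_ne_zero this
  have h1 : B (eI x) (fV 0 - fV j) = 0 := by
    show Cfsg.sympForm m F _ _ = 0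
    rw [sympForm_sub_right]
    show B _ _ - B _ _ = 0
    rw [B_eI_fV, B_eI_fV, h0, hj1, sub_self]
  have h2 := (Rel.perp hm hR ht hv htne hw htne).1 h1
  have h3 : B w (fV 0 - fV j) = -w (Sum.inl 0) + w (Sum.inl j) := by
    show Cfsg.sympForm m F _ _ = _
    rw [sympForm_sub_right]
    show B _ _ - B _ _ = _
    rw [B_fV_right, B_fV_right]
    ring
  rw [h3] at h2
  linear_combination h2

/-- Lemma D+E: all nonzero vectors are fixed -/
theorem rel_all' (hm : 2 ≤ m) (hA : StepAt β) (hF : FixFrame β) (hT : FixT β)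
    (hU : ∀ j : Fin m, j ≠ 0 → Rel β (eV 0 + eV j) (eV 0 + eV j)) {x : Vec m F} (hx : x ≠ 0) :
    Rel β x x := by
  rcases ind_eq x 0 with h0 | h0
  · exact rel_of_ind_zero' hm hA hF hT hU h0
  apply rel_of_rel_eI hT
  -- some index in the support
  obtain ⟨i₀, hi₀⟩ : ∃ i₀ : Fin m, ind x i₀ = 1 := by
    by_contra hcon
    push Not at hcon
    apply hx
    ext s
    rcases s with i | i
    · by_contra h
      exact hcon i ((ind_eq_one_iff x i).2 (Or.inl h))
    · by_contra h
      exact hcon i ((ind_eq_one_iff x i).2 (Or.inr h))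
  have hi₀0 : i₀ ≠ 0 := by
    rintro rfl
    rw [h0] at hi₀
    exact zero_ne_one hi₀
  have hv : eI x ≠ 0 := by
    intro h
    have := congrFun h (Sum.inl i₀)
    rw [eI_inl, hi₀] at this
    exact one_ne_zero this
  obtain ⟨w, hw, hR⟩ := hA (eI x) hv
  have hpat := hF.coord_zero_iff hm hv hw hR
  have hw0 : w (Sum.inl 0) = 0 := (hpat _).1 (by rw [eI_inl, h0])
  apply rel_eI_of_const hm hF hi₀ hw hR
  intro j hj1
  by_cases hj : j = i₀
  · rw [hj]
  have hj0 : j ≠ 0 := by
    rintro rfl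
    rw [h0] at hj1
    exact zero_ne_one hj1
  set t : Vec m F := fV 0 + fV i₀ - fV j with ht
  have ht0 : ind t 0 = 1 := by
    rw [ind_eq_one_iff]
    right
    rw [ht, Pi.sub_apply, Pi.add_apply, fV_apply_inr, fV_apply_inr, fV_apply_inr, if_pos rfl,
      if_neg (Ne.symm hi₀0), if_neg (Ne.symm hj0)]
    simp
  have hRt : Rel β t t := rel_of_ind_zero' hm hA hF hT hU ht0
  have htne : t ≠ 0 := by
    intro h
    rw [h] at ht0
    have : ind (0 : Vec m F) 0 = 0 := by
      rcases ind_eq (0 : Vec m F) 0 with h1 | h1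
      · rw [ind_eq_one_iff] at h1
        simp at h1
      · exact h1
    rw [this] at ht0
    exact zero_ne_one ht0
  have h1 : B (eI x) t = 0 := by
    show Cfsg.sympForm m F _ _ = 0
    rw [ht, sympForm_sub_right, sympForm_add_right]
    show B _ _ + B _ _ - B _ _ = 0
    rw [B_eI_fV, B_eI_fV, B_eI_fV, h0, hi₀, hj1]
    ring
  have h2 := (Rel.perp hm hR hRt hv htne hw htne).1 h1
  have h3 : B w t = -w (Sum.inl 0) - w (Sum.inl i₀) + w (Sum.inl j) := by
    show Cfsg.sympForm m F _ _ = _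
    rw [ht, sympForm_sub_right, sympForm_add_right]
    show B _ _ + B _ _ - B _ _ = _
    rw [B_fV_right, B_fV_right, B_fV_right]
    ring
  rw [h3, hw0] at h2
  linear_combination h2

lemma rel_of_ind_zero (hm : 2 ≤ m) (hA : StepA m F) (hF : FixFrame β) (hT : FixT β)
    (hU : ∀ j : Fin m, j ≠ 0 → Rel β (eV 0 + eV j) (eV 0 + eV j)) {x : Vec m F}
    (h0 : ind x 0 = 1) : Rel β x x :=
  rel_of_ind_zero' hm (hA β) hF hT hU h0

theorem rel_all (hm : 2 ≤ m) (hA : StepA m F) (hF : FixFrame β) (hT : FixT β)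
    (hU : ∀ j : Fin m, j ≠ 0 → Rel β (eV 0 + eV j) (eV 0 + eV j)) {x : Vec m F} (hx : x ≠ 0) :
    Rel β x x :=
  rel_all' hm (hA β) hF hT hU hx

/-- an automorphism fixing every point is trivial -/
theorem eq_one_of_rel_all (hm : 2 ≤ m) (h : ∀ x : Vec m F, x ≠ 0 → Rel β x x) : β = 1 := by
  apply MulEquiv.ext
  intro y
  obtain ⟨g, rfl⟩ := pr_surjective y
  obtain ⟨g', hg'⟩ := pr_surjective (β (pr g))
  rw [MulAut.one_apply, ← hg']
  symm
  apply pr_eq_of_par
  intro v hv
  have h1 : Rel β (g.1 *ᵥ v) (g'.1 *ᵥ v) := (h v hv).equiv hg'.symm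
  have h2 := h _ (mulVec_ne_zero g hv)
  exact (Rel.unique hm h2 h1 (mulVec_ne_zero g hv)).symm

end

end Cfsg.Agent.Lib.Helper45.SpAut
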