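import Mathlib
import Cfsg.Agent.Lib.Helper45.SpAutMain

set_option autoImplicit false
set_option linter.unusedSimpArgs false
set_option linter.unusedVariables false
set_option linter.unusedSectionVars false
set_option linter.unnecessarySeqFocus false

/-!
# `Aut(PSp_{2m}(F)) = PΓSp_{2m}(F)`: the decomposition of automorphisms
-/

namespace Cfsg.Agent.Lib.Helper45.SpAut

open Matrix Cfsg.Agent.Lib.Helper13 Pointwise
open Cfsg.Agent.Lib.Helper5.AutPSLn (Par)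

variable {F : Type*} [Field F] {m : ℕ}

lemma map_bV (σ : F ≃+* F) (s : Fin m ⊕ Fin m) : (fun i => σ ((bV s : Vec m F) i)) = bV s := by
  ext i
  simp only [bV, Pi.single_apply]
  split_ifs <;> simp

lemma map_eV (σ : F ≃+* F) (i : Fin m) : (fun k => σ ((eV i : Vec m F) k)) = eV i := map_bV σ _

lemma map_fV (σ : F ≃+* F) (i : Fin m) : (fun k => σ ((fV i : Vec m F) k)) = fV i := map_bV σ _

lemma map_unit [NeZero m] (σ : F ≃+* F) (j : Fin m) :
    (fun k => σ ((eV 0 + eV j : Vec m F) k)) = eV 0 + eV j := by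
  have h1 := map_eV σ (0 : Fin m)
  have h2 := map_eV σ j
  ext k
  simp only [Pi.add_apply, map_add]
  rw [congrFun h1 k, congrFun h2 k]

/-! ### Step A for a single automorphism -/

lemma StepAt.mul {β₁ β₂ : MulAut (Cfsg.PSp m F)} (h₁ : StepAt β₁) (h₂ : StepAt β₂) :
    StepAt (β₁ * β₂) := by
  intro v hv
  obtain ⟨v', hv', hR⟩ := h₂ v hv
  obtain ⟨v'', hv'', hR'⟩ := h₁ v' hv'
  exact ⟨v'', hv'', hR.comp hR'⟩

lemma stepAt_conj (Q : SpG m F) : StepAt (MulAut.conj (pr Q) : MulAut (Cfsg.PSp m F)) :=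
  fun v hv => ⟨_, mulVec_ne_zero Q hv, rel_conj Q v⟩

lemma stepAt_Gam (g : ↥(Cfsg.GSp m F)) : StepAt (Gam g : MulAut (Cfsg.PSp m F)) := by
  intro v hv
  refine ⟨_, ?_, rel_Gam g v⟩
  intro h0
  apply hv
  have := congrArg (fun x => (g.1⁻¹).1 *ᵥ x) h0
  simpa [Matrix.mulVec_mulVec, gl_inv_mul] using this

lemma stepAt_Phi (σ : F ≃+* F) : StepAt (Phi σ : MulAut (Cfsg.PSp m F)) := by
  intro v hv
  refine ⟨_, ?_, rel_Phi σ v⟩
  intro h0
  apply hv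
  funext i
  have := congrFun h0 i
  simpa using this

lemma stepAt_Phi_inv (σ : F ≃+* F) : StepAt ((Phi σ)⁻¹ : MulAut (Cfsg.PSp m F)) := by
  rw [← map_inv]
  exact stepAt_Phi σ⁻¹

/-- every automorphism of `PSp_{2m}(F)` is a `GSp`-automorphism times a field automorphism -/
theorem aut_decomp' [Fintype F] [NeZero m] (hm : 2 ≤ m)
    (β : MulAut (Cfsg.PSp m F)) (hA : StepAt β) :
    ∃ (g : ↥(Cfsg.GSp m F)) (σ : F ≃+* F), β = Gam g * Phi σ := by
  obtain ⟨Q, hQ⟩ := exists_fixFrame' hm β hA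
  have hA1 : StepAt (MulAut.conj (pr Q) * β) := (stepAt_conj Q).mul hA
  obtain ⟨g₁, hN⟩ := exists_normalized' hm hA1 hQ
  obtain ⟨β₂, hβ₂⟩ : ∃ β₂, β₂ = Gam g₁ * (MulAut.conj (pr Q) * β) := ⟨_, rfl⟩
  rw [← hβ₂] at hN
  obtain ⟨σ, hσ⟩ := exists_sigma hm hN
  obtain ⟨β₃, hβ₃⟩ : ∃ β₃, β₃ = (Phi σ)⁻¹ * β₂ := ⟨_, rfl⟩
  have hPhiRel : ∀ v : Vec m F, (fun i => σ (v i)) = v → Rel ((Phi σ)⁻¹ : MulAut (Cfsg.PSp m F)) v v := by
    intro v hv
    have := (rel_Phi (m := m) σ v).inv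
    rwa [hv] at this
  have hF3 : FixFrame β₃ := by
    intro s
    rw [hβ₃]
    exact (hN.1 s).comp (hPhiRel _ (map_bV σ s))
  have hU3 : ∀ j : Fin m, j ≠ 0 → Rel β₃ (eV 0 + eV j) (eV 0 + eV j) := by
    intro j hj
    rw [hβ₃]
    exact (hN.2.1 j hj).comp (hPhiRel _ (map_unit σ j))
  have hT3 : FixT β₃ := by
    intro i c
    constructor
    · rw [mem_FixS, hβ₃, MulAut.mul_apply, (hσ i c).1, MulAut.inv_apply, MulEquiv.symm_apply_eq,
        Phi_T, map_eV]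
    · rw [mem_FixS, hβ₃, MulAut.mul_apply, (hσ i c).2, MulAut.inv_apply, MulEquiv.symm_apply_eq,
        Phi_T, map_fV]
  have hA3 : StepAt β₃ := by
    rw [hβ₃, hβ₂]
    exact (stepAt_Phi_inv σ).mul ((stepAt_Gam g₁).mul hA1)
  have h1 : β₃ = 1 := eq_one_of_rel_all hm (fun x hx => rel_all' hm hA3 hF3 hT3 hU3 hx)
  refine ⟨(spToGSp Q)⁻¹ * g₁⁻¹, σ, ?_⟩
  rw [map_mul, map_inv, map_inv, ← conj_pr_eq_Gam]
  have h2 : β₂ = Phi σ := by
    have : Phi σ * β₃ = β₂ := by rw [hβ₃, mul_inv_cancel_left]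
    rw [← this, h1, mul_one]
  rw [← h2, hβ₂]
  group

theorem aut_decomp [Fintype F] [NeZero m] (hm : 2 ≤ m) (hA : StepA m F)
    (β : MulAut (Cfsg.PSp m F)) :
    ∃ (g : ↥(Cfsg.GSp m F)) (σ : F ≃+* F), β = Gam g * Phi σ :=
  aut_decomp' hm β (hA β)

/-- the automorphism group of `PSp_{2m}(F)` is generated by the semilinear conformal maps -/
theorem gamma_eq_top [Fintype F] {p : ℕ} [Fact p.Prime] [CharP F p] (hm : 2 ≤ m)
    (h4 : m = 2 → p ≠ 2) : Cfsg.gammaPSp m F = ⊤ := by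
  haveI : NeZero m := ⟨by omega⟩
  have hA : StepA m F := fun β v hv => exists_rel hm p h4 β hv
  rw [eq_top_iff]
  intro β _
  obtain ⟨g, σ, rfl⟩ := aut_decomp hm hA β
  exact Gam_mul_Phi_mem_gamma g σ

end Cfsg.Agent.Lib.Helper45.SpAut
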