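import Mathlib
import Cfsg.Agent.Lib.Helper45.SpAutFinal
import Cfsg.Agent.Lib.Helper45.AutPSLCoset

set_option autoImplicit false
set_option linter.unusedSimpArgs false
set_option linter.unusedVariables false
set_option linter.unusedSectionVars false
set_option linter.unnecessarySeqFocus false

/-!
# Structure of `Aut(PSp_{2m}(F))`: the maps `Gam`, `Phi` and the inner-diagonal group
-/

namespace Cfsg.Agent.Lib.Helper45.SpAut

open Matrix Cfsg.Agent.Lib.Helper13 Pointwise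
open Cfsg.Agent.Lib.Helper5.AutPSLn (Par)

variable {F : Type*} [Field F] {m : ℕ}

/-! ### The predicates of the statements in terms of `Gam` and `Phi` -/

lemma isInduced_iff (g : ↥(Cfsg.GSp m F)) (σ : F ≃+* F) (β : MulAut (Cfsg.PSp m F)) :
    Cfsg.IsInducedBySemilinearPSp g.1 σ β ↔ β = Gam g * Phi σ := by
  constructor
  · intro h
    ext y
    obtain ⟨s, rfl⟩ := pr_surjective y
    rw [MulAut.mul_apply, Phi_pr, Gam_pr]
    exact h s (conjSp g (fieldSp σ s)) rfl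
  · rintro rfl
    exact isInduced_Gam_mul_Phi g σ

lemma Phi_refl : (Phi (RingEquiv.refl F) : MulAut (Cfsg.PSp m F)) = 1 := map_one Phi

lemma isInnerDiagonal_iff (β : MulAut (Cfsg.PSp m F)) :
    Cfsg.IsInnerDiagonalAutPSp β ↔ ∃ g : ↥(Cfsg.GSp m F), β = Gam g := by
  constructor
  · rintro ⟨g, hg, h⟩
    refine ⟨⟨g, hg⟩, ?_⟩
    have := (isInduced_iff ⟨g, hg⟩ (RingEquiv.refl F) β).1 h
    rwa [Phi_refl, mul_one] at this
  · rintro ⟨g, rfl⟩
    refine ⟨g.1, g.2, ?_⟩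
    have := isInduced_Gam_mul_Phi g (RingEquiv.refl F)
    rwa [Phi_refl, mul_one] at this

/-- `Inndiag(PSp_{2m}(F))` is the image of `GSp_{2m}(F)` -/
theorem inndiag_eq : Cfsg.inndiagPSp m F =
    (Gam : ↥(Cfsg.GSp m F) →* MulAut (Cfsg.PSp m F)).range := by
  unfold Cfsg.inndiagPSp Cfsg.autSubgroupOf
  have : {β : MulAut (Cfsg.PSp m F) | Cfsg.IsInnerDiagonalAutPSp β} =
      ((Gam : ↥(Cfsg.GSp m F) →* MulAut (Cfsg.PSp m F)).range : Set _) := by
    ext β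
    rw [Set.mem_ofPred_eq, isInnerDiagonal_iff]
    constructor
    · rintro ⟨g, rfl⟩; exact ⟨g, rfl⟩
    · rintro ⟨g, rfl⟩; exact ⟨g, rfl⟩
  rw [this, Subgroup.closure_eq]

lemma mem_inndiag_iff (β : MulAut (Cfsg.PSp m F)) :
    β ∈ Cfsg.inndiagPSp m F ↔ ∃ g : ↥(Cfsg.GSp m F), Gam g = β := by
  rw [inndiag_eq]; rfl

lemma isStdField_iff (σ : F ≃+* F) (β : MulAut (Cfsg.PSp m F)) :
    Cfsg.IsStdFieldAutPSp σ β ↔ β = Phi σ := by
  constructor
  · intro h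
    ext y
    obtain ⟨s, rfl⟩ := pr_surjective y
    rw [Phi_pr]
    exact h s (fieldSp σ s) rfl
  · rintro rfl
    intro s s' h
    show Phi σ (pr s) = pr s'
    rw [Phi_pr]
    congr 1
    apply Subtype.ext
    rw [fieldSp_coe, h]

/-! ### The multiplier in matrix form -/

lemma B_eq_dot (M : Matrix (Fin m ⊕ Fin m) (Fin m ⊕ Fin m) F) (u v : Vec m F) :
    B (M *ᵥ u) (M *ᵥ v) = u ⬝ᵥ ((Mᵀ * J (Fin m) F * M) *ᵥ v) := by
  show (M *ᵥ u) ⬝ᵥ (J (Fin m) F *ᵥ (M *ᵥ v)) = _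
  rw [← mulVec_mulVec, ← mulVec_mulVec, dotProduct_mulVec u Mᵀ, vecMul_transpose]

lemma eq_of_dot_eq {M N : Matrix (Fin m ⊕ Fin m) (Fin m ⊕ Fin m) F}
    (h : ∀ u v : Vec m F, u ⬝ᵥ (M *ᵥ v) = u ⬝ᵥ (N *ᵥ v)) : M = N := by
  ext i j
  have := h (Pi.single i 1) (Pi.single j 1)
  simpa using this

lemma mult_iff (M : Matrix (Fin m ⊕ Fin m) (Fin m ⊕ Fin m) F) (c : F) :
    (∀ u v : Vec m F, B (M *ᵥ u) (M *ᵥ v) = c * B u v) ↔
      Mᵀ * J (Fin m) F * M = c • J (Fin m) F := by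
  constructor
  · intro h
    apply eq_of_dot_eq
    intro u v
    rw [← B_eq_dot, h, smul_mulVec, dotProduct_smul, smul_eq_mul]
    rfl
  · intro h u v
    rw [B_eq_dot, h, smul_mulVec, dotProduct_smul, smul_eq_mul]
    rfl

lemma mem_GSp_iff (g : GL (Fin m ⊕ Fin m) F) :
    g ∈ Cfsg.GSp m F ↔ ∃ c : F, c ≠ 0 ∧ g.1ᵀ * J (Fin m) F * g.1 = c • J (Fin m) F := by
  constructor
  · intro hg
    obtain ⟨c, hc, h⟩ := exists_mult hg
    exact ⟨c, hc, (mult_iff _ _).1 h⟩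
  · rintro ⟨c, hc, h⟩
    exact mem_GSp_of_mult hc ((mult_iff _ _).2 h)

/-! ### Entrywise field automorphisms on `GL` and `GSp` -/

/-- entrywise field automorphism on `GL` of the natural module -/
noncomputable def glSp (σ : F ≃+* F) : GL (Fin m ⊕ Fin m) F →* GL (Fin m ⊕ Fin m) F :=
  Matrix.GeneralLinearGroup.map σ.toRingHom

lemma glSp_val (σ : F ≃+* F) (g : GL (Fin m ⊕ Fin m) F) : (glSp σ g).1 = g.1.map σ := rfl

lemma map_mul' (σ : F ≃+* F) (M N : Matrix (Fin m ⊕ Fin m) (Fin m ⊕ Fin m) F) :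
    (M * N).map σ = M.map σ * N.map σ := by
  exact Matrix.map_mul (f := σ.toRingHom)

lemma glSp_mem (σ : F ≃+* F) {g : GL (Fin m ⊕ Fin m) F} (hg : g ∈ Cfsg.GSp m F) :
    glSp σ g ∈ Cfsg.GSp m F := by
  rw [mem_GSp_iff] at hg ⊢
  obtain ⟨c, hc, h⟩ := hg
  refine ⟨σ c, by simpa using hc, ?_⟩
  have h2 := congrArg (fun M : Matrix (Fin m ⊕ Fin m) (Fin m ⊕ Fin m) F => M.map σ) h
  simp only [map_mul', J_map] at h2
  rw [glSp_val, ← transpose_map, h2]
  ext i j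
  simp [Matrix.map_apply, Matrix.smul_apply]
  left
  have := congrFun (congrFun (J_map (m := m) σ) i) j
  simpa [Matrix.map_apply] using this

/-- entrywise field automorphism on `GSp` -/
noncomputable def gspS (σ : F ≃+* F) : ↥(Cfsg.GSp m F) →* ↥(Cfsg.GSp m F) :=
  ((glSp σ).comp (Cfsg.GSp m F).subtype).codRestrict (Cfsg.GSp m F) (fun g => glSp_mem σ g.2)

lemma gspS_val (σ : F ≃+* F) (g : ↥(Cfsg.GSp m F)) : (gspS σ g).1 = glSp σ g.1 := rfl

lemma gspS_val_val (σ : F ≃+* F) (g : ↥(Cfsg.GSp m F)) : (gspS σ g).1.1 = g.1.1.map σ := rfl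

lemma gspS_inv_val (σ : F ≃+* F) (g : ↥(Cfsg.GSp m F)) :
    ((gspS σ g).1⁻¹).1 = (g.1⁻¹).1.map σ := by
  rw [gspS_val, ← map_inv]; rfl

lemma Phi_mul_Gam (σ : F ≃+* F) (g : ↥(Cfsg.GSp m F)) :
    Phi σ * Gam g = Gam (gspS σ g) * Phi σ := by
  ext y
  obtain ⟨s, rfl⟩ := pr_surjective y
  rw [MulAut.mul_apply, MulAut.mul_apply, Gam_pr, Phi_pr, Phi_pr, Gam_pr]
  congr 1
  apply Subtype.ext
  rw [fieldSp_coe, conjSp_coe, conjSp_coe, fieldSp_coe, gspS_inv_val, gspS_val_val, map_mul', map_mul']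

lemma Phi_conj_Gam (σ : F ≃+* F) (g : ↥(Cfsg.GSp m F)) :
    Phi σ * Gam g * (Phi σ)⁻¹ = Gam (gspS σ g) := by
  rw [Phi_mul_Gam, mul_assoc, mul_inv_cancel, mul_one]

/-! ### Scalars -/

lemma scalar_mem_GSp (c : Fˣ) :
    Matrix.GeneralLinearGroup.scalar (Fin m ⊕ Fin m) c ∈ Cfsg.GSp m F := by
  apply mem_GSp_of_mult (c := (c : F) * c) (mul_ne_zero c.ne_zero c.ne_zero)
  intro u v
  have h1 : ∀ x : Vec m F, (Matrix.GeneralLinearGroup.scalar (Fin m ⊕ Fin m) c).1 *ᵥ x = (c : F) • x := by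
    intro x
    rw [Matrix.GeneralLinearGroup.coe_scalar, Matrix.scalar_apply, ← Matrix.smul_one_eq_diagonal,
      Matrix.smul_mulVec, Matrix.one_mulVec]
  rw [h1, h1]
  show Cfsg.sympForm m F _ _ = _
  rw [sympForm_smul_left, sympForm_smul_right, mul_assoc]

/-- the scalar matrices as elements of `GSp` -/
noncomputable def scG : Fˣ →* ↥(Cfsg.GSp m F) :=
  (Matrix.GeneralLinearGroup.scalar (Fin m ⊕ Fin m)).codRestrict (Cfsg.GSp m F) scalar_mem_GSp

lemma scG_val (c : Fˣ) : (scG c : ↥(Cfsg.GSp m F)).1 = Matrix.GeneralLinearGroup.scalar (Fin m ⊕ Fin m) c :=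
  rfl

lemma scG_mulVec (c : Fˣ) (x : Vec m F) : (scG c : ↥(Cfsg.GSp m F)).1.1 *ᵥ x = (c : F) • x := by
  rw [scG_val, Matrix.GeneralLinearGroup.coe_scalar, Matrix.scalar_apply, ← Matrix.smul_one_eq_diagonal,
    Matrix.smul_mulVec, Matrix.one_mulVec]

lemma Gam_scG (c : Fˣ) : (Gam (scG c) : MulAut (Cfsg.PSp m F)) = 1 := by
  ext y
  obtain ⟨s, rfl⟩ := pr_surjective y
  rw [Gam_pr, MulAut.one_apply]
  congr 1
  apply Subtype.ext
  rw [conjSp_coe]
  have h1 : (scG c : ↥(Cfsg.GSp m F)).1.1 * s.1 = s.1 * (scG c : ↥(Cfsg.GSp m F)).1.1 := by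
    rw [scG_val, Matrix.GeneralLinearGroup.coe_scalar]
    exact (Matrix.scalar_commute (c : F) (fun r' => Commute.all _ _) s.1).eq
  rw [h1, Matrix.mul_assoc, gl_mul_inv, Matrix.mul_one]

lemma scalar_of_par (M : Matrix (Fin m ⊕ Fin m) (Fin m ⊕ Fin m) F)
    (h : ∀ v : Vec m F, v ≠ 0 → Par v (M *ᵥ v)) : ∃ a : F, M = Matrix.scalar (Fin m ⊕ Fin m) a := by
  set f : (Vec m F) →ₗ[F] (Vec m F) := Matrix.toLin' M with hf
  obtain ⟨a, ha⟩ := f.exists_eq_smul_id_of_forall_notLinearIndependent fun v ↦ by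
    by_cases hv : v = 0
    · simp [hv, linearIndependent_fin2]
    · obtain ⟨c, hc0, hc⟩ := h v hv
      rw [LinearIndependent.pair_iff' hv]
      push Not
      exact ⟨c, by rw [hf, Matrix.toLin'_apply, hc]⟩
  refine ⟨a, ?_⟩
  calc M = LinearMap.toMatrix' f := by rw [hf, LinearMap.toMatrix'_toLin']
    _ = (algebraMap F (Module.End F (Vec m F)) a).toMatrix' := by
        rw [ha]; rfl
    _ = Matrix.scalar (Fin m ⊕ Fin m) a := LinearMap.toMatrix'_algebraMap a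

/-- the kernel of `Gam` consists of the scalars -/
theorem exists_scG_of_Gam_eq_one [NeZero m] (hm : 2 ≤ m) {g : ↥(Cfsg.GSp m F)}
    (h : (Gam g : MulAut (Cfsg.PSp m F)) = 1) : ∃ c : Fˣ, g = scG c := by
  have hpar : ∀ v : Vec m F, v ≠ 0 → Par v (g.1.1 *ᵥ v) := by
    intro v hv
    have h1 : Rel (Gam g) v v := by rw [h]; exact Rel.one v
    exact (Rel.unique hm h1 (rel_Gam g v) hv).symm
  obtain ⟨a, ha⟩ := scalar_of_par g.1.1 hpar
  have ha0 : a ≠ 0 := by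
    rintro rfl
    have hv : (eV (0 : Fin m) : Vec m F) ≠ 0 := by
      intro h0
      have := congrFun h0 (Sum.inl 0)
      simp [eV] at this
    obtain ⟨c, hc0, hc⟩ := hpar _ hv
    rw [ha, map_zero, Matrix.zero_mulVec] at hc
    have := congrFun hc (Sum.inl 0)
    simp [eV] at this
    exact hc0 this.symm
  refine ⟨Units.mk0 a ha0, ?_⟩
  apply Subtype.ext
  apply Units.ext
  rw [scG_val, Matrix.GeneralLinearGroup.coe_scalar]
  exact ha

theorem Phi_injective [NeZero m] :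
    Function.Injective (Phi : (F ≃+* F) →* MulAut (Cfsg.PSp m F)) := by
  rw [injective_iff_map_eq_one]
  intro σ h
  ext a
  have hv : (eV (0 : Fin m) : Vec m F) ≠ 0 := by
    intro h0
    have := congrFun h0 (Sum.inl 0)
    simp [eV] at this
  have h1 := Phi_T σ (eV (0 : Fin m) : Vec m F) a
  rw [h, MulAut.one_apply, map_eV] at h1
  exact (pr_T_injective hv h1).symm

/-! ### Normality of the inner-diagonal group -/

/-- in characteristic two over a finite field, `GSp` induces only inner automorphisms -/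
lemma Gam_eq_conj_of_char_two [Fintype F] [CharP F 2] (g : ↥(Cfsg.GSp m F)) :
    ∃ s : SpG m F, (Gam g : MulAut (Cfsg.PSp m F)) = MulAut.conj (pr s) := by
  obtain ⟨c, hc, h⟩ := exists_mult g.2
  have hF : ringChar F = 2 := ringChar.eq F 2
  obtain ⟨d, hd⟩ := FiniteField.isSquare_of_char_two hF c
  have hd0 : d ≠ 0 := by
    rintro rfl
    rw [mul_zero] at hd
    exact hc hd
  obtain ⟨k, hk⟩ : ∃ k : ↥(Cfsg.GSp m F), k = (scG (Units.mk0 d hd0))⁻¹ * g := ⟨_, rfl⟩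
  have hk1 : ∀ x : Vec m F, k.1.1 *ᵥ x = d⁻¹ • (g.1.1 *ᵥ x) := by
    intro x
    rw [hk, ← map_inv]
    show ((scG (Units.mk0 d hd0)⁻¹ : ↥(Cfsg.GSp m F)).1 * g.1).1 *ᵥ x = _
    rw [Units.val_mul, ← mulVec_mulVec, scG_mulVec]
    simp
  have hmem : k.1.1 ∈ Matrix.symplecticGroup (Fin m) F := by
    apply mem_symplectic_of_preserves
    intro u v
    rw [hk1, hk1, sympForm_smul_left, sympForm_smul_right]
    show d⁻¹ * (d⁻¹ * B _ _) = _
    rw [h, hd]
    show _ = B u v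
    field_simp
  refine ⟨⟨k.1.1, hmem⟩, ?_⟩
  have h2 : spToGSp ⟨k.1.1, hmem⟩ = k := by
    apply Subtype.ext
    apply Units.ext
    rfl
  rw [conj_pr_eq_Gam, h2, hk, map_mul, map_inv, Gam_scG, inv_one, one_mul]

/-- the image of `GSp_{2m}(F)` is normal in the automorphism group, also for `Sp_4(2^f)` -/
theorem Gam_range_normal [Fintype F] (hm : 2 ≤ m) :
    ((Gam : ↥(Cfsg.GSp m F) →* MulAut (Cfsg.PSp m F)).range).Normal := by
  haveI : NeZero m := ⟨by omega⟩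
  obtain ⟨p, hp⟩ := CharP.exists F
  haveI := hp
  haveI : Fact p.Prime := ⟨CharP.char_is_prime F p⟩
  by_cases h2 : p = 2
  · subst h2
    constructor
    rintro _ ⟨g, rfl⟩ α
    obtain ⟨s, hs⟩ := Gam_eq_conj_of_char_two g
    obtain ⟨z, hz⟩ := pr_surjective (α (pr s))
    refine ⟨spToGSp z, ?_⟩
    rw [← conj_pr_eq_Gam, hz, hs]
    ext y
    simp
  · have hA : StepA m F := fun β v hv => exists_rel hm p (fun _ => h2) β hv
    constructor
    rintro _ ⟨g, rfl⟩ α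
    obtain ⟨k, σ, rfl⟩ := aut_decomp hm hA α
    refine ⟨k * gspS σ g * k⁻¹, ?_⟩
    rw [map_mul, map_mul, map_inv, ← Phi_conj_Gam]
    group

theorem inndiag_normal [Fintype F] (hm : 2 ≤ m) : (Cfsg.inndiagPSp m F).Normal := by
  rw [inndiag_eq]
  exact Gam_range_normal hm

end Cfsg.Agent.Lib.Helper45.SpAut
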