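import Mathlib
import Cfsg.Agent.Lib.Helper45.SpAutStruct

set_option autoImplicit false
set_option linter.unusedSimpArgs false
set_option linter.unusedVariables false
set_option linter.unusedSectionVars false
set_option linter.unnecessarySeqFocus false

/-!
# Hilbert 90 for `GL` of the natural symplectic module, and scalar adjustment
-/

namespace Cfsg.Agent.Lib.Helper45.SpAut

open Matrix Cfsg.Agent.Lib.Helper13 Pointwise
open Cfsg.Agent.Lib.Helper5.AutPSLn (Par)
open Cfsg.Agent.Lib.Helper45.AutPSL (tw tw_succ tw_zero pow_eq_tw S_tw_fixed map_tw tw_mul_central twHom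
  uS uS_val uS_iterate uS_one h90_units norm_surj uS_tw_fixed dedekind_pow)

variable {F : Type*} [Field F] {m : ℕ}

/-- the semilinear map `v ↦ g σ(v)` -/
def semiSp (σ : F ≃+* F) (g : GL (Fin m ⊕ Fin m) F) (v : Vec m F) : Vec m F :=
  g.1 *ᵥ (fun i => σ (v i))

lemma semiSp_add (σ : F ≃+* F) (g : GL (Fin m ⊕ Fin m) F) (v w : Vec m F) :
    semiSp σ g (v + w) = semiSp σ g v + semiSp σ g w := by
  unfold semiSp
  rw [← Matrix.mulVec_add]
  congr 1
  ext i
  simp

lemma semiSp_zero (σ : F ≃+* F) (g : GL (Fin m ⊕ Fin m) F) : semiSp σ g 0 = 0 := by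
  unfold semiSp
  have : (fun i => σ ((0 : Vec m F) i)) = 0 := by ext i; simp
  rw [this, Matrix.mulVec_zero]

lemma semiSp_sum (σ : F ≃+* F) (g : GL (Fin m ⊕ Fin m) F) {κ : Type*} (s : Finset κ)
    (f : κ → Vec m F) :
    semiSp σ g (∑ k ∈ s, f k) = ∑ k ∈ s, semiSp σ g (f k) := by
  classical
  induction s using Finset.induction_on with
  | empty => simp [semiSp_zero]
  | insert a s ha ih => rw [Finset.sum_insert ha, Finset.sum_insert ha, semiSp_add, ih]

lemma semiSp_iterate (σ : F ≃+* F) (g : GL (Fin m ⊕ Fin m) F) (k : ℕ) (v : Vec m F) :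
    (semiSp σ g)^[k] v = (tw (glSp σ) g k).1 *ᵥ (fun i => (σ ^ k) (v i)) := by
  induction k with
  | zero => simp
  | succ k ih =>
    rw [Function.iterate_succ_apply', ih, tw_succ]
    unfold semiSp
    rw [Units.val_mul, ← Matrix.mulVec_mulVec]
    congr 1
    ext i
    have := RingHom.map_mulVec σ.toRingHom (tw (glSp σ) g k).1 (fun i => (σ ^ k) (v i)) i
    simp only [RingEquiv.toRingHom_eq_coe, RingHom.coe_coe] at this
    rw [this, glSp_val]
    congr 1
    ext i
    rw [pow_succ']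
    rfl

lemma semiSp_iterate_smul (σ : F ≃+* F) (g : GL (Fin m ⊕ Fin m) F) (k : ℕ) (c : F) (v : Vec m F) :
    (semiSp σ g)^[k] (c • v) = (σ ^ k) c • (semiSp σ g)^[k] v := by
  rw [semiSp_iterate, semiSp_iterate, ← Matrix.mulVec_smul]
  congr 1
  ext i
  simp

/-- **Hilbert 90 for `GL` of the natural symplectic module** -/
theorem h90_GLSp (σ : F ≃+* F) (r : ℕ) (hr : orderOf σ = r) (hr0 : 0 < r)
    (g : GL (Fin m ⊕ Fin m) F) (hg : tw (glSp σ) g r = 1) :
    ∃ h : GL (Fin m ⊕ Fin m) F, g * glSp σ h = h := by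
  classical
  set T := semiSp σ g with hT
  have hσr : σ ^ r = 1 := by rw [← hr]; exact pow_orderOf_eq_one σ
  have hTr : ∀ v, T^[r] v = v := by
    intro v
    rw [hT, semiSp_iterate, hg, hσr]
    simp
  let b : (Vec m F) → (Vec m F) := fun v => ∑ k ∈ Finset.range r, T^[k] v
  have hb : ∀ v, T (b v) = b v := by
    intro v
    show T (∑ k ∈ Finset.range r, T^[k] v) = ∑ k ∈ Finset.range r, T^[k] v
    rw [hT, semiSp_sum, ← hT]
    have h1 : ∑ k ∈ Finset.range r, T (T^[k] v) = ∑ k ∈ Finset.range r, T^[k + 1] v := by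
      refine Finset.sum_congr rfl fun k _ => ?_
      rw [Function.iterate_succ_apply']
    rw [h1]
    have h2 := Finset.sum_range_succ' (fun k => T^[k] v) r
    have h3 := Finset.sum_range_succ (fun k => T^[k] v) r
    rw [h3, hTr] at h2
    simp only [Function.iterate_zero, id_eq] at h2
    exact (add_right_cancel h2).symm
  have hspan : Submodule.span F (Set.range b) = ⊤ := by
    by_contra hne
    obtain ⟨f, hf0, hf⟩ := Submodule.exists_le_ker_of_lt_top _ (lt_top_iff_ne_top.2 hne)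
    apply hf0
    refine LinearMap.ext fun v => ?_
    have h1 : ∀ x : F, ∑ k ∈ Finset.range r, f (T^[k] v) * (σ ^ k) x = 0 := by
      intro x
      have h2 : f (b (x • v)) = 0 := by
        have : b (x • v) ∈ Submodule.span F (Set.range b) := Submodule.subset_span ⟨_, rfl⟩
        exact LinearMap.mem_ker.1 (hf this)
      change f (∑ k ∈ Finset.range r, T^[k] (x • v)) = 0 at h2
      rw [map_sum] at h2
      rw [← h2]
      refine Finset.sum_congr rfl fun k _ => ?_
      rw [hT, semiSp_iterate_smul, map_smul, smul_eq_mul, mul_comm]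
    have h3 := dedekind_pow σ r hr (fun k => f (T^[k] v)) h1 0 hr0
    simpa using h3
  let 𝔟 := Module.Basis.ofSpan (K := F) (s := Set.range b) hspan.ge
  have hcard : Fintype.card ((linearIndepOn_empty F id).extend (Set.empty_subset (Set.range b))) =
      Fintype.card (Fin m ⊕ Fin m) := by
    rw [← Module.finrank_eq_card_basis 𝔟, Module.finrank_fintype_fun_eq_card]
  let e : (Fin m ⊕ Fin m) ≃ ((linearIndepOn_empty F id).extend (Set.empty_subset (Set.range b))) :=
    (Fintype.equivOfCardEq hcard).symm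
  let 𝔟' : Module.Basis (Fin m ⊕ Fin m) F (Vec m F) := 𝔟.reindex e.symm
  have hfix : ∀ j, T (𝔟' j) = 𝔟' j := by
    intro j
    have : 𝔟' j ∈ Set.range b := by
      apply Module.Basis.ofSpan_subset hspan.ge
      exact ⟨e j, by simp [𝔟', 𝔟]⟩
    obtain ⟨v, hv⟩ := this
    rw [← hv, hb]
  let hm : Matrix (Fin m ⊕ Fin m) (Fin m ⊕ Fin m) F := (Pi.basisFun F (Fin m ⊕ Fin m)).toMatrix 𝔟'
  let hm' : Matrix (Fin m ⊕ Fin m) (Fin m ⊕ Fin m) F := 𝔟'.toMatrix (Pi.basisFun F (Fin m ⊕ Fin m))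
  have h12 : hm * hm' = 1 := Module.Basis.toMatrix_mul_toMatrix_flip _ _
  have h21 : hm' * hm = 1 := Module.Basis.toMatrix_mul_toMatrix_flip _ _
  refine ⟨⟨hm, hm', h12, h21⟩, ?_⟩
  apply Units.ext
  rw [Units.val_mul, glSp_val]
  show g.1 * hm.map σ = hm
  ext i j
  have h4 := congrFun (hfix j) i
  rw [hT] at h4
  unfold semiSp at h4
  rw [Matrix.mul_apply]
  simp only [Matrix.mulVec, dotProduct] at h4
  simpa [hm, Module.Basis.toMatrix_apply] using h4

/-! ### Scalars and twisted powers -/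

lemma glSp_scalar (σ : F ≃+* F) (c : Fˣ) :
    glSp σ (Matrix.GeneralLinearGroup.scalar (Fin m ⊕ Fin m) c) =
      Matrix.GeneralLinearGroup.scalar (Fin m ⊕ Fin m) (uS σ c) :=
  Matrix.GeneralLinearGroup.map_scalar _ _

lemma glSp_iterate (σ : F ≃+* F) (k : ℕ) (g : GL (Fin m ⊕ Fin m) F) :
    (glSp σ)^[k] g = glSp (σ ^ k) g := by
  induction k with
  | zero =>
    apply Units.ext
    rw [Function.iterate_zero, id_eq, pow_zero, glSp_val]
    ext i j
    rfl
  | succ k ih =>
    rw [Function.iterate_succ_apply', ih]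
    apply Units.ext
    rw [glSp_val, glSp_val, glSp_val, pow_succ']
    ext i j
    rfl

lemma glSp_one (g : GL (Fin m ⊕ Fin m) F) : glSp (1 : F ≃+* F) g = g := by
  apply Units.ext
  rw [glSp_val]
  ext i j
  rfl

lemma tw_scalarSp (σ : F ≃+* F) (c : Fˣ) (k : ℕ) :
    tw (glSp σ) (Matrix.GeneralLinearGroup.scalar (Fin m ⊕ Fin m) c) k =
      Matrix.GeneralLinearGroup.scalar (Fin m ⊕ Fin m) (tw (uS σ) c k) :=
  (map_tw (Matrix.GeneralLinearGroup.scalar (Fin m ⊕ Fin m)) (uS σ) (glSp σ)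
    (fun x => (glSp_scalar σ x).symm) c k).symm

lemma scalarSp_injective [NeZero m] :
    Function.Injective (Matrix.GeneralLinearGroup.scalar (Fin m ⊕ Fin m) : Fˣ →* GL (Fin m ⊕ Fin m) F) := by
  intro a b hab
  have h1 := congrArg (fun g : GL (Fin m ⊕ Fin m) F => g.1 (Sum.inl 0) (Sum.inl 0)) hab
  simp only [Matrix.GeneralLinearGroup.coe_scalar, Matrix.scalar_apply, Matrix.diagonal_apply_eq] at h1
  exact Units.ext h1

/-- adjusting by a scalar so that the twisted power becomes trivial -/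
theorem exists_scalar_adjustSp [Fintype F] [NeZero m] (σ : F ≃+* F) (r : ℕ) (hr : orderOf σ = r)
    (hr0 : 0 < r) (g : GL (Fin m ⊕ Fin m) F) (c : Fˣ)
    (hc : Matrix.GeneralLinearGroup.scalar (Fin m ⊕ Fin m) c = tw (glSp σ) g r) :
    ∃ μ : Fˣ, tw (glSp σ) (Matrix.GeneralLinearGroup.scalar (Fin m ⊕ Fin m) μ⁻¹ * g) r = 1 := by
  have hσr : σ ^ r = 1 := by rw [← hr]; exact pow_orderOf_eq_one σ
  have hfix : uS σ c = c := by
    apply scalarSp_injective (m := m)
    rw [← glSp_scalar, hc, S_tw_fixed (glSp σ) g r (by rw [glSp_iterate, hσr, glSp_one]), ← hc]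
    rw [mul_assoc, Matrix.GeneralLinearGroup.scalar_commute, inv_mul_cancel_left]
  obtain ⟨μ, hμ⟩ := norm_surj σ r hr hr0 c hfix
  refine ⟨μ, ?_⟩
  rw [tw_mul_central]
  · rw [tw_scalarSp, ← hc, ← map_mul]
    have : tw (uS σ) μ⁻¹ r = (tw (uS σ) μ r)⁻¹ := map_inv (twHom (uS σ) r) μ
    rw [this, hμ, inv_mul_cancel, map_one]
  · intro k x
    rw [tw_scalarSp, glSp_scalar]
    exact Matrix.GeneralLinearGroup.scalar_commute _ _

end Cfsg.Agent.Lib.Helper45.SpAut
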