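import Mathlib
import Cfsg.Agent.Lib.Helper45.SpAutH90
import Cfsg.Agent.Lib.Helper44.Darboux

set_option autoImplicit false
set_option linter.unusedSimpArgs false
set_option linter.unusedVariables false
set_option linter.unusedSectionVars false
set_option linter.unnecessarySeqFocus false

/-!
# Descent of a symplectic frame to the fixed field of a field automorphism
-/

namespace Cfsg.Agent.Lib.Helper45.SpAut

open Matrix Cfsg.Agent.Lib.Helper13 Pointwise
open Cfsg.Agent.Lib.Helper5.AutPSLn (Par)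
open Cfsg.Agent.Lib.Helper45.AutPSL (tw tw_succ tw_zero pow_eq_tw S_tw_fixed map_tw tw_mul_central twHom
  uS uS_val uS_iterate uS_one h90_units norm_surj uS_tw_fixed dedekind_pow)

variable {F : Type*} [Field F] {m : ℕ}

/-- the fixed field of a field automorphism -/
def fixK (σ : F ≃+* F) : Subfield F where
  carrier := {x | σ x = x}
  mul_mem' := by
    intro a b ha hb
    simp only [Set.mem_ofPred_eq] at *
    rw [map_mul, ha, hb]
  one_mem' := map_one σ
  add_mem' := by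
    intro a b ha hb
    simp only [Set.mem_ofPred_eq] at *
    rw [map_add, ha, hb]
  zero_mem' := map_zero σ
  neg_mem' := by
    intro a ha
    simp only [Set.mem_ofPred_eq] at *
    rw [map_neg, ha]
  inv_mem' := by
    intro a ha
    simp only [Set.mem_ofPred_eq] at *
    rw [map_inv₀, ha]

lemma mem_fixK {σ : F ≃+* F} {x : F} : x ∈ fixK σ ↔ σ x = x := Iff.rfl

lemma J_mapK {K : Type*} [Field K] (f : K →+* F) : (Matrix.J (Fin m) K).map f = Matrix.J (Fin m) F := by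
  ext i j
  rcases i with i | i <;> rcases j with j | j <;>
    simp [Matrix.J, Matrix.map_apply, Matrix.one_apply, apply_ite]

lemma map_fixK (σ : F ≃+* F) (M : Matrix (Fin m ⊕ Fin m) (Fin m ⊕ Fin m) (fixK σ)) :
    (M.map (fixK σ).subtype).map σ = M.map (fixK σ).subtype := by
  ext i j
  exact (M i j).2

/-- a matrix fixed by `σ` comes from the fixed field -/
lemma exists_of_map_eq (σ : F ≃+* F) (A : Matrix (Fin m ⊕ Fin m) (Fin m ⊕ Fin m) F)
    (h : A.map σ = A) :
    ∃ M : Matrix (Fin m ⊕ Fin m) (Fin m ⊕ Fin m) (fixK σ), M.map (fixK σ).subtype = A := by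
  refine ⟨fun i j => ⟨A i j, ?_⟩, ?_⟩
  · have := congrFun (congrFun h i) j
    exact this
  · ext i j
    rfl

/-- Darboux over the fixed field: a `σ`-fixed alternating invertible matrix is congruent to `-J`
by a `σ`-fixed invertible matrix -/
theorem exists_fixed_frame (σ : F ≃+* F) (A : Matrix (Fin m ⊕ Fin m) (Fin m ⊕ Fin m) F)
    (hσ : A.map σ = A) (halt : ∀ x : Vec m F, x ⬝ᵥ (A *ᵥ x) = 0) (hdet : A.det ≠ 0) :
    ∃ P P' : Matrix (Fin m ⊕ Fin m) (Fin m ⊕ Fin m) F, P * P' = 1 ∧ P' * P = 1 ∧ P.map σ = P ∧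
      Pᵀ * A * P = - Matrix.J (Fin m) F := by
  classical
  obtain ⟨M, hM⟩ := exists_of_map_eq σ A hσ
  set f : (fixK σ) →+* F := (fixK σ).subtype with hf
  have hinj : Function.Injective f := Subtype.val_injective
  let ω : LinearMap.BilinForm (fixK σ) (Fin m ⊕ Fin m → fixK σ) := Matrix.toBilin' M
  have hωalt : ω.IsAlt := by
    intro x
    apply hinj
    rw [map_zero]
    show f (Matrix.toBilin' M x x) = 0
    rw [Matrix.toBilin'_apply']
    rw [RingHom.map_dotProduct]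
    have e1 : f ∘ (M *ᵥ x) = M.map f *ᵥ (f ∘ x) := funext fun i => RingHom.map_mulVec f M x i
    rw [e1, hM]
    exact halt (f ∘ x)
  have hωnd : ω.Nondegenerate := by
    apply LinearMap.BilinForm.nondegenerate_toBilin'_of_det_ne_zero'
    intro h0
    apply hdet
    rw [← hM]
    have := RingHom.map_det f M
    rw [RingHom.mapMatrix_apply] at this
    rw [← this, h0, map_zero]
  have hfr : Module.finrank (fixK σ) (Fin m ⊕ Fin m → fixK σ) = 2 * m := by
    rw [Module.finrank_fintype_fun_eq_card, Fintype.card_sum, Fintype.card_fin, two_mul]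
  obtain ⟨𝔟, h𝔟⟩ := Cfsg.Agent.Lib.Helper44.darboux_basis m _ ω hωalt hωnd hfr
  let P₀ : Matrix (Fin m ⊕ Fin m) (Fin m ⊕ Fin m) (fixK σ) :=
    (Pi.basisFun (fixK σ) (Fin m ⊕ Fin m)).toMatrix 𝔟
  let P₀' : Matrix (Fin m ⊕ Fin m) (Fin m ⊕ Fin m) (fixK σ) :=
    𝔟.toMatrix (Pi.basisFun (fixK σ) (Fin m ⊕ Fin m))
  have h12 : P₀ * P₀' = 1 := Module.Basis.toMatrix_mul_toMatrix_flip _ _
  have h21 : P₀' * P₀ = 1 := Module.Basis.toMatrix_mul_toMatrix_flip _ _
  have hcong : P₀ᵀ * M * P₀ = - Matrix.J (Fin m) (fixK σ) := by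
    have := LinearMap.BilinForm.toMatrix_mul_basis_toMatrix (Pi.basisFun (fixK σ) (Fin m ⊕ Fin m)) 𝔟 ω
    rw [LinearMap.BilinForm.toMatrix_basisFun, LinearMap.BilinForm.toMatrix'_toBilin', h𝔟,
      Cfsg.Agent.Lib.Helper44.gramJ_eq] at this
    exact this
  refine ⟨P₀.map f, P₀'.map f, ?_, ?_, map_fixK σ P₀, ?_⟩
  · rw [← Matrix.map_mul, h12, Matrix.map_one _ (map_zero f) (map_one f)]
  · rw [← Matrix.map_mul, h21, Matrix.map_one _ (map_zero f) (map_one f)]
  · rw [← hM, ← Matrix.transpose_map, ← Matrix.map_mul, ← Matrix.map_mul, hcong]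
    rw [← J_mapK f]
    ext i j
    simp only [Matrix.map_apply, Matrix.neg_apply, map_neg]

/-- **Hilbert 90 for `GSp`**: a `GL`-solution of `g σ(k) = k` with `g ∈ GSp` can be replaced by
a `GSp`-solution -/
theorem h90_GSp [NeZero m] (σ : F ≃+* F) (g k : GL (Fin m ⊕ Fin m) F) (hg : g ∈ Cfsg.GSp m F)
    (hk : g * glSp σ k = k) :
    ∃ h : GL (Fin m ⊕ Fin m) F, h ∈ Cfsg.GSp m F ∧ g * glSp σ h = h := by
  classical
  obtain ⟨μ, hμ0, hμ⟩ := (mem_GSp_iff g).1 hg
  have hk' : g.1 * k.1.map σ = k.1 := by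
    have := congrArg Units.val hk
    rwa [Units.val_mul, glSp_val] at this
  obtain ⟨A, hA⟩ : ∃ A, A = k.1ᵀ * J (Fin m) F * k.1 := ⟨_, rfl⟩
  have hAσ : A = μ • A.map σ := by
    calc A = (g.1 * k.1.map σ)ᵀ * J (Fin m) F * (g.1 * k.1.map σ) := by rw [hk', hA]
      _ = (k.1.map σ)ᵀ * (g.1ᵀ * J (Fin m) F * g.1) * k.1.map σ := by
          rw [transpose_mul]; simp only [Matrix.mul_assoc]
      _ = μ • ((k.1.map σ)ᵀ * J (Fin m) F * k.1.map σ) := by
          rw [hμ, Matrix.mul_smul, Matrix.smul_mul]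
      _ = μ • A.map σ := by rw [hA, map_mul', map_mul', J_map, transpose_map]
  have hAdet : A.det ≠ 0 := by
    rw [hA, det_mul, det_mul, det_transpose]
    have h1 : k.1.det ≠ 0 := ((Matrix.isUnit_iff_isUnit_det _).1 k.isUnit).ne_zero
    have h2 : (J (Fin m) F).det ≠ 0 := (isUnit_det_J (Fin m) F).ne_zero
    exact mul_ne_zero (mul_ne_zero h1 h2) h1
  obtain ⟨i, j, hbne⟩ : ∃ i j, A i j ≠ 0 := by
    by_contra hcon
    push Not at hcon
    apply hAdet
    have hA0 : A = 0 := by ext i j; exact hcon i j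
    have hne : Nonempty (Fin m ⊕ Fin m) := ⟨Sum.inl 0⟩
    rw [hA0]
    exact det_zero
  obtain ⟨b, hb⟩ : ∃ b, b = A i j := ⟨_, rfl⟩
  rw [← hb] at hbne
  have hbσ : b = μ * σ b := by
    have := congrFun (congrFun hAσ i) j
    rw [Matrix.smul_apply, Matrix.map_apply, smul_eq_mul, ← hb] at this
    exact this
  obtain ⟨A', hA'⟩ : ∃ A', A' = b⁻¹ • A := ⟨_, rfl⟩
  have hA'σ : A'.map σ = A' := by
    ext i' j'
    have h1 := congrFun (congrFun hAσ i') j'
    rw [Matrix.smul_apply, Matrix.map_apply, smul_eq_mul] at h1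
    rw [hA', Matrix.map_apply, Matrix.smul_apply, smul_eq_mul, map_mul, map_inv₀]
    have hσb : σ b ≠ 0 := by simpa using hbne
    calc (σ b)⁻¹ * σ (A i' j') = (μ * σ b)⁻¹ * (μ * σ (A i' j')) := by field_simp
      _ = b⁻¹ * A i' j' := by rw [← hbσ, ← h1]
  have halt : ∀ x : Vec m F, x ⬝ᵥ (A' *ᵥ x) = 0 := by
    intro x
    rw [hA', smul_mulVec, dotProduct_smul, hA, ← B_eq_dot]
    show b⁻¹ • Cfsg.sympForm m F _ _ = 0
    rw [sympForm_self, smul_zero]
  have hdet' : A'.det ≠ 0 := by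
    rw [hA', Matrix.det_smul]
    exact mul_ne_zero (pow_ne_zero _ (inv_ne_zero hbne)) hAdet
  obtain ⟨P, P', h12, h21, hPσ, hcong⟩ := exists_fixed_frame σ A' hA'σ halt hdet'
  have hAA' : A = b • A' := by rw [hA', smul_inv_smul₀ hbne]
  refine ⟨k * ⟨P, P', h12, h21⟩, ?_, ?_⟩
  · rw [mem_GSp_iff]
    refine ⟨-b, neg_ne_zero.2 hbne, ?_⟩
    rw [Units.val_mul]
    show (k.1 * P)ᵀ * J (Fin m) F * (k.1 * P) = _
    calc (k.1 * P)ᵀ * J (Fin m) F * (k.1 * P) = Pᵀ * (k.1ᵀ * J (Fin m) F * k.1) * P := by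
          rw [transpose_mul]; simp only [Matrix.mul_assoc]
      _ = b • (Pᵀ * A' * P) := by rw [← hA, hAA', Matrix.mul_smul, Matrix.smul_mul]
      _ = -b • J (Fin m) F := by rw [hcong, smul_neg, neg_smul]
  · apply Units.ext
    rw [Units.val_mul, glSp_val, Units.val_mul]
    show g.1 * (k.1 * P).map σ = k.1 * P
    rw [map_mul', hPσ, ← Matrix.mul_assoc, hk']

end Cfsg.Agent.Lib.Helper45.SpAut
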