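import Mathlib
import Cfsg.Agent.Lib.Helper45.SpAutDescent

set_option autoImplicit false
set_option linter.unusedSimpArgs false
set_option linter.unusedVariables false
set_option linter.unusedSectionVars false
set_option linter.unnecessarySeqFocus false
set_option linter.style.haveILetI false

/-!
# Elements of prime order in the coset of a field automorphism of `PSp_{2m}(F)`
-/

namespace Cfsg.Agent.Lib.Helper45.SpAut

open Matrix Cfsg.Agent.Lib.Helper13 Pointwise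
open Cfsg.Agent.Lib.Helper5.AutPSLn (Par)
open Cfsg.Agent.Lib.Helper45.AutPSL (tw tw_succ tw_zero pow_eq_tw S_tw_fixed map_tw tw_mul_central twHom
  uS uS_val uS_iterate uS_one h90_units norm_surj uS_tw_fixed dedekind_pow transfer orderOf_conj_eq)

variable {F : Type*} [Field F] {m : ℕ}

lemma Phi_pow (σ : F ≃+* F) (k : ℕ) :
    (Phi σ : MulAut (Cfsg.PSp m F)) ^ k = Phi (σ ^ k) :=
  (map_pow _ _ _).symm

/-- **the coset of a field automorphism**: an element of `Inndiag · φ` with trivial `r`-th power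
is `Inndiag`-conjugate to `φ` -/
theorem field_caseSp [Fintype F] [NeZero m] (hm : 2 ≤ m) (σ : F ≃+* F) (r : ℕ)
    (hr : orderOf σ = r) (hr0 : 0 < r) (g : ↥(Cfsg.GSp m F))
    (h : (Gam g * Phi σ : MulAut (Cfsg.PSp m F)) ^ r = 1) :
    ∃ h : ↥(Cfsg.GSp m F),
      (Gam g * Phi σ : MulAut (Cfsg.PSp m F)) = Gam h * Phi σ * (Gam h)⁻¹ := by
  have hσr : σ ^ r = 1 := by rw [← hr]; exact pow_orderOf_eq_one σ
  have e1 := pow_eq_tw (Gam : ↥(Cfsg.GSp m F) →* MulAut (Cfsg.PSp m F))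
    (Phi σ) (gspS σ) (Phi_mul_Gam σ) g r
  rw [h, Phi_pow, hσr, map_one, mul_one] at e1
  obtain ⟨c, hc⟩ := exists_scG_of_Gam_eq_one hm e1.symm
  have hc' : Matrix.GeneralLinearGroup.scalar (Fin m ⊕ Fin m) c = tw (glSp σ) g.1 r := by
    have h1 := map_tw (Cfsg.GSp m F).subtype (gspS σ) (glSp σ) (fun x => rfl) g r
    rw [hc] at h1
    exact h1
  obtain ⟨μ, hμ⟩ := exists_scalar_adjustSp σ r hr hr0 g.1 c hc'
  obtain ⟨k, hk⟩ := h90_GLSp σ r hr hr0 _ hμ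
  obtain ⟨h₀, hh₀, hk2⟩ := h90_GSp σ _ k (mul_mem (scalar_mem_GSp μ⁻¹) g.2) hk
  obtain ⟨H, hH⟩ : ∃ H : ↥(Cfsg.GSp m F), H = ⟨h₀, hh₀⟩ := ⟨_, rfl⟩
  have h2 : (scG μ⁻¹ * g) * gspS σ H = H := by
    apply Subtype.ext
    rw [hH]
    exact hk2
  have h3 : g = scG μ * H * (gspS σ H)⁻¹ := by
    have : g = scG μ * ((scG μ⁻¹ * g) * gspS σ H) * (gspS σ H)⁻¹ := by
      rw [map_inv]; group
    rw [h2] at this
    exact this
  have h4 : (Gam g : MulAut (Cfsg.PSp m F)) = Gam H * (Gam (gspS σ H))⁻¹ := by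
    rw [h3, map_mul, map_mul, Gam_scG, one_mul, map_inv]
  refine ⟨H, ?_⟩
  calc (Gam g * Phi σ : MulAut (Cfsg.PSp m F))
      = Gam H * (Gam (gspS σ H))⁻¹ * Phi σ := by rw [h4]
    _ = Gam H * (Gam (gspS σ H⁻¹) * Phi σ) := by rw [map_inv, map_inv]; group
    _ = Gam H * (Phi σ * Gam H⁻¹) := by rw [Phi_mul_Gam]
    _ = Gam H * Phi σ * (Gam H)⁻¹ := by rw [map_inv]; group

/-- **S2713**, in terms of the standard maps -/
theorem coset_conjSp [Fintype F] (hm : 2 ≤ m)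
    (x δ : MulAut (Cfsg.PSp m F)) (hx : Cfsg.IsFieldAutClassPSp x) {r : ℕ} (hr : r.Prime)
    (hxr : orderOf x = r) (hδ : δ ∈ Cfsg.inndiagPSp m F) (hpow : (δ * x) ^ r = 1) :
    Cfsg.IsConjUnder (Cfsg.inndiagPSp m F) x (δ * x) := by
  haveI : NeZero m := ⟨by omega⟩
  haveI hnorm := inndiag_normal (F := F) hm
  obtain ⟨α, σ, hσ1, hstd⟩ := hx
  rw [isStdField_iff] at hstd
  have hσr : orderOf σ = r := by
    rw [← orderOf_injective (Phi : (F ≃+* F) →* MulAut (Cfsg.PSp m F))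
      Phi_injective σ, ← hstd, orderOf_conj_eq, hxr]
  apply transfer (Cfsg.inndiagPSp m F) x (Phi σ) α δ hstd hδ r _ hpow
  intro δ' hδ' hδ'r
  obtain ⟨g, rfl⟩ := (mem_inndiag_iff _).1 hδ'
  obtain ⟨k, hk⟩ := field_caseSp hm σ r hσr hr.pos g hδ'r
  exact ⟨Gam k, (mem_inndiag_iff _).2 ⟨k, rfl⟩, hk⟩

end Cfsg.Agent.Lib.Helper45.SpAut
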