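import Mathlib
import Cfsg.Agent.Lib.Helper45.SpAutCoset

set_option autoImplicit false
set_option linter.unusedSimpArgs false
set_option linter.unusedVariables false
set_option linter.unusedSectionVars false
set_option linter.unnecessarySeqFocus false
set_option linter.style.haveILetI false

/-!
# The multiplier homomorphism `GSp_{2m}(F) → Fˣ` and the inner automorphisms
-/

namespace Cfsg.Agent.Lib.Helper45.SpAut

open Matrix Cfsg.Agent.Lib.Helper13 Pointwise
open Cfsg.Agent.Lib.Helper5.AutPSLn (Par)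
open Cfsg.Agent.Lib.Helper45.AutPSL (uS uS_val)

variable {F : Type*} [Field F] {m : ℕ}

lemma exists_B_eq_one [NeZero m] : ∃ u v : Vec m F, B u v = 1 := by
  refine ⟨fV 0, eV 0, ?_⟩
  rw [B_eV_right]
  simp [fV]

/-- the multiplier of an element of `GSp` -/
noncomputable def multFun (g : ↥(Cfsg.GSp m F)) : Fˣ :=
  Classical.choose (g.2 : ∃ c : Fˣ, ∀ u v : Vec m F, B (g.1.1 *ᵥ u) (g.1.1 *ᵥ v) = (c : F) * B u v)

lemma multFun_spec (g : ↥(Cfsg.GSp m F)) (u v : Vec m F) :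
    B (g.1.1 *ᵥ u) (g.1.1 *ᵥ v) = (multFun g : F) * B u v :=
  Classical.choose_spec (g.2 : ∃ c : Fˣ, ∀ u v : Vec m F,
    B (g.1.1 *ᵥ u) (g.1.1 *ᵥ v) = (c : F) * B u v) u v

lemma multFun_unique [NeZero m] (g : ↥(Cfsg.GSp m F)) (c : Fˣ)
    (h : ∀ u v : Vec m F, B (g.1.1 *ᵥ u) (g.1.1 *ᵥ v) = (c : F) * B u v) : multFun g = c := by
  obtain ⟨u, v, huv⟩ := exists_B_eq_one (F := F) (m := m)
  have h1 := multFun_spec g u v
  rw [h u v, huv, mul_one, mul_one] at h1
  exact (Units.ext h1).symm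

/-- the multiplier homomorphism -/
noncomputable def mult [NeZero m] : ↥(Cfsg.GSp m F) →* Fˣ where
  toFun := multFun
  map_one' := by
    apply multFun_unique
    intro u v
    show B ((1 : GL (Fin m ⊕ Fin m) F).1 *ᵥ u) ((1 : GL (Fin m ⊕ Fin m) F).1 *ᵥ v) = _
    simp
  map_mul' := fun g h => by
    apply multFun_unique
    intro u v
    show B ((g.1 * h.1).1 *ᵥ u) ((g.1 * h.1).1 *ᵥ v) = _
    rw [Units.val_mul, ← mulVec_mulVec, ← mulVec_mulVec, multFun_spec, multFun_spec, Units.val_mul,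
      mul_assoc]

lemma mult_spec [NeZero m] (g : ↥(Cfsg.GSp m F)) (u v : Vec m F) :
    B (g.1.1 *ᵥ u) (g.1.1 *ᵥ v) = (mult g : F) * B u v := multFun_spec g u v

lemma mult_unique [NeZero m] (g : ↥(Cfsg.GSp m F)) (c : Fˣ)
    (h : ∀ u v : Vec m F, B (g.1.1 *ᵥ u) (g.1.1 *ᵥ v) = (c : F) * B u v) : mult g = c :=
  multFun_unique g c h

lemma mult_unique' [NeZero m] (g : ↥(Cfsg.GSp m F)) (c : F)
    (h : ∀ u v : Vec m F, B (g.1.1 *ᵥ u) (g.1.1 *ᵥ v) = c * B u v) : (mult g : F) = c := by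
  obtain ⟨u, v, huv⟩ := exists_B_eq_one (F := F) (m := m)
  have h1 := mult_spec g u v
  rw [h u v, huv, mul_one, mul_one] at h1
  exact h1.symm

lemma mult_matrix [NeZero m] (g : ↥(Cfsg.GSp m F)) :
    g.1.1ᵀ * J (Fin m) F * g.1.1 = (mult g : F) • J (Fin m) F :=
  (mult_iff _ _).1 (mult_spec g)

lemma mult_scG [NeZero m] (c : Fˣ) : mult (scG c : ↥(Cfsg.GSp m F)) = c * c := by
  apply mult_unique
  intro u v
  rw [scG_mulVec, scG_mulVec]
  show Cfsg.sympForm m F _ _ = _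
  rw [sympForm_smul_left, sympForm_smul_right, Units.val_mul, mul_assoc]

lemma mult_diagG [NeZero m] (t : Fin m → Fˣ) (l : Fˣ) : mult (diagG t l : ↥(Cfsg.GSp m F)) = l :=
  mult_unique _ _ (diag_mult t l)

lemma mult_surjective [NeZero m] : Function.Surjective (mult : ↥(Cfsg.GSp m F) →* Fˣ) :=
  fun l => ⟨diagG 1 l, mult_diagG 1 l⟩

lemma mult_spToGSp [NeZero m] (s : SpG m F) : mult (spToGSp s) = 1 := by
  apply mult_unique
  intro u v
  rw [Units.val_one, one_mul]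
  exact B_mulVec s u v

lemma mult_gspS [NeZero m] (σ : F ≃+* F) (g : ↥(Cfsg.GSp m F)) :
    mult (gspS σ g) = uS σ (mult g) := by
  apply Units.ext
  rw [uS_val]
  have h1 := mult_matrix g
  have h2 := mult_matrix (gspS σ g)
  rw [gspS_val_val] at h2
  have h3 := congrArg (fun M : Matrix (Fin m ⊕ Fin m) (Fin m ⊕ Fin m) F => M.map σ) h1
  simp only [map_mul', J_map] at h3
  rw [← transpose_map, h3] at h2
  have h4 := congrFun (congrFun h2 (Sum.inl 0)) (Sum.inr 0)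
  simp only [Matrix.map_apply, Matrix.smul_apply, smul_eq_mul, map_mul] at h4
  have hJ : J (Fin m) F (Sum.inl 0) (Sum.inr 0) = -1 := by
    simp [Matrix.J]
  rw [hJ] at h4
  simp only [map_neg, map_one, mul_neg, mul_one, neg_inj] at h4
  exact h4.symm

/-- an element of `GSp` whose multiplier is a square induces an inner automorphism -/
lemma Gam_eq_conj_of_mult_sq [NeZero m] (g : ↥(Cfsg.GSp m F)) (d : Fˣ) (hd : mult g = d * d) :
    ∃ s : SpG m F, (Gam g : MulAut (Cfsg.PSp m F)) = MulAut.conj (pr s) := by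
  obtain ⟨k, hk⟩ : ∃ k : ↥(Cfsg.GSp m F), k = (scG d)⁻¹ * g := ⟨_, rfl⟩
  have hk1 : mult k = 1 := by
    rw [hk, map_mul, map_inv, mult_scG, hd, inv_mul_cancel]
  have hmem : k.1.1 ∈ Matrix.symplecticGroup (Fin m) F := by
    apply mem_symplectic_of_preserves
    intro u v
    have := mult_spec k u v
    rw [hk1, Units.val_one, one_mul] at this
    exact this
  refine ⟨⟨k.1.1, hmem⟩, ?_⟩
  have h2 : spToGSp ⟨k.1.1, hmem⟩ = k := by
    apply Subtype.ext
    apply Units.ext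
    rfl
  rw [conj_pr_eq_Gam, h2, hk, map_mul, map_inv, Gam_scG, inv_one, one_mul]

/-- the elements of `GSp` inducing inner automorphisms are those with square multiplier -/
theorem Gam_mem_Inn_iff [NeZero m] (hm : 2 ≤ m) (g : ↥(Cfsg.GSp m F)) :
    (Gam g : MulAut (Cfsg.PSp m F)) ∈ Cfsg.Inn (Cfsg.PSp m F) ↔ IsSquare (mult g) := by
  constructor
  · rintro ⟨y, hy⟩
    obtain ⟨s, rfl⟩ := pr_surjective y
    rw [conj_pr_eq_Gam] at hy
    have h1 : (Gam ((spToGSp s)⁻¹ * g) : MulAut (Cfsg.PSp m F)) = 1 := by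
      rw [map_mul, map_inv, hy, inv_mul_cancel]
    obtain ⟨c, hc⟩ := exists_scG_of_Gam_eq_one hm h1
    have h2 : g = spToGSp s * scG c := by rw [← hc]; group
    refine ⟨c, ?_⟩
    rw [h2, map_mul, mult_spToGSp, one_mul, mult_scG]
  · rintro ⟨d, hd⟩
    obtain ⟨s, hs⟩ := Gam_eq_conj_of_mult_sq g d hd
    exact ⟨pr s, hs.symm⟩

lemma Inn_le_Gam_range : Cfsg.Inn (Cfsg.PSp m F) ≤
    (Gam : ↥(Cfsg.GSp m F) →* MulAut (Cfsg.PSp m F)).range := by
  rintro _ ⟨y, rfl⟩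
  obtain ⟨s, rfl⟩ := pr_surjective y
  exact ⟨spToGSp s, (conj_pr_eq_Gam s).symm⟩

end Cfsg.Agent.Lib.Helper45.SpAut
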