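import Mathlib
import Cfsg.Agent.Lib.Helper45.SpAutMult

set_option autoImplicit false
set_option linter.unusedSimpArgs false
set_option linter.unusedVariables false
set_option linter.unusedSectionVars false
set_option linter.unnecessarySeqFocus false
set_option linter.style.haveILetI false

/-!
# Base change `GSp_{2m}(F₀) → GSp_{2m}(F)` and the centralizer of a field automorphism
-/

namespace Cfsg.Agent.Lib.Helper45.SpAut

open Matrix Cfsg.Agent.Lib.Helper13 Pointwise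
open Cfsg.Agent.Lib.Helper5.AutPSLn (Par)
open Cfsg.Agent.Lib.Helper45.AutPSL (uS uS_val)

variable {F : Type*} [Field F] {m : ℕ} {F₀ : Type*} [Field F₀]

/-- base change on `GL` -/
noncomputable def mapGL (j : F₀ →+* F) : GL (Fin m ⊕ Fin m) F₀ →* GL (Fin m ⊕ Fin m) F :=
  Matrix.GeneralLinearGroup.map j

lemma mapGL_val (j : F₀ →+* F) (g₀ : GL (Fin m ⊕ Fin m) F₀) : (mapGL j g₀).1 = g₀.1.map j := rfl

lemma smul_J_map (j : F₀ →+* F) (c : F₀) :
    (c • J (Fin m) F₀).map j = j c • J (Fin m) F := by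
  ext a b
  have := congrFun (congrFun (J_mapK (m := m) j) a) b
  rw [Matrix.map_apply] at this
  rw [Matrix.map_apply, Matrix.smul_apply, Matrix.smul_apply, smul_eq_mul, smul_eq_mul, map_mul, this]

lemma mapGL_mem (j : F₀ →+* F) {g₀ : GL (Fin m ⊕ Fin m) F₀} (h : g₀ ∈ Cfsg.GSp m F₀) :
    mapGL j g₀ ∈ Cfsg.GSp m F := by
  rw [mem_GSp_iff] at h ⊢
  obtain ⟨c, hc, h⟩ := h
  refine ⟨j c, (map_ne_zero j).2 hc, ?_⟩
  rw [mapGL_val, ← transpose_map, ← J_mapK j, ← Matrix.map_mul, ← Matrix.map_mul, h, smul_J_map,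
    J_mapK]

/-- base change on `GSp` -/
noncomputable def mapG (j : F₀ →+* F) : ↥(Cfsg.GSp m F₀) →* ↥(Cfsg.GSp m F) :=
  ((mapGL j).comp (Cfsg.GSp m F₀).subtype).codRestrict (Cfsg.GSp m F) (fun g => mapGL_mem j g.2)

lemma mapG_val (j : F₀ →+* F) (g₀ : ↥(Cfsg.GSp m F₀)) : (mapG j g₀).1 = mapGL j g₀.1 := rfl

lemma mapG_val_val (j : F₀ →+* F) (g₀ : ↥(Cfsg.GSp m F₀)) : (mapG j g₀).1.1 = g₀.1.1.map j := rfl

lemma J_inl_inr [NeZero m] : J (Fin m) F (Sum.inl 0) (Sum.inr 0) = -1 := by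
  simp [Matrix.J]

lemma mem_GSp_of_mapGL [NeZero m] (j : F₀ →+* F) {g₀ : GL (Fin m ⊕ Fin m) F₀}
    (h : mapGL j g₀ ∈ Cfsg.GSp m F) : g₀ ∈ Cfsg.GSp m F₀ := by
  rw [mem_GSp_iff] at h ⊢
  obtain ⟨c, hc, h⟩ := h
  obtain ⟨X, hX⟩ : ∃ X, X = g₀.1ᵀ * J (Fin m) F₀ * g₀.1 := ⟨_, rfl⟩
  have hXj : X.map j = c • J (Fin m) F := by
    rw [hX, Matrix.map_mul, Matrix.map_mul, J_mapK, transpose_map]
    exact h
  have hc0 : c = j (- X (Sum.inl 0) (Sum.inr 0)) := by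
    have := congrFun (congrFun hXj (Sum.inl 0)) (Sum.inr 0)
    rw [Matrix.map_apply, Matrix.smul_apply, J_inl_inr, smul_eq_mul, mul_neg, mul_one] at this
    rw [map_neg, this, neg_neg]
  refine ⟨- X (Sum.inl 0) (Sum.inr 0), ?_, ?_⟩
  · intro h0
    rw [h0, map_zero] at hc0
    exact hc hc0
  · rw [← hX]
    apply Matrix.map_injective j.injective
    show X.map j = (-X (Sum.inl 0) (Sum.inr 0) • J (Fin m) F₀).map j
    rw [hXj, smul_J_map, ← hc0]

lemma mult_mapG [NeZero m] (j : F₀ →+* F) (g₀ : ↥(Cfsg.GSp m F₀)) :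
    (mult (mapG j g₀) : F) = j (mult g₀ : F₀) := by
  have h1 := mult_matrix g₀
  have h2 := mult_matrix (mapG j g₀)
  rw [mapG_val_val, ← transpose_map, ← J_mapK j, ← Matrix.map_mul, ← Matrix.map_mul, h1, smul_J_map,
    J_mapK] at h2
  have h4 := congrFun (congrFun h2 (Sum.inl 0)) (Sum.inr 0)
  rw [Matrix.smul_apply, Matrix.smul_apply, J_inl_inr, smul_eq_mul, smul_eq_mul, mul_neg, mul_neg,
    mul_one, mul_one, neg_inj] at h4
  exact h4.symm

/-- a matrix over `F` with all entries in the image of `F₀` comes from `GL(F₀)` -/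
lemma exists_mapGL_eq (j : F₀ →+* F) (g : GL (Fin m ⊕ Fin m) F)
    (hg : ∀ k l, g.1 k l ∈ Set.range j) :
    ∃ g₀ : GL (Fin m ⊕ Fin m) F₀, mapGL j g₀ = g := by
  choose A hA using hg
  have hmap : (Matrix.of A).map j = g.1 := by
    ext k l
    exact hA k l
  have hdet : (Matrix.of A).det ≠ 0 := by
    intro h0
    have h1 : j (Matrix.of A).det = g.1.det := by
      rw [RingHom.map_det]
      congr 1
    rw [h0, map_zero] at h1
    have h2 : IsUnit g.1.det := (Matrix.isUnit_iff_isUnit_det g.1).1 ⟨g, rfl⟩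
    rw [← h1] at h2
    exact not_isUnit_zero h2
  refine ⟨Matrix.GeneralLinearGroup.mkOfDetNeZero (Matrix.of A) hdet, ?_⟩
  apply Units.ext
  exact hmap

/-- an invertible matrix has a non-zero entry -/
lemma exists_entry_ne_zero [NeZero m] (g : GL (Fin m ⊕ Fin m) F) : ∃ k l, g.1 k l ≠ 0 := by
  by_contra hcon
  push Not at hcon
  have h0 : g.1 = 0 := by
    ext k l
    exact hcon k l
  have h2 : IsUnit g.1.det := (Matrix.isUnit_iff_isUnit_det g.1).1 ⟨g, rfl⟩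
  haveI : Nonempty (Fin m ⊕ Fin m) := ⟨Sum.inl 0⟩
  rw [h0, Matrix.det_zero] at h2
  exact not_isUnit_zero h2

lemma scG_val_val (c : Fˣ) :
    (scG c : ↥(Cfsg.GSp m F)).1.1 = diagonal (fun _ => (c : F)) := by
  rw [scG_val, Matrix.GeneralLinearGroup.coe_scalar, Matrix.scalar_apply]

lemma gspS_mapG (σ : F ≃+* F) (j : F₀ →+* F) (hj : ∀ a : F, σ a = a ↔ a ∈ Set.range j)
    (g₀ : ↥(Cfsg.GSp m F₀)) : gspS σ (mapG j g₀) = mapG j g₀ := by
  apply Subtype.ext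
  apply Units.ext
  rw [gspS_val_val, mapG_val_val]
  ext k l
  exact (hj _).2 ⟨_, rfl⟩

/-- the elements of `GSp` inducing automorphisms that commute with `Phi σ` -/
theorem Gam_comm_Phi_iff [NeZero m] (hm : 2 ≤ m) (σ : F ≃+* F) (j : F₀ →+* F)
    (hj : ∀ a : F, σ a = a ↔ a ∈ Set.range j) (g : ↥(Cfsg.GSp m F)) :
    (Gam g * Phi σ : MulAut (Cfsg.PSp m F)) = Phi σ * Gam g ↔
      ∃ (θ : Fˣ) (g₀ : ↥(Cfsg.GSp m F₀)), g = scG θ * mapG j g₀ := by
  constructor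
  · intro h
    rw [Phi_mul_Gam] at h
    have h1 : (Gam g : MulAut (Cfsg.PSp m F)) = Gam (gspS σ g) := mul_right_cancel h
    have h2 : (Gam (g⁻¹ * gspS σ g) : MulAut (Cfsg.PSp m F)) = 1 := by
      rw [map_mul, map_inv, ← h1, inv_mul_cancel]
    obtain ⟨c, hc⟩ := exists_scG_of_Gam_eq_one hm h2
    have h3 : gspS σ g = g * scG c := by rw [← hc]; group
    have h4 : ∀ k l, σ (g.1.1 k l) = g.1.1 k l * c := by
      intro k l
      have h5 : (gspS σ g).1.1 k l = (g * scG c).1.1 k l := by rw [h3]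
      rw [gspS_val_val] at h5
      have h6 : (g * scG c).1.1 = g.1.1 * (scG c : ↥(Cfsg.GSp m F)).1.1 := rfl
      rw [h6, scG_val_val, Matrix.mul_diagonal, Matrix.map_apply] at h5
      exact h5
    obtain ⟨k, l, hkl⟩ := exists_entry_ne_zero g.1
    have hσθ : σ (g.1.1 k l) ≠ 0 := by
      intro h0
      exact hkl ((map_eq_zero σ).1 h0)
    have hc0 : (c : F) ≠ 0 := c.ne_zero
    obtain ⟨θ, hθ⟩ : ∃ θ : Fˣ, θ = Units.mk0 _ hkl := ⟨_, rfl⟩
    have hfix : ∀ a b, ((scG θ)⁻¹ * g : ↥(Cfsg.GSp m F)).1.1 a b ∈ Set.range j := by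
      intro a b
      rw [← hj]
      have h6 : ((scG θ)⁻¹ * g : ↥(Cfsg.GSp m F)).1.1 =
          (scG θ⁻¹ : ↥(Cfsg.GSp m F)).1.1 * g.1.1 := by
        rw [← map_inv]; rfl
      rw [h6, scG_val_val, Matrix.diagonal_mul, map_mul, h4 a b, hθ]
      simp only [Units.val_inv_eq_inv_val, Units.val_mk0, map_inv₀, h4 k l]
      field_simp
    obtain ⟨g₀, hg₀⟩ := exists_mapGL_eq j _ hfix
    have hg₀mem : g₀ ∈ Cfsg.GSp m F₀ := by
      apply mem_GSp_of_mapGL j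
      rw [hg₀]
      exact ((scG θ)⁻¹ * g : ↥(Cfsg.GSp m F)).2
    refine ⟨θ, ⟨g₀, hg₀mem⟩, ?_⟩
    apply Subtype.ext
    show g.1 = (scG θ : ↥(Cfsg.GSp m F)).1 * mapGL j g₀
    rw [hg₀]
    show g.1 = ((scG θ : ↥(Cfsg.GSp m F)) * ((scG θ)⁻¹ * g)).1
    rw [mul_inv_cancel_left]
  · rintro ⟨θ, g₀, rfl⟩
    rw [map_mul, Gam_scG, one_mul, Phi_mul_Gam, gspS_mapG σ j hj]

lemma mapG_mem_scalars_iff [NeZero m] (hm : 2 ≤ m) (j : F₀ →+* F) (g₀ : ↥(Cfsg.GSp m F₀)) :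
    (Gam (mapG j g₀) : MulAut (Cfsg.PSp m F)) = 1 ↔
      g₀ ∈ (Cfsg.Geo.scalars (Fin m ⊕ Fin m) F₀).subgroupOf (Cfsg.GSp m F₀) := by
  rw [Subgroup.mem_subgroupOf, Cfsg.Geo.mem_scalars_iff]
  constructor
  · intro h
    obtain ⟨c, hc⟩ := exists_scG_of_Gam_eq_one hm h
    have hM : g₀.1.1.map j = diagonal (fun _ => (c : F)) := by
      rw [← mapG_val_val, hc, scG_val_val]
    have h00 : j (g₀.1.1 (Sum.inl 0) (Sum.inl 0)) = c := by
      have := congrFun (congrFun hM (Sum.inl 0)) (Sum.inl 0)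
      rw [Matrix.map_apply, Matrix.diagonal_apply_eq] at this
      exact this
    have hc₀ : g₀.1.1 (Sum.inl 0) (Sum.inl 0) ≠ 0 := by
      intro h0
      rw [h0, map_zero] at h00
      exact c.ne_zero h00.symm
    refine ⟨Units.mk0 _ hc₀, ?_⟩
    ext k l
    apply j.injective
    have := congrFun (congrFun hM k) l
    rw [Matrix.map_apply] at this
    rw [this, Matrix.smul_apply, Matrix.one_apply, Matrix.diagonal_apply, Units.val_mk0]
    split_ifs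
    · rw [smul_eq_mul, mul_one, h00]
    · rw [smul_zero, map_zero]
  · rintro ⟨c₀, hc₀⟩
    have : mapG j g₀ = scG (Units.map (j : F₀ →* F) c₀) := by
      apply Subtype.ext
      apply Units.ext
      rw [mapG_val_val, scG_val_val, hc₀]
      ext k l
      rw [Matrix.map_apply, Matrix.smul_apply, Matrix.one_apply, Matrix.diagonal_apply]
      split_ifs
      · rw [smul_eq_mul, mul_one]; rfl
      · rw [smul_zero, map_zero]
    rw [this, Gam_scG]

/-- **The centralizer in `PGSp_{2m}(F)` of the standard field automorphism `Phi σ`** is `PGSp` of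
the fixed field. -/
theorem centralizer_Phi_equivSp [NeZero m] (hm : 2 ≤ m) (σ : F ≃+* F) (j : F₀ →+* F)
    (hj : ∀ a : F, σ a = a ↔ a ∈ Set.range j) :
    Nonempty (↥((Gam : ↥(Cfsg.GSp m F) →* MulAut (Cfsg.PSp m F)).range ⊓
      Subgroup.centralizer {Phi σ}) ≃* Cfsg.PGSp m F₀) := by
  let ψ : ↥(Cfsg.GSp m F₀) →* MulAut (Cfsg.PSp m F) := Gam.comp (mapG j)
  have hker : ψ.ker = (Cfsg.Geo.scalars (Fin m ⊕ Fin m) F₀).subgroupOf (Cfsg.GSp m F₀) := by
    ext g₀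
    rw [MonoidHom.mem_ker, ← mapG_mem_scalars_iff hm j g₀]
    rfl
  have hrange : ψ.range = (Gam : ↥(Cfsg.GSp m F) →* _).range ⊓ Subgroup.centralizer {Phi σ} := by
    ext y
    rw [Subgroup.mem_inf, Subgroup.mem_centralizer_singleton_iff]
    constructor
    · rintro ⟨g₀, rfl⟩
      refine ⟨⟨_, rfl⟩, ?_⟩
      have := (Gam_comm_Phi_iff hm σ j hj (mapG j g₀)).2 ⟨1, g₀, by rw [map_one, one_mul]⟩
      exact this
    · rintro ⟨⟨g, rfl⟩, h2⟩
      obtain ⟨θ, g₀, rfl⟩ := (Gam_comm_Phi_iff hm σ j hj g).1 h2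
      exact ⟨g₀, by rw [map_mul, Gam_scG, one_mul]; rfl⟩
  have e1 := QuotientGroup.quotientKerEquivRange ψ
  have e2 : Cfsg.PGSp m F₀ ≃* ↥(Cfsg.GSp m F₀) ⧸ ψ.ker :=
    QuotientGroup.quotientMulEquivOfEq hker.symm
  have e3 := MulEquiv.subgroupCongr hrange
  exact ⟨(e3.symm.trans e1.symm).trans e2.symm⟩

end Cfsg.Agent.Lib.Helper45.SpAut
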