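import Mathlib
import Cfsg.Prelude.Def_LieTypeDatum

set_option autoImplicit false
set_option linter.unusedSimpArgs false
set_option linter.unusedVariables false
set_option linter.unnecessarySeqFocus false
set_option linter.unusedSectionVars false

/-!
# Counting the classes into which a class splits: `splitClassCount` as an index
-/

namespace Cfsg.Agent.Lib.Helper45.AutPSL

/-- **the number of `π(N)`-classes in the `π(G)`-class of `x`** is the index of `N · Stab(x)` -/
theorem splitClassCount_eq_index {G X : Type*} [Group G] [Group X] (π : G →* X) (N : Subgroup G)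
    [hN : N.Normal] (x : X) :
    Cfsg.splitClassCount π.range (N.map π) x =
      (N ⊔ (Subgroup.centralizer ({x} : Set X)).comap π).index := by
  classical
  set S := (Subgroup.centralizer ({x} : Set X)).comap π with hS
  have hSmem : ∀ s, s ∈ S ↔ π s * x = x * π s := by
    intro s
    rw [hS, Subgroup.mem_comap, Subgroup.mem_centralizer_iff]
    constructor
    · intro h; exact (h x rfl).symm
    · intro h y hy
      rw [Set.mem_singleton_iff] at hy
      subst hy
      exact h.symm
  let r : {y : X // Cfsg.IsConjUnder π.range x y} → {y : X // Cfsg.IsConjUnder π.range x y} → Prop :=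
    fun y z => Cfsg.IsConjUnder (N.map π) y.1 z.1
  have hr : Equivalence r := by
    refine ⟨fun y => ⟨1, one_mem _, by simp⟩, ?_, ?_⟩
    · rintro y z ⟨k, hk, e⟩
      exact ⟨k⁻¹, inv_mem hk, by rw [e]; group⟩
    · rintro y z w ⟨k, hk, e⟩ ⟨k', hk', e'⟩
      exact ⟨k' * k, mul_mem hk' hk, by rw [e', e]; group⟩
  let f : G → Quot r := fun g => Quot.mk r ⟨π g * x * (π g)⁻¹, ⟨π g, ⟨g, rfl⟩, rfl⟩⟩
  have hf : ∀ g g', f g = f g' ↔ g⁻¹ * g' ∈ N ⊔ S := by
    intro g g'
    constructor
    · intro h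
      have h1 := Quot.eqvGen_exact h
      rw [hr.eqvGen_iff] at h1
      obtain ⟨k, ⟨m, hm, rfl⟩, e⟩ := h1
      have e' : π g' * x * (π g')⁻¹ = π m * (π g * x * (π g)⁻¹) * (π m)⁻¹ := e
      have h2 : (m * g)⁻¹ * g' ∈ S := by
        rw [hSmem]
        simp only [map_mul, map_inv]
        generalize π m = a at e'
        generalize π g = b at e'
        generalize π g' = c at e'
        calc (a * b)⁻¹ * c * x = (a * b)⁻¹ * (c * x * c⁻¹) * c := by group
          _ = (a * b)⁻¹ * (a * (b * x * b⁻¹) * a⁻¹) * c := by rw [e']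
          _ = x * ((a * b)⁻¹ * c) := by group
      have h3 : g⁻¹ * g' = (g⁻¹ * m * g) * ((m * g)⁻¹ * g') := by group
      rw [h3]
      refine mul_mem (Subgroup.mem_sup_left ?_) (Subgroup.mem_sup_right h2)
      have := hN.conj_mem m hm g⁻¹
      simpa using this
    · intro h
      have h1 : g⁻¹ * g' ∈ ((N ⊔ S : Subgroup G) : Set G) := h
      rw [Subgroup.normal_mul] at h1
      obtain ⟨m, hm, s, hs, e⟩ := Set.mem_mul.1 h1
      apply Quot.sound
      show Cfsg.IsConjUnder (N.map π) _ _
      refine ⟨π (g * m * g⁻¹), ⟨_, hN.conj_mem m hm g, rfl⟩, ?_⟩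
      have hg' : g' = g * m * s := by rw [mul_assoc, e]; group
      have hs' := (hSmem s).1 hs
      show π g' * x * (π g')⁻¹ = π (g * m * g⁻¹) * (π g * x * (π g)⁻¹) * (π (g * m * g⁻¹))⁻¹
      rw [hg']
      simp only [map_mul, map_inv]
      generalize π m = a
      generalize π g = b
      generalize π s = c at hs'
      have hc : c * x * c⁻¹ = x := by rw [hs']; group
      calc b * a * c * x * (b * a * c)⁻¹ = b * a * (c * x * c⁻¹) * (b * a)⁻¹ := by group
        _ = b * a * x * (b * a)⁻¹ := by rw [hc]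
        _ = b * a * b⁻¹ * (b * x * b⁻¹) * (b * a * b⁻¹)⁻¹ := by group
  have hsurj : Function.Surjective f := by
    intro q
    induction q using Quot.ind with
    | mk y =>
      obtain ⟨y, h, ⟨g, rfl⟩, rfl⟩ := y
      exact ⟨g, rfl⟩
  unfold Cfsg.splitClassCount
  rw [Subgroup.index]
  symm
  refine Nat.card_congr (Equiv.ofBijective (Quotient.lift f ?_) ⟨?_, ?_⟩)
  · intro a b hab
    exact (hf a b).2 (QuotientGroup.leftRel_apply.1 hab)
  · intro a b
    induction a using Quotient.inductionOn with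
    | h a =>
      induction b using Quotient.inductionOn with
      | h b =>
        intro h
        exact Quotient.sound (QuotientGroup.leftRel_apply.2 ((hf _ _).1 h))
  · intro q
    obtain ⟨g, rfl⟩ := hsurj q
    exact ⟨Quotient.mk _ g, rfl⟩

lemma isConjUnder_conj_of {X : Type*} [Group X] (H : Subgroup X) [hH : H.Normal] (α x y : X)
    (h : Cfsg.IsConjUnder H x y) : Cfsg.IsConjUnder H (α * x * α⁻¹) (α * y * α⁻¹) := by
  obtain ⟨k, hk, rfl⟩ := h
  exact ⟨α * k * α⁻¹, hH.conj_mem k hk α, by group⟩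

lemma isConjUnder_conj {X : Type*} [Group X] (H : Subgroup X) [hH : H.Normal] (α x y : X) :
    Cfsg.IsConjUnder H (α * x * α⁻¹) (α * y * α⁻¹) ↔ Cfsg.IsConjUnder H x y := by
  constructor
  · intro h
    have := isConjUnder_conj_of H α⁻¹ _ _ h
    have e1 : α⁻¹ * (α * x * α⁻¹) * α⁻¹⁻¹ = x := by group
    have e2 : α⁻¹ * (α * y * α⁻¹) * α⁻¹⁻¹ = y := by group
    rwa [e1, e2] at this
  · exact isConjUnder_conj_of H α x y

/-- the count of split classes is invariant under conjugation normalising both subgroups -/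
theorem splitClassCount_conj {X : Type*} [Group X] (H K : Subgroup X) [hH : H.Normal]
    [hK : K.Normal] (α x : X) :
    Cfsg.splitClassCount H K (α * x * α⁻¹) = Cfsg.splitClassCount H K x := by
  unfold Cfsg.splitClassCount
  symm
  let e : {y : X // Cfsg.IsConjUnder H x y} ≃ {y : X // Cfsg.IsConjUnder H (α * x * α⁻¹) y} :=
    { toFun := fun y => ⟨α * y.1 * α⁻¹, isConjUnder_conj_of H α _ _ y.2⟩
      invFun := fun z => ⟨α⁻¹ * z.1 * α, by
        have := isConjUnder_conj_of H α⁻¹ _ _ z.2
        have e1 : α⁻¹ * (α * x * α⁻¹) * α⁻¹⁻¹ = x := by group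
        rw [e1, inv_inv] at this
        exact this⟩
      left_inv := fun y => by apply Subtype.ext; show α⁻¹ * (α * y.1 * α⁻¹) * α = y.1; group
      right_inv := fun z => by apply Subtype.ext; show α * (α⁻¹ * z.1 * α) * α⁻¹ = z.1; group }
  exact Nat.card_congr (Quot.congr e (fun a b => (isConjUnder_conj K α a.1 b.1).symm))

/-- the centralizers of conjugate elements in a normal subgroup are isomorphic -/
noncomputable def centralizerConjEquiv {X : Type*} [Group X] (H : Subgroup X) [hH : H.Normal]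
    (α x : X) :
    ↥(H ⊓ Subgroup.centralizer ({x} : Set X)) ≃*
      ↥(H ⊓ Subgroup.centralizer ({α * x * α⁻¹} : Set X)) where
  toFun h := ⟨α * h.1 * α⁻¹, by
    refine Subgroup.mem_inf.2 ⟨hH.conj_mem _ (Subgroup.mem_inf.1 h.2).1 α, ?_⟩
    rw [Subgroup.mem_centralizer_iff]
    intro y hy
    rw [Set.mem_singleton_iff] at hy
    subst hy
    have := (Subgroup.mem_centralizer_iff.1 (Subgroup.mem_inf.1 h.2).2) x rfl
    calc α * x * α⁻¹ * (α * h.1 * α⁻¹) = α * (x * h.1) * α⁻¹ := by group
      _ = α * (h.1 * x) * α⁻¹ := by rw [this]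
      _ = α * h.1 * α⁻¹ * (α * x * α⁻¹) := by group⟩
  invFun k := ⟨α⁻¹ * k.1 * α, by
    refine Subgroup.mem_inf.2 ⟨by have := hH.conj_mem _ (Subgroup.mem_inf.1 k.2).1 α⁻¹; simpa using this, ?_⟩
    rw [Subgroup.mem_centralizer_iff]
    intro y hy
    rw [Set.mem_singleton_iff] at hy
    subst hy
    have := (Subgroup.mem_centralizer_iff.1 (Subgroup.mem_inf.1 k.2).2) (α * y * α⁻¹) rfl
    calc y * (α⁻¹ * k.1 * α) = α⁻¹ * (α * y * α⁻¹ * k.1) * α := by group
      _ = α⁻¹ * (k.1 * (α * y * α⁻¹)) * α := by rw [this]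
      _ = α⁻¹ * k.1 * α * y := by group⟩
  left_inv h := by apply Subtype.ext; show α⁻¹ * (α * h.1 * α⁻¹) * α = h.1; group
  right_inv k := by apply Subtype.ext; show α * (α⁻¹ * k.1 * α) * α⁻¹ = k.1; group
  map_mul' h k := by apply Subtype.ext; show α * (h.1 * k.1) * α⁻¹ = α * h.1 * α⁻¹ * (α * k.1 * α⁻¹); group

/-- in a commutative group the subgroups of `a`-th and `b`-th powers generate that of
`gcd a b`-th powers -/
theorem range_pow_sup {C : Type*} [CommGroup C] (a b : ℕ) :
    (powMonoidHom a : C →* C).range ⊔ (powMonoidHom b : C →* C).range =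
      (powMonoidHom (Nat.gcd a b) : C →* C).range := by
  apply le_antisymm
  · apply sup_le
    · rintro _ ⟨x, rfl⟩
      obtain ⟨a', ha'⟩ := Nat.gcd_dvd_left a b
      refine ⟨x ^ a', ?_⟩
      simp only [powMonoidHom_apply]
      rw [← pow_mul, mul_comm, ← ha']
    · rintro _ ⟨x, rfl⟩
      obtain ⟨b', hb'⟩ := Nat.gcd_dvd_right a b
      refine ⟨x ^ b', ?_⟩
      simp only [powMonoidHom_apply]
      rw [← pow_mul, mul_comm, ← hb']
  · rintro _ ⟨x, rfl⟩
    simp only [powMonoidHom_apply]
    have h1 : x ^ (Nat.gcd a b) = (x ^ (Nat.gcdA a b)) ^ a * (x ^ (Nat.gcdB a b)) ^ b := by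
      rw [← zpow_natCast x (Nat.gcd a b), Nat.gcd_eq_gcd_ab, zpow_add, zpow_mul', zpow_mul',
        zpow_natCast, zpow_natCast]
    rw [h1]
    exact mul_mem (Subgroup.mem_sup_left ⟨_, rfl⟩) (Subgroup.mem_sup_right ⟨_, rfl⟩)

end Cfsg.Agent.Lib.Helper45.AutPSL
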