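import Mathlib
import Cfsg.Agent.Lib.Helper45.SpAutBase
import Cfsg.Agent.Lib.Helper45.SplitCount
import Cfsg.Agent.Lib.Helper5.AutPSLnFieldCent

set_option autoImplicit false
set_option linter.unusedSimpArgs false
set_option linter.unusedVariables false
set_option linter.unusedSectionVars false
set_option linter.unnecessarySeqFocus false
set_option linter.style.haveILetI false

/-!
# The class-splitting number of a field automorphism of `PSp_{2m}(F)`
-/

namespace Cfsg.Agent.Lib.Helper45.SpAut

open Matrix Cfsg.Agent.Lib.Helper13 Pointwise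
open Cfsg.Agent.Lib.Helper5.AutPSLn (Par exists_fixed_subfield card_fixed_subfield)
open Cfsg.Agent.Lib.Helper45.AutPSL (uS uS_val splitClassCount_eq_index)

variable {F : Type*} [Field F] {m : ℕ}

/-- in a finite field of odd characteristic, the quotient of two non-squares is a square -/
lemma isSquare_div_of_not [Fintype F] (hF : ringChar F ≠ 2) {a b : Fˣ} (ha : ¬ IsSquare a)
    (hb : ¬ IsSquare b) : IsSquare (a * b⁻¹) := by
  rw [FiniteField.unit_isSquare_iff hF] at ha hb ⊢
  have h1 : ∀ c : Fˣ, c ^ (Fintype.card F / 2) ≠ 1 → c ^ (Fintype.card F / 2) = -1 := by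
    intro c hc
    rcases FiniteField.pow_dichotomy hF c.ne_zero with h | h
    · exfalso
      apply hc
      apply Units.ext
      rw [Units.val_pow_eq_pow_val, h, Units.val_one]
    · apply Units.ext
      rw [Units.val_pow_eq_pow_val, h, Units.val_neg, Units.val_one]
  rw [mul_pow, inv_pow, h1 a ha, h1 b hb]
  simp

/-- elements of the fixed field of an involution are squares -/
lemma isSquare_of_fixed_two [Fintype F] (hF : ringChar F ≠ 2) (F₁ : Subfield F)
    (hrank : Module.finrank F₁ F = 2) (a : Fˣ) (ha : (a : F) ∈ F₁) : IsSquare a := by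
  classical
  letI : Fintype F₁ := Fintype.ofFinite F₁
  rw [FiniteField.unit_isSquare_iff hF]
  have h1 : Fintype.card F = Fintype.card F₁ ^ 2 := by
    rw [← hrank]; exact Module.card_eq_pow_finrank
  have hodd : Fintype.card F % 2 = 1 := FiniteField.odd_card_of_char_ne_two hF
  have hodd1 : Fintype.card F₁ % 2 = 1 := by
    rcases Nat.mod_two_eq_zero_or_one (Fintype.card F₁) with h | h
    · exfalso
      rw [h1, Nat.pow_mod, h] at hodd
      simp at hodd
    · exact h
  obtain ⟨k, hk⟩ : ∃ k, Fintype.card F₁ = 2 * k + 1 := ⟨Fintype.card F₁ / 2, by omega⟩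
  have h2 : Fintype.card F / 2 = (Fintype.card F₁ - 1) * (k + 1) := by
    rw [h1, hk]
    have : (2 * k + 1) ^ 2 = 2 * ((2 * k + 1 - 1) * (k + 1)) + 1 := by
      rw [Nat.add_sub_cancel]; ring
    rw [this]
    omega
  have ha0 : (⟨(a : F), ha⟩ : F₁) ≠ 0 := by
    intro h0
    have := congrArg Subtype.val h0
    exact a.ne_zero this
  have h3 := FiniteField.pow_card_sub_one_eq_one (⟨(a : F), ha⟩ : F₁) ha0
  have h4 : (a : F) ^ (Fintype.card F₁ - 1) = 1 := by
    have := congrArg Subtype.val h3
    simpa using this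
  apply Units.ext
  rw [Units.val_pow_eq_pow_val, h2, pow_mul, h4, one_pow, Units.val_one]

/-- an automorphism of odd order fixes some non-square -/
lemma exists_fixed_nonsquare [Fintype F] (hF : ringChar F ≠ 2) (σ : F ≃+* F) {r : ℕ}
    (hσ : σ ^ r = 1) (hr : Odd r) (F₁ : Subfield F) (hmem : ∀ a, a ∈ F₁ ↔ σ a = a) :
    ∃ a : Fˣ, (a : F) ∈ F₁ ∧ ¬ IsSquare a := by
  classical
  have hF₁ : ringChar F₁ ≠ 2 := by
    intro h
    apply hF
    haveI : CharP F₁ 2 := ringChar.of_eq h
    haveI : CharP F 2 := (RingHom.charP_iff F₁.subtype Subtype.val_injective 2).1 inferInstance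
    exact ringChar.eq F 2
  obtain ⟨a, ha⟩ := FiniteField.exists_nonsquare hF₁
  have ha0 : (a : F) ≠ 0 := by
    intro h0
    apply ha
    have : a = 0 := Subtype.ext h0
    rw [this]
    exact ⟨0, by simp⟩
  refine ⟨Units.mk0 (a : F) ha0, a.2, ?_⟩
  rintro ⟨b, hb⟩
  have hb' : (a : F) = (b : F) * b := by
    have := congrArg Units.val hb
    simpa using this
  have hσa : σ (a : F) = a := (hmem _).1 a.2
  have h1 : σ (b : F) * σ b = (b : F) * b := by
    rw [← map_mul, ← hb', hσa]
  have h2 : (σ (b : F) - b) * (σ b + b) = 0 := by linear_combination h1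
  rcases mul_eq_zero.1 h2 with h3 | h3
  · have hbF : (b : F) ∈ F₁ := (hmem _).2 (sub_eq_zero.1 h3)
    apply ha
    refine ⟨⟨(b : F), hbF⟩, ?_⟩
    apply Subtype.ext
    exact hb'
  · have h4 : σ (b : F) = -b := eq_neg_of_add_eq_zero_left h3
    have h5 : ∀ k : ℕ, (σ ^ k) (b : F) = (-1) ^ k * b := by
      intro k
      induction k with
      | zero => simp
      | succ k ih =>
        rw [pow_succ', RingAut.mul_apply, ih, map_mul, map_pow, map_neg, map_one, h4, pow_succ]
        ring
    have h6 := h5 r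
    rw [hσ, hr.neg_one_pow] at h6
    have h7 : (2 : F) * b = 0 := by
      have : (b : F) = -1 * b := h6
      linear_combination this
    have h8 : (2 : F) ≠ 0 := Ring.two_ne_zero hF
    rcases mul_eq_zero.1 h7 with h9 | h9
    · exact h8 h9
    · exact b.ne_zero h9

/-- **The class-splitting number of a field automorphism of prime order `r` of `PSp_{2m}(F)`.** -/
theorem split_count_PhiSp [Fintype F] [NeZero m] (hm : 2 ≤ m) {p f : ℕ} [Fact p.Prime]
    (hF : Fintype.card F = p ^ f) (σ : F ≃+* F) {r : ℕ} (hr : r.Prime) (hσ : orderOf σ = r) :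
    Cfsg.splitClassCount (Gam : ↥(Cfsg.GSp m F) →* MulAut (Cfsg.PSp m F)).range
      (Cfsg.Inn (Cfsg.PSp m F)) (Phi σ) = Nat.gcd (Nat.gcd 2 (p ^ f - 1)) r := by
  classical
  have hp : p.Prime := Fact.out
  haveI hchar : CharP F p := charP_of_card_eq_prime_pow hF
  have hringChar : ringChar F = p := ringChar.eq F p
  have hσr : σ ^ r = 1 := by rw [← hσ]; exact pow_orderOf_eq_one σ
  obtain ⟨F₁, hmem, hrank⟩ := exists_fixed_subfield σ
  rw [hσ] at hrank
  have hj : ∀ a : F, σ a = a ↔ a ∈ Set.range (F₁.subtype : F₁ →+* F) := by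
    intro a
    rw [← hmem]
    constructor
    · intro h; exact ⟨⟨a, h⟩, rfl⟩
    · rintro ⟨x, rfl⟩; exact x.2
  obtain ⟨N, hNdef⟩ : ∃ N : Subgroup ↥(Cfsg.GSp m F),
      N = (Cfsg.Inn (Cfsg.PSp m F)).comap Gam := ⟨_, rfl⟩
  haveI hNn : N.Normal := by rw [hNdef]; infer_instance
  have hNmap : N.map Gam = Cfsg.Inn (Cfsg.PSp m F) := by
    rw [hNdef, Subgroup.map_comap_eq, inf_eq_right.2 Inn_le_Gam_range]
  rw [← hNmap, splitClassCount_eq_index Gam N (Phi σ)]
  have hN : ∀ g, g ∈ N ↔ IsSquare (mult g) := by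
    intro g
    rw [hNdef, Subgroup.mem_comap]
    exact Gam_mem_Inn_iff hm g
  have hS : ∀ g, g ∈ (Subgroup.centralizer
      ({Phi σ} : Set (MulAut (Cfsg.PSp m F)))).comap Gam ↔
      ∃ (θ : Fˣ) (g₀ : ↥(Cfsg.GSp m ↥F₁)), g = scG θ * mapG F₁.subtype g₀ := by
    intro g
    rw [Subgroup.mem_comap, Subgroup.mem_centralizer_singleton_iff]
    exact Gam_comm_Phi_iff hm σ F₁.subtype hj g
  have hf0 : f ≠ 0 := by
    rintro rfl
    have := Fintype.one_lt_card (α := F)
    rw [hF, pow_zero] at this
    omega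
  by_cases h2 : p = 2
  · -- characteristic two: everything is inner
    have hNtop : N = ⊤ := by
      rw [eq_top_iff]
      intro g _
      rw [hN]
      obtain ⟨d, hd⟩ := FiniteField.isSquare_of_char_two (hringChar.trans h2) ((mult g : Fˣ) : F)
      have hd0 : d ≠ 0 := by
        rintro rfl
        rw [mul_zero] at hd
        exact (mult g).ne_zero hd
      exact ⟨Units.mk0 d hd0, Units.ext hd⟩
    rw [hNtop, top_sup_eq, Subgroup.index_top]
    have h3 : Nat.gcd 2 (p ^ f - 1) = 1 := by
      rw [h2]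
      obtain ⟨k, rfl⟩ := Nat.exists_eq_succ_of_ne_zero hf0
      have : Odd (2 ^ (k + 1) - 1) := by
        rw [pow_succ]
        have : 0 < 2 ^ k := Nat.pos_of_ne_zero (by positivity)
        exact ⟨2 ^ k - 1, by omega⟩
      exact Nat.coprime_two_left.2 this
    rw [h3, Nat.gcd_one_left]
  · have hF2 : ringChar F ≠ 2 := by rw [hringChar]; exact h2
    have hpodd : Odd p := hp.eq_two_or_odd'.resolve_left h2
    have h3 : Nat.gcd 2 (p ^ f - 1) = 2 := by
      apply Nat.gcd_eq_left
      have h4 : Odd (p ^ f) := hpodd.pow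
      obtain ⟨k, hk⟩ := h4
      exact ⟨k, by omega⟩
    rw [h3]
    have hNindex : N.index = 2 := by
      have hNeq : N = (powMonoidHom 2 : Fˣ →* Fˣ).range.comap mult := by
        ext g
        rw [hN, Subgroup.mem_comap, MonoidHom.mem_range]
        constructor
        · rintro ⟨d, hd⟩
          exact ⟨d, by rw [powMonoidHom_apply, pow_two, hd]⟩
        · rintro ⟨d, hd⟩
          exact ⟨d, by rw [← hd, powMonoidHom_apply, pow_two]⟩
      rw [hNeq, Subgroup.index_comap_of_surjective _ mult_surjective,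
        IsCyclic.index_powMonoidHom_range, Nat.card_units, Nat.card_eq_fintype_card, hF]
      apply Nat.gcd_eq_right
      have h4 : Odd (p ^ f) := hpodd.pow
      obtain ⟨k, hk⟩ := h4
      exact ⟨k, by omega⟩
    rcases hr.eq_two_or_odd' with rfl | hrodd
    · -- r = 2: the centralizer lies in the inner part
      have hle : (Subgroup.centralizer ({Phi σ} : Set (MulAut (Cfsg.PSp m F)))).comap Gam ≤ N := by
        intro g hg
        obtain ⟨θ, g₀, rfl⟩ := (hS g).1 hg
        rw [hN, map_mul, mult_scG]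
        have h5 : IsSquare (mult (mapG F₁.subtype g₀)) := by
          apply isSquare_of_fixed_two hF2 F₁ hrank
          rw [mult_mapG]
          exact (mult g₀ : ↥F₁).2
        exact (IsSquare.mul_self θ).mul h5
      rw [sup_eq_left.2 hle, hNindex, Nat.gcd_self]
    · -- r odd: a non-square multiplier in the centralizer
      have h6 : Nat.gcd 2 r = 1 := Nat.coprime_two_left.2 hrodd
      rw [h6, Subgroup.index_eq_one, eq_top_iff]
      obtain ⟨a, haF₁, hansq⟩ := exists_fixed_nonsquare hF2 σ hσr hrodd F₁ hmem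
      have ha0 : (⟨(a : F), haF₁⟩ : ↥F₁) ≠ 0 := by
        intro h0
        have := congrArg Subtype.val h0
        exact a.ne_zero this
      obtain ⟨s₀, hs₀⟩ : ∃ s₀ : ↥(Cfsg.GSp m F),
          s₀ = mapG F₁.subtype (diagG 1 (Units.mk0 _ ha0)) := ⟨_, rfl⟩
      have hs₀S : s₀ ∈ (Subgroup.centralizer ({Phi σ} : Set (MulAut (Cfsg.PSp m F)))).comap Gam := by
        rw [hS]
        exact ⟨1, _, by rw [map_one, one_mul, hs₀]⟩
      have hs₀m : mult s₀ = a := by
        apply Units.ext
        rw [hs₀, mult_mapG, mult_diagG]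
        rfl
      intro g _
      by_cases hg : IsSquare (mult g)
      · exact Subgroup.mem_sup_left ((hN g).2 hg)
      · have h7 : g * s₀⁻¹ ∈ N := by
          rw [hN, map_mul, map_inv, hs₀m]
          exact isSquare_div_of_not hF2 hg hansq
        have h8 : g = (g * s₀⁻¹) * s₀ := by group
        rw [h8]
        exact mul_mem (Subgroup.mem_sup_left h7) (Subgroup.mem_sup_right hs₀S)

end Cfsg.Agent.Lib.Helper45.SpAut
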