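import Mathlib
import Cfsg.Agent.Lib.Helper38.RhDefsB
import Cfsg.Agent.Lib.Helper70.RhK1S

/-! # Rh hive (helper38), leaf RH-K1T (helper45): for a `(q+1)`-torus `C` containing the involution `a`,
`|N(C) ∩ C(a)| = 2 (q + 1)`. -/

set_option autoImplicit false

namespace Cfsg.Agent.Lib.Helper38.Rh

open Cfsg.Agent.Lib.Helper12.Rt Cfsg.Agent.Lib.Helper12.ReeInv Cfsg.Agent.Lib.Helper12.ReeOut Matrix

section core
variable {K : Type*} [Field K] [Fintype K] [CharP K 3] {G : Type*} [Group G] (I : InvData K G)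

/-- `φ t` commutes with `φ z` iff `t` commutes with `z`, for `z` of odd order -/
theorem k1t_comm_iff (z : SpecialLinearGroup (Fin 2) K) (ℓ : ℕ) (hodd : Odd ℓ) (hz : z ^ ℓ = 1)
    (t : SpecialLinearGroup (Fin 2) K) :
    I.φ t * I.φ z = I.φ z * I.φ t ↔ t * z = z * t := by
  constructor
  · intro h
    have h1 : I.φ (t * z * t⁻¹ * z⁻¹) = 1 := by
      rw [map_mul, map_mul, map_mul, map_inv, map_inv, h]
      group
    rcases InvData.center_cases _ ((I.hker _).1 h1) with h2 | h2
    · calc t * z = (t * z * t⁻¹ * z⁻¹) * (z * t) := by group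
        _ = z * t := by rw [h2, one_mul]
    · exfalso
      have h3 : t * z * t⁻¹ = negI K * z := by
        calc t * z * t⁻¹ = (t * z * t⁻¹ * z⁻¹) * z := by group
          _ = negI K * z := by rw [h2]
      have h4 : (t * z * t⁻¹) ^ ℓ = 1 := by
        rw [conj_pow, hz]
        group
      rw [h3, (show Commute (negI K) z from negI_comm z).mul_pow, hz, mul_one, negI_pow_odd ℓ hodd] at h4
      exact negI_ne_one h4
  · intro h
    rw [← map_mul, ← map_mul, h]

/-- the core of RH-K1T -/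
theorem k1t_core [Finite G] (z : SpecialLinearGroup (Fin 2) K) (ℓ : ℕ) (hodd : Odd ℓ) (hz : z ^ ℓ = 1)
    (hCa : Subgroup.centralizer ({I.φ z} : Set G) ≤ Subgroup.centralizer ({I.a} : Set G)) :
    Nat.card ↥(Subgroup.normalizer ((Subgroup.centralizer ({I.φ z} : Set G) : Subgroup G) : Set G) ⊓
        Subgroup.centralizer ({I.a} : Set G)) =
      Nat.card ↥(Subgroup.normalizer
        ((Subgroup.centralizer ({z} : Set (SpecialLinearGroup (Fin 2) K)) :
          Subgroup (SpecialLinearGroup (Fin 2) K)) : Set (SpecialLinearGroup (Fin 2) K))) := by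
  classical
  set C : Subgroup G := Subgroup.centralizer ({I.φ z} : Set G) with hC
  set T : Subgroup (SpecialLinearGroup (Fin 2) K) :=
    Subgroup.centralizer ({z} : Set (SpecialLinearGroup (Fin 2) K)) with hT
  set NT : Subgroup (SpecialLinearGroup (Fin 2) K) :=
    Subgroup.normalizer (T : Set (SpecialLinearGroup (Fin 2) K)) with hNT
  set N : Subgroup G := Subgroup.normalizer (C : Set G) ⊓ Subgroup.centralizer ({I.a} : Set G) with hN
  have haa : I.a * I.a = 1 := I.ha2
  have haC : I.a ∈ C := Subgroup.mem_centralizer_singleton_iff.mpr (I.hcomm z)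
  have haCa : I.a ∈ Subgroup.centralizer ({I.a} : Set G) := Subgroup.mem_centralizer_singleton_iff.mpr rfl
  have hphiCa : ∀ s, I.φ s ∈ Subgroup.centralizer ({I.a} : Set G) := fun s =>
    Subgroup.mem_centralizer_singleton_iff.mpr (I.hcomm s).symm
  have factA : ∀ t, I.φ t ∈ C ↔ t ∈ T := by
    intro t
    rw [hC, hT, Subgroup.mem_centralizer_singleton_iff, Subgroup.mem_centralizer_singleton_iff]
    exact k1t_comm_iff I z ℓ hodd hz t
  have factB : ∀ g ∈ C, ∃ t ∈ T, g = I.φ t ∨ g = I.a * I.φ t := by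
    intro g hg
    have hga : I.a * g = g * I.a := (Subgroup.mem_centralizer_singleton_iff.mp (hCa hg)).symm
    obtain ⟨t, ht | ht⟩ := I.hcent g hga
    · exact ⟨t, (factA t).mp (ht ▸ hg), Or.inl ht⟩
    · refine ⟨t, (factA t).mp ?_, Or.inr ht⟩
      have : I.φ t = I.a * g := by rw [ht, ← mul_assoc, haa, one_mul]
      rw [this]
      exact C.mul_mem haC hg
  have conj_mem : ∀ s ∈ NT, ∀ g ∈ C, I.φ s * g * (I.φ s)⁻¹ ∈ C := by
    intro s hs g hg
    obtain ⟨t, ht, rfl | rfl⟩ := factB g hg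
    · have : I.φ s * I.φ t * (I.φ s)⁻¹ = I.φ (s * t * s⁻¹) := by rw [map_mul, map_mul, map_inv]
      rw [this, factA]
      exact (Subgroup.mem_normalizer_iff.mp hs t).mp ht
    · have : I.φ s * (I.a * I.φ t) * (I.φ s)⁻¹ = I.a * I.φ (s * t * s⁻¹) := by
        rw [map_mul, map_mul, map_inv, ← mul_assoc, ← mul_assoc, ← mul_assoc, ← I.hcomm s]
      rw [this]
      exact C.mul_mem haC ((factA _).mpr ((Subgroup.mem_normalizer_iff.mp hs t).mp ht))
  have hN1 : ∀ s, I.φ s ∈ Subgroup.normalizer (C : Set G) ↔ s ∈ NT := by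
    intro s
    constructor
    · intro hs
      rw [hNT, Subgroup.mem_normalizer_iff]
      intro t
      have h1 := Subgroup.mem_normalizer_iff.mp hs (I.φ t)
      have h2 : I.φ s * I.φ t * (I.φ s)⁻¹ = I.φ (s * t * s⁻¹) := by rw [map_mul, map_mul, map_inv]
      rw [h2, factA, factA] at h1
      exact h1
    · intro hs
      rw [Subgroup.mem_normalizer_iff]
      intro g
      constructor
      · exact conj_mem s hs g
      · intro hg
        have := conj_mem s⁻¹ (NT.inv_mem hs) _ hg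
        have h2 : I.φ s⁻¹ * (I.φ s * g * (I.φ s)⁻¹) * (I.φ s⁻¹)⁻¹ = g := by
          rw [map_inv]; group
        rw [h2] at this
        exact this
  have haN : I.a ∈ N := ⟨Subgroup.le_normalizer haC, haCa⟩
  have hphiN : ∀ s ∈ NT, I.φ s ∈ N := fun s hs => ⟨(hN1 s).mpr hs, hphiCa s⟩
  have hNchar : ∀ g ∈ N, ∃ s ∈ NT, g = I.φ s ∨ g = I.a * I.φ s := by
    intro g hg
    have hga : I.a * g = g * I.a := (Subgroup.mem_centralizer_singleton_iff.mp hg.2).symm
    obtain ⟨s, hs | hs⟩ := I.hcent g hga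
    · exact ⟨s, (hN1 s).mp (hs ▸ hg.1), Or.inl hs⟩
    · refine ⟨s, (hN1 s).mp ?_, Or.inr hs⟩
      have : I.φ s = I.a * g := by rw [hs, ← mul_assoc, haa, one_mul]
      rw [this]
      exact Subgroup.mul_mem _ (Subgroup.le_normalizer haC) hg.1
  -- `a` is not in the image of `φ`, in two forms
  have hne1 : ∀ s s', I.a * I.φ s ≠ I.φ s' := by
    intro s s' h
    apply I.hne (s' * s⁻¹)
    rw [map_mul, map_inv, ← h, mul_assoc, mul_inv_cancel, mul_one]
  set M : Subgroup G := NT.map I.φ with hM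
  have hMN : M ≤ N := by
    intro g hg
    obtain ⟨s, hs, rfl⟩ := Subgroup.mem_map.mp hg
    exact hphiN s hs
  have hMmem : ∀ s ∈ NT, I.φ s ∈ M := fun s hs => Subgroup.mem_map.mpr ⟨s, hs, rfl⟩
  have hMnot : ∀ s, I.a * I.φ s ∉ M := by
    intro s hg
    obtain ⟨s', _, hs'⟩ := Subgroup.mem_map.mp hg
    exact hne1 s s' hs'.symm
  have hidx : (M.subgroupOf N).index = 2 := by
    rw [Subgroup.index_eq_two_iff]
    refine ⟨⟨I.a, haN⟩, ?_⟩
    rintro ⟨b, hb⟩
    simp only [Subgroup.mem_subgroupOf, Subgroup.coe_mul]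
    obtain ⟨s, hs, rfl | rfl⟩ := hNchar b hb
    · right
      refine ⟨hMmem s hs, ?_⟩
      rw [← I.hcomm s]
      exact hMnot s
    · left
      refine ⟨?_, hMnot s⟩
      have : I.a * I.φ s * I.a = I.φ s := by
        rw [I.hcomm s, mul_assoc, haa, mul_one]
      rw [this]
      exact hMmem s hs
  have hcardN : Nat.card ↥N = Nat.card ↥M * 2 := by
    have h1 := Subgroup.card_mul_index (M.subgroupOf N)
    rw [hidx, Nat.card_congr (Subgroup.subgroupOfEquivOfLe hMN).toEquiv] at h1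
    exact h1.symm
  -- the image of `NT` under `φ`
  have hcardM : 2 * Nat.card ↥M = Nat.card ↥NT := by
    set ψ : ↥NT →* G := I.φ.comp NT.subtype with hψ
    have hrange : ψ.range = M := by
      rw [hψ, MonoidHom.range_comp, Subgroup.range_subtype]
    have hker : ψ.ker = I.φ.ker.subgroupOf NT := by
      rw [hψ, ← MonoidHom.comap_ker]
      rfl
    have hkerφ : I.φ.ker = Subgroup.center (SpecialLinearGroup (Fin 2) K) := by
      ext x
      rw [MonoidHom.mem_ker]
      exact I.hker x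
    have hle : I.φ.ker ≤ NT := by
      rw [hkerφ]
      intro x hx
      apply Subgroup.le_normalizer
      rw [hT]
      exact Subgroup.mem_centralizer_singleton_iff.mpr ((Subgroup.mem_center_iff.mp hx z).symm)
    have h1 := Subgroup.card_mul_index ψ.ker
    rw [Subgroup.index_ker, hrange, hker, Nat.card_congr (Subgroup.subgroupOfEquivOfLe hle).toEquiv, hkerφ,
      card_center_sl2] at h1
    exact h1
  rw [hcardN, ← hcardM, mul_comm]

end core

section partB
variable {K : Type*} [Field K] [Fintype K] {G : Type*} [Group G] {m : ℕ} (D : RtData K G m)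
include D

/-- RH-K1T.  For a `(q+1)`-torus `C` containing the involution `a`: `|N(C) ∩ C(a)| = 2 (q + 1)`. -/
theorem c1_card_normalizer_inf {C : Subgroup G} (hC : IsC1 m C) (ha : D.I.a ∈ C) :
    Nat.card ↥(Subgroup.normalizer (C : Set G) ⊓ Subgroup.centralizer ({D.I.a} : Set G)) = 2 * (qq m + 1) := by
  have := D.finite
  have := fact_charP D.R.hK
  obtain ⟨y, ℓ, hℓ, hℓ2, hd, hy, rfl⟩ := hC
  have hya : D.I.a * y = y * D.I.a := Subgroup.mem_centralizer_singleton_iff.mp ha
  obtain ⟨z, rfl, hz⟩ := exists_lift D.I y hya ℓ hℓ hℓ2 hy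
  have hd' : ℓ ∣ 3 ^ (2 * m + 1) + 1 := hd
  have hCa := D.cent_le (D.I.φ z) hya ℓ hℓ hℓ2 hd' hy
  have hzl : z ^ ℓ = 1 := by rw [← hz]; exact pow_orderOf_eq_one z
  rw [k1t_core D.I z ℓ (hℓ.odd_of_ne_two hℓ2) hzl hCa]
  have hd'' : ℓ ∣ Fintype.card K + 1 := by rw [D.card_K']; exact hd'
  rw [sl2_card_normalizer_cent D.odd_K ℓ hℓ hℓ2 hd'' z hz, D.R.hK]
  rfl

end partB

end Cfsg.Agent.Lib.Helper38.Rh
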