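import Mathlib
import Cfsg.Agent.Lib.Helper39.OoDefs
import Cfsg.Agent.Lib.Helper39.OoINVF
import Cfsg.Agent.Lib.Helper35.OoDIAG
import Cfsg.Agent.Lib.Helper55.OoTORUS

/-!
# OO-UNI: `[B : B ∩ N]` is a power of `p` for the Borel subgroup of `O_{2m+1}(F)`, `q` odd

`b ↦ diag(b)` is a monoid homomorphism on the upper triangular isometries; its kernel `U` (the
unitriangular isometries) is a `p`-group and a complement of the torus `T = B ∩ N` in `B`.
-/

set_option autoImplicit false

namespace Cfsg.Agent.Lib.Helper39.OoBN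

open Matrix Cfsg

variable {F : Type*} [Field F] {m : ℕ}

theorem uni_rk_injective : Function.Injective (rk : Idx m → ℕ) := by
  rintro (u | i | i) (u' | j | j) h
  · rfl
  · exfalso
    have := j.2
    simp only [rk] at h
    omega
  · exfalso
    have := j.2
    simp only [rk] at h
    omega
  · exfalso
    have := i.2
    simp only [rk] at h
    omega
  · have h' : (i : ℕ) = (j : ℕ) := h
    rw [Fin.ext h']
  · exfalso
    have := i.2
    have := j.2
    simp only [rk] at h
    omega
  · exfalso
    have := i.2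
    simp only [rk] at h
    omega
  · exfalso
    have := i.2
    have := j.2
    simp only [rk] at h
    omega
  · have h1 := i.2
    have h2 := j.2
    simp only [rk] at h
    have h' : (i : ℕ) = (j : ℕ) := by omega
    rw [Fin.ext h']

theorem uni_rk_le (a : Idx m) : rk a ≤ 2 * m := by
  rcases a with u | i | i
  · simp only [rk]; omega
  · have := i.2
    simp only [rk]; omega
  · simp only [rk]; omega

/-- the diagonal of a product of upper triangular matrices -/
theorem uni_diag_mul (g h : OG F m) (hg : g ∈ Bo F m) (hh : h ∈ Bo F m) (a : Idx m) :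
    mat (g * h) a a = mat g a a * mat h a a := by
  rw [mat_mul, Matrix.mul_apply, Finset.sum_eq_single a]
  · intro b _ hb
    rcases lt_or_gt_of_ne (fun h' => hb (uni_rk_injective h')) with h1 | h1
    · rw [(mem_Bo_iff g).1 hg a b h1, zero_mul]
    · rw [(mem_Bo_iff h).1 hh b a h1, mul_zero]
  · intro h'
    exact absurd (Finset.mem_univ _) h'

variable (F m) in
/-- the diagonal, as a monoid homomorphism on the Borel subgroup -/
def uni_delta : ↥(Bo F m) →* (Idx m → F) where
  toFun b a := mat (b : OG F m) a a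
  map_one' := by
    funext a
    show mat ((1 : ↥(Bo F m)) : OG F m) a a = 1
    rw [Subgroup.coe_one, mat_one, Matrix.one_apply_eq]
  map_mul' b c := by
    funext a
    show mat ((b * c : ↥(Bo F m)) : OG F m) a a = mat (b : OG F m) a a * mat (c : OG F m) a a
    rw [Subgroup.coe_mul]
    exact uni_diag_mul b.1 c.1 b.2 c.2 a

theorem uni_delta_apply (b : ↥(Bo F m)) (a : Idx m) :
    uni_delta F m b a = mat (b : OG F m) a a := rfl

theorem uni_mat_pow (g : OG F m) (k : ℕ) : mat (g ^ k) = mat g ^ k := by
  induction k with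
  | zero => rw [pow_zero, pow_zero, mat_one]
  | succ k ih => rw [pow_succ, mat_mul, ih, pow_succ]

/-- powers of a strictly upper triangular matrix -/
theorem uni_strict_pow {N : Matrix (Idx m) (Idx m) F}
    (hN : ∀ a b : Idx m, rk b ≤ rk a → N a b = 0) (k : ℕ) :
    ∀ a b : Idx m, rk b < rk a + k → (N ^ k) a b = 0 := by
  induction k with
  | zero =>
    intro a b hab
    rw [pow_zero, Matrix.one_apply_ne]
    intro h
    subst h
    omega
  | succ k ih =>
    intro a b hab
    rw [pow_succ, Matrix.mul_apply]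
    apply Finset.sum_eq_zero
    intro l _
    by_cases hl : rk l < rk a + k
    · rw [ih a l hl, zero_mul]
    · rw [hN l b (by omega), mul_zero]

theorem uni_strict_pow_eq_zero {N : Matrix (Idx m) (Idx m) F}
    (hN : ∀ a b : Idx m, rk b ≤ rk a → N a b = 0) {k : ℕ} (hk : 2 * m + 1 ≤ k) : N ^ k = 0 := by
  ext a b
  rw [uni_strict_pow hN k a b (by have := uni_rk_le b; omega)]
  rfl

/-- the unitriangular isometries form a `p`-group -/
theorem uni_isPGroup (p : ℕ) [Fact p.Prime] [CharP F p] :
    IsPGroup p (uni_delta F m).ker := by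
  rintro ⟨u, hu⟩
  refine ⟨2 * m + 1, ?_⟩
  apply Subtype.ext
  apply Subtype.ext
  show (u : OG F m) ^ (p ^ (2 * m + 1)) = 1
  apply mat_ext
  rw [uni_mat_pow, mat_one]
  have hne : Nonempty (Idx m) := ⟨e0⟩
  have hcp : CharP (Matrix (Idx m) (Idx m) F) p := Matrix.charP p
  rw [MonoidHom.mem_ker] at hu
  have hN : ∀ a b : Idx m, rk b ≤ rk a → (mat (u : OG F m) - 1) a b = 0 := by
    intro a b hab
    rw [Matrix.sub_apply]
    rcases lt_or_eq_of_le hab with h | h
    · have hne' : a ≠ b := by
        rintro rfl
        exact lt_irrefl _ h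
      rw [(mem_Bo_iff u.1).1 u.2 a b h, Matrix.one_apply_ne hne', sub_zero]
    · have hab' : b = a := uni_rk_injective h
      subst hab'
      have h1 := congrFun hu b
      rw [uni_delta_apply] at h1
      rw [h1, Matrix.one_apply_eq]
      exact sub_self _
  have h0 : (mat (u : OG F m) - 1) ^ (p ^ (2 * m + 1)) = 0 :=
    uni_strict_pow_eq_zero hN (le_of_lt (Nat.lt_pow_self (Fact.out : p.Prime).one_lt))
  have hc : Commute (mat (u : OG F m) - 1) 1 := Commute.one_right _
  have h1 := add_pow_char_pow_of_commute (p := p) (n := 2 * m + 1)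
    (x := mat (u : OG F m) - 1) (y := 1) hc
  rw [sub_add_cancel, h0, one_pow, zero_add] at h1
  exact h1

/-- the diagonal entries of an upper triangular isometry -/
theorem uni_diag_bar (h2 : (2 : F) ≠ 0) (b : ↥(Bo F m)) (a : Idx m) :
    mat (b : OG F m) (bar a) (bar a) * mat (b : OG F m) a a = 1 := by
  have h1 : uni_delta F m (b⁻¹ * b) a = 1 := by
    rw [inv_mul_cancel, map_one]
    rfl
  rw [map_mul, Pi.mul_apply, uni_delta_apply, uni_delta_apply, Subgroup.coe_inv,
    mat_inv_apply h2, inv_mul_cancel₀ (wt_ne_zero h2 a), one_mul] at h1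
  exact h1

/-- the unitriangular isometries are a complement of the torus in the Borel subgroup -/
theorem uni_complement (h2 : (2 : F) ≠ 0) :
    Subgroup.IsComplement' (uni_delta F m).ker ((Bo F m ⊓ No F m).subgroupOf (Bo F m)) := by
  apply Subgroup.isComplement'_of_disjoint_and_mul_eq_univ
  · rw [Subgroup.disjoint_def]
    intro x hx hxT
    rw [MonoidHom.mem_ker] at hx
    rw [Subgroup.mem_subgroupOf, mem_inf_iff] at hxT
    apply Subtype.ext
    apply mat_ext
    rw [Subgroup.coe_one, mat_one]
    ext a b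
    by_cases hab : a = b
    · subst hab
      have h1 := congrFun hx a
      rw [uni_delta_apply] at h1
      rw [h1, Matrix.one_apply_eq]
      rfl
    · rw [hxT a b hab, Matrix.one_apply_ne hab]
  · rw [Set.eq_univ_iff_forall]
    intro b
    obtain ⟨t, ht⟩ := exists_diag (F := F) (m := m) (fun a => mat (b : OG F m) a a)
      (by
        have h := uni_diag_bar h2 b e0
        rw [bar_e0] at h
        rw [sq]
        exact h)
      (fun i => by
        have h := uni_diag_bar h2 b (yi i)
        rw [bar_yi] at h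
        exact h)
    have htT : t ∈ Bo F m ⊓ No F m := by
      rw [mem_inf_iff]
      intro a c hac
      rw [ht, Matrix.diagonal_apply_ne _ hac]
    have htB : t ∈ Bo F m := htT.1
    have hδ : uni_delta F m ⟨t, htB⟩ = uni_delta F m b := by
      funext a
      rw [uni_delta_apply, uni_delta_apply]
      show mat t a a = _
      rw [ht, Matrix.diagonal_apply_eq]
    rw [Set.mem_mul]
    refine ⟨b * (⟨t, htB⟩ : ↥(Bo F m))⁻¹, ?_, ⟨t, htB⟩, ?_, ?_⟩
    · rw [SetLike.mem_coe, MonoidHom.mem_ker, map_mul, ← hδ, ← map_mul, mul_inv_cancel, map_one]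
    · rw [SetLike.mem_coe, Subgroup.mem_subgroupOf]
      exact htT
    · rw [inv_mul_cancel_right]

/-- LEAF UNI: `[B : B ∩ N]` is a power of `p`. -/
theorem index_T_eq_pow [Fintype F] (p : ℕ) [Fact p.Prime] [CharP F p] (h2 : (2 : F) ≠ 0) :
    ∃ e : ℕ, ((Bo F m ⊓ No F m).subgroupOf (Bo F m)).index = p ^ e := by
  have hc := uni_complement (F := F) (m := m) h2
  rw [hc.index_eq_card]
  exact IsPGroup.iff_card.mp (uni_isPGroup p)

end Cfsg.Agent.Lib.Helper39.OoBN
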