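import Mathlib
import Cfsg.Agent.Lib.Helper41.OmBNDefs
import Cfsg.Agent.Lib.Helper45.OmBN_HINV

/-!
# OmBN-OMIDX: in characteristic two `Ω^-_{2m+2}(F)` has index two in `O^-_{2m+2}(F)`
-/

set_option autoImplicit false

namespace Cfsg.Agent.Lib.Helper41.OmBN

open Matrix Cfsg Cfsg.Agent.Lib.Helper13 Cfsg.Agent.Lib.Helper8 Cfsg.Agent.Lib.Helper43
  Cfsg.Agent.Lib.Helper41.SpBN

variable {F : Type*} [Field F] {m : ℕ} {a b : F}

theorem omidx_two_eq_zero [CharP F 2] : (2 : F) = 0 := by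
  have := CharP.cast_eq_zero F 2
  exact_mod_cast this

/-- LEAF OMIDX -/
theorem omega_index_two [Fintype F] (hab : Aniso a b) [CharP F 2] :
    (Cfsg.Omega F ⇑(minusForm m F a b)).index = 2 :=
  commutator_index_two_char2_gen omidx_two_eq_zero (minusForm m F a b) (nondeg hab)
    (hinv_goodOrth hab) (minusForm_exists_ne_zero m F a b)

end Cfsg.Agent.Lib.Helper41.OmBN
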