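import Mathlib
import Cfsg.Agent.Lib.Helper41.OmBNDefs
import Cfsg.Agent.Lib.Helper45.OmBN_OMIDX

/-!
# OmBN-REFL: in characteristic two the torus `B ∩ N` of `O^-_{2m+2}(F)` is not inside `Ω`
(the reflection in `w₀ = (1,0) ∈ W` is block diagonal)
-/

set_option autoImplicit false

namespace Cfsg.Agent.Lib.Helper41.OmBN

open Matrix Cfsg Cfsg.Agent.Lib.Helper13 Cfsg.Agent.Lib.Helper8 Cfsg.Agent.Lib.Helper43
  Cfsg.Agent.Lib.Helper41.SpBN

variable {F : Type*} [Field F] {m : ℕ} {a b : F}

/-- the value of the form on `W` -/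
theorem refl_Q_vw (c : Fin 2 → F) :
    minusForm m F a b (vw F m c) = c 0 ^ 2 + a * c 0 * c 1 + b * c 1 ^ 2 := by
  rw [← minusForm_coe]
  unfold Cfsg.quadFormMinus
  simp [vw]

/-- `W` is orthogonal to the `e_i`, `f_i` -/
theorem refl_polar_vw_inl (c : Fin 2 → F) (s : Idx m) :
    QuadraticMap.polar (⇑(minusForm m F a b)) (vw F m c) (Pi.single (Sum.inl s) 1) = 0 := by
  rw [polar_minusForm]
  simp [vw]

/-- the entries of the reflection in a vector of `W` -/
theorem refl_entry (c : Fin 2 → F) (i j : MIdx m) :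
    Cfsg.reflectionMatrix (⇑(minusForm m F a b)) (vw F m c) i j =
      (1 : Matrix (MIdx m) (MIdx m) F) i j - (minusForm m F a b (vw F m c))⁻¹ *
        (vw F m c i * QuadraticMap.polar (⇑(minusForm m F a b)) (vw F m c) (Pi.single j 1)) := by
  unfold Cfsg.reflectionMatrix Cfsg.polarVec
  rw [Matrix.sub_apply, Matrix.smul_apply, Matrix.vecMulVec_apply, smul_eq_mul]

theorem refl_entry_inl_left (c : Fin 2 → F) (s : Idx m) (j : MIdx m) :
    Cfsg.reflectionMatrix (⇑(minusForm m F a b)) (vw F m c) (Sum.inl s) j =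
      (1 : Matrix (MIdx m) (MIdx m) F) (Sum.inl s) j := by
  rw [refl_entry]
  simp [vw]

theorem refl_entry_inl_right (c : Fin 2 → F) (i : MIdx m) (s : Idx m) :
    Cfsg.reflectionMatrix (⇑(minusForm m F a b)) (vw F m c) i (Sum.inl s) =
      (1 : Matrix (MIdx m) (MIdx m) F) i (Sum.inl s) := by
  rw [refl_entry, refl_polar_vw_inl]
  simp

/-- the reflection in a nonsingular vector of `W` lies in the torus -/
theorem refl_mem_T (c : Fin 2 → F) (hc : minusForm m F a b (vw F m c) ≠ 0) :
    reflElt (minusForm m F a b) (vw F m c) hc ∈ Bo F m a b ⊓ No F m a b := by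
  have hmat : mat (reflElt (minusForm m F a b) (vw F m c) hc) =
      Cfsg.reflectionMatrix (⇑(minusForm m F a b)) (vw F m c) := rfl
  rw [Subgroup.mem_inf]
  refine ⟨?_, ?_⟩
  · rw [mem_Bo_iff]
    intro i j hij
    rw [hmat]
    have hne : i ≠ j := by
      rintro rfl
      exact lt_irrefl _ hij
    rcases i with s | t
    · rw [refl_entry_inl_left, Matrix.one_apply_ne hne]
    · rcases j with s | t'
      · rw [refl_entry_inl_right, Matrix.one_apply_ne hne]
      · exfalso
        simp only [oord] at hij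
        exact lt_irrefl _ hij
  · refine ⟨1, fun _ => 1, ?_, ?_, ?_⟩
    · intro s t
      show mat (reflElt (minusForm m F a b) (vw F m c) hc) (Sum.inl s) (Sum.inl t) = _
      rw [hmat, refl_entry_inl_left, Equiv.Perm.one_apply, Matrix.one_apply]
      by_cases hst : s = t
      · rw [if_pos hst, if_pos (by rw [hst])]
      · rw [if_neg hst, if_neg (fun h => hst (Sum.inl_injective h))]
    · ext s j
      show mat (reflElt (minusForm m F a b) (vw F m c) hc) (Sum.inl s) (Sum.inr j) = 0
      rw [hmat, refl_entry_inl_left, Matrix.one_apply_ne (by simp)]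
    · ext j s
      show mat (reflElt (minusForm m F a b) (vw F m c) hc) (Sum.inr j) (Sum.inl s) = 0
      rw [hmat, refl_entry_inl_right, Matrix.one_apply_ne (by simp)]

/-- LEAF REFL -/
theorem exists_refl_T [Fintype F] (hab : Aniso a b) [CharP F 2] :
    ∃ r : OG F m a b, r ∈ Bo F m a b ⊓ No F m a b ∧ r ∉ Cfsg.Omega F ⇑(minusForm m F a b) := by
  have hc : minusForm m F a b (vw F m ![1, 0]) ≠ 0 := by
    rw [refl_Q_vw]
    simp
  refine ⟨reflElt (minusForm m F a b) (vw F m ![1, 0]) hc, refl_mem_T _ hc, ?_⟩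
  intro hmem
  have h1 := (mem_commutator_iff_even_rank_char2_gen omidx_two_eq_zero (minusForm m F a b)
    (nondeg hab) (hinv_goodOrth hab) (minusForm_exists_ne_zero m F a b) _).1 hmem
  have h2 : ((((reflElt (minusForm m F a b) (vw F m ![1, 0]) hc :
      ↥(Cfsg.isometryGroup F ⇑(minusForm m F a b))) : Matrix.GeneralLinearGroup (MIdx m) F) :
      Matrix (MIdx m) (MIdx m) F) - 1).rank = 1 :=
    rank_reflectionMatrix_sub_one (minusForm m F a b) (nondeg hab) _ hc
  rw [h2] at h1
  exact Nat.not_even_one h1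

end Cfsg.Agent.Lib.Helper41.OmBN
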