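import Mathlib
import Cfsg.Prelude.Def_GeometricClasses
import Cfsg.Agent.Lib.Helper43.ClassifyMinus
import Cfsg.Agent.Lib.Helper43.OrthCardForms
import Cfsg.Agent.Lib.Helper43.QbarFacts

set_option autoImplicit false
open scoped MatrixGroups
open Matrix

/-! S5981 Of hive (helper44), leaf OF-CARDE (helper45): zero count and group order of an abstract nondegenerate
quadratic form in even dimension (type dichotomy). -/

namespace Cfsg.Agent.Lib.Helper44.Of

universe v

variable {F : Type v} [Field F]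

open Module QuadraticMap Cfsg.Agent.Lib.Helper43 Cfsg.Agent.Lib.Helper8

/-- a bare function satisfying the Prelude's axioms, bundled as a Mathlib quadratic form -/
noncomputable def carde_qf {n : ℕ} (Q : (Fin n → F) → F) (hQ : Cfsg.Geo.IsNondegenerateQuadraticForm Q) :
    QuadraticForm F (Fin n → F) where
  toFun := Q
  toFun_smul := fun a x => by rw [hQ.smul, smul_eq_mul, pow_two]
  exists_companion' :=
    ⟨LinearMap.mk₂ F (polar Q) hQ.polar_bilinear.add_left
        (fun c x v => by rw [hQ.polar_bilinear.smul_left, smul_eq_mul])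
        hQ.polar_bilinear.add_right
        (fun c v x => by rw [hQ.polar_bilinear.smul_right, smul_eq_mul]),
      fun x y => by simp [polar]⟩

theorem carde_qf_coe {n : ℕ} (Q : (Fin n → F) → F) (hQ : Cfsg.Geo.IsNondegenerateQuadraticForm Q) :
    ⇑(carde_qf Q hQ) = Q := rfl

theorem carde_qf_nondeg {n : ℕ} (Q : (Fin n → F) → F) (hQ : Cfsg.Geo.IsNondegenerateQuadraticForm Q) :
    (QuadraticMap.polarBilin (carde_qf Q hQ)).Nondegenerate := by
  constructor
  · intro x hx
    by_contra hx0
    obtain ⟨-, y, hy⟩ := hQ.nondegenerate x hx0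
    exact hy (hx y)
  · intro x hx
    by_contra hx0
    obtain ⟨⟨y, hy⟩, -⟩ := hQ.nondegenerate x hx0
    exact hy (hx y)

/-- OF-CARDE -/
theorem card_isometryGroup_of_even [Fintype F] (h2 : (2 : F) ≠ 0) {n m : ℕ} (hnm : n = 2 * m) (hm : 1 ≤ m)
    (Q : (Fin n → F) → F) (hQ : Cfsg.Geo.IsNondegenerateQuadraticForm Q) :
    (Nat.card {v : Fin n → F // Q v = 0}
        = (Fintype.card F ^ m - 1) * (Fintype.card F ^ (m - 1) + 1) + 1 ∧
      Nat.card (Cfsg.isometryGroup F Q)
        = 2 * Fintype.card F ^ (m * (m - 1)) * (Fintype.card F ^ m - 1)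
          * ∏ i ∈ Finset.range (m - 1), (Fintype.card F ^ (2 * (i + 1)) - 1)) ∨
    (Nat.card {v : Fin n → F // Q v = 0}
        = (Fintype.card F ^ m + 1) * (Fintype.card F ^ (m - 1) - 1) + 1 ∧
      Nat.card (Cfsg.isometryGroup F Q)
        = 2 * Fintype.card F ^ (m * (m - 1)) * (Fintype.card F ^ m + 1)
          * ∏ i ∈ Finset.range (m - 1), (Fintype.card F ^ (2 * (i + 1)) - 1)) := by
  have _ := h2
  obtain ⟨k, rfl⟩ : ∃ k, m = k + 1 := ⟨m - 1, by omega⟩
  have hq1 : 1 ≤ Fintype.card F := Fintype.card_pos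
  set Qf := carde_qf Q hQ with hQf
  have hnd := carde_qf_nondeg Q hQ
  have hdim : finrank F (Fin n → F) = 2 * (k + 1) := by
    rw [Module.finrank_fintype_fun_eq_card, Fintype.card_fin, hnm]
  have hcardO : Nat.card (Cfsg.isometryGroup F Q) = Nat.card (OG Qf) :=
    (card_OG_eq_isometryGroup Qf).symm
  have hzero : Nat.card {v : Fin n → F // Q v = 0} = Nat.card {v : Fin n → F // Qf v = 0} := rfl
  rw [Nat.add_sub_cancel]
  rcases ZeroCount.card_zeros_dichotomy (Fin n → F) Qf hnd (k + 1) hdim with hZ | ⟨-, hZ⟩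
  · left
    refine ⟨?_, ?_⟩
    · rw [hzero, hZ, ZZ_plus _ hq1]
    · obtain ⟨Θ, hΘ⟩ := classify_plus (Fin n → F) Qf hnd (k + 1) hdim hZ
      have hΘ' : ∀ x, plusForm (k + 1) F (Θ x) = Qf x := by
        intro x
        rw [← plusForm_coe]
        exact hΘ x
      rw [hcardO, card_OG_congr Qf (plusForm (k + 1) F) Θ hΘ', card_OG_eq_isometryGroup,
        ← plusForm_coe, card_isometryGroup_plus]
  · right
    rw [Nat.add_sub_cancel] at hZ
    refine ⟨?_, ?_⟩
    · rw [hzero, hZ, ZZ_minus _ hq1]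
    · obtain ⟨a, c, hac⟩ := OrthGen.exists_aniso F
      have hdim' : finrank F (Fin n → F) = 2 * k + 2 := by rw [hdim]; ring
      obtain ⟨Θ, hΘ⟩ := ZeroCount.classify_minus_gen a c hac (Fin n → F) Qf hnd k hdim' hZ
      have hΘ' : ∀ x, minusForm k F a c (Θ x) = Qf x := by
        intro x
        rw [← minusForm_coe]
        exact hΘ x
      rw [hcardO, card_OG_congr Qf (minusForm k F a c) Θ hΘ', card_OG_eq_isometryGroup,
        ← minusForm_coe, card_isometryGroup_minus k F a c hac]

end Cfsg.Agent.Lib.Helper44.Of
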