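import Mathlib

/-!
# OC-OBSSS: two totally isotropic halves of a nondegenerate space have the same dimension (helper45, for helper61)
-/

set_option autoImplicit false

namespace Cfsg.Agent.Lib.Helper44.Oc

/-- one half of `obsss_iso_halves` -/
theorem obsss_iso_le {F : Type*} [Field F] {V : Type*} [AddCommGroup V] [Module F V] [FiniteDimensional F V]
    (B : LinearMap.BilinForm F V) (W X Y : Submodule F V) (hX : X ≤ W) (hsum : W ≤ X ⊔ Y)
    (hXi : ∀ u ∈ X, ∀ v ∈ X, B u v = 0)
    (hnd : ∀ u ∈ W, (∀ w ∈ W, B u w = 0) → u = 0) : Module.finrank F X ≤ Module.finrank F Y := by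
  let f : X →ₗ[F] Module.Dual F Y := B.compl₁₂ X.subtype Y.subtype
  have hf : Function.Injective f := by
    rw [← LinearMap.ker_eq_bot, LinearMap.ker_eq_bot']
    intro u hu
    have hu0 : (u : V) = 0 := by
      apply hnd _ (hX u.2)
      intro w hw
      obtain ⟨x, hx, y, hy, rfl⟩ := Submodule.mem_sup.1 (hsum hw)
      rw [map_add, hXi _ u.2 _ hx, zero_add]
      have := LinearMap.congr_fun hu ⟨y, hy⟩
      simpa [f] using this
    exact Subtype.ext hu0
  calc Module.finrank F X ≤ Module.finrank F (Module.Dual F Y) :=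
        LinearMap.finrank_le_finrank_of_injective hf
    _ = Module.finrank F Y := Subspace.dual_finrank_eq

/-- OC-OBSSS auxiliary: if a nondegenerate `W` is the sum of two totally isotropic subspaces, they have the same dimension -/
theorem obsss_iso_halves {F : Type*} [Field F] {V : Type*} [AddCommGroup V] [Module F V] [FiniteDimensional F V]
    (B : LinearMap.BilinForm F V) (hsymm : ∀ u v, B u v = B v u) (W X Y : Submodule F V) (hX : X ≤ W)
    (hY : Y ≤ W) (hsum : W ≤ X ⊔ Y) (hXi : ∀ u ∈ X, ∀ v ∈ X, B u v = 0)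
    (hYi : ∀ u ∈ Y, ∀ v ∈ Y, B u v = 0) (hnd : ∀ u ∈ W, (∀ w ∈ W, B u w = 0) → u = 0) :
    Module.finrank F X = Module.finrank F Y := by
  apply le_antisymm
  · exact obsss_iso_le B W X Y hX hsum hXi hnd
  · exact obsss_iso_le B W Y X hY (by rw [sup_comm]; exact hsum) hYi hnd

end Cfsg.Agent.Lib.Helper44.Oc
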