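import Mathlib
import Cfsg.Agent.Lib.Helper44.OcDefs
import Cfsg.Agent.Lib.Helper83.TnsO2a
import Cfsg.Agent.Lib.Helper83.TnsO2b
import Cfsg.Agent.Lib.Helper8.GUSpJ

/-!
# OC-OBSSS, the case `i = ord_r(q)` odd (helper45; the case `i ≡ 2 (mod 4)` and the final `obs_ss` are helper61's)

`W = ker φ(y)` has dimension divisible by `i = deg φ` (it is a vector space over `F[X]/(φ)`) and by `2`
(it is `J`-invariant and `J² = δ` is a nonsquare), hence by `2 i` when `i` is odd.
-/

set_option autoImplicit false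
open scoped MatrixGroups
open Matrix Polynomial

namespace Cfsg.Agent.Lib.Helper44.Oc

universe v

variable {F : Type v} [Field F] {ι : Type} [Fintype ι] [DecidableEq ι]

/-- `aeval` commutes with `toLin'` -/
theorem obsss_aeval_toLin' (y : Matrix ι ι F) (φ : F[X]) :
    aeval (Matrix.toLin' y) φ = Matrix.toLin' (aeval y φ) :=
  Polynomial.aeval_algHom_apply (Matrix.toLinAlgEquiv' : Matrix ι ι F ≃ₐ[F] _) y φ

/-- the dimension of the kernel of `φ(y)` in terms of the rank -/
theorem obsss_finrank_ker (y : Matrix ι ι F) (φ : F[X]) :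
    Module.finrank F (LinearMap.ker (aeval (Matrix.toLin' y) φ)) =
      Fintype.card ι - (aeval y φ).rank := by
  rw [obsss_aeval_toLin']
  have h := LinearMap.finrank_range_add_finrank_ker (Matrix.toLin' (aeval y φ))
  rw [Module.finrank_fintype_fun_eq_card] at h
  have hr : (aeval y φ).rank = Module.finrank F (LinearMap.range (Matrix.toLin' (aeval y φ))) := by
    rw [Matrix.rank, Matrix.toLin'_apply']
  omega

/-- an element commuting with `a` commutes with every polynomial in `a` -/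
theorem obsss_commute_aeval {A : Type*} [Ring A] [Algebra F A] (a b : A) (hab : a * b = b * a)
    (φ : F[X]) : aeval a φ * b = b * aeval a φ := by
  have ha : a ∈ Subalgebra.centralizer F ({b} : Set A) := by
    rw [Subalgebra.mem_centralizer_iff]
    intro g hg
    rw [Set.mem_singleton_iff] at hg
    subst hg
    exact hab.symm
  have hle : Algebra.adjoin F ({a} : Set A) ≤ Subalgebra.centralizer F ({b} : Set A) :=
    Algebra.adjoin_le (Set.singleton_subset_iff.2 ha)
  have h := hle (Polynomial.aeval_mem_adjoin_singleton F a (p := φ))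
  rw [Subalgebra.mem_centralizer_iff] at h
  exact (h b rfl).symm

/-- the kernel of `φ(y)` has even dimension when `y` commutes with `J`, `J² = δ` a nonsquare -/
theorem obsss_even (δ : F) (hδ : ¬ IsSquare δ) (J : Matrix ι ι F)
    (hJJ : J * J = δ • (1 : Matrix ι ι F)) (y : Matrix ι ι F) (hyJ : y * J = J * y) (φ : F[X]) :
    Even (Module.finrank F (LinearMap.ker (aeval (Matrix.toLin' y) φ))) := by
  apply Cfsg.Agent.Lib.Helper8.GUSp.even_finrank_of_sq (Matrix.toLin' J) δ hδ
  · intro v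
    rw [Matrix.toLin'_apply, Matrix.toLin'_apply, Matrix.mulVec_mulVec, hJJ, Matrix.smul_mulVec,
      Matrix.one_mulVec]
  · intro u hu
    rw [LinearMap.mem_ker] at hu ⊢
    have hc : Matrix.toLin' y * Matrix.toLin' J = Matrix.toLin' J * Matrix.toLin' y := by
      rw [Module.End.mul_eq_comp, Module.End.mul_eq_comp, ← Matrix.toLin'_mul, ← Matrix.toLin'_mul,
        hyJ]
    have h := obsss_commute_aeval (F := F) (Matrix.toLin' y) (Matrix.toLin' J) hc φ
    have h1 := congrArg (fun f : Module.End F (ι → F) => f u) h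
    simp only [Module.End.mul_apply] at h1
    rw [h1, hu, map_zero]

/-- OC-OBSSS for `i = ord_r(q)` odd -/
theorem obsss_odd [Fintype F] {p : ℕ} [Fact p.Prime] [CharP F p] (h2 : (2 : F) ≠ 0) (Q : (ι → F) → F)
    (hQ : Cfsg.Geo.IsNondegenerateQuadraticForm Q) (δ : F) (hδ : ¬ IsSquare δ) (J : Matrix ι ι F) (hJ : IsJ Q δ J)
    (r : ℕ) [Fact r.Prime] (hr2 : r ≠ 2) (hrp : r ≠ p)
    (hodd : Odd (orderOf ((Fintype.card F : ℕ) : ZMod r)))
    (y : GL ι F) (hy : y ∈ Cfsg.isometryGroup F Q)
    (hyJ : (y : Matrix ι ι F) * J = J * (y : Matrix ι ι F)) (hyr : y ^ r = 1)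
    (φ : F[X]) (hφ : Irreducible φ) (hφr : φ ∣ cyclotomic r F) :
    2 * orderOf ((Fintype.card F : ℕ) : ZMod r) ∣ Fintype.card ι - (aeval (y : Matrix ι ι F) φ).rank := by
  rw [← obsss_finrank_ker]
  have hdeg := Cfsg.Agent.Lib.Helper44.Tns.o2b_natDegree_of_dvd_cyclotomic (p := p) r hrp hφr hφ
  have h1 : orderOf ((Fintype.card F : ℕ) : ZMod r) ∣
      Module.finrank F (LinearMap.ker (aeval (Matrix.toLin' (y : Matrix ι ι F)) φ)) := by
    rw [← hdeg]
    exact Cfsg.Agent.Lib.Helper44.Tns.o2a_dvd_finrank_ker _ φ hφ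
  have h2' : 2 ∣ Module.finrank F (LinearMap.ker (aeval (Matrix.toLin' (y : Matrix ι ι F)) φ)) :=
    (obsss_even δ hδ J hJ.1 (y : Matrix ι ι F) hyJ φ).two_dvd
  have hcop : Nat.Coprime 2 (orderOf ((Fintype.card F : ℕ) : ZMod r)) :=
    (Nat.Prime.coprime_iff_not_dvd Nat.prime_two).2
      (fun h => (Nat.not_even_iff_odd.2 hodd) (even_iff_two_dvd.2 h))
  exact hcop.mul_dvd_of_dvd_of_dvd h2' h1

end Cfsg.Agent.Lib.Helper44.Oc
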