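import Mathlib
import Cfsg.Prelude.Def_GeometricClasses

set_option autoImplicit false
open scoped MatrixGroups
open Matrix

/-! S5981 Of hive (helper44), leaf OF-X2 (helper45): a fixed-point-free element of order `r` of `SL_n(q)`,
obtained from a Singer cycle: multiplication by an element of order `r` of the field with `q ^ n` elements. -/

namespace Cfsg.Agent.Lib.Helper44.Of

universe v

variable {F : Type v} [Field F]

/-- an element `δ` of a finite field with `δ ^ r = 1`, where `r` is a prime not dividing `|F| - 1`, is `1` -/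
theorem x2_eq_one_of_pow [Fintype F] (r : ℕ) (hr : r.Prime) (hr1 : ¬ r ∣ Fintype.card F - 1) (δ : F)
    (hδ : δ ^ r = 1) : δ = 1 := by
  have hδ0 : δ ≠ 0 := by
    rintro rfl
    rw [zero_pow hr.ne_zero] at hδ
    exact zero_ne_one hδ
  have h2 : δ ^ (Fintype.card F - 1) = 1 := FiniteField.pow_card_sub_one_eq_one δ hδ0
  have h3 : δ ^ Nat.gcd r (Fintype.card F - 1) = 1 := pow_gcd_eq_one.2 ⟨hδ, h2⟩
  have hcop : Nat.gcd r (Fintype.card F - 1) = 1 := (Nat.Prime.coprime_iff_not_dvd hr).2 hr1
  rw [hcop, pow_one] at h3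
  exact h3

/-- OF-X2 -/
theorem exists_fpf [Fintype F] {n : ℕ} (hn : 1 ≤ n) (r : ℕ) [Fact r.Prime] (hrq : ¬ r ∣ Fintype.card F)
    (hi2 : 2 ≤ orderOf ((Fintype.card F : ℕ) : ZMod r))
    (hin : orderOf ((Fintype.card F : ℕ) : ZMod r) ∣ n) :
    ∃ x : GL (Fin n) F, x ∈ Cfsg.Geo.specialLinear (Fin n) F ∧ x ^ r = 1 ∧
      ∀ v : Fin n → F, (x : Matrix (Fin n) (Fin n) F) *ᵥ v = v → v = 0 := by
  classical
  have _ := hrq
  have hr : r.Prime := Fact.out
  obtain ⟨p, hp⟩ := CharP.exists F
  have : CharP F p := hp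
  have : Fact p.Prime := ⟨CharP.char_is_prime F p⟩
  have : NeZero n := ⟨by omega⟩
  set q := Fintype.card F with hq
  have hq1 : 1 ≤ q := Fintype.card_pos
  -- `r ∤ q - 1`
  have hr1 : ¬ r ∣ q - 1 := by
    intro h
    have h0 : ((q - 1 : ℕ) : ZMod r) = 0 := (ZMod.natCast_eq_zero_iff _ _).2 h
    rw [Nat.cast_sub hq1, Nat.cast_one, sub_eq_zero] at h0
    rw [h0, orderOf_one] at hi2
    omega
  -- `r ∣ q ^ n - 1`
  have hrn : r ∣ q ^ n - 1 := by
    have h1 : ((q : ℕ) : ZMod r) ^ n = 1 := orderOf_dvd_iff_pow_eq_one.1 hin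
    rw [← ZMod.natCast_eq_zero_iff, Nat.cast_sub (Nat.one_le_pow _ _ hq1), Nat.cast_pow, h1]
    simp
  -- the extension field
  let E := FiniteField.Extension F p n
  have hfin : Module.finrank F E = n := FiniteField.finrank_extension F p n
  have hcardE : Nat.card E = q ^ n := by
    rw [FiniteField.natCard_extension, Nat.card_eq_fintype_card]
  have : Fintype E := Fintype.ofFinite E
  have hcardU : Nat.card Eˣ = q ^ n - 1 := by
    rw [Nat.card_eq_fintype_card, Fintype.card_units, ← Nat.card_eq_fintype_card, hcardE]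
  obtain ⟨ξ, hξ⟩ := exists_prime_orderOf_dvd_card' (G := Eˣ) r (by rw [hcardU]; exact hrn)
  have hξr : ξ ^ r = 1 := by rw [← hξ]; exact pow_orderOf_eq_one ξ
  have hξ1 : ξ ≠ 1 := by
    rintro rfl
    rw [orderOf_one] at hξ
    exact hr.one_lt.ne hξ
  let b : Module.Basis (Fin n) F E := Module.finBasisOfFinrankEq F E hfin
  let φ : E →* Matrix (Fin n) (Fin n) F := (Algebra.leftMulMatrix b).toMonoidHom
  let x : GL (Fin n) F := Units.map φ ξ
  have hxM : (x : Matrix (Fin n) (Fin n) F) = Algebra.leftMulMatrix b (ξ : E) := rfl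
  refine ⟨x, ?_, ?_, ?_⟩
  · -- determinant
    show Matrix.GeneralLinearGroup.det x = 1
    apply Units.ext
    rw [Matrix.GeneralLinearGroup.val_det_apply, hxM, ← Algebra.norm_eq_matrix_det b, Units.val_one]
    apply x2_eq_one_of_pow r hr hr1
    rw [← map_pow, ← Units.val_pow_eq_pow_val, hξr, Units.val_one, map_one]
  · show Units.map φ ξ ^ r = 1
    rw [← map_pow, hξr, map_one]
  · intro v hv
    rw [hxM] at hv
    set y : E := b.equivFun.symm v with hy
    have hrepr : (b.repr y : Fin n → F) = v := by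
      have : b.equivFun y = v := by rw [hy, LinearEquiv.apply_symm_apply]
      simpa [Module.Basis.equivFun_apply] using this
    rw [← hrepr, Algebra.leftMulMatrix_mulVec_repr] at hv
    have h1 : (ξ : E) * y = y := by
      apply b.repr.injective
      exact DFunLike.coe_injective hv
    have h2 : ((ξ : E) - 1) * y = 0 := by rw [sub_mul, one_mul, h1, sub_self]
    rcases mul_eq_zero.1 h2 with h | h
    · exfalso
      apply hξ1
      apply Units.ext
      rw [Units.val_one]
      exact sub_eq_zero.1 h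
    · rw [← hrepr, h, map_zero]
      rfl

end Cfsg.Agent.Lib.Helper44.Of
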