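import Cfsg.Agent.Lib.Helper45.Uniserial

/-!
# Alperin's theorem on maximal normal abelian subgroups of bounded exponent
-/

set_option autoImplicit false
open Cfsg
open scoped commutatorElement

namespace Cfsg.Agent.Lib.Helper45

section classTwo

variable {G : Type*} [Group G]

theorem pow_mul_of_central {u v c : G} (h : v * u = c * u * v) (hcv : Commute c v) (m : ℕ) :
    v ^ m * u = c ^ m * u * v ^ m := by
  induction m with
  | zero => simp
  | succ m ih =>
    calc v ^ (m + 1) * u = v ^ m * (v * u) := by rw [pow_succ, mul_assoc]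
      _ = v ^ m * (c * u * v) := by rw [h]
      _ = (v ^ m * c) * u * v := by simp only [mul_assoc]
      _ = (c * v ^ m) * u * v := by rw [(hcv.pow_right m).eq]
      _ = c * (v ^ m * u) * v := by simp only [mul_assoc]
      _ = c * (c ^ m * u * v ^ m) * v := by rw [ih]
      _ = c ^ (m + 1) * u * v ^ (m + 1) := by
        rw [pow_succ' c, pow_succ v]; simp only [mul_assoc]

theorem mul_pow_of_central {u v c : G} (h : v * u = c * u * v) (hcu : Commute c u)
    (hcv : Commute c v) (m : ℕ) :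
    (u * v) ^ m = c ^ (∑ i ∈ Finset.range m, i) * u ^ m * v ^ m := by
  induction m with
  | zero => simp
  | succ m ih =>
    have h1 := pow_mul_of_central h hcv m
    have h2 : u ^ m * c ^ m = c ^ m * u ^ m := ((hcu.pow_left m).pow_right m).eq.symm
    calc (u * v) ^ (m + 1) = (u * v) ^ m * (u * v) := pow_succ _ _
      _ = (c ^ (∑ i ∈ Finset.range m, i) * u ^ m * v ^ m) * (u * v) := by rw [ih]
      _ = c ^ (∑ i ∈ Finset.range m, i) * u ^ m * (v ^ m * u) * v := by simp only [mul_assoc]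
      _ = c ^ (∑ i ∈ Finset.range m, i) * u ^ m * (c ^ m * u * v ^ m) * v := by rw [h1]
      _ = c ^ (∑ i ∈ Finset.range m, i) * (u ^ m * c ^ m) * u * v ^ m * v := by
        simp only [mul_assoc]
      _ = c ^ (∑ i ∈ Finset.range m, i) * (c ^ m * u ^ m) * u * v ^ m * v := by rw [h2]
      _ = c ^ (∑ i ∈ Finset.range (m + 1), i) * u ^ (m + 1) * v ^ (m + 1) := by
        rw [Finset.sum_range_succ, pow_add, pow_succ u, pow_succ v]; simp only [mul_assoc]

theorem prime_dvd_sum_range_pow {p : ℕ} (hp : p.Prime) (n : ℕ) (hn : p ^ n ≠ 2) :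
    p ∣ ∑ i ∈ Finset.range (p ^ n), i := by
  have h2 := Finset.sum_range_id_mul_two (p ^ n)
  rcases Nat.eq_zero_or_pos n with h0 | hpos
  · subst h0; simp
  · have hpd : p ∣ (∑ i ∈ Finset.range (p ^ n), i) * 2 := by
      rw [h2]; exact Dvd.dvd.mul_right (dvd_pow_self p (by omega)) _
    rcases (Nat.Prime.dvd_mul hp).mp hpd with h | h
    · exact h
    · have hp2 : p = 2 := (Nat.prime_dvd_prime_iff_eq hp Nat.prime_two).mp h
      subst hp2
      have hn2 : 2 ≤ n := by
        rcases Nat.lt_or_ge n 2 with h' | h'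
        · have : n = 1 := by omega
          subst this; simp at hn
        · exact h'
      obtain ⟨k, hk⟩ : 4 ∣ 2 ^ n := by
        have : (2 : ℕ) ^ 2 ∣ 2 ^ n := pow_dvd_pow 2 hn2
        simpa using this
      rw [hk] at h2
      refine ⟨k * (4 * k - 1), ?_⟩
      have : (∑ i ∈ Finset.range (4 * k), i) * 2 = (2 * (k * (4 * k - 1))) * 2 := by
        rw [h2]; ring
      rw [hk]
      exact Nat.eq_of_mul_eq_mul_right (by norm_num) this

end classTwo

section alperin

variable {G : Type*} [Group G]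

theorem sup_zpowers_comm_exp {A : Subgroup G} [A.Normal] (hA : IsMulCommutative A) {q : ℕ}
    (hAe : ∀ a ∈ A, a ^ q = 1) {y : G} (hy : y ∈ Subgroup.centralizer (A : Set G))
    (hyq : y ^ q = 1) :
    IsMulCommutative ↥(A ⊔ Subgroup.zpowers y) ∧ ∀ b ∈ A ⊔ Subgroup.zpowers y, b ^ q = 1 := by
  have hAC : A ≤ Subgroup.centralizer (A : Set G) :=
    Subgroup.le_centralizer_iff_isMulCommutative.mpr hA
  have hyC : Subgroup.zpowers y ≤ Subgroup.centralizer (A : Set G) :=
    (Subgroup.zpowers_le).mpr hy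
  have hzz : Subgroup.zpowers y ≤ Subgroup.centralizer (Subgroup.zpowers y : Set G) :=
    Subgroup.le_centralizer_iff_isMulCommutative.mpr inferInstance
  refine ⟨?_, ?_⟩
  · rw [← Subgroup.le_centralizer_iff_isMulCommutative]
    apply sup_le
    · rw [Subgroup.le_centralizer_iff]; exact sup_le hAC hyC
    · rw [Subgroup.le_centralizer_iff]
      exact sup_le (Subgroup.le_centralizer_iff.mp hyC) hzz
  · intro b hb
    have hb' : b ∈ ((A ⊔ Subgroup.zpowers y : Subgroup G) : Set G) := hb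
    rw [Subgroup.normal_mul] at hb'
    obtain ⟨a, ha, z, hz, rfl⟩ := hb'
    have hcomm : Commute a z := (Subgroup.mem_centralizer_iff.mp (hyC hz) a ha)
    obtain ⟨j, rfl⟩ := Subgroup.mem_zpowers_iff.mp hz
    rw [hcomm.mul_pow, hAe a ha, one_mul, ← zpow_natCast, ← zpow_mul, mul_comm, zpow_mul,
      zpow_natCast, hyq, one_zpow]

/-- If `y ^ p ∈ A`, `c ∈ A ⟨y⟩` and `c` lies in a subgroup `K'` containing `A`, then `c ∈ A` or
`y ∈ K'`. -/
theorem mem_or_mem_of_mem_sup_zpowers {p : ℕ} (hp : p.Prime) {A K' : Subgroup G} [A.Normal]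
    (hAK' : A ≤ K') {y c : G} (hyp : y ^ p ∈ A) (hc : c ∈ A ⊔ Subgroup.zpowers y)
    (hcK' : c ∈ K') : c ∈ A ∨ y ∈ K' := by
  have hc' : c ∈ ((A ⊔ Subgroup.zpowers y : Subgroup G) : Set G) := hc
  rw [Subgroup.normal_mul] at hc'
  obtain ⟨a, ha, z, hz, rfl⟩ := hc'
  obtain ⟨j, rfl⟩ := Subgroup.mem_zpowers_iff.mp hz
  by_cases hdiv : (p : ℤ) ∣ j
  · left
    obtain ⟨k, rfl⟩ := hdiv
    apply A.mul_mem ha
    rw [zpow_mul, zpow_natCast]
    exact A.zpow_mem hyp k
  · right
    have hcop : IsCoprime j (p : ℤ) := by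
      rw [Int.isCoprime_iff_gcd_eq_one]
      have h1 : ¬ p ∣ j.natAbs := fun h => hdiv (Int.natCast_dvd.mpr h)
      have h2 : Nat.Coprime p j.natAbs := (Nat.Prime.coprime_iff_not_dvd hp).mpr h1
      have h3 : Int.gcd j (p : ℤ) = Nat.gcd j.natAbs p := by
        simp [Int.gcd]
      rw [h3]
      exact h2.symm
    obtain ⟨s, t, hst⟩ := hcop
    have hyj : y ^ j ∈ K' := by
      have : y ^ j = a⁻¹ * (a * y ^ j) := by group
      rw [this]
      exact K'.mul_mem (K'.inv_mem (hAK' ha)) hcK'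
    have hy : y = (y ^ j) ^ s * (y ^ (p : ℤ)) ^ t := by
      rw [← zpow_mul, ← zpow_mul, ← zpow_add, mul_comm j s, mul_comm (p : ℤ) t, hst, zpow_one]
    rw [hy]
    refine K'.mul_mem (K'.zpow_mem hyj s) (K'.zpow_mem ?_ t)
    rw [zpow_natCast]
    exact hAK' hyp

theorem conj_mem_centralizer_of_normal {A : Subgroup G} [hAn : A.Normal] {y : G}
    (hy : y ∈ Subgroup.centralizer (A : Set G)) (h : G) :
    h * y * h⁻¹ ∈ Subgroup.centralizer (A : Set G) := by
  rw [Subgroup.mem_centralizer_iff]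
  intro a ha
  have h1 : h⁻¹ * a * h ∈ A := by
    have := hAn.conj_mem a ha h⁻¹
    simpa using this
  have h2 := Subgroup.mem_centralizer_iff.mp hy _ h1
  calc a * (h * y * h⁻¹) = h * ((h⁻¹ * a * h) * y) * h⁻¹ := by group
    _ = h * (y * (h⁻¹ * a * h)) * h⁻¹ := by rw [h2]
    _ = h * y * h⁻¹ * a := by group

theorem map_conj_sup_zpowers {A : Subgroup G} [hAn : A.Normal] (y h : G) :
    (A ⊔ Subgroup.zpowers y).map (MulAut.conj h).toMonoidHom =
      A ⊔ Subgroup.zpowers (h * y * h⁻¹) := by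
  rw [Subgroup.map_sup, MonoidHom.map_zpowers]
  have h1 : A.map (MulAut.conj h).toMonoidHom = A :=
    map_conj_eq_of_mem_normalizer (by rw [Subgroup.normalizer_eq_top_iff.mpr hAn]; trivial)
  rw [h1]
  rfl

theorem alperin_step [Finite G] {p : ℕ} [hp : Fact p.Prime]
    (hG : IsPGroup p G) (n : ℕ) (hn : p ^ n ≠ 2) (A : Subgroup G) [hAn : A.Normal]
    (hA : IsMulCommutative A) (hAe : ∀ a ∈ A, a ^ p ^ n = 1)
    (hmax : ∀ B : Subgroup G, B.Normal → IsMulCommutative B → (∀ b ∈ B, b ^ p ^ n = 1) →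
      A ≤ B → B = A)
    (y : G) (hyC : y ∈ Subgroup.centralizer (A : Set G)) (hyA : y ∉ A)
    (hyq : y ^ p ^ n = 1) (hyp : y ^ p ∈ A) :
    ∃ y', y' ∈ Subgroup.centralizer (A : Set G) ∧ y' ∉ A ∧ y' ^ p ^ n = 1 ∧ y' ^ p ∈ A ∧
      Nat.card ↥(Subgroup.normalizer ((A ⊔ Subgroup.zpowers y : Subgroup G) : Set G)) <
      Nat.card ↥(Subgroup.normalizer ((A ⊔ Subgroup.zpowers y' : Subgroup G) : Set G)) := by
  have hAC : A ≤ Subgroup.centralizer (A : Set G) :=
    Subgroup.le_centralizer_iff_isMulCommutative.mpr hA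
  obtain ⟨hKc, hKe⟩ := sup_zpowers_comm_exp hA hAe hyC hyq
  have hAK : A ≤ A ⊔ Subgroup.zpowers y := le_sup_left
  have hyK : y ∈ A ⊔ Subgroup.zpowers y :=
    (le_sup_right : Subgroup.zpowers y ≤ _) (Subgroup.mem_zpowers y)
  have hNtop : Subgroup.normalizer ((A ⊔ Subgroup.zpowers y : Subgroup G) : Set G) ≠ ⊤ := by
    intro htop
    have hKn : (A ⊔ Subgroup.zpowers y).Normal := Subgroup.normalizer_eq_top_iff.mp htop
    have := hmax _ hKn hKc hKe hAK
    rw [this] at hyK
    exact hyA hyK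
  have hnil : Group.IsNilpotent G := hG.isNilpotent
  have hNlt := Group.normalizerCondition_of_isNilpotent
    (Subgroup.normalizer ((A ⊔ Subgroup.zpowers y : Subgroup G) : Set G))
    (lt_top_iff_ne_top.mpr hNtop)
  -- abbreviations
  generalize hK : A ⊔ Subgroup.zpowers y = K at *
  generalize hN : Subgroup.normalizer (K : Set G) = N at *
  generalize hN₂ : Subgroup.normalizer (N : Set G) = N₂ at *
  have hKN : K ≤ N := by rw [← hN]; exact Subgroup.le_normalizer
  -- conjugates of K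
  have hF1 : ∀ h ∈ N₂, K.map (MulAut.conj h).toMonoidHom ≤ N ∧
      N ≤ Subgroup.normalizer ((K.map (MulAut.conj h).toMonoidHom : Subgroup G) : Set G) := by
    intro h hh
    have hNh : N.map (MulAut.conj h).toMonoidHom = N :=
      map_conj_eq_of_mem_normalizer (by rw [hN₂]; exact hh)
    refine ⟨?_, ?_⟩
    · calc K.map (MulAut.conj h).toMonoidHom ≤ N.map (MulAut.conj h).toMonoidHom :=
          Subgroup.map_mono hKN
        _ = N := hNh
    · rw [← Subgroup.map_equiv_normalizer_eq K (MulAut.conj h), hN, hNh]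
  have hconjK : ∀ h, K.map (MulAut.conj h).toMonoidHom = A ⊔ Subgroup.zpowers (h * y * h⁻¹) := by
    intro h; rw [← hK]; exact map_conj_sup_zpowers y h
  have hconj_pow : ∀ (h : G) (m : ℕ), (h * y * h⁻¹) ^ m = h * y ^ m * h⁻¹ := by
    intro h m; exact conj_pow
  have hconj_q : ∀ h : G, (h * y * h⁻¹) ^ p ^ n = 1 := by
    intro h; rw [hconj_pow, hyq]; group
  have hconj_p : ∀ h : G, (h * y * h⁻¹) ^ p ∈ A := by
    intro h; rw [hconj_pow]; exact hAn.conj_mem _ hyp h
  -- pairwise commutators lie in A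
  have hF2 : ∀ h ∈ N₂, ∀ h' ∈ N₂, ⁅h * y * h⁻¹, h' * y * h'⁻¹⁆ ∈ A := by
    intro h hh h' hh'
    have hyh : h * y * h⁻¹ ∈ K.map (MulAut.conj h).toMonoidHom := by
      rw [hconjK]; exact (le_sup_right : Subgroup.zpowers _ ≤ _) (Subgroup.mem_zpowers _)
    have hyh' : h' * y * h'⁻¹ ∈ K.map (MulAut.conj h').toMonoidHom := by
      rw [hconjK]; exact (le_sup_right : Subgroup.zpowers _ ≤ _) (Subgroup.mem_zpowers _)
    have hc1 : ⁅h * y * h⁻¹, h' * y * h'⁻¹⁆ ∈ K.map (MulAut.conj h).toMonoidHom := by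
      have hnorm := (hF1 h hh).2 ((hF1 h' hh').1 hyh')
      have h1 := (Subgroup.mem_normalizer_iff.mp hnorm (h * y * h⁻¹)⁻¹).mp
        (Subgroup.inv_mem _ hyh)
      rw [commutatorElement_def]
      have e : h * y * h⁻¹ * (h' * y * h'⁻¹) * (h * y * h⁻¹)⁻¹ * (h' * y * h'⁻¹)⁻¹ =
          h * y * h⁻¹ * ((h' * y * h'⁻¹) * (h * y * h⁻¹)⁻¹ * (h' * y * h'⁻¹)⁻¹) := by group
      rw [e]
      exact Subgroup.mul_mem _ hyh h1
    have hc2 : ⁅h * y * h⁻¹, h' * y * h'⁻¹⁆ ∈ K.map (MulAut.conj h').toMonoidHom := by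
      have hnorm := (hF1 h' hh').2 ((hF1 h hh).1 hyh)
      have h1 := (Subgroup.mem_normalizer_iff.mp hnorm (h' * y * h'⁻¹)).mp hyh'
      rw [commutatorElement_def]
      have e : h * y * h⁻¹ * (h' * y * h'⁻¹) * (h * y * h⁻¹)⁻¹ * (h' * y * h'⁻¹)⁻¹ =
          ((h * y * h⁻¹) * (h' * y * h'⁻¹) * (h * y * h⁻¹)⁻¹) * (h' * y * h'⁻¹)⁻¹ := by group
      rw [e]
      exact Subgroup.mul_mem _ h1 (Subgroup.inv_mem _ hyh')
    rw [hconjK] at hc1
    have hAK' : A ≤ K.map (MulAut.conj h').toMonoidHom := by rw [hconjK]; exact le_sup_left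
    rcases mem_or_mem_of_mem_sup_zpowers hp.out hAK' (hconj_p h) hc1 hc2 with h1 | h1
    · exact h1
    · have hcomm' := (sup_zpowers_comm_exp hA hAe (conj_mem_centralizer_of_normal hyC h')
        (hconj_q h')).1
      rw [← hconjK] at hcomm'
      have h3 : (h * y * h⁻¹) * (h' * y * h'⁻¹) = (h' * y * h'⁻¹) * (h * y * h⁻¹) := by
        have := hcomm'.is_comm.comm ⟨_, h1⟩ ⟨_, hyh'⟩
        exact congrArg Subtype.val this
      have h4 : ⁅h * y * h⁻¹, h' * y * h'⁻¹⁆ = 1 :=
        commutatorElement_eq_one_iff_commute.mpr h3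
      rw [h4]; exact A.one_mem
  -- the subgroup generated by `A` and the `N₂`-conjugates of `y`
  obtain ⟨Y, hY⟩ : ∃ Y : Set G, Y = {z | ∃ h ∈ N₂, z = h * y * h⁻¹} := ⟨_, rfl⟩
  obtain ⟨E, hE⟩ : ∃ E : Subgroup G, E = Subgroup.closure ((A : Set G) ∪ Y) := ⟨_, rfl⟩
  have hAE : A ≤ E := by
    rw [hE]; intro a ha; exact Subgroup.subset_closure (Or.inl ha)
  have hyY : y ∈ Y := by
    rw [hY]; exact ⟨1, N₂.one_mem, by simp⟩
  have hyE : y ∈ E := by
    rw [hE]; exact Subgroup.subset_closure (Or.inr hyY)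
  have hEC : E ≤ Subgroup.centralizer (A : Set G) := by
    rw [hE, Subgroup.closure_le]
    rintro z (hz | hz)
    · exact hAC hz
    · rw [hY] at hz
      obtain ⟨h, -, rfl⟩ := hz
      exact conj_mem_centralizer_of_normal hyC h
  -- commutators of elements of `E` lie in `A`
  have hE3 : ∀ u ∈ E, ∀ v ∈ E, ⁅u, v⁆ ∈ A := by
    have key : ∀ u v (hu : u ∈ Subgroup.closure ((A : Set G) ∪ Y))
        (hv : v ∈ Subgroup.closure ((A : Set G) ∪ Y)),
        Commute (QuotientGroup.mk' A u) (QuotientGroup.mk' A v) := by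
      intro u v hu hv
      refine Subgroup.closure_induction₂
        (p := fun u v _ _ => Commute (QuotientGroup.mk' A u) (QuotientGroup.mk' A v))
        ?_ ?_ ?_ ?_ ?_ ?_ ?_ hu hv
      · rintro u v (hu | hu) hv
        · have : QuotientGroup.mk' A u = 1 := (QuotientGroup.eq_one_iff u).mpr hu
          rw [this]; exact Commute.one_left _
        · rcases hv with hv | hv
          · have : QuotientGroup.mk' A v = 1 := (QuotientGroup.eq_one_iff v).mpr hv
            rw [this]; exact Commute.one_right _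
          · rw [hY] at hu hv
            obtain ⟨h, hh, rfl⟩ := hu
            obtain ⟨h', hh', rfl⟩ := hv
            have h1 := hF2 h hh h' hh'
            have h2 : QuotientGroup.mk' A ⁅h * y * h⁻¹, h' * y * h'⁻¹⁆ = 1 :=
              (QuotientGroup.eq_one_iff _).mpr h1
            rw [map_commutatorElement] at h2
            exact commutatorElement_eq_one_iff_commute.mp h2
      · intro x _; rw [map_one]; exact Commute.one_left _
      · intro x _; rw [map_one]; exact Commute.one_right _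
      · intro x y z _ _ _ h1 h2; rw [map_mul]; exact Commute.mul_left h1 h2
      · intro y z x _ _ _ h1 h2; rw [map_mul]; exact Commute.mul_right h1 h2
      · intro x y _ _ h1; rw [map_inv]; exact Commute.inv_left h1
      · intro x y _ _ h1; rw [map_inv]; exact Commute.inv_right h1
    intro u hu v hv
    rw [hE] at hu hv
    have h1 := key u v hu hv
    have h2 : QuotientGroup.mk' A ⁅u, v⁆ = 1 := by
      rw [map_commutatorElement]; exact commutatorElement_eq_one_iff_commute.mpr h1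
    exact (QuotientGroup.eq_one_iff _).mp h2
  -- powers in `E`
  have hE2 : ∀ u ∈ E, u ^ p ∈ A ∧ u ^ p ^ n = 1 := by
    have key : ∀ u (hu : u ∈ Subgroup.closure ((A : Set G) ∪ Y)), u ^ p ∈ A ∧ u ^ p ^ n = 1 := by
      intro u hu
      induction hu using Subgroup.closure_induction with
      | mem z hz =>
        rcases hz with hz | hz
        · exact ⟨A.pow_mem hz p, hAe z hz⟩
        · rw [hY] at hz
          obtain ⟨h, -, rfl⟩ := hz
          exact ⟨hconj_p h, hconj_q h⟩
      | one => exact ⟨by rw [one_pow]; exact A.one_mem, one_pow _⟩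
      | mul u v hu hv ihu ihv =>
        have huE : u ∈ E := by rw [hE]; exact hu
        have hvE : v ∈ E := by rw [hE]; exact hv
        have hcA : ⁅v, u⁆ ∈ A := hE3 v hvE u huE
        have hrel : v * u = ⁅v, u⁆ * u * v := by
          rw [commutatorElement_def]; group
        have hcu : Commute ⁅v, u⁆ u := Subgroup.mem_centralizer_iff.mp (hEC huE) _ hcA
        have hcv : Commute ⁅v, u⁆ v := Subgroup.mem_centralizer_iff.mp (hEC hvE) _ hcA
        have hcp : ⁅v, u⁆ ^ p = 1 := by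
          have h1 := pow_mul_of_central hrel hcv p
          have h2 : v ^ p * u = u * v ^ p := Subgroup.mem_centralizer_iff.mp (hEC huE) _ ihv.1
          have h3 : ⁅v, u⁆ ^ p * u = u * ⁅v, u⁆ ^ p := (hcu.pow_left p).eq
          rw [h2, h3, mul_assoc] at h1
          have h4 : v ^ p = ⁅v, u⁆ ^ p * v ^ p := mul_left_cancel h1
          have h5 : 1 * v ^ p = ⁅v, u⁆ ^ p * v ^ p := by rw [one_mul]; exact h4
          exact (mul_right_cancel h5).symm
        refine ⟨?_, ?_⟩
        · rw [mul_pow_of_central hrel hcu hcv p]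
          exact A.mul_mem (A.mul_mem (A.pow_mem hcA _) ihu.1) ihv.1
        · rw [mul_pow_of_central hrel hcu hcv (p ^ n), ihu.2, ihv.2, mul_one, mul_one]
          obtain ⟨k, hk⟩ := prime_dvd_sum_range_pow hp.out n hn
          rw [hk, pow_mul, hcp, one_pow]
      | inv u hu ihu =>
        refine ⟨?_, ?_⟩
        · rw [inv_pow]; exact A.inv_mem ihu.1
        · rw [inv_pow, ihu.2, inv_one]
    intro u hu
    rw [hE] at hu
    exact key u hu
  -- `N₂` normalizes `E`
  have hE4 : N₂ ≤ Subgroup.normalizer (E : Set G) := by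
    apply le_normalizer_of_forall_map_le
    intro h hh
    rw [hE, MonoidHom.map_closure, Subgroup.closure_le]
    rintro _ ⟨z, hz, rfl⟩
    apply Subgroup.subset_closure
    rcases hz with hz | hz
    · left
      exact hAn.conj_mem z hz h
    · right
      rw [hY] at hz ⊢
      obtain ⟨h', hh', rfl⟩ := hz
      refine ⟨h * h', N₂.mul_mem hh hh', ?_⟩
      simp only [MulEquiv.coe_toMonoidHom, MulAut.conj_apply, mul_inv_rev]
      group
  -- descent along the iterated commutators `[E, N₂, …, N₂]`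
  have hD := iterCommutator_le_and_normalized E N₂ hE4
  have hDlcs : ∀ i, iterCommutator E N₂ i ≤ (⊤ : Subgroup G).lowerCentralSeries i := by
    intro i
    induction i with
    | zero => exact le_top
    | succ i ih =>
      rw [Subgroup.lowerCentralSeries_succ]
      exact Subgroup.commutator_mono ih le_top
  obtain ⟨c, hc⟩ := Subgroup.nilpotent_iff_lowerCentralSeries.mp hnil
  have hex : ∃ i, iterCommutator E N₂ i ≤ A := ⟨c, by
    have := hDlcs c; rw [hc] at this; exact this.trans bot_le⟩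
  classical
  have hfind := Nat.find_spec hex
  have hmin := fun m => Nat.find_min hex (m := m)
  have h0 : Nat.find hex ≠ 0 := by
    intro h0
    rw [h0] at hfind
    exact hyA (hfind hyE)
  obtain ⟨j, hj⟩ := Nat.exists_eq_succ_of_ne_zero h0
  have hjnot : ¬ iterCommutator E N₂ j ≤ A := hmin j (by omega)
  rw [hj] at hfind
  obtain ⟨y', hy'D, hy'A⟩ := SetLike.not_le_iff_exists.mp hjnot
  have hy'E : y' ∈ E := (hD j).1 hy'D
  have hcomm : ∀ h ∈ N₂, ⁅y', h⁆ ∈ A := fun h hh =>
    hfind (Subgroup.commutator_mem_commutator hy'D hh)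
  have hN₂le : N₂ ≤ Subgroup.normalizer ((A ⊔ Subgroup.zpowers y' : Subgroup G) : Set G) := by
    apply le_normalizer_of_forall_map_le
    intro h hh
    rw [map_conj_sup_zpowers]
    apply sup_le le_sup_left
    rw [Subgroup.zpowers_le]
    have e : h * y' * h⁻¹ = (⁅y', h⁆)⁻¹ * y' := by
      rw [commutatorElement_def]; group
    rw [e]
    exact Subgroup.mul_mem _ ((le_sup_left : A ≤ _) (A.inv_mem (hcomm h hh)))
      ((le_sup_right : Subgroup.zpowers y' ≤ _) (Subgroup.mem_zpowers y'))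
  refine ⟨y', hEC hy'E, hy'A, (hE2 y' hy'E).2, (hE2 y' hy'E).1, ?_⟩
  have hlt : Nat.card ↥N < Nat.card ↥N₂ := by
    by_contra hcon
    push_neg at hcon
    rw [← hN₂] at hcon hNlt
    exact (ne_of_lt hNlt) (Subgroup.eq_of_le_of_card_ge hNlt.le hcon)
  exact lt_of_lt_of_le hlt (Subgroup.card_le_of_le hN₂le)

/-- **Alperin's theorem.** If `A` is maximal among the normal abelian subgroups of exponent
dividing `p ^ n ≠ 2` of a finite `p`-group, then every element of order dividing `p ^ n` in the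
centralizer of `A` lies in `A`. -/
theorem alperin_mem_of_mem_centralizer [Finite G] {p : ℕ} [hp : Fact p.Prime]
    (hG : IsPGroup p G) (n : ℕ) (hn : p ^ n ≠ 2) (A : Subgroup G) [hAn : A.Normal]
    (hA : IsMulCommutative A) (hAe : ∀ a ∈ A, a ^ p ^ n = 1)
    (hmax : ∀ B : Subgroup G, B.Normal → IsMulCommutative B → (∀ b ∈ B, b ^ p ^ n = 1) →
      A ≤ B → B = A)
    (x : G) (hx : x ∈ Subgroup.centralizer (A : Set G)) (hxn : x ^ p ^ n = 1) : x ∈ A := by
  by_contra hxA
  obtain ⟨S₁, hS₁⟩ : ∃ S₁ : Set G, S₁ = {y | y ∈ Subgroup.centralizer (A : Set G) ∧ y ∉ A ∧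
      y ^ p ^ n = 1 ∧ y ^ p ∈ A} := ⟨_, rfl⟩
  have hS₁ne : S₁.Nonempty := by
    have hex : ∃ k, x ^ p ^ k ∈ A := ⟨n, by rw [hxn]; exact A.one_mem⟩
    classical
    have hk : x ^ p ^ Nat.find hex ∈ A := Nat.find_spec hex
    have hk0 : Nat.find hex ≠ 0 := by
      intro h0
      apply hxA
      rw [h0] at hk
      simpa using hk
    obtain ⟨k', hk'⟩ := Nat.exists_eq_succ_of_ne_zero hk0
    refine ⟨x ^ p ^ k', ?_⟩
    rw [hS₁]
    refine ⟨Subgroup.pow_mem _ hx _, Nat.find_min hex (by omega : k' < Nat.find hex), ?_, ?_⟩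
    · rw [← pow_mul, mul_comm, pow_mul, hxn, one_pow]
    · rw [← pow_mul, ← pow_succ, ← Nat.succ_eq_add_one, ← hk']; exact hk
  obtain ⟨y, hyS, hymax⟩ := Set.exists_max_image S₁
    (fun y => Nat.card ↥(Subgroup.normalizer ((A ⊔ Subgroup.zpowers y : Subgroup G) : Set G)))
    (Set.toFinite _) hS₁ne
  rw [hS₁] at hyS
  obtain ⟨hyC, hyA, hyq, hyp⟩ := hyS
  obtain ⟨y', hy'C, hy'A, hy'q, hy'p, hlt⟩ := alperin_step hG n hn A hA hAe hmax y hyC hyA hyq hyp
  have hy'S : y' ∈ S₁ := by rw [hS₁]; exact ⟨hy'C, hy'A, hy'q, hy'p⟩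
  exact absurd (hymax y' hy'S) (not_le.mpr hlt)

end alperin

end Cfsg.Agent.Lib.Helper45
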