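import Mathlib
import Cfsg.Prelude.Def_Amalgam

set_option autoImplicit false

namespace Cfsg.Agent.Lib.Helper45

open Cfsg

variable {X : Type*} [Group X] (M₁ M₂ : Subgroup X)

theorem cosetGraph_adj_iff (a b : CosetVertex M₁ M₂) :
    (cosetGraph M₁ M₂).Adj a b ↔
      (∃ x : X, a = Sum.inl (x : X ⧸ M₁) ∧ b = Sum.inr (x : X ⧸ M₂)) ∨
      (∃ x : X, b = Sum.inl (x : X ⧸ M₁) ∧ a = Sum.inr (x : X ⧸ M₂)) := by
  unfold cosetGraph
  rw [SimpleGraph.fromRel_adj]
  constructor
  · rintro ⟨_, h⟩; exact h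
  · intro h
    refine ⟨?_, h⟩
    rintro rfl
    rcases h with ⟨x, h1, h2⟩ | ⟨x, h1, h2⟩ <;> rw [h1] at h2 <;> cases h2

theorem cosetGraph_adj_inl_inr (x : X) :
    (cosetGraph M₁ M₂).Adj (Sum.inl (x : X ⧸ M₁)) (Sum.inr (x : X ⧸ M₂)) := by
  rw [cosetGraph_adj_iff]
  exact Or.inl ⟨x, rfl, rfl⟩

theorem cosetGraph_adj_smul (g : X) {a b : CosetVertex M₁ M₂}
    (h : (cosetGraph M₁ M₂).Adj a b) : (cosetGraph M₁ M₂).Adj (g • a) (g • b) := by
  rw [cosetGraph_adj_iff] at h ⊢
  rcases h with ⟨x, rfl, rfl⟩ | ⟨x, rfl, rfl⟩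
  · left; exact ⟨g * x, rfl, rfl⟩
  · right; exact ⟨g * x, rfl, rfl⟩

theorem cosetGraph_adj_smul_iff (g : X) {a b : CosetVertex M₁ M₂} :
    (cosetGraph M₁ M₂).Adj (g • a) (g • b) ↔ (cosetGraph M₁ M₂).Adj a b := by
  constructor
  · intro h
    have := cosetGraph_adj_smul M₁ M₂ g⁻¹ h
    simpa using this
  · exact cosetGraph_adj_smul M₁ M₂ g

theorem cosetGraph_reachable_mul (hgen : M₁ ⊔ M₂ = ⊤) (g : X) :
    ∀ x : X, (cosetGraph M₁ M₂).Reachable (Sum.inl (x : X ⧸ M₁)) (Sum.inl ((x * g : X) : X ⧸ M₁)) := by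
  let H : Subgroup X :=
    { carrier := {g | ∀ x : X, (cosetGraph M₁ M₂).Reachable (Sum.inl (x : X ⧸ M₁)) (Sum.inl ((x * g : X) : X ⧸ M₁))}
      one_mem' := by intro x; simp
      mul_mem' := by
        intro a b ha hb x
        have h1 := ha x
        have h2 := hb (x * a)
        rw [mul_assoc] at h2
        exact h1.trans h2
      inv_mem' := by
        intro a ha x
        have h1 := ha (x * a⁻¹)
        rw [inv_mul_cancel_right] at h1
        exact h1.symm }
  have hM1 : M₁ ≤ H := by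
    intro m hm x
    have : ((x * m : X) : X ⧸ M₁) = (x : X ⧸ M₁) := by
      rw [eq_comm, QuotientGroup.eq]; simpa using hm
    rw [this]
  have hM2 : M₂ ≤ H := by
    intro m hm x
    have e : ((x * m : X) : X ⧸ M₂) = (x : X ⧸ M₂) := by
      rw [eq_comm, QuotientGroup.eq]; simpa using hm
    have a1 := cosetGraph_adj_inl_inr M₁ M₂ x
    have a2 := cosetGraph_adj_inl_inr M₁ M₂ (x * m)
    rw [e] at a2
    exact a1.reachable.trans a2.symm.reachable
  have : g ∈ H := by
    have : (⊤ : Subgroup X) ≤ H := hgen ▸ sup_le hM1 hM2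
    exact this (Subgroup.mem_top g)
  exact this

theorem cosetGraph_connected (hgen : M₁ ⊔ M₂ = ⊤) : (cosetGraph M₁ M₂).Connected := by
  have base : ∀ v : CosetVertex M₁ M₂,
      (cosetGraph M₁ M₂).Reachable (Sum.inl ((1 : X) : X ⧸ M₁)) v := by
    intro v
    rcases v with v | v
    · induction v using QuotientGroup.induction_on with
      | H g =>
        have := cosetGraph_reachable_mul M₁ M₂ hgen g 1
        simpa using this
    · induction v using QuotientGroup.induction_on with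
      | H g =>
        have h1 := cosetGraph_reachable_mul M₁ M₂ hgen g 1
        rw [one_mul] at h1
        exact h1.trans (cosetGraph_adj_inl_inr M₁ M₂ g).reachable
  have : Nonempty (CosetVertex M₁ M₂) := ⟨Sum.inl ((1 : X) : X ⧸ M₁)⟩
  exact ⟨fun u v => (base u).symm.trans (base v)⟩

theorem toPermHom_injective
    (h : ∀ N : Subgroup X, N ≤ M₁ ⊓ M₂ → N.Normal → N = ⊥) :
    Function.Injective (MulAction.toPermHom X (CosetVertex M₁ M₂)) := by
  rw [← MonoidHom.ker_eq_bot_iff]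
  apply h
  · intro g hg
    rw [MonoidHom.mem_ker] at hg
    have h1 := congrArg (fun σ => σ (Sum.inl ((1 : X) : X ⧸ M₁))) hg
    have h2 := congrArg (fun σ => σ (Sum.inr ((1 : X) : X ⧸ M₂))) hg
    simp only [MulAction.toPermHom_apply, MulAction.toPerm_apply, Equiv.Perm.coe_one, id_eq,
      Sum.smul_inl, Sum.smul_inr, Sum.inl.injEq, Sum.inr.injEq] at h1 h2
    rw [MulAction.Quotient.smul_coe, eq_comm, QuotientGroup.eq] at h1 h2
    constructor
    · simpa using h1
    · simpa using h2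
  · infer_instance

end Cfsg.Agent.Lib.Helper45
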