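import Mathlib
import Cfsg.Prelude.Def_Amalgam
import Cfsg.Agent.Lib.Helper45.CosetGraph
import Cfsg.Agent.Lib.Helper84.PCore
import Cfsg.Agent.Lib.Helper87.PCore

set_option autoImplicit false

namespace Cfsg.Agent.Lib.Helper45

open Cfsg

section basic

variable {X : Type*} [Group X]

/-- Characteristic `p` for a subgroup, in ambient terms. -/
def CharPIn (p : ℕ) (H : Subgroup X) : Prop :=
  H ⊓ Subgroup.centralizer (pCoreOf p H : Set X) ≤ pCoreOf p H

/-- The properties of a pair of adjacent vertex stabilizers that the amalgam method uses. -/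
structure GoodPair (p : ℕ) (H K : Subgroup X) : Prop where
  finH : Finite ↥H
  finK : Finite ↥K
  valH : (Nat.card ↥(H ⊓ K)).factorization p = (Nat.card ↥H).factorization p
  valK : (Nat.card ↥(H ⊓ K)).factorization p = (Nat.card ↥K).factorization p
  charH : CharPIn p H
  charK : CharPIn p K
  gen : H ⊔ K = ⊤
  core : ∀ N : Subgroup X, N ≤ H ⊓ K → N.Normal → N = ⊥

theorem GoodPair.symm {p : ℕ} {H K : Subgroup X} (h : GoodPair p H K) : GoodPair p K H where
  finH := h.finK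
  finK := h.finH
  valH := by rw [inf_comm]; exact h.valK
  valK := by rw [inf_comm]; exact h.valH
  charH := h.charK
  charK := h.charH
  gen := by rw [sup_comm]; exact h.gen
  core := by rw [inf_comm]; exact h.core

theorem pCoreOf_le (p : ℕ) (H : Subgroup X) : pCoreOf p H ≤ H := by
  unfold pCoreOf
  rintro _ ⟨h, -, rfl⟩
  exact h.2

theorem charPIn_of_centralizer_le (p : ℕ) (H : Subgroup X)
    (h : Subgroup.centralizer (pCore p ↥H : Set ↥H) ≤ pCore p ↥H) : CharPIn p H := by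
  rintro x ⟨hxH, hxC⟩
  have h1 : (⟨x, hxH⟩ : ↥H) ∈ Subgroup.centralizer (pCore p ↥H : Set ↥H) := by
    rw [Subgroup.mem_centralizer_iff]
    intro q hq
    apply Subtype.ext
    have := Subgroup.mem_centralizer_iff.mp hxC (q : X) ⟨q, hq, rfl⟩
    simpa using this
  exact ⟨⟨x, hxH⟩, h h1, rfl⟩

theorem goodPair_of_isCharPAmalgamPair {p : ℕ} [Fact p.Prime] (M₁ M₂ : Subgroup X)
    (h : IsCharPAmalgamPair p M₁ M₂) : GoodPair p M₁ M₂ := by
  obtain ⟨⟨hgen, -, -, hcore⟩, hf1, hf2, -, -, hsyl, hc1, hc2⟩ := h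
  have hf12 : Finite ↥(M₁ ⊓ M₂) :=
    Finite.of_injective _ (Subgroup.inclusion_injective (inf_le_left : M₁ ⊓ M₂ ≤ M₁))
  obtain ⟨S⟩ : Nonempty (Sylow p ↥(M₁ ⊓ M₂)) := inferInstance
  obtain ⟨P₁⟩ : Nonempty (Sylow p ↥M₁) := inferInstance
  obtain ⟨P₂⟩ : Nonempty (Sylow p ↥M₂) := inferInstance
  obtain ⟨e1, e2⟩ := hsyl S P₁ P₂
  rw [Sylow.card_eq_multiplicity, Sylow.card_eq_multiplicity] at e1 e2
  have hp2 : 2 ≤ p := (Fact.out : p.Prime).two_le
  exact
    { finH := hf1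
      finK := hf2
      valH := Nat.pow_right_injective hp2 e1
      valK := Nat.pow_right_injective hp2 e2
      charH := charPIn_of_centralizer_le p M₁ hc1
      charK := charPIn_of_centralizer_le p M₂ hc2
      gen := hgen
      core := hcore }

theorem pCoreOf_map {p : ℕ} [Fact p.Prime] (Φ : X ≃* X) (H : Subgroup X) :
    pCoreOf p (H.map Φ.toMonoidHom) = (pCoreOf p H).map Φ.toMonoidHom := by
  unfold pCoreOf
  exact (Cfsg.Agent.Lib.Helper87.pCore_map_subtype_equiv Φ H (H.map Φ.toMonoidHom) rfl).symm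

theorem CharPIn.map {p : ℕ} [Fact p.Prime] (Φ : X ≃* X) {H : Subgroup X} (h : CharPIn p H) :
    CharPIn p (H.map Φ.toMonoidHom) := by
  rintro y ⟨⟨x, hxH, rfl⟩, hyC⟩
  rw [pCoreOf_map]
  have hyC' : Φ.toMonoidHom x ∈ Subgroup.centralizer
      (pCoreOf p (Subgroup.map Φ.toMonoidHom H) : Set X) := hyC
  have hx : x ∈ Subgroup.centralizer (pCoreOf p H : Set X) := by
    rw [Subgroup.mem_centralizer_iff]
    intro q hq
    have hq' : Φ.toMonoidHom q ∈ (pCoreOf p (H.map Φ.toMonoidHom) : Set X) := by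
      rw [pCoreOf_map]
      exact ⟨q, hq, rfl⟩
    have := Subgroup.mem_centralizer_iff.mp hyC' _ hq'
    apply Φ.injective
    simpa using this
  exact ⟨x, h ⟨hxH, hx⟩, rfl⟩

theorem GoodPair.map {p : ℕ} [Fact p.Prime] (Φ : X ≃* X) {H K : Subgroup X}
    (h : GoodPair p H K) : GoodPair p (H.map Φ.toMonoidHom) (K.map Φ.toMonoidHom) := by
  have hinj : Function.Injective Φ.toMonoidHom := Φ.injective
  have hinf : H.map Φ.toMonoidHom ⊓ K.map Φ.toMonoidHom = (H ⊓ K).map Φ.toMonoidHom :=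
    (Subgroup.map_inf_eq H K Φ.toMonoidHom hinj).symm
  have := h.finH
  have := h.finK
  exact
    { finH := Finite.of_surjective (fun a : ↥H => (⟨Φ a, a, a.2, rfl⟩ : ↥(H.map Φ.toMonoidHom)))
        (by rintro ⟨_, a, ha, rfl⟩; exact ⟨⟨a, ha⟩, rfl⟩)
      finK := Finite.of_surjective (fun a : ↥K => (⟨Φ a, a, a.2, rfl⟩ : ↥(K.map Φ.toMonoidHom)))
        (by rintro ⟨_, a, ha, rfl⟩; exact ⟨⟨a, ha⟩, rfl⟩)
      valH := by
        rw [hinf, Subgroup.card_map_of_injective hinj, Subgroup.card_map_of_injective hinj]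
        exact h.valH
      valK := by
        rw [hinf, Subgroup.card_map_of_injective hinj, Subgroup.card_map_of_injective hinj]
        exact h.valK
      charH := h.charH.map Φ
      charK := h.charK.map Φ
      gen := by
        rw [← Subgroup.map_sup, h.gen]
        exact Subgroup.map_top_of_surjective _ Φ.surjective
      core := by
        intro N hN hNn
        rw [hinf] at hN
        have h1 : N.comap Φ.toMonoidHom ≤ H ⊓ K := by
          intro a ha
          obtain ⟨b, hb, hab⟩ := hN ha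
          rwa [← hinj hab]
        have h2 := h.core _ h1 (hNn.comap _)
        rw [eq_bot_iff]
        intro y hy
        obtain ⟨a, rfl⟩ := Φ.surjective y
        have : a ∈ N.comap Φ.toMonoidHom := hy
        rw [h2, Subgroup.mem_bot] at this
        rw [this]
        simp }

/-- A Sylow subgroup of `H ⊓ K` is (the image of) a Sylow subgroup of `H`. -/
theorem GoodPair.exists_sylow_left {p : ℕ} [Fact p.Prime] {H K : Subgroup X} (h : GoodPair p H K)
    (S : Sylow p ↥(H ⊓ K)) :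
    ∃ P : Sylow p ↥H, (P : Subgroup ↥H).map H.subtype =
      (S : Subgroup ↥(H ⊓ K)).map (H ⊓ K).subtype := by
  have := h.finH
  have hf12 : Finite ↥(H ⊓ K) :=
    Finite.of_injective _ (Subgroup.inclusion_injective (inf_le_left : H ⊓ K ≤ H))
  set T : Subgroup X := (S : Subgroup ↥(H ⊓ K)).map (H ⊓ K).subtype with hT
  have hTH : T ≤ H := by
    rintro _ ⟨a, -, rfl⟩
    exact a.2.1
  have hcard : Nat.card ↥(T.subgroupOf H) = p ^ (Nat.card ↥H).factorization p := by
    rw [Nat.card_congr (Subgroup.subgroupOfEquivOfLe hTH).toEquiv, hT, Subgroup.card_subtype,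
      Sylow.card_eq_multiplicity, h.valH]
  refine ⟨Sylow.ofCard (T.subgroupOf H) hcard, ?_⟩
  rw [Sylow.coe_ofCard]
  exact Subgroup.map_subgroupOf_eq_of_le hTH

theorem GoodPair.exists_sylow_right {p : ℕ} [Fact p.Prime] {H K : Subgroup X} (h : GoodPair p H K)
    (S : Sylow p ↥(H ⊓ K)) :
    ∃ P : Sylow p ↥K, (P : Subgroup ↥K).map K.subtype =
      (S : Subgroup ↥(H ⊓ K)).map (H ⊓ K).subtype := by
  have := h.finK
  have hf12 : Finite ↥(H ⊓ K) :=
    Finite.of_injective _ (Subgroup.inclusion_injective (inf_le_right : H ⊓ K ≤ K))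
  set T : Subgroup X := (S : Subgroup ↥(H ⊓ K)).map (H ⊓ K).subtype with hT
  have hTK : T ≤ K := by
    rintro _ ⟨a, -, rfl⟩
    exact a.2.2
  have hcard : Nat.card ↥(T.subgroupOf K) = p ^ (Nat.card ↥K).factorization p := by
    rw [Nat.card_congr (Subgroup.subgroupOfEquivOfLe hTK).toEquiv, hT, Subgroup.card_subtype,
      Sylow.card_eq_multiplicity, h.valK]
  refine ⟨Sylow.ofCard (T.subgroupOf K) hcard, ?_⟩
  rw [Sylow.coe_ofCard]
  exact Subgroup.map_subgroupOf_eq_of_le hTK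

/-- `O_p(H)` lies in the image of every Sylow subgroup of `H`. -/
theorem pCoreOf_le_sylow {p : ℕ} [Fact p.Prime] {H : Subgroup X} [Finite ↥H] (P : Sylow p ↥H) :
    pCoreOf p H ≤ (P : Subgroup ↥H).map H.subtype := by
  unfold pCoreOf
  exact Subgroup.map_mono (Cfsg.Agent.Lib.Helper84.pCore_le_sylow P)

theorem GoodPair.pCoreOf_le_sylow_inf {p : ℕ} [Fact p.Prime] {H K : Subgroup X}
    (h : GoodPair p H K) (S : Sylow p ↥(H ⊓ K)) :
    pCoreOf p H ≤ (S : Subgroup ↥(H ⊓ K)).map (H ⊓ K).subtype := by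
  have := h.finH
  obtain ⟨P, hP⟩ := h.exists_sylow_left S
  rw [← hP]
  exact pCoreOf_le_sylow P

theorem GoodPair.pCoreOf_le_right {p : ℕ} [Fact p.Prime] {H K : Subgroup X}
    (h : GoodPair p H K) : pCoreOf p H ≤ K := by
  have := h.finH
  have hf12 : Finite ↥(H ⊓ K) :=
    Finite.of_injective _ (Subgroup.inclusion_injective (inf_le_left : H ⊓ K ≤ H))
  obtain ⟨S⟩ : Nonempty (Sylow p ↥(H ⊓ K)) := inferInstance
  refine (h.pCoreOf_le_sylow_inf S).trans ?_
  rintro _ ⟨a, -, rfl⟩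
  exact a.2.2

theorem le_normalizer_of_forall_map_le (A V : Subgroup X)
    (h : ∀ a ∈ A, V.map (MulAut.conj a).toMonoidHom ≤ V) :
    A ≤ Subgroup.normalizer (V : Set X) := by
  intro a ha
  rw [Subgroup.mem_normalizer_iff]
  intro x
  constructor
  · intro hx
    exact h a ha ⟨x, hx, rfl⟩
  · intro hx
    have := h a⁻¹ (A.inv_mem ha) ⟨_, hx, rfl⟩
    simpa [mul_assoc] using this

theorem map_conj_le_of_le_normalizer {A V : Subgroup X}
    (h : A ≤ Subgroup.normalizer (V : Set X)) {a : X} (ha : a ∈ A) :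
    V.map (MulAut.conj a).toMonoidHom ≤ V := by
  rintro _ ⟨x, hx, rfl⟩
  exact (Subgroup.mem_normalizer_iff.mp (h ha) x).mp hx

theorem map_conj_eq_of_mem_normalizer {V : Subgroup X} {a : X}
    (ha : a ∈ Subgroup.normalizer (V : Set X)) :
    V.map (MulAut.conj a).toMonoidHom = V := by
  apply le_antisymm
  · rintro _ ⟨x, hx, rfl⟩
    exact (Subgroup.mem_normalizer_iff.mp ha x).mp hx
  · intro x hx
    refine ⟨a⁻¹ * x * a, ?_, by simp [mul_assoc]⟩
    have := (Subgroup.mem_normalizer_iff.mp ((Subgroup.normalizer (V : Set X)).inv_mem ha) x).mp hx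
    simpa using this

theorem pElementClosure_le (p : ℕ) (H : Subgroup X) : pElementClosure p H ≤ H := by
  unfold pElementClosure
  rw [Subgroup.closure_le]
  intro x hx
  exact hx.1

theorem le_pElementClosure_of_isPGroup {p : ℕ} [Fact p.Prime] {H T : Subgroup X} (hT : T ≤ H)
    (hp : IsPGroup p ↥T) : T ≤ pElementClosure p H := by
  intro t ht
  apply Subgroup.subset_closure
  refine ⟨hT ht, ?_⟩
  obtain ⟨k, hk⟩ := IsPGroup.iff_orderOf.mp hp ⟨t, ht⟩
  exact ⟨k, by rw [← hk, Subgroup.orderOf_mk]⟩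

theorem le_normalizer_pElementClosure (p : ℕ) (H : Subgroup X) :
    H ≤ Subgroup.normalizer (pElementClosure p H : Set X) := by
  apply le_normalizer_of_forall_map_le
  intro a ha
  unfold pElementClosure
  rw [MonoidHom.map_closure, Subgroup.closure_le]
  rintro _ ⟨x, ⟨hxH, k, hk⟩, rfl⟩
  apply Subgroup.subset_closure
  refine ⟨?_, k, ?_⟩
  · simp only [MulEquiv.coe_toMonoidHom, MulAut.conj_apply]
    exact H.mul_mem (H.mul_mem ha hxH) (H.inv_mem ha)
  · rw [← hk]
    exact MulEquiv.orderOf_eq (MulAut.conj a) x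

theorem omegaOne_mono (p : ℕ) {A B : Subgroup X} (h : A ≤ B) : omegaOne p A ≤ omegaOne p B := by
  unfold omegaOne
  apply Subgroup.closure_mono
  intro x hx
  exact ⟨h hx.1, hx.2⟩

theorem omegaOne_le (p : ℕ) (A : Subgroup X) : omegaOne p A ≤ A := by
  unfold omegaOne
  rw [Subgroup.closure_le]
  intro x hx
  exact hx.1

theorem omegaOne_map_le (p : ℕ) {A B : Subgroup X} (f : X →* X) (h : A.map f ≤ B) :
    (omegaOne p A).map f ≤ omegaOne p B := by
  unfold omegaOne
  rw [MonoidHom.map_closure, Subgroup.closure_le]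
  rintro _ ⟨x, ⟨hxA, hxp⟩, rfl⟩
  apply Subgroup.subset_closure
  exact ⟨h ⟨x, hxA, rfl⟩, by rw [← map_pow, hxp, map_one]⟩

theorem center_map_conj_le {K : Subgroup X} {g : X}
    (hg : g ∈ Subgroup.normalizer (K : Set X)) :
    (K ⊓ Subgroup.centralizer (K : Set X)).map (MulAut.conj g).toMonoidHom ≤
      K ⊓ Subgroup.centralizer (K : Set X) := by
  rintro _ ⟨x, ⟨hxK, hxC⟩, rfl⟩
  have hxC' : x ∈ Subgroup.centralizer (K : Set X) := hxC
  refine ⟨(Subgroup.mem_normalizer_iff.mp hg x).mp hxK, ?_⟩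
  show (MulAut.conj g).toMonoidHom x ∈ Subgroup.centralizer (K : Set X)
  rw [Subgroup.mem_centralizer_iff]
  intro k hk
  have hk' : g⁻¹ * k * g ∈ K := (Subgroup.mem_normalizer_iff''.mp hg k).mp hk
  have := Subgroup.mem_centralizer_iff.mp hxC' _ hk'
  simp only [MulEquiv.coe_toMonoidHom, MulAut.conj_apply]
  calc k * (g * x * g⁻¹) = g * ((g⁻¹ * k * g) * x) * g⁻¹ := by group
    _ = g * (x * (g⁻¹ * k * g)) * g⁻¹ := by rw [this]
    _ = g * x * g⁻¹ * k := by group

theorem eq_bot_of_omegaOne_eq_bot {p : ℕ} [Fact p.Prime] {Z : Subgroup X} (hZ : IsPGroup p ↥Z)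
    (h : omegaOne p Z = ⊥) : Z = ⊥ := by
  rw [Subgroup.eq_bot_iff_forall]
  intro z hz
  by_contra hz1
  obtain ⟨k, hk⟩ := IsPGroup.iff_orderOf.mp hZ ⟨z, hz⟩
  rw [Subgroup.orderOf_mk] at hk
  have hk0 : k ≠ 0 := by
    rintro rfl
    rw [pow_zero, orderOf_eq_one_iff] at hk
    exact hz1 hk
  obtain ⟨j, rfl⟩ := Nat.exists_eq_succ_of_ne_zero hk0
  have hp := (Fact.out : p.Prime)
  have hw : z ^ (p ^ j) ∈ omegaOne p Z := by
    apply Subgroup.subset_closure
    refine ⟨Z.pow_mem hz _, ?_⟩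
    rw [← pow_mul, ← pow_succ, ← hk, pow_orderOf_eq_one]
  rw [h, Subgroup.mem_bot] at hw
  have hlt : p ^ j < orderOf z := by
    rw [hk]
    exact Nat.pow_lt_pow_right hp.one_lt (Nat.lt_succ_self j)
  exact pow_ne_one_of_lt_orderOf (pow_pos hp.pos j).ne' hlt hw

/-- The normalizer condition of the standing hypothesis, free of Sylow types. -/
def NormCond (p : ℕ) (H K : Subgroup X) : Prop :=
  ∀ T : Subgroup X, T ≤ H ⊓ K → Nat.card ↥T = p ^ (Nat.card ↥(H ⊓ K)).factorization p →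
    H ⊓ Subgroup.normalizer (T : Set X) = K ⊓ Subgroup.normalizer (T : Set X) ∧
    H ⊓ Subgroup.normalizer (T : Set X) ≤ H ⊓ K

theorem NormCond.symm {p : ℕ} {H K : Subgroup X} (h : NormCond p H K) : NormCond p K H := by
  intro T hT hc
  rw [inf_comm] at hT hc
  obtain ⟨h1, h2⟩ := h T hT hc
  refine ⟨h1.symm, ?_⟩
  rw [← h1, inf_comm K H]
  exact h2

theorem NormCond.map {p : ℕ} (Φ : X ≃* X) {H K : Subgroup X} (h : NormCond p H K) :
    NormCond p (H.map Φ.toMonoidHom) (K.map Φ.toMonoidHom) := by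
  have hinj : Function.Injective Φ.toMonoidHom := Φ.injective
  have hinf : H.map Φ.toMonoidHom ⊓ K.map Φ.toMonoidHom = (H ⊓ K).map Φ.toMonoidHom :=
    (Subgroup.map_inf_eq H K Φ.toMonoidHom hinj).symm
  intro T' hT' hc'
  rw [hinf] at hT'
  rw [hinf, Subgroup.card_map_of_injective hinj] at hc'
  have hTT' : (T'.comap Φ.toMonoidHom).map Φ.toMonoidHom = T' :=
    Subgroup.map_comap_eq_self_of_surjective Φ.surjective T'
  have hT : T'.comap Φ.toMonoidHom ≤ H ⊓ K := by
    intro a ha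
    obtain ⟨b, hb, hab⟩ := hT' ha
    rwa [← hinj hab]
  have hc : Nat.card ↥(T'.comap Φ.toMonoidHom) = p ^ (Nat.card ↥(H ⊓ K)).factorization p := by
    rw [← Subgroup.card_map_of_injective hinj, hTT', hc']
  obtain ⟨h1, h2⟩ := h _ hT hc
  have hN : (Subgroup.normalizer ((T'.comap Φ.toMonoidHom : Subgroup X) : Set X)).map Φ.toMonoidHom =
      Subgroup.normalizer (T' : Set X) := by
    rw [Subgroup.map_equiv_normalizer_eq, hTT']
  constructor
  · rw [← hN, ← Subgroup.map_inf_eq _ _ _ hinj, ← Subgroup.map_inf_eq _ _ _ hinj, h1]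
  · rw [← hN, ← Subgroup.map_inf_eq _ _ _ hinj, hinf]
    exact Subgroup.map_mono h2

/-- Frattini argument for a subgroup `K` normalized by `H` and containing a Sylow subgroup of `H`. -/
theorem frattini_le {p : ℕ} [Fact p.Prime] {H K T : Subgroup X} [Finite ↥H] (P : Sylow p ↥H)
    (hPT : (P : Subgroup ↥H).map H.subtype = T) (hKH : K ≤ H)
    (hHK : H ≤ Subgroup.normalizer (K : Set X)) (hTK : T ≤ K) :
    H ≤ (H ⊓ Subgroup.normalizer (T : Set X)) ⊔ K := by
  have hnorm : (K.subgroupOf H).Normal :=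
    (Subgroup.normal_subgroupOf_iff_le_normalizer hKH).mpr hHK
  have hP : (P : Subgroup ↥H) ≤ K.subgroupOf H := by
    intro a ha
    rw [Subgroup.mem_subgroupOf]
    apply hTK
    rw [← hPT]
    exact ⟨a, ha, rfl⟩
  have htop := Sylow.normalizer_sup_eq_top' P hP
  intro g hg
  have hmem : (⟨g, hg⟩ : ↥H) ∈ Subgroup.normalizer (SetLike.coe P) ⊔ K.subgroupOf H := by
    rw [htop]
    trivial
  obtain ⟨a, ha, n, hn, han⟩ := (Subgroup.mem_sup_of_normal_right (ht := hnorm)).mp hmem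
  have hg' : g = (a : X) * (n : X) := by
    have := congrArg Subtype.val han
    exact this.symm
  rw [hg']
  have ha1 : ∀ q : ↥H, q ∈ (P : Subgroup ↥H) → a * q * a⁻¹ ∈ (P : Subgroup ↥H) := fun q hq =>
    (Subgroup.mem_set_normalizer_iff.mp ha q).mp hq
  have ha2 : ∀ q : ↥H, q ∈ (P : Subgroup ↥H) → a⁻¹ * q * a ∈ (P : Subgroup ↥H) := fun q hq =>
    (Subgroup.mem_set_normalizer_iff''.mp ha q).mp hq
  apply Subgroup.mul_mem_sup
  · refine ⟨a.2, ?_⟩
    show (a : X) ∈ Subgroup.normalizer (T : Set X)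
    rw [Subgroup.mem_normalizer_iff]
    intro t
    rw [← hPT]
    constructor
    · rintro ⟨q, hq, rfl⟩
      exact ⟨a * q * a⁻¹, ha1 q hq, rfl⟩
    · rintro ⟨q, hq, hqt⟩
      refine ⟨a⁻¹ * q * a, ha2 q hq, ?_⟩
      show (a : X)⁻¹ * (q : X) * (a : X) = t
      have hqt' : (q : X) = (a : X) * t * (a : X)⁻¹ := hqt
      rw [hqt']
      group
  · exact Subgroup.mem_subgroupOf.mp hn

theorem commutator_le_inf_of_le_normalizer {H K : Subgroup X}
    (hHK : H ≤ Subgroup.normalizer (K : Set X)) (hKH : K ≤ Subgroup.normalizer (H : Set X)) :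
    ⁅H, K⁆ ≤ H ⊓ K := by
  rw [Subgroup.commutator_le]
  intro g₁ h₁ g₂ h₂
  rw [commutatorElement_def]
  constructor
  · have : g₂ * g₁⁻¹ * g₂⁻¹ ∈ H :=
      (Subgroup.mem_normalizer_iff.mp (hKH h₂) g₁⁻¹).mp (H.inv_mem h₁)
    have h3 := H.mul_mem h₁ this
    have e : g₁ * g₂ * g₁⁻¹ * g₂⁻¹ = g₁ * (g₂ * g₁⁻¹ * g₂⁻¹) := by group
    rw [e]
    exact h3
  · have : g₁ * g₂ * g₁⁻¹ ∈ K := (Subgroup.mem_normalizer_iff.mp (hHK h₁) g₂).mp h₂
    exact K.mul_mem this (K.inv_mem h₂)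

theorem center_map_le (A : Subgroup X) (f : X →* X) :
    (A ⊓ Subgroup.centralizer (A : Set X)).map f ≤
      A.map f ⊓ Subgroup.centralizer ((A.map f : Subgroup X) : Set X) := by
  rintro _ ⟨x, ⟨hxA, hxC⟩, rfl⟩
  have hxC' : x ∈ Subgroup.centralizer (A : Set X) := hxC
  refine ⟨⟨x, hxA, rfl⟩, ?_⟩
  show f x ∈ Subgroup.centralizer ((A.map f : Subgroup X) : Set X)
  rw [Subgroup.mem_centralizer_iff]
  rintro _ ⟨a, ha, rfl⟩
  rw [← map_mul, ← map_mul, Subgroup.mem_centralizer_iff.mp hxC' a ha]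

theorem sylow_smul_map_subtype {p : ℕ} {H : Subgroup X} (g : ↥H) (S : Sylow p ↥H) :
    ((g • S : Sylow p ↥H) : Subgroup ↥H).map H.subtype =
      ((S : Subgroup ↥H).map H.subtype).map (MulAut.conj (g : X)).toMonoidHom := by
  rw [Sylow.coe_subgroup_smul]
  ext y
  constructor
  · rintro ⟨w, hw, rfl⟩
    obtain ⟨q, hq, rfl⟩ := (Subgroup.mem_smul_pointwise_iff_exists _ _ _).mp hw
    exact ⟨q, ⟨q, hq, rfl⟩, by simp [MulAut.smul_def]⟩
  · rintro ⟨_, ⟨q, hq, rfl⟩, rfl⟩
    refine ⟨MulAut.conj g • q, Subgroup.smul_mem_pointwise_smul _ _ _ hq, ?_⟩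
    simp [MulAut.smul_def]

theorem le_normalizer_sylowCenterClosure (p : ℕ) (H : Subgroup X) :
    H ≤ Subgroup.normalizer (sylowCenterClosure p H : Set X) := by
  apply le_normalizer_of_forall_map_le
  intro a ha
  unfold sylowCenterClosure
  rw [Subgroup.map_iSup]
  apply iSup_le
  intro S
  refine le_trans ?_ (le_iSup _ ((⟨a, ha⟩ : ↥H) • S))
  rw [sylow_smul_map_subtype]
  exact omegaOne_map_le p _ (center_map_le _ _)

end basic

section vertex

variable {X : Type*} [Group X] {M₁ M₂ : Subgroup X}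

theorem smul_coe_eq_iff (M : Subgroup X) (x g : X) :
    g • (x : X ⧸ M) = (x : X ⧸ M) ↔ g ∈ M.map (MulAut.conj x).toMonoidHom := by
  rw [MulAction.Quotient.smul_coe, eq_comm, QuotientGroup.eq, smul_eq_mul, Subgroup.mem_map]
  constructor
  · intro h
    refine ⟨x⁻¹ * (g * x), h, ?_⟩
    simp [mul_assoc]
  · rintro ⟨m, hm, rfl⟩
    simpa [mul_assoc] using hm

theorem stabilizer_inl (x : X) :
    MulAction.stabilizer X (Sum.inl (x : X ⧸ M₁) : CosetVertex M₁ M₂) =
      M₁.map (MulAut.conj x).toMonoidHom := by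
  ext g
  rw [MulAction.mem_stabilizer_iff, Sum.smul_inl, Sum.inl.injEq]
  exact smul_coe_eq_iff M₁ x g

theorem stabilizer_inr (x : X) :
    MulAction.stabilizer X (Sum.inr (x : X ⧸ M₂) : CosetVertex M₁ M₂) =
      M₂.map (MulAut.conj x).toMonoidHom := by
  ext g
  rw [MulAction.mem_stabilizer_iff, Sum.smul_inr, Sum.inr.injEq]
  exact smul_coe_eq_iff M₂ x g

theorem goodPair_of_adj {p : ℕ} [Fact p.Prime] (h : IsCharPAmalgamPair p M₁ M₂)
    {δ μ : CosetVertex M₁ M₂} (hadj : (cosetGraph M₁ M₂).Adj δ μ) :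
    GoodPair p (MulAction.stabilizer X δ) (MulAction.stabilizer X μ) := by
  have h0 := goodPair_of_isCharPAmalgamPair M₁ M₂ h
  rw [cosetGraph_adj_iff] at hadj
  rcases hadj with ⟨x, rfl, rfl⟩ | ⟨x, rfl, rfl⟩
  · rw [stabilizer_inl, stabilizer_inr]
    exact h0.map (MulAut.conj x)
  · rw [stabilizer_inl, stabilizer_inr]
    exact (h0.map (MulAut.conj x)).symm

/-- Every vertex has a neighbour. -/
theorem exists_adj (δ : CosetVertex M₁ M₂) : ∃ μ, (cosetGraph M₁ M₂).Adj δ μ := by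
  rcases δ with q | q
  · induction q using QuotientGroup.induction_on with
    | H x => exact ⟨_, cosetGraph_adj_inl_inr M₁ M₂ x⟩
  · induction q using QuotientGroup.induction_on with
    | H x => exact ⟨_, (cosetGraph_adj_inl_inr M₁ M₂ x).symm⟩

theorem vertexQ_le_stabilizer_of_adj {p : ℕ} [Fact p.Prime] (h : IsCharPAmalgamPair p M₁ M₂)
    {δ μ : CosetVertex M₁ M₂} (hadj : (cosetGraph M₁ M₂).Adj δ μ) :
    vertexQ p δ ≤ MulAction.stabilizer X μ :=
  (goodPair_of_adj h hadj).pCoreOf_le_right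

theorem vertexQ_le_neighbourKernel {p : ℕ} [Fact p.Prime] (h : IsCharPAmalgamPair p M₁ M₂)
    (δ : CosetVertex M₁ M₂) : vertexQ p δ ≤ neighbourKernel δ := by
  unfold neighbourKernel
  refine le_inf (pCoreOf_le p _) ?_
  refine le_iInf fun μ => le_iInf fun hμ => ?_
  exact vertexQ_le_stabilizer_of_adj h hμ

theorem stabilizer_transitive (δ μ μ' : CosetVertex M₁ M₂)
    (hμ : (cosetGraph M₁ M₂).Adj δ μ) (hμ' : (cosetGraph M₁ M₂).Adj δ μ') :
    ∃ g ∈ MulAction.stabilizer X δ, g • μ = μ' := by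
  rw [cosetGraph_adj_iff] at hμ hμ'
  rcases hμ with ⟨x, rfl, rfl⟩ | ⟨x, rfl, rfl⟩
  · rcases hμ' with ⟨y, hy, rfl⟩ | ⟨y, hy, hy'⟩
    · refine ⟨y * x⁻¹, ?_, ?_⟩
      · rw [MulAction.mem_stabilizer_iff]
        have e : (y * x⁻¹) • (Sum.inl (x : X ⧸ M₁) : CosetVertex M₁ M₂) =
            Sum.inl (y : X ⧸ M₁) := by
          simp [Sum.smul_inl]
        rw [e, hy]
      · simp [Sum.smul_inr]
    · cases hy'
  · rcases hμ' with ⟨y, hy, hy'⟩ | ⟨y, rfl, hy⟩
    · cases hy
    · refine ⟨y * x⁻¹, ?_, ?_⟩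
      · rw [MulAction.mem_stabilizer_iff]
        have e : (y * x⁻¹) • (Sum.inr (x : X ⧸ M₂) : CosetVertex M₁ M₂) =
            Sum.inr (y : X ⧸ M₂) := by
          simp [Sum.smul_inr]
        rw [e, hy]
      · simp [Sum.smul_inl]

theorem eq_bot_of_transitive_normalizers (hgen : M₁ ⊔ M₂ = ⊤)
    (hcore : ∀ N : Subgroup X, N ≤ M₁ ⊓ M₂ → N.Normal → N = ⊥)
    {δ μ : CosetVertex M₁ M₂} (hμ : (cosetGraph M₁ M₂).Adj δ μ) (T : Subgroup X)
    (hT : T ≤ edgeStabilizer δ μ)
    (hδ : ∀ ν ν' : CosetVertex M₁ M₂, (cosetGraph M₁ M₂).Adj δ ν → (cosetGraph M₁ M₂).Adj δ ν' →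
      ∃ g ∈ Subgroup.normalizer (T : Set X) ⊓ MulAction.stabilizer X δ, g • ν = ν')
    (hμ' : ∀ ν ν' : CosetVertex M₁ M₂, (cosetGraph M₁ M₂).Adj μ ν → (cosetGraph M₁ M₂).Adj μ ν' →
      ∃ g ∈ Subgroup.normalizer (T : Set X) ⊓ MulAction.stabilizer X μ, g • ν = ν') :
    T = ⊥ := by
  have hconn := cosetGraph_connected M₁ M₂ hgen
  have hinj := toPermHom_injective M₁ M₂ hcore
  have closed : ∀ v w : CosetVertex M₁ M₂, (cosetGraph M₁ M₂).Adj v w →
      (∃ g ∈ Subgroup.normalizer (T : Set X), v = g • δ ∨ v = g • μ) →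
      (∃ g ∈ Subgroup.normalizer (T : Set X), w = g • δ ∨ w = g • μ) := by
    rintro v w hvw ⟨g, hg, rfl | rfl⟩
    · have h1 : (cosetGraph M₁ M₂).Adj δ (g⁻¹ • w) := by
        have := cosetGraph_adj_smul M₁ M₂ g⁻¹ hvw
        simpa using this
      obtain ⟨k, hk, hk'⟩ := hδ μ (g⁻¹ • w) hμ h1
      refine ⟨g * k, mul_mem hg hk.1, Or.inr ?_⟩
      rw [mul_smul, hk', smul_inv_smul]
    · have h1 : (cosetGraph M₁ M₂).Adj μ (g⁻¹ • w) := by
        have := cosetGraph_adj_smul M₁ M₂ g⁻¹ hvw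
        simpa using this
      obtain ⟨k, hk, hk'⟩ := hμ' δ (g⁻¹ • w) hμ.symm h1
      refine ⟨g * k, mul_mem hg hk.1, Or.inl ?_⟩
      rw [mul_smul, hk', smul_inv_smul]
  have walk : ∀ (u v : CosetVertex M₁ M₂) (p : (cosetGraph M₁ M₂).Walk u v),
      (∃ g ∈ Subgroup.normalizer (T : Set X), u = g • δ ∨ u = g • μ) →
      (∃ g ∈ Subgroup.normalizer (T : Set X), v = g • δ ∨ v = g • μ) := by
    intro u v p
    induction p with
    | nil => exact id
    | cons hadj _ ih => exact fun hu => ih (closed _ _ hadj hu)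
  have allP : ∀ v : CosetVertex M₁ M₂,
      ∃ g ∈ Subgroup.normalizer (T : Set X), v = g • δ ∨ v = g • μ := by
    intro v
    obtain ⟨p⟩ := hconn.preconnected δ v
    exact walk δ v p ⟨1, one_mem _, Or.inl (one_smul _ _).symm⟩
  rw [Subgroup.eq_bot_iff_forall]
  intro t ht
  apply hinj
  rw [map_one]
  ext v
  simp only [MulAction.toPermHom_apply, MulAction.toPerm_apply, Equiv.Perm.coe_one, id_eq]
  obtain ⟨g, hg, rfl | rfl⟩ := allP v
  · have h2 : g⁻¹ * t * g ∈ T := (Subgroup.mem_normalizer_iff''.mp hg t).mp ht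
    have h3 : (g⁻¹ * t * g) • δ = δ := MulAction.mem_stabilizer_iff.mp (hT h2).1
    calc t • g • δ = g • (g⁻¹ * t * g) • δ := by simp [mul_smul]
      _ = g • δ := by rw [h3]
  · have h2 : g⁻¹ * t * g ∈ T := (Subgroup.mem_normalizer_iff''.mp hg t).mp ht
    have h3 : (g⁻¹ * t * g) • μ = μ := MulAction.mem_stabilizer_iff.mp (hT h2).2
    calc t • g • μ = g • (g⁻¹ * t * g) • μ := by simp [mul_smul]
      _ = g • μ := by rw [h3]

/-- A subgroup of an edge stabilizer normalized by both vertex stabilizers is trivial. -/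
theorem eq_bot_of_normalized_by_stabilizers (hgen : M₁ ⊔ M₂ = ⊤)
    (hcore : ∀ N : Subgroup X, N ≤ M₁ ⊓ M₂ → N.Normal → N = ⊥)
    {δ μ : CosetVertex M₁ M₂} (hμ : (cosetGraph M₁ M₂).Adj δ μ) (T : Subgroup X)
    (hT : T ≤ edgeStabilizer δ μ)
    (A B : Subgroup X)
    (hA : A ≤ MulAction.stabilizer X δ) (hAN : A ≤ Subgroup.normalizer (T : Set X))
    (hAt : ∀ ν ν' : CosetVertex M₁ M₂, (cosetGraph M₁ M₂).Adj δ ν → (cosetGraph M₁ M₂).Adj δ ν' →
      ∃ g ∈ A, g • ν = ν')
    (hB : B ≤ MulAction.stabilizer X μ) (hBN : B ≤ Subgroup.normalizer (T : Set X))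
    (hBt : ∀ ν ν' : CosetVertex M₁ M₂, (cosetGraph M₁ M₂).Adj μ ν → (cosetGraph M₁ M₂).Adj μ ν' →
      ∃ g ∈ B, g • ν = ν') :
    T = ⊥ := by
  refine eq_bot_of_transitive_normalizers hgen hcore hμ T hT ?_ ?_
  · intro ν ν' h1 h2
    obtain ⟨g, hg, hg'⟩ := hAt ν ν' h1 h2
    exact ⟨g, ⟨hAN hg, hA hg⟩, hg'⟩
  · intro ν ν' h1 h2
    obtain ⟨g, hg, hg'⟩ := hBt ν ν' h1 h2
    exact ⟨g, ⟨hBN hg, hB hg⟩, hg'⟩

theorem center_pElementClosure_eq_bot {p : ℕ} [Fact p.Prime] (h : IsCharPAmalgamPair p M₁ M₂)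
    (α β : CosetVertex M₁ M₂) (hβ : (cosetGraph M₁ M₂).Adj α β)
    (S : Sylow p ↥(edgeStabilizer α β)) (T : Subgroup X)
    (hT : T = (S : Subgroup ↥(edgeStabilizer α β)).map (edgeStabilizer α β).subtype)
    (L : Subgroup X) (hL : L ≤ MulAction.stabilizer X β)
    (hLc : L ≤ Subgroup.centralizer (omegaOne p (T ⊓ Subgroup.centralizer (T : Set X)) : Set X))
    (hLt : ∀ ν ν' : CosetVertex M₁ M₂, (cosetGraph M₁ M₂).Adj β ν → (cosetGraph M₁ M₂).Adj β ν' →
      ∃ g ∈ L, g • ν = ν') :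
    Subgroup.center ↥(pElementClosure p (MulAction.stabilizer X α)) = ⊥ := by
  have hgp := goodPair_of_adj h hβ
  have hTp : IsPGroup p ↥T := by rw [hT]; exact S.isPGroup'.map _
  have hTle : T ≤ edgeStabilizer α β := by
    rw [hT]
    rintro _ ⟨a, -, rfl⟩
    exact a.2
  have hTK : T ≤ pElementClosure p (MulAction.stabilizer X α) :=
    le_pElementClosure_of_isPGroup (hTle.trans inf_le_left) hTp
  have hQT : pCoreOf p (MulAction.stabilizer X α) ≤ T := by
    rw [hT]
    exact hgp.pCoreOf_le_sylow_inf S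
  have hZKQ : pElementClosure p (MulAction.stabilizer X α) ⊓
      Subgroup.centralizer (pElementClosure p (MulAction.stabilizer X α) : Set X) ≤
      pCoreOf p (MulAction.stabilizer X α) := by
    intro z hz
    apply hgp.charH
    exact ⟨pElementClosure_le p _ hz.1, Subgroup.centralizer_le (hQT.trans hTK) hz.2⟩
  have hZKT : pElementClosure p (MulAction.stabilizer X α) ⊓
      Subgroup.centralizer (pElementClosure p (MulAction.stabilizer X α) : Set X) ≤
      T ⊓ Subgroup.centralizer (T : Set X) :=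
    fun z hz => ⟨hQT (hZKQ hz), Subgroup.centralizer_le hTK hz.2⟩
  have hVle := omegaOne_mono p hZKT
  have hVT := (omegaOne_le p _).trans (hZKT.trans inf_le_left)
  have hLN := (hLc.trans (Subgroup.centralizer_le hVle)).trans
    (Subgroup.centralizer_le_normalizer _)
  have hGN : MulAction.stabilizer X α ≤ Subgroup.normalizer
      (omegaOne p (pElementClosure p (MulAction.stabilizer X α) ⊓
      Subgroup.centralizer (pElementClosure p (MulAction.stabilizer X α) : Set X)) : Set X) := by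
    apply le_normalizer_of_forall_map_le
    intro g hg
    exact omegaOne_map_le p _ (center_map_conj_le (le_normalizer_pElementClosure p _ hg))
  have hV := eq_bot_of_normalized_by_stabilizers h.1.1 h.1.2.2.2 hβ _ (hVT.trans hTle)
    (MulAction.stabilizer X α) L le_rfl hGN
    (fun ν ν' h1 h2 => stabilizer_transitive α ν ν' h1 h2) hL hLN hLt
  have hZK := eq_bot_of_omegaOne_eq_bot (hTp.to_le (hZKT.trans inf_le_left)) hV
  rw [Subgroup.eq_bot_iff_forall]
  intro z hz
  have hzZ : (z : X) ∈ pElementClosure p (MulAction.stabilizer X α) ⊓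
      Subgroup.centralizer (pElementClosure p (MulAction.stabilizer X α) : Set X) := by
    refine ⟨z.2, ?_⟩
    show (z : X) ∈ Subgroup.centralizer (pElementClosure p (MulAction.stabilizer X α) : Set X)
    rw [Subgroup.mem_centralizer_iff]
    intro k hk
    have := Subgroup.mem_center_iff.mp hz ⟨k, hk⟩
    exact congrArg Subtype.val this
  rw [hZK, Subgroup.mem_bot] at hzZ
  exact Subtype.ext hzZ

theorem normCond_of_isSpeAmalgamPair {p : ℕ} [Fact p.Prime] (h : IsSpeAmalgamPair p M₁ M₂) :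
    NormCond p M₁ M₂ := by
  obtain ⟨hchar, hnorm, -, -⟩ := h
  have hf1 : Finite ↥M₁ := hchar.2.1
  have hf12 : Finite ↥(M₁ ⊓ M₂) :=
    Finite.of_injective _ (Subgroup.inclusion_injective (inf_le_left : M₁ ⊓ M₂ ≤ M₁))
  intro T hT hc
  have hcard : Nat.card ↥(T.subgroupOf (M₁ ⊓ M₂)) =
      p ^ (Nat.card ↥(M₁ ⊓ M₂)).factorization p := by
    rw [Nat.card_congr (Subgroup.subgroupOfEquivOfLe hT).toEquiv, hc]
  have hS := hnorm (Sylow.ofCard (T.subgroupOf (M₁ ⊓ M₂)) hcard)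
  rw [Sylow.coe_ofCard, Subgroup.map_subgroupOf_eq_of_le hT] at hS
  exact hS

theorem normCond_of_adj {p : ℕ} [Fact p.Prime] (h : IsSpeAmalgamPair p M₁ M₂)
    {δ μ : CosetVertex M₁ M₂} (hadj : (cosetGraph M₁ M₂).Adj δ μ) :
    NormCond p (MulAction.stabilizer X δ) (MulAction.stabilizer X μ) := by
  have h0 := normCond_of_isSpeAmalgamPair h
  rw [cosetGraph_adj_iff] at hadj
  rcases hadj with ⟨x, rfl, rfl⟩ | ⟨x, rfl, rfl⟩
  · rw [stabilizer_inl, stabilizer_inr]
    exact h0.map (MulAut.conj x)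
  · rw [stabilizer_inl, stabilizer_inr]
    exact (h0.map (MulAut.conj x)).symm

theorem conj_mul_toMonoidHom (a b : X) :
    (MulAut.conj (a * b)).toMonoidHom = (MulAut.conj a).toMonoidHom.comp (MulAut.conj b).toMonoidHom := by
  ext x
  simp [mul_assoc]

theorem eq_bot_of_normalized_by_pElementClosures {p : ℕ} [Fact p.Prime]
    (h : IsSpeAmalgamPair p M₁ M₂) (δ μ : CosetVertex M₁ M₂)
    (hμ : (cosetGraph M₁ M₂).Adj δ μ) (S : Sylow p ↥(edgeStabilizer δ μ)) (T : Subgroup X)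
    (hT : T = (S : Subgroup ↥(edgeStabilizer δ μ)).map (edgeStabilizer δ μ).subtype)
    (U : Subgroup X) (hUT : U ≤ T)
    (hU1 : pElementClosure p (MulAction.stabilizer X δ) ≤ Subgroup.normalizer (U : Set X))
    (hU2 : pElementClosure p (MulAction.stabilizer X μ) ≤ Subgroup.normalizer (U : Set X)) :
    U = ⊥ := by
  have hgp := goodPair_of_adj h.1 hμ
  have hnc := normCond_of_adj h hμ
  have hfδ := hgp.finH
  have hfμ := hgp.finK
  have hfe : Finite ↥(edgeStabilizer δ μ) :=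
    Finite.of_injective _ (Subgroup.inclusion_injective
      (inf_le_left : MulAction.stabilizer X δ ⊓ MulAction.stabilizer X μ ≤ MulAction.stabilizer X δ))
  have hTp : IsPGroup p ↥T := by rw [hT]; exact S.isPGroup'.map _
  have hTle : T ≤ edgeStabilizer δ μ := by
    rw [hT]
    rintro _ ⟨a, -, rfl⟩
    exact a.2
  have hTcard : Nat.card ↥T = p ^ (Nat.card ↥(MulAction.stabilizer X δ ⊓
      MulAction.stabilizer X μ)).factorization p := by
    rw [hT, Subgroup.card_subtype, Sylow.card_eq_multiplicity]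
  obtain ⟨hN1, hN2⟩ := hnc T hTle hTcard
  obtain ⟨P₁, hP₁⟩ := hgp.exists_sylow_left S
  obtain ⟨P₂, hP₂⟩ := hgp.exists_sylow_right S
  rw [← hT] at hP₁ hP₂
  have hTK1 : T ≤ pElementClosure p (MulAction.stabilizer X δ) :=
    le_pElementClosure_of_isPGroup (hTle.trans inf_le_left) hTp
  have hTK2 : T ≤ pElementClosure p (MulAction.stabilizer X μ) :=
    le_pElementClosure_of_isPGroup (hTle.trans inf_le_right) hTp
  have hF1 := frattini_le P₁ hP₁ (pElementClosure_le p _) (le_normalizer_pElementClosure p _) hTK1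
  have hF2 := frattini_le P₂ hP₂ (pElementClosure_le p _) (le_normalizer_pElementClosure p _) hTK2
  rw [← hN1] at hF2
  -- the closure of `U` under the common normalizer of `T`
  let NT : Subgroup X := MulAction.stabilizer X δ ⊓ Subgroup.normalizer (T : Set X)
  let Us : Subgroup X := ⨆ n : ↥NT, U.map (MulAut.conj (n : X)).toMonoidHom
  have hUUs : U ≤ Us := by
    have h1 : U.map (MulAut.conj ((1 : ↥NT) : X)).toMonoidHom ≤ Us :=
      le_iSup (fun n : ↥NT => U.map (MulAut.conj (n : X)).toMonoidHom) 1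
    intro u hu
    apply h1
    exact ⟨u, hu, by simp⟩
  have hUsT : Us ≤ T := by
    apply iSup_le
    intro n
    calc U.map (MulAut.conj (n : X)).toMonoidHom ≤ T.map (MulAut.conj (n : X)).toMonoidHom :=
          Subgroup.map_mono hUT
      _ = T := map_conj_eq_of_mem_normalizer n.2.2
  have hNTUs : NT ≤ Subgroup.normalizer (Us : Set X) := by
    apply le_normalizer_of_forall_map_le
    intro m hm
    rw [Subgroup.map_iSup]
    apply iSup_le
    intro n
    rw [Subgroup.map_map, ← conj_mul_toMonoidHom]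
    exact le_iSup (fun n : ↥NT => U.map (MulAut.conj (n : X)).toMonoidHom) (⟨m, hm⟩ * n)
  have key : ∀ K : Subgroup X, K ≤ Subgroup.normalizer (U : Set X) →
      NT ≤ Subgroup.normalizer (K : Set X) → K ≤ Subgroup.normalizer (Us : Set X) := by
    intro K hKU hNK
    apply le_normalizer_of_forall_map_le
    intro k hk
    rw [Subgroup.map_iSup]
    apply iSup_le
    intro n
    have hk' : (n : X)⁻¹ * k * (n : X) ∈ K :=
      (Subgroup.mem_normalizer_iff''.mp (hNK n.2) k).mp hk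
    have e : k * (n : X) = (n : X) * ((n : X)⁻¹ * k * (n : X)) := by group
    rw [Subgroup.map_map, ← conj_mul_toMonoidHom, e, conj_mul_toMonoidHom, ← Subgroup.map_map]
    calc (U.map (MulAut.conj ((n : X)⁻¹ * k * (n : X))).toMonoidHom).map
          (MulAut.conj (n : X)).toMonoidHom ≤ U.map (MulAut.conj (n : X)).toMonoidHom :=
          Subgroup.map_mono (map_conj_le_of_le_normalizer hKU hk')
      _ ≤ Us := le_iSup (fun n : ↥NT => U.map (MulAut.conj (n : X)).toMonoidHom) n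
  have hK1 := key _ hU1 ((inf_le_left : NT ≤ _).trans (le_normalizer_pElementClosure p _))
  have hK2 := key _ hU2 ((show NT ≤ MulAction.stabilizer X μ from by
    intro x hx
    have : x ∈ MulAction.stabilizer X μ ⊓ Subgroup.normalizer (T : Set X) := by
      rw [← hN1]; exact hx
    exact this.1).trans (le_normalizer_pElementClosure p _))
  have hG1 : MulAction.stabilizer X δ ≤ Subgroup.normalizer (Us : Set X) :=
    hF1.trans (sup_le hNTUs hK1)
  have hG2 : MulAction.stabilizer X μ ≤ Subgroup.normalizer (Us : Set X) :=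
    hF2.trans (sup_le hNTUs hK2)
  have hUs := eq_bot_of_normalized_by_stabilizers h.1.1.1 h.1.1.2.2.2 hμ Us (hUsT.trans hTle)
    (MulAction.stabilizer X δ) (MulAction.stabilizer X μ) le_rfl hG1
    (fun ν ν' h1 h2 => stabilizer_transitive δ ν ν' h1 h2) le_rfl hG2
    (fun ν ν' h1 h2 => stabilizer_transitive μ ν ν' h1 h2)
  rw [eq_bot_iff]
  exact hUUs.trans (le_of_eq hUs)

end vertex

end Cfsg.Agent.Lib.Helper45
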