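import Mathlib
import Cfsg.Agent.Lib.Helper5.AutPSL2Out

set_option autoImplicit false

/-!
# O4 of the outer-automorphism skeleton of helper18: the number of automorphisms of a finite field
-/

namespace Cfsg.Agent.Lib.Helper45.Au

/-- O4: the number of automorphisms of a finite field. -/
theorem O4_card_ringAut (F : Type*) [Field F] [Fintype F] (p f : ℕ) [Fact p.Prime] [CharP F p]
    (hF : Fintype.card F = p ^ f) : Nat.card (F ≃+* F) = f :=
  Cfsg.Agent.Lib.Helper5.AutPSL2.card_ringAut p hF

end Cfsg.Agent.Lib.Helper45.Au
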