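import Mathlib
import Cfsg.Agent.Lib.Helper5.BalUC
import Cfsg.Agent.Lib.Helper5.UnitaryCard

set_option autoImplicit false
set_option linter.unusedSimpArgs false
set_option linter.unusedVariables false
set_option linter.unusedSectionVars false
set_option linter.unnecessarySeqFocus false
set_option linter.style.haveILetI false

/-!
# A semilinear map fixing all isotropic points that are rational over a subfield
-/

namespace Cfsg.Agent.Lib.Helper45.UBal

open Matrix Cfsg.Agent.Lib.Helper5.AutPSLn Cfsg.Agent.Lib.Helper5.Bal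

variable {n : ℕ} {F : Type*} [Field F] {F₀ : Type*} [Field F₀]

/-- base change of a vector -/
def jmap (j : F₀ →+* F) (u : Fin n → F₀) : Fin n → F := fun i => j (u i)

lemma jmap_ee (j : F₀ →+* F) (i : Fin n) : jmap j (ee i : Fin n → F₀) = ee i := by
  ext r
  simp only [jmap, ee_apply]
  split_ifs <;> simp

lemma jmap_add (j : F₀ →+* F) (u w : Fin n → F₀) : jmap j (u + w) = jmap j u + jmap j w := by
  ext r
  simp [jmap]

lemma jmap_smul (j : F₀ →+* F) (a : F₀) (u : Fin n → F₀) : jmap j (a • u) = j a • jmap j u := by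
  ext r
  simp [jmap]

lemma exists_third (hn : 3 ≤ n) (i r : Fin n) : ∃ j : Fin n, j ≠ i ∧ j ≠ r := by
  by_contra hcon
  push Not at hcon
  have hsub : (Finset.univ : Finset (Fin n)) ⊆ {i, r} := by
    intro j _
    by_cases hj : j = i
    · simp [hj]
    · simp [hcon j hj]
  have := Finset.card_le_card hsub
  rw [Finset.card_univ, Fintype.card_fin] at this
  have h3 : ({i, r} : Finset (Fin n)).card ≤ 2 := Finset.card_insert_le _ _
  omega

/-- the Hermitian form as a dot product -/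
lemma herm_eq_dot [Fintype F₀] {q₀ : ℕ} (hF₀ : Fintype.card F₀ = q₀ ^ 2) (u v : Fin n → F₀) :
    Cfsg.hermForm n F₀ q₀ u v = vmap (ucFrob hF₀) v ⬝ᵥ u := by
  rw [dotProduct_comm]
  unfold Cfsg.hermForm dotProduct vmap
  apply Finset.sum_congr rfl
  intro i _
  rw [ucFrob_apply]

/-- **a semilinear map `k ∘ τ` fixing all isotropic points rational over a subfield `F₀`**
(with its own Hermitian form) is a scalar, and `τ` is trivial on `F₀` -/
theorem scalar_of_fix_isotropic [Fintype F₀] {q₀ : ℕ} (hF₀ : Fintype.card F₀ = q₀ ^ 2)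
    (hn : 3 ≤ n) (j : F₀ →+* F) (k : GL (Fin n) F) (τ : F ≃+* F)
    (key : ∀ v₀ : Fin n → F₀, v₀ ≠ 0 → Cfsg.hermForm n F₀ q₀ v₀ v₀ = 0 →
      ∃ l : F, k.1 *ᵥ vmap τ (jmap j v₀) = l • jmap j v₀) :
    (∀ a : F₀, τ (j a) = j a) ∧ ∃ l : F, k.1 = l • (1 : Matrix (Fin n) (Fin n) F) := by
  obtain ⟨σ, hσd⟩ : ∃ σ : F₀ ≃+* F₀, σ = ucFrob hF₀ := ⟨_, rfl⟩
  have hσ : ∀ a, σ a = a ^ q₀ := fun a => by rw [hσd]; exact ucFrob_apply hF₀ a
  have hσ2 : ∀ a, σ (σ a) = a := fun a => by rw [hσd]; exact ucFrob_ucFrob hF₀ a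
  have key' : ∀ v₀ : Fin n → F₀, v₀ ≠ 0 → vmap σ v₀ ⬝ᵥ v₀ = 0 →
      ∃ l : F, k.1 *ᵥ vmap τ (jmap j v₀) = l • jmap j v₀ := by
    intro v₀ hv hiso
    apply key v₀ hv
    rw [herm_eq_dot hF₀, ← hσd]
    exact hiso
  have hjinj : Function.Injective j := j.injective
  -- an element of norm `-1`
  obtain ⟨ζ, hζ⟩ := Cfsg.Agent.Lib.Helper13.exists_norm_eq hF₀ (-1 : F₀) (by simp)
    (by rw [Cfsg.Agent.Lib.Helper99.frob_neg hF₀, one_pow])
  have hζ' : ζ * σ ζ = -1 := by rw [hσ]; exact hζ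
  -- an element of norm `1` other than `1`
  obtain ⟨u, hu, hu1⟩ := Cfsg.Agent.Lib.Helper5.exists_norm_one_ne_one hF₀
  have hu' : u * σ u = 1 := by rw [hσ, ← pow_succ']; exact hu
  have hζu : (ζ * u) * σ (ζ * u) = -1 := by
    rw [map_mul]
    calc ζ * u * (σ ζ * σ u) = (ζ * σ ζ) * (u * σ u) := by ring
      _ = -1 := by rw [hζ', hu', mul_one]
  have hζ0 : ζ ≠ 0 := by
    rintro rfl
    rw [zero_mul] at hζ'
    have : (1 : F₀) = 0 := by linear_combination hζ'
    exact one_ne_zero this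
  have hne : ζ ≠ ζ * u := by
    intro h
    apply hu1
    have : ζ * u = ζ * 1 := by rw [mul_one]; exact h.symm
    exact mul_left_cancel₀ hζ0 this
  have hiso2 : ∀ (i j' : Fin n), i ≠ j' → ∀ z : F₀, z * σ z = -1 →
      vmap σ (ee i + z • ee j') ⬝ᵥ (ee i + z • ee j') = 0 := by
    intro i j' hij z hz
    rw [vmap_add, vmap_smul, vmap_ee, vmap_ee]
    simp only [add_dotProduct, dotProduct_add, smul_dotProduct, dotProduct_smul, ee_dot, ee_apply,
      smul_eq_mul, if_true, if_neg hij, if_neg hij.symm, mul_zero, add_zero, zero_add, mul_one]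
    linear_combination hz
  -- `k` is diagonal
  have hdiag : ∀ (i r : Fin n), r ≠ i → k.1 r i = 0 := by
    intro i r hri
    obtain ⟨j', hji, hjr⟩ := exists_third hn i r
    have hij : i ≠ j' := hji.symm
    have hv0 : ∀ z : F₀, (ee i + z • ee j' : Fin n → F₀) ≠ 0 := by
      intro z h0
      have := congrFun h0 i
      simp [ee_apply, hij] at this
    obtain ⟨l, hl⟩ := key' _ (hv0 ζ) (hiso2 i j' hij ζ hζ')
    obtain ⟨l', hl'⟩ := key' _ (hv0 (ζ * u)) (hiso2 i j' hij (ζ * u) hζu)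
    rw [jmap_add, jmap_smul, jmap_ee, jmap_ee, vmap_add, vmap_smul, vmap_ee, vmap_ee,
      Matrix.mulVec_add, Matrix.mulVec_smul] at hl hl'
    have e1 := congrFun hl r
    have e2 := congrFun hl' r
    simp only [Pi.add_apply, Pi.smul_apply, mulVec_ee, ee_apply, smul_eq_mul, if_neg hri,
      if_neg hjr.symm, mul_zero, add_zero] at e1 e2
    have e3 : (τ (j ζ) - τ (j (ζ * u))) * k.1 r j' = 0 := by linear_combination e1 - e2
    have hne' : τ (j ζ) - τ (j (ζ * u)) ≠ 0 := by
      intro h0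
      apply hne
      exact hjinj (τ.injective (sub_eq_zero.1 h0))
    have e4 : k.1 r j' = 0 := by
      rcases mul_eq_zero.1 e3 with h0 | h0
      · exact absurd h0 hne'
      · exact h0
    rw [e4, mul_zero, add_zero] at e1
    exact e1
  have hcol : ∀ i : Fin n, k.1 *ᵥ ee i = k.1 i i • ee i := by
    intro i
    ext r
    rw [mulVec_ee, Pi.smul_apply, ee_apply, smul_eq_mul]
    by_cases hri : r = i
    · rw [hri, if_pos rfl, mul_one]
    · rw [if_neg hri, mul_zero, hdiag i r hri]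
  -- the key relation
  have hrel : ∀ (i j' : Fin n), i ≠ j' → ∀ x : F₀, τ (j x) * k.1 j' j' = k.1 i i * j x := by
    intro i j' hij x
    obtain ⟨m, hmi, hmj⟩ := exists_third hn i j'
    -- `y` with `1 + x σ(x) + y σ(y) = 0`
    obtain ⟨y, hy⟩ : ∃ y : F₀, y * σ y = -1 - x * σ x := by
      by_cases hc0 : -1 - x * σ x = 0
      · exact ⟨0, by rw [zero_mul, hc0]⟩
      · have hfix : (-1 - x * σ x) ^ q₀ = -1 - x * σ x := by
          rw [← hσ, map_sub, map_neg, map_one, map_mul, hσ2, mul_comm]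
        obtain ⟨y, hy⟩ := Cfsg.Agent.Lib.Helper13.exists_norm_eq hF₀ _ hc0 hfix
        exact ⟨y, by rw [hσ]; exact hy⟩
    obtain ⟨v, hvd⟩ : ∃ v : Fin n → F₀, v = ee i + x • ee j' + y • ee m := ⟨_, rfl⟩
    have hvi : v i = 1 := by
      rw [hvd]
      simp [ee_apply, hij, hmi.symm]
    have hvj : v j' = x := by
      rw [hvd]
      simp [ee_apply, hij.symm, hmj.symm]
    have hv0 : v ≠ 0 := by
      intro h0
      rw [h0] at hvi
      simp at hvi
    have hiso : vmap σ v ⬝ᵥ v = 0 := by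
      rw [hvd, vmap_add, vmap_add, vmap_smul, vmap_smul, vmap_ee, vmap_ee, vmap_ee]
      simp only [add_dotProduct, dotProduct_add, smul_dotProduct, dotProduct_smul, ee_dot,
        ee_apply, smul_eq_mul, if_true, if_neg hij, if_neg hij.symm, if_neg hmi, if_neg hmi.symm,
        if_neg hmj, if_neg hmj.symm, mul_zero, add_zero, zero_add, mul_one]
      linear_combination hy
    obtain ⟨l, hl⟩ := key' v hv0 hiso
    have hjv : jmap j v = ee i + j x • ee j' + j y • ee m := by
      rw [hvd, jmap_add, jmap_add, jmap_smul, jmap_smul, jmap_ee, jmap_ee, jmap_ee]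
    rw [hjv, vmap_add, vmap_add, vmap_smul, vmap_smul, vmap_ee, vmap_ee, vmap_ee,
      Matrix.mulVec_add, Matrix.mulVec_add, Matrix.mulVec_smul, Matrix.mulVec_smul, hcol, hcol,
      hcol] at hl
    have e1 := congrFun hl i
    have e2 := congrFun hl j'
    simp only [Pi.add_apply, Pi.smul_apply, ee_apply, smul_eq_mul, if_true, if_neg hij,
      if_neg hij.symm, if_neg hmi, if_neg hmi.symm, if_neg hmj, if_neg hmj.symm, mul_zero,
      add_zero, zero_add, mul_one] at e1 e2
    rw [← e1] at e2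
    exact e2
  -- conclusion
  obtain ⟨i0, i1, h01⟩ : ∃ i0 i1 : Fin n, i0 ≠ i1 :=
    ⟨⟨0, by omega⟩, ⟨1, by omega⟩, by simp [Fin.ext_iff]⟩
  have hdd : ∀ (i j' : Fin n), i ≠ j' → k.1 j' j' = k.1 i i := by
    intro i j' hij
    have := hrel i j' hij 1
    rw [map_one, map_one, one_mul, mul_one] at this
    exact this
  obtain ⟨l, hl⟩ : ∃ l : F, l = k.1 i0 i0 := ⟨_, rfl⟩
  have hkk : ∀ i : Fin n, k.1 i i = l := by
    intro i
    by_cases hi : i = i0
    · rw [hi, hl]
    · rw [hl]; exact hdd i0 i (Ne.symm hi)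
  have hk : k.1 = l • (1 : Matrix (Fin n) (Fin n) F) := by
    ext r i
    by_cases hri : r = i
    · subst hri
      simp [hkk]
    · rw [hdiag i r hri]
      simp [Matrix.one_apply_ne hri]
  have hl0 : l ≠ 0 := by
    rintro rfl
    rw [zero_smul] at hk
    have h1 := gl_mul_inv k
    rw [hk, Matrix.zero_mul] at h1
    have := congrFun (congrFun h1 i0) i0
    simp at this
  refine ⟨?_, l, hk⟩
  intro a
  have := hrel i0 i1 h01 a
  rw [hkk, hkk] at this
  have h2 : l * τ (j a) = l * j a := by rw [mul_comm, this]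
  exact mul_left_cancel₀ hl0 h2

end Cfsg.Agent.Lib.Helper45.UBal
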