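import Mathlib
import Cfsg.Agent.Lib.Helper5.AutPSUOut
import Cfsg.Agent.Lib.Helper45.AutPSLCoset
import Cfsg.Agent.Lib.Helper45.SpAutDescent
import Cfsg.Agent.Lib.Helper45.HermCopy

set_option autoImplicit false
set_option linter.unusedSimpArgs false
set_option linter.unusedVariables false
set_option linter.unusedSectionVars false
set_option linter.unnecessarySeqFocus false
set_option linter.style.haveILetI false

/-!
# Structure of the automorphisms of `PSU_n(q)` induced by `GU_n(q)` and field automorphisms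
-/

namespace Cfsg.Agent.Lib.Helper45.UAut

open Matrix Cfsg.Agent.Lib.Helper5.AutPSU
open Cfsg.Agent.Lib.Helper45.AutPSL (tw tw_succ tw_zero pow_eq_tw S_tw_fixed map_tw tw_mul_central twHom
  uS uS_val uS_iterate uS_one h90_units norm_surj uS_tw_fixed dedekind_pow transfer orderOf_conj_eq glS
  glS_val)

variable {F : Type*} [Field F] [Fintype F] {q n : ℕ}

lemma isFieldAutOf_iff (σ : F ≃+* F) (β : MulAut (Cfsg.PSU n F q)) :
    Cfsg.IsFieldAutPSUOf σ β ↔ β = PhiU σ := by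
  constructor
  · intro h
    ext y
    obtain ⟨s, rfl⟩ := pr_surjective y
    rw [PhiU_pr]
    exact h s (fieldU σ s) rfl
  · rintro rfl
    exact isFieldAut_PhiU σ

lemma isInnerDiagonal_iff (β : MulAut (Cfsg.PSU n F q)) :
    Cfsg.IsInnerDiagonalAutPSU β ↔ ∃ g : ↥(Cfsg.GU n F q), β = GamU g := by
  constructor
  · rintro ⟨g, hg, h⟩
    refine ⟨⟨g, hg⟩, ?_⟩
    ext y
    obtain ⟨s, rfl⟩ := pr_surjective y
    rw [GamU_pr]
    exact h s (conjU ⟨g, hg⟩ s) rfl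
  · rintro ⟨g, rfl⟩
    exact isInnerDiagonal_GamU g

/-- `Inndiag(PSU_n(q))` is the image of `GU_n(q)` -/
theorem inndiag_eq : Cfsg.inndiagPSU n F q =
    (GamU : ↥(Cfsg.GU n F q) →* MulAut (Cfsg.PSU n F q)).range := by
  unfold Cfsg.inndiagPSU Cfsg.autSubgroupOf
  have : {β : MulAut (Cfsg.PSU n F q) | Cfsg.IsInnerDiagonalAutPSU β} =
      ((GamU : ↥(Cfsg.GU n F q) →* MulAut (Cfsg.PSU n F q)).range : Set _) := by
    ext β
    rw [Set.mem_ofPred_eq, isInnerDiagonal_iff]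
    constructor
    · rintro ⟨g, rfl⟩; exact ⟨g, rfl⟩
    · rintro ⟨g, rfl⟩; exact ⟨g, rfl⟩
  rw [this, Subgroup.closure_eq]

lemma mem_inndiag_iff (β : MulAut (Cfsg.PSU n F q)) :
    β ∈ Cfsg.inndiagPSU n F q ↔ ∃ g : ↥(Cfsg.GU n F q), GamU g = β := by
  rw [inndiag_eq]; rfl

/-- entrywise field automorphism on `GU_n(q)` as a homomorphism -/
noncomputable def guS (σ : F ≃+* F) : ↥(Cfsg.GU n F q) →* ↥(Cfsg.GU n F q) where
  toFun := mapGU σ
  map_one' := by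
    apply Subtype.ext
    show glS σ (1 : GL (Fin n) F) = 1
    exact map_one _
  map_mul' a b := by
    apply Subtype.ext
    show glS σ (a.1 * b.1) = glS σ a.1 * glS σ b.1
    exact map_mul _ _ _

lemma guS_coe (σ : F ≃+* F) (g : ↥(Cfsg.GU n F q)) : (guS σ g).1 = glS σ g.1 := rfl

lemma guS_eq (σ : F ≃+* F) (g : ↥(Cfsg.GU n F q)) : guS σ g = mapGU σ g := rfl

lemma PhiU_mul_GamU' (σ : F ≃+* F) (g : ↥(Cfsg.GU n F q)) :
    (PhiU σ * GamU g : MulAut (Cfsg.PSU n F q)) = GamU (guS σ g) * PhiU σ :=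
  PhiU_mul_GamU σ g

lemma PhiU_conj_GamU (σ : F ≃+* F) (g : ↥(Cfsg.GU n F q)) :
    (PhiU σ * GamU g * (PhiU σ)⁻¹ : MulAut (Cfsg.PSU n F q)) = GamU (guS σ g) := by
  rw [PhiU_mul_GamU']; group

theorem PhiU_injective (hF : Fintype.card F = q ^ 2) (hn : 3 ≤ n) :
    Function.Injective (PhiU : (F ≃+* F) →* MulAut (Cfsg.PSU n F q)) := by
  intro σ τ h
  have h1 : (GamU (1 : ↥(Cfsg.GU n F q)) * PhiU σ : MulAut (Cfsg.PSU n F q)) =
      GamU (1 : ↥(Cfsg.GU n F q)) * PhiU τ := by rw [h]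
  exact nf_uniqueU hF hn h1

theorem GamU_range_normal (p : ℕ) [Fact p.Prime] [CharP F p] (hF : Fintype.card F = q ^ 2)
    (hn : 3 ≤ n) (hq : ¬ (n = 3 ∧ q = 2)) :
    ((GamU : ↥(Cfsg.GU n F q) →* MulAut (Cfsg.PSU n F q)).range).Normal := by
  obtain ⟨θ, -, hker⟩ := exists_thetaU p hF hn hq
  rw [← hker]
  infer_instance

theorem inndiag_normal (p : ℕ) [Fact p.Prime] [CharP F p] (hF : Fintype.card F = q ^ 2)
    (hn : 3 ≤ n) (hq : ¬ (n = 3 ∧ q = 2)) : (Cfsg.inndiagPSU n F q).Normal := by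
  rw [inndiag_eq]
  exact GamU_range_normal p hF hn hq

lemma PhiU_pow (σ : F ≃+* F) (k : ℕ) :
    (PhiU σ : MulAut (Cfsg.PSU n F q)) ^ k = PhiU (σ ^ k) :=
  (map_pow _ _ _).symm

end Cfsg.Agent.Lib.Helper45.UAut
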