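import Mathlib
import Cfsg.Agent.Lib.Helper45.UAutStruct

set_option autoImplicit false
set_option linter.unusedSimpArgs false
set_option linter.unusedVariables false
set_option linter.unusedSectionVars false
set_option linter.unnecessarySeqFocus false
set_option linter.style.haveILetI false

/-!
# Sesquilinear forms attached to matrices; matrix form of membership in `GU_n(q)`
-/

namespace Cfsg.Agent.Lib.Helper45.UAut

open Matrix

section Gen

variable {ι : Type*} [Fintype ι] [DecidableEq ι] {R : Type*} [CommRing R]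

/-- the sesquilinear form `u A φ(v)` attached to a matrix -/
def sesq (φ : R →+* R) (A : Matrix ι ι R) (u v : ι → R) : R :=
  u ⬝ᵥ (A *ᵥ (fun i => φ (v i)))

lemma map_mulVec_fun {S : Type*} [CommRing S] (f : R →+* S) (M : Matrix ι ι R) (v : ι → R) :
    (fun i => f ((M *ᵥ v) i)) = M.map f *ᵥ (fun i => f (v i)) := by
  funext i
  exact RingHom.map_mulVec f M v i

lemma sesq_mulVec (φ : R →+* R) (A M : Matrix ι ι R) (u v : ι → R) :
    sesq φ A (M *ᵥ u) (M *ᵥ v) = sesq φ (Mᵀ * A * M.map φ) u v := by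
  unfold sesq
  rw [map_mulVec_fun, ← mulVec_mulVec, ← mulVec_mulVec, dotProduct_mulVec u Mᵀ, vecMul_transpose]

lemma sesq_single (φ : R →+* R) (A : Matrix ι ι R) (i j : ι) :
    sesq φ A (Pi.single i 1) (Pi.single j 1) = A i j := by
  unfold sesq
  have : (fun k => φ ((Pi.single j (1 : R) : ι → R) k)) = Pi.single j 1 := by
    funext k
    by_cases h : k = j
    · subst h; simp
    · simp [Pi.single_apply, h]
  rw [this, single_one_dotProduct, mulVec_single_one]
  rfl

lemma sesq_ext (φ : R →+* R) {A B : Matrix ι ι R}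
    (h : ∀ i j, sesq φ A (Pi.single i 1) (Pi.single j 1) = sesq φ B (Pi.single i 1) (Pi.single j 1)) :
    A = B := by
  ext i j
  have := h i j
  rwa [sesq_single, sesq_single] at this

lemma sesq_conj (φ : R →+* R) (hφφ : ∀ x, φ (φ x) = x) {A : Matrix ι ι R}
    (hA : (A.map φ)ᵀ = A) (u v : ι → R) : φ (sesq φ A u v) = sesq φ A v u := by
  unfold sesq
  rw [RingHom.map_dotProduct]
  have h1 : (φ ∘ (A *ᵥ fun i => φ (v i))) = A.map φ *ᵥ v := by
    have := map_mulVec_fun φ A (fun i => φ (v i))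
    have h2 : (fun i => φ ((fun i => φ (v i)) i)) = v := by funext i; exact hφφ (v i)
    rw [h2] at this
    exact this
  rw [h1]
  have h2 : v ᵥ* A = A.map φ *ᵥ v := by
    calc v ᵥ* A = v ᵥ* (A.map φ)ᵀ := by rw [hA]
      _ = A.map φ *ᵥ v := vecMul_transpose _ _
  rw [dotProduct_mulVec v, h2, dotProduct_comm]
  rfl

lemma map_map_comm (φ s : R →+* R) (h : ∀ x, φ (s x) = s (φ x)) (M : Matrix ι ι R) :
    (M.map s).map φ = (M.map φ).map s := by
  ext i j
  simp only [Matrix.map_apply]
  exact h _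

lemma map_map_self (φ : R →+* R) (hφφ : ∀ x, φ (φ x) = x) (M : Matrix ι ι R) :
    (M.map φ).map φ = M := by
  ext i j
  simp only [Matrix.map_apply]
  exact hφφ _

lemma map_smul_ring (f : R →+* R) (c : R) (M : Matrix ι ι R) :
    (c • M).map f = f c • M.map f :=
  Matrix.map_smul' f c M (map_mul f)

lemma det_map_ring {S : Type*} [CommRing S] (f : R →+* S) (M : Matrix ι ι R) :
    (M.map f).det = f M.det := by
  rw [RingHom.map_det, RingHom.mapMatrix_apply]

end Gen

section GU

variable {F : Type*} [Field F] {q n : ℕ}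

lemma herm_eq_sesq (φ : F →+* F) (hφ : ∀ a, φ a = a ^ q) (u v : Fin n → F) :
    Cfsg.hermForm n F q u v = sesq φ 1 u v := by
  unfold sesq Cfsg.hermForm
  rw [one_mulVec]
  unfold dotProduct
  refine Finset.sum_congr rfl fun i _ => ?_
  show u i * v i ^ q = u i * φ (v i)
  rw [hφ]

/-- membership in `GU_n(q)` in matrix form -/
theorem mem_GU_iff_mat (φ : F →+* F) (hφ : ∀ a, φ a = a ^ q) (g : GL (Fin n) F) :
    g ∈ Cfsg.GU n F q ↔ g.1ᵀ * g.1.map φ = 1 := by
  constructor
  · intro hg
    apply sesq_ext φ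
    intro i j
    rw [← Matrix.mul_one g.1ᵀ, ← sesq_mulVec, ← herm_eq_sesq φ hφ, ← herm_eq_sesq φ hφ]
    exact hg _ _
  · intro h u v
    show Cfsg.hermForm n F q (g.1 *ᵥ u) (g.1 *ᵥ v) = _
    rw [herm_eq_sesq φ hφ, herm_eq_sesq φ hφ, sesq_mulVec, Matrix.mul_one, h]

end GU

end Cfsg.Agent.Lib.Helper45.UAut
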