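import Mathlib
import Cfsg.Agent.Lib.Helper45.UAutHerm

set_option autoImplicit false
set_option linter.unusedSimpArgs false
set_option linter.unusedVariables false
set_option linter.unusedSectionVars false
set_option linter.unnecessarySeqFocus false
set_option linter.style.haveILetI false

/-!
# Hilbert 90 for `GU_n(q)` and a field automorphism of odd order
-/

namespace Cfsg.Agent.Lib.Helper45.UAut

open Matrix Polynomial
open Cfsg.Agent.Lib.Helper45.SpAut (fixK mem_fixK)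
open Cfsg.Agent.Lib.Helper45.AutPSL (tw tw_succ tw_zero pow_eq_tw S_tw_fixed map_tw tw_mul_central twHom
  uS uS_val uS_iterate uS_one h90_units norm_surj uS_tw_fixed dedekind_pow transfer orderOf_conj_eq glS
  glS_val h90_GL exists_scalar_adjust)

variable {F : Type*} [Field F] [Fintype F] {q n : ℕ}

/-- an element of the fixed field not fixed by the `q₀`-th power map -/
lemma exists_not_fixed (σ : F ≃+* F) (q₀ : ℕ) (hK : Nat.card (fixK σ) = q₀ ^ 2) :
    ∃ t : F, σ t = t ∧ t ^ q₀ ≠ t := by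
  classical
  by_contra hcon
  push Not at hcon
  have hq₀ : 1 < q₀ := by
    have h1 : 1 < Nat.card (fixK σ) := Finite.one_lt_card
    rw [hK] at h1
    by_contra h
    have : q₀ ≤ 1 := by omega
    have : q₀ ^ 2 ≤ 1 := by nlinarith
    omega
  have hdeg : (X ^ q₀ - X : F[X]).natDegree = q₀ := FiniteField.X_pow_card_sub_X_natDegree_eq F hq₀
  have hP0 : (X ^ q₀ - X : F[X]) ≠ 0 := FiniteField.X_pow_card_sub_X_ne_zero F hq₀
  have h1 : Nat.card (fixK σ) ≤ (X ^ q₀ - X : F[X]).roots.toFinset.card := by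
    rw [Nat.card_eq_fintype_card, Fintype.card_subtype]
    apply Finset.card_le_card
    intro t ht
    rw [Finset.mem_filter] at ht
    rw [Multiset.mem_toFinset, mem_roots hP0]
    simp [hcon t ht.2]
  have h2 : (X ^ q₀ - X : F[X]).roots.toFinset.card ≤ q₀ :=
    (Multiset.toFinset_card_le _).trans ((card_roots' _).trans hdeg.le)
  rw [hK] at h1
  nlinarith

lemma exists_nu (hF : Fintype.card F = q ^ 2) (φ : F →+* F) (hφ : ∀ a, φ a = a ^ q)
    (σ : F ≃+* F) (q₀ : ℕ) (hK : Nat.card (fixK σ) = q₀ ^ 2)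
    (hqq : ∀ x : F, σ x = x → x ^ q = x ^ q₀)
    (l ν₀ : F) (hl : φ l = l) (hν₀ : ν₀ ≠ 0) (hσ : σ ν₀ = l * ν₀) :
    ∃ ν : F, ν ≠ 0 ∧ φ ν = ν ∧ σ ν = l * ν := by
  have hφφ : ∀ x, φ (φ x) = x := fun x => by
    rw [hφ, hφ]; exact Cfsg.Agent.Lib.Helper13.pow_q_pow_q hF x
  have hφσ : ∀ x, φ (σ x) = σ (φ x) := fun x => by rw [hφ, hφ, map_pow]
  by_cases h : ν₀ + φ ν₀ = 0
  · obtain ⟨t, ht, htq⟩ := exists_not_fixed σ q₀ hK
    have htφ : φ t ≠ t := by rw [hφ, hqq t ht]; exact htq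
    have h' : φ ν₀ = -ν₀ := by linear_combination h
    refine ⟨t * ν₀ + φ (t * ν₀), ?_, ?_, ?_⟩
    · rw [map_mul, h']
      have : t * ν₀ + φ t * -ν₀ = (t - φ t) * ν₀ := by ring
      rw [this]
      exact mul_ne_zero (sub_ne_zero.2 (Ne.symm htφ)) hν₀
    · rw [map_add, hφφ, add_comm]
    · have h1 : σ (t * ν₀) = l * (t * ν₀) := by rw [map_mul, ht, hσ]; ring
      rw [map_add, ← hφσ, h1, map_mul φ l, hl]
      ring
  · refine ⟨ν₀ + φ ν₀, h, ?_, ?_⟩
    · rw [map_add, hφφ, add_comm]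
    · rw [map_add, ← hφσ, hσ, map_mul, hl]
      ring

omit [Fintype F] in
lemma map_fixK' {ι : Type*} (σ : F ≃+* F) (M : Matrix ι ι (fixK σ)) :
    (M.map (fixK σ).subtype).map σ = M.map (fixK σ).subtype := by
  ext i j
  exact (M i j).2

omit [Fintype F] in
/-- a matrix fixed by `σ` comes from the fixed field -/
lemma exists_of_map_eq' {ι : Type*} (σ : F ≃+* F) (A : Matrix ι ι F) (h : A.map σ = A) :
    ∃ M : Matrix ι ι (fixK σ), M.map (fixK σ).subtype = A := by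
  refine ⟨fun i j => ⟨A i j, ?_⟩, ?_⟩
  · have := congrFun (congrFun h i) j
    exact this
  · ext i j
    rfl

omit [Fintype F] in
lemma map_single_one {K : Type*} [Field K] (j : K →+* F) (a : Fin n) :
    (fun i => j ((Pi.single a (1 : K) : Fin n → K) i)) = Pi.single a 1 := by
  funext i
  by_cases h : i = a
  · subst h; simp
  · simp [Pi.single_apply, h]

/-- a `σ`-fixed invertible hermitian matrix is the Gram matrix of a `σ`-fixed frame -/
theorem exists_fixed_herm_frame (hF : Fintype.card F = q ^ 2) (φ : F →+* F)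
    (hφ : ∀ a, φ a = a ^ q) (σ : F ≃+* F) (q₀ : ℕ) (hK : Nat.card (fixK σ) = q₀ ^ 2)
    (hqq : ∀ x : F, σ x = x → x ^ q = x ^ q₀)
    (A : Matrix (Fin n) (Fin n) F) (hσ : A.map σ = A) (hH : (A.map φ)ᵀ = A) (hdet : A.det ≠ 0) :
    ∃ T T' : Matrix (Fin n) (Fin n) F, T * T' = 1 ∧ T' * T = 1 ∧ T'.map σ = T' ∧
      Tᵀ * T.map φ = A := by
  classical
  have hφφ : ∀ x, φ (φ x) = x := fun x => by
    rw [hφ, hφ]; exact Cfsg.Agent.Lib.Helper13.pow_q_pow_q hF x
  obtain ⟨M, hM⟩ := exists_of_map_eq' σ A hσ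
  letI : Fintype (fixK σ) := Fintype.ofFinite _
  have hK' : Fintype.card (fixK σ) = q₀ ^ 2 := by rw [← Nat.card_eq_fintype_card, hK]
  have hq₀ : q₀ ≠ 0 := by
    rintro rfl
    have := Fintype.card_pos (α := fixK σ)
    rw [hK'] at this
    norm_num at this
  obtain ⟨j, hj⟩ : ∃ j : (fixK σ) →+* F, j = (fixK σ).subtype := ⟨_, rfl⟩
  have hinj : Function.Injective j := by rw [hj]; exact Subtype.val_injective
  have hjfix : ∀ x : fixK σ, σ (j x) = j x := fun x => by rw [hj]; exact x.2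
  have hjpow : ∀ x : fixK σ, j (x ^ q₀) = φ (j x) := fun x => by
    rw [map_pow, hφ, hqq _ (hjfix x)]
  rw [← hj] at hM
  obtain ⟨H, hHdef⟩ : ∃ H : (Fin n → fixK σ) → (Fin n → fixK σ) → fixK σ,
      H = fun u v => u ⬝ᵥ (M *ᵥ (fun i => (v i) ^ q₀)) := ⟨_, rfl⟩
  have hjH : ∀ u v, j (H u v) = sesq φ A (fun i => j (u i)) (fun i => j (v i)) := by
    intro u v
    rw [hHdef]
    show j (u ⬝ᵥ (M *ᵥ (fun i => (v i) ^ q₀))) = _
    rw [RingHom.map_dotProduct]
    unfold sesq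
    have h1 : (j ∘ (M *ᵥ fun i => (v i) ^ q₀)) = M.map j *ᵥ (fun i => j ((v i) ^ q₀)) :=
      map_mulVec_fun j M _
    rw [h1, hM]
    have h2 : (fun i => j ((v i) ^ q₀)) = fun i => φ (j (v i)) := funext fun i => hjpow _
    rw [h2]
    rfl
  have hHS : HermCopy.IsHermSpace q₀ H := by
    refine ⟨?_, ?_, ?_, ?_⟩
    · intro u u' v
      rw [hHdef]
      show (u + u') ⬝ᵥ _ = _
      rw [add_dotProduct]
    · intro c u v
      rw [hHdef]
      show (c • u) ⬝ᵥ _ = _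
      rw [smul_dotProduct, smul_eq_mul]
    · intro u v
      apply hinj
      rw [hjpow, hjH, hjH, sesq_conj φ hφφ hH]
    · intro v hv
      have h1 : M *ᵥ (fun i => (v i) ^ q₀) = 0 := by
        funext i
        have := hv (Pi.single i 1)
        rw [hHdef] at this
        show (M *ᵥ _) i = 0
        rw [← single_one_dotProduct i (M *ᵥ _)]
        exact this
      have hdetM : M.det ≠ 0 := by
        intro h0
        apply hdet
        rw [← hM, det_map_ring, h0, map_zero]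
      have h2 := Matrix.eq_zero_of_mulVec_eq_zero hdetM h1
      funext i
      have := congrFun h2 i
      exact (pow_eq_zero_iff hq₀).1 this
  obtain ⟨Θ, hΘ⟩ := HermCopy.exists_herm_coords hK' (Fin n → fixK σ) H hHS n
    (Module.finrank_fin_fun _)
  obtain ⟨T₀, hT₀⟩ : ∃ T₀, T₀ = LinearMap.toMatrix' Θ.toLinearMap := ⟨_, rfl⟩
  obtain ⟨T₀', hT₀'⟩ : ∃ T₀', T₀' = LinearMap.toMatrix' Θ.symm.toLinearMap := ⟨_, rfl⟩
  have h12 : T₀ * T₀' = 1 := by
    rw [hT₀, hT₀', ← LinearMap.toMatrix'_comp]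
    have : Θ.toLinearMap ∘ₗ Θ.symm.toLinearMap = LinearMap.id := by
      apply LinearMap.ext; intro x; simp
    rw [this, LinearMap.toMatrix'_id]
  have h21 : T₀' * T₀ = 1 := by
    rw [hT₀, hT₀', ← LinearMap.toMatrix'_comp]
    have : Θ.symm.toLinearMap ∘ₗ Θ.toLinearMap = LinearMap.id := by
      apply LinearMap.ext; intro x; simp
    rw [this, LinearMap.toMatrix'_id]
  have hT : ∀ u, T₀ *ᵥ u = Θ u := fun u => by
    rw [hT₀]; exact LinearMap.toMatrix'_mulVec _ _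
  have hjherm : ∀ x y : Fin n → fixK σ, j (Cfsg.hermForm n (fixK σ) q₀ x y) =
      sesq φ 1 (fun i => j (x i)) (fun i => j (y i)) := by
    intro x y
    unfold Cfsg.hermForm sesq
    rw [one_mulVec, map_sum]
    unfold dotProduct
    refine Finset.sum_congr rfl fun i _ => ?_
    rw [map_mul, hjpow]
  have hcong : (T₀.map j)ᵀ * (T₀.map j).map φ = A := by
    apply sesq_ext φ
    intro a b
    have h1 := hΘ (Pi.single a 1) (Pi.single b 1)
    have h2 := congrArg j h1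
    rw [hjH, hjherm, ← hT, ← hT, map_mulVec_fun, map_mulVec_fun, map_single_one, map_single_one,
      sesq_mulVec, Matrix.mul_one] at h2
    exact h2
  refine ⟨T₀.map j, T₀'.map j, ?_, ?_, ?_, hcong⟩
  · rw [← Matrix.map_mul, h12, Matrix.map_one _ (map_zero j) (map_one j)]
  · rw [← Matrix.map_mul, h21, Matrix.map_one _ (map_zero j) (map_one j)]
  · rw [hj]; exact map_fixK' σ T₀'


/-- **Hilbert 90 for `GU_n(q)`**: if the `r`-th twisted power of `g ∈ GU_n(q)` under a field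
automorphism of odd order `r` is scalar, then `g σ(h) = a h` for some `h ∈ GU_n(q)` and a scalar `a` -/
theorem h90_GU_mat (hF : Fintype.card F = q ^ 2) (hn : 1 ≤ n) (σ : F ≃+* F) (r : ℕ)
    (hr : orderOf σ = r) (hr0 : 0 < r) (q₀ : ℕ) (hK : Nat.card (fixK σ) = q₀ ^ 2)
    (hqq : ∀ x : F, σ x = x → x ^ q = x ^ q₀)
    (g : GL (Fin n) F) (hg : g ∈ Cfsg.GU n F q) (c : Fˣ)
    (hc : Matrix.GeneralLinearGroup.scalar (Fin n) c = tw (glS σ) g r) :
    ∃ (h : GL (Fin n) F) (a : F), h ∈ Cfsg.GU n F q ∧ g.1 * h.1.map σ = a • h.1 := by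
  classical
  obtain ⟨φ, hφ⟩ := Cfsg.Agent.Lib.Helper13.exists_powRingHom hF
  have hφφ : ∀ x, φ (φ x) = x := fun x => by
    rw [hφ, hφ]; exact Cfsg.Agent.Lib.Helper13.pow_q_pow_q hF x
  have hφσ : ∀ x, φ (σ x) = σ (φ x) := fun x => by rw [hφ, hφ, map_pow]
  have hφσ' : ∀ x, φ (σ.toRingHom x) = σ.toRingHom (φ x) := hφσ
  obtain ⟨μ, hμ⟩ := exists_scalar_adjust hn σ r hr hr0 g c hc
  obtain ⟨k, hk⟩ := h90_GL σ r hr hr0 _ hμ
  obtain ⟨m, hm⟩ : ∃ m : F, m = ((μ⁻¹ : Fˣ) : F) := ⟨_, rfl⟩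
  have hm0 : m ≠ 0 := by rw [hm]; exact Units.ne_zero _
  have hk' : m • (g.1 * k.1.map σ) = k.1 := by
    have := congrArg Units.val hk
    rw [Units.val_mul, Units.val_mul, glS_val, Matrix.GeneralLinearGroup.coe_scalar,
      Matrix.scalar_apply, ← hm, Matrix.mul_assoc, ← Matrix.smul_eq_diagonal_mul] at this
    exact this
  have hgU : g.1ᵀ * g.1.map φ = 1 := (mem_GU_iff_mat φ hφ g).1 hg
  obtain ⟨A, hA⟩ : ∃ A, A = k.1ᵀ * k.1.map φ := ⟨_, rfl⟩
  obtain ⟨l, hl⟩ : ∃ l, l = m * φ m := ⟨_, rfl⟩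
  have hl0 : l ≠ 0 := by
    rw [hl]
    refine mul_ne_zero hm0 ?_
    rw [hφ]
    exact pow_ne_zero _ hm0
  have hlφ : φ l = l := by rw [hl, map_mul, hφφ, mul_comm]
  have hmapσ : ∀ M N : Matrix (Fin n) (Fin n) F, (M * N).map σ = M.map σ * N.map σ :=
    fun M N => Matrix.map_mul (f := σ.toRingHom)
  have hAσ : A = l • A.map σ := by
    calc A = (m • (g.1 * k.1.map σ))ᵀ * (m • (g.1 * k.1.map σ)).map φ := by rw [hk', hA]
      _ = (m * φ m) • ((k.1.map σ)ᵀ * (g.1ᵀ * g.1.map φ) * (k.1.map σ).map φ) := by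
          rw [transpose_smul, transpose_mul, map_smul_ring, Matrix.map_mul, Matrix.smul_mul,
            Matrix.mul_smul, smul_smul]
          simp only [Matrix.mul_assoc]
      _ = l • ((k.1.map σ)ᵀ * (k.1.map φ).map σ) := by
          rw [hgU, Matrix.mul_one, ← hl]
          congr 2
          exact map_map_comm φ σ.toRingHom hφσ' k.1
      _ = l • A.map σ := by rw [hA, hmapσ, transpose_map]
  have hAH : (A.map φ)ᵀ = A := by
    rw [hA, Matrix.map_mul, map_map_self φ hφφ, transpose_mul, ← transpose_map, transpose_transpose]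
  have hkdet : k.1.det ≠ 0 := ((Matrix.isUnit_iff_isUnit_det _).1 k.isUnit).ne_zero
  have hAdet : A.det ≠ 0 := by
    rw [hA, det_mul, det_transpose, det_map_ring]
    refine mul_ne_zero hkdet ?_
    rw [hφ]
    exact pow_ne_zero _ hkdet
  obtain ⟨i, j, hbne⟩ : ∃ i j, A i j ≠ 0 := by
    by_contra hcon
    push Not at hcon
    apply hAdet
    have hA0 : A = 0 := by ext i j; exact hcon i j
    have hne : Nonempty (Fin n) := ⟨⟨0, by omega⟩⟩
    rw [hA0]
    exact det_zero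
  obtain ⟨b, hb⟩ : ∃ b, b = A i j := ⟨_, rfl⟩
  rw [← hb] at hbne
  have hbσ : b = l * σ b := by
    have := congrFun (congrFun hAσ i) j
    rw [Matrix.smul_apply, Matrix.map_apply, smul_eq_mul, ← hb] at this
    exact this
  have hσb0 : σ b ≠ 0 := by simpa using hbne
  have hν₀ : σ b⁻¹ = l * b⁻¹ := by
    rw [map_inv₀]
    have : b⁻¹ = (l * σ b)⁻¹ := by rw [← hbσ]
    rw [this]
    field_simp
  obtain ⟨ν, hν0, hνφ, hνσ⟩ := exists_nu hF φ hφ σ q₀ hK hqq l b⁻¹ hlφ (inv_ne_zero hbne) hν₀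
  obtain ⟨A', hA'⟩ : ∃ A', A' = ν • A := ⟨_, rfl⟩
  have hA'σ : A'.map σ = A' := by
    have h1 : (ν • A).map σ = σ ν • A.map σ := map_smul_ring σ.toRingHom ν A
    rw [hA', h1, hνσ, mul_comm, ← smul_smul, ← hAσ]
  have hA'H : (A'.map φ)ᵀ = A' := by
    rw [hA', map_smul_ring, transpose_smul, hAH, hνφ]
  have hA'det : A'.det ≠ 0 := by
    rw [hA', det_smul]
    exact mul_ne_zero (pow_ne_zero _ hν0) hAdet
  obtain ⟨T, T', h12, h21, hT'σ, hcong⟩ :=
    exists_fixed_herm_frame hF φ hφ σ q₀ hK hqq A' hA'σ hA'H hA'det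
  have hνq : ν ^ q = ν := by rw [← hφ]; exact hνφ
  obtain ⟨d, hd⟩ := HermCopy.exists_norm_eq hF ν hν0 hνq
  have hd0 : d ≠ 0 := by
    rintro rfl
    rw [zero_pow (by omega)] at hd
    exact hν0 hd.symm
  have hdφ : d * φ d = ν := by rw [hφ, ← pow_succ']; exact hd
  -- the matrix `h₀ = k T'`
  have hAA' : A = ν⁻¹ • A' := by rw [hA', smul_smul, inv_mul_cancel₀ hν0, one_smul]
  have hh₀ : (k.1 * T')ᵀ * (k.1 * T').map φ = ν⁻¹ • (1 : Matrix (Fin n) (Fin n) F) := by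
    calc (k.1 * T')ᵀ * (k.1 * T').map φ = T'ᵀ * (k.1ᵀ * k.1.map φ) * T'.map φ := by
          rw [transpose_mul, Matrix.map_mul]; simp only [Matrix.mul_assoc]
      _ = ν⁻¹ • (T'ᵀ * (Tᵀ * T.map φ) * T'.map φ) := by
          rw [← hA, hAA', ← hcong, Matrix.mul_smul, Matrix.smul_mul]
      _ = ν⁻¹ • ((T * T')ᵀ * (T * T').map φ) := by
          rw [transpose_mul, Matrix.map_mul]; simp only [Matrix.mul_assoc]
      _ = ν⁻¹ • 1 := by
          rw [h12, transpose_one, Matrix.map_one _ (map_zero φ) (map_one φ), Matrix.mul_one]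
  have hinv1 : (d • (k.1 * T')) * (d⁻¹ • (T * (k⁻¹).1)) = 1 := by
    rw [Matrix.smul_mul, Matrix.mul_smul, smul_smul, mul_inv_cancel₀ hd0, one_smul]
    calc k.1 * T' * (T * (k⁻¹).1) = k.1 * (T' * T) * (k⁻¹).1 := by simp only [Matrix.mul_assoc]
      _ = 1 := by rw [h21, Matrix.mul_one]; exact k.mul_inv
  have hinv2 : (d⁻¹ • (T * (k⁻¹).1)) * (d • (k.1 * T')) = 1 := by
    rw [Matrix.smul_mul, Matrix.mul_smul, smul_smul, inv_mul_cancel₀ hd0, one_smul]
    calc T * (k⁻¹).1 * (k.1 * T') = T * ((k⁻¹).1 * k.1) * T' := by simp only [Matrix.mul_assoc]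
      _ = 1 := by
          have : (k⁻¹).1 * k.1 = 1 := k.inv_mul
          rw [this, Matrix.mul_one, h12]
  refine ⟨⟨d • (k.1 * T'), d⁻¹ • (T * (k⁻¹).1), hinv1, hinv2⟩, σ d * m⁻¹ * d⁻¹, ?_, ?_⟩
  · rw [mem_GU_iff_mat φ hφ]
    show (d • (k.1 * T'))ᵀ * (d • (k.1 * T')).map φ = 1
    rw [transpose_smul, map_smul_ring, Matrix.smul_mul, Matrix.mul_smul, smul_smul, hh₀, smul_smul]
    have : d * φ d * ν⁻¹ = 1 := by rw [hdφ, mul_inv_cancel₀ hν0]
    rw [this, one_smul]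
  · show g.1 * (d • (k.1 * T')).map σ = (σ d * m⁻¹ * d⁻¹) • (d • (k.1 * T'))
    have h1 : (d • (k.1 * T')).map σ = σ d • (k.1.map σ * T') := by
      have := map_smul_ring σ.toRingHom d (k.1 * T')
      rw [show ((d • (k.1 * T')).map σ) = (d • (k.1 * T')).map σ.toRingHom from rfl, this]
      congr 1
      show (k.1 * T').map σ = _
      rw [hmapσ, hT'σ]
    have h2 : g.1 * k.1.map σ = m⁻¹ • k.1 := by
      have h3 : m⁻¹ • (m • (g.1 * k.1.map σ)) = m⁻¹ • k.1 := by rw [hk']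
      rw [← h3, smul_smul, inv_mul_cancel₀ hm0, one_smul]
    rw [h1, Matrix.mul_smul, ← Matrix.mul_assoc, h2, Matrix.smul_mul, smul_smul, smul_smul]
    congr 1
    field_simp

end Cfsg.Agent.Lib.Helper45.UAut
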