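import Mathlib
import Cfsg.Agent.Lib.Helper45.UAutH90
import Cfsg.Agent.Lib.Helper5.AutPSLnFieldCent

set_option autoImplicit false
set_option linter.unusedSimpArgs false
set_option linter.unusedVariables false
set_option linter.unusedSectionVars false
set_option linter.unnecessarySeqFocus false
set_option linter.style.haveILetI false

/-!
# Elements of prime order in the coset of a field automorphism of `PSU_n(q)`
-/

namespace Cfsg.Agent.Lib.Helper45.UAut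

open Matrix Cfsg.Agent.Lib.Helper5.AutPSU
open Cfsg.Agent.Lib.Helper45.SpAut (fixK mem_fixK)
open Cfsg.Agent.Lib.Helper45.AutPSL (tw tw_succ tw_zero pow_eq_tw S_tw_fixed map_tw tw_mul_central twHom
  uS uS_val uS_iterate uS_one h90_units norm_surj uS_tw_fixed dedekind_pow transfer orderOf_conj_eq glS
  glS_val h90_GL exists_scalar_adjust)

variable {F : Type*} [Field F] [Fintype F] {q n : ℕ}

lemma mat_eq_smul_one {M : Matrix (Fin n) (Fin n) F} {a : F} (h : ∀ x : Fin n → F, M *ᵥ x = a • x) :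
    M = a • (1 : Matrix (Fin n) (Fin n) F) := by
  ext i j
  have := congrFun (h (Pi.single j 1)) i
  rw [mulVec_single_one] at this
  rw [Matrix.smul_apply, Matrix.one_apply, smul_eq_mul]
  simp only [Matrix.col_apply, Pi.smul_apply, Pi.single_apply, smul_eq_mul] at this
  rw [this]

/-- **the coset of a field automorphism of odd order**: an element of `Inndiag · φ` with trivial
`r`-th power is `Inndiag`-conjugate to `φ` -/
theorem field_caseU (hF : Fintype.card F = q ^ 2) (hn : 3 ≤ n) (σ : F ≃+* F) (r : ℕ)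
    (hr : orderOf σ = r) (hr0 : 0 < r) (q₀ : ℕ) (hK : Nat.card (fixK σ) = q₀ ^ 2)
    (hqq : ∀ x : F, σ x = x → x ^ q = x ^ q₀) (g : ↥(Cfsg.GU n F q))
    (h : (GamU g * PhiU σ : MulAut (Cfsg.PSU n F q)) ^ r = 1) :
    ∃ h : ↥(Cfsg.GU n F q),
      (GamU g * PhiU σ : MulAut (Cfsg.PSU n F q)) = GamU h * PhiU σ * (GamU h)⁻¹ := by
  have hσr : σ ^ r = 1 := by rw [← hr]; exact pow_orderOf_eq_one σ
  have e1 := pow_eq_tw (GamU : ↥(Cfsg.GU n F q) →* MulAut (Cfsg.PSU n F q))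
    (PhiU σ) (guS σ) (PhiU_mul_GamU' σ) g r
  rw [h, PhiU_pow, hσr, map_one, mul_one] at e1
  obtain ⟨a, ha⟩ := (GamU_eq_one_iff hF hn _).1 e1.symm
  have h1 : (tw (guS σ) g r).1 = tw (glS σ) g.1 r :=
    map_tw (Cfsg.GU n F q).subtype (guS σ) (glS σ) (fun x => rfl) g r
  have ha0 : a ≠ 0 := by
    rintro rfl
    have h2 := mat_eq_smul_one ha
    rw [zero_smul] at h2
    have h3 : ((tw (guS σ) g r).1.1).det ≠ 0 :=
      ((Matrix.isUnit_iff_isUnit_det _).1 (tw (guS σ) g r).1.isUnit).ne_zero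
    rw [h2] at h3
    have hne : Nonempty (Fin n) := ⟨⟨0, by omega⟩⟩
    exact h3 det_zero
  have hc : Matrix.GeneralLinearGroup.scalar (Fin n) (Units.mk0 a ha0) = tw (glS σ) g.1 r := by
    rw [← h1]
    apply Units.ext
    rw [Matrix.GeneralLinearGroup.coe_scalar, Matrix.scalar_apply, mat_eq_smul_one ha]
    ext i j
    rw [Matrix.smul_apply, Matrix.one_apply, Matrix.diagonal_apply]
    simp
  obtain ⟨h₀, a', hh₀, hga⟩ := h90_GU_mat hF (by omega) σ r hr hr0 q₀ hK hqq g.1 g.2 _ hc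
  obtain ⟨H, hH⟩ : ∃ H : ↥(Cfsg.GU n F q), H = ⟨h₀, hh₀⟩ := ⟨_, rfl⟩
  obtain ⟨s, hs⟩ : ∃ s : ↥(Cfsg.GU n F q), s = g * guS σ H * H⁻¹ := ⟨_, rfl⟩
  have hs1 : (GamU s : MulAut (Cfsg.PSU n F q)) = 1 := by
    rw [GamU_eq_one_iff hF hn]
    refine ⟨a', fun x => ?_⟩
    have h2 : s.1.1 = a' • (1 : Matrix (Fin n) (Fin n) F) := by
      rw [hs, hH]
      show g.1.1 * h₀.1.map σ * (h₀⁻¹).1 = _
      rw [hga, Matrix.smul_mul]
      congr 1
      exact h₀.mul_inv
    rw [h2, smul_mulVec, one_mulVec]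
  have h3 : g = s * H * (guS σ H)⁻¹ := by rw [hs]; group
  have h4 : (GamU g : MulAut (Cfsg.PSU n F q)) = GamU H * (GamU (guS σ H))⁻¹ := by
    rw [h3, map_mul, map_mul, hs1, one_mul, map_inv]
  refine ⟨H, ?_⟩
  calc (GamU g * PhiU σ : MulAut (Cfsg.PSU n F q))
      = GamU H * (GamU (guS σ H))⁻¹ * PhiU σ := by rw [h4]
    _ = GamU H * (GamU (guS σ H⁻¹) * PhiU σ) := by rw [map_inv, map_inv]; group
    _ = GamU H * (PhiU σ * GamU H⁻¹) := by rw [PhiU_mul_GamU']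
    _ = GamU H * PhiU σ * (GamU H)⁻¹ := by rw [map_inv]; group

/-- the fixed field of an automorphism of odd order `r` of a field with `q² = p^(2f)` elements -/
theorem fixK_card {p f : ℕ} [Fact p.Prime] (hq : q = p ^ f) (hF : Fintype.card F = q ^ 2)
    (σ : F ≃+* F) (r : ℕ) (hr : orderOf σ = r) (hodd : Odd r) :
    r ∣ f ∧ Nat.card (fixK σ) = (p ^ (f / r)) ^ 2 ∧
      ∀ x : F, σ x = x → x ^ q = x ^ (p ^ (f / r)) := by
  classical
  have hp : p.Prime := Fact.out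
  have hr0 : 0 < r := hodd.pos
  have hF' : Fintype.card F = p ^ (2 * f) := by rw [hF, hq, ← pow_mul, mul_comm]
  obtain ⟨F₁, hmem, hrank⟩ := Cfsg.Agent.Lib.Helper5.AutPSLn.exists_fixed_subfield σ
  rw [hr] at hrank
  obtain ⟨hdvd, hcard⟩ := Cfsg.Agent.Lib.Helper5.AutPSLn.card_fixed_subfield hF' hr0 F₁ hrank
  have hFK : fixK σ = F₁ := by
    ext a
    rw [hmem]
    rfl
  have hrf : r ∣ f := by
    have hcop : Nat.Coprime r 2 := Nat.coprime_two_right.mpr hodd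
    exact hcop.dvd_of_dvd_mul_left hdvd
  obtain ⟨k, rfl⟩ := hrf
  have h1 : 2 * (r * k) / r = 2 * k := by
    rw [show 2 * (r * k) = r * (2 * k) by ring, Nat.mul_div_cancel_left _ hr0]
  have h2 : r * k / r = k := Nat.mul_div_cancel_left _ hr0
  rw [h2]
  have hKc : Nat.card (fixK σ) = (p ^ k) ^ 2 := by
    rw [hFK, hcard, h1, ← pow_mul, mul_comm]
  refine ⟨Dvd.intro _ rfl, hKc, ?_⟩
  intro x hx
  have hx2 : x ^ ((p ^ k) ^ 2) = x := by
    letI : Fintype (fixK σ) := Fintype.ofFinite _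
    have h3 := FiniteField.pow_card (⟨x, hx⟩ : fixK σ)
    rw [← Nat.card_eq_fintype_card, hKc] at h3
    exact congrArg Subtype.val h3
  have hiter : ∀ j : ℕ, x ^ ((p ^ k) ^ (2 * j + 1)) = x ^ (p ^ k) := by
    intro j
    induction j with
    | zero => simp
    | succ j ih =>
      have : (p ^ k) ^ (2 * (j + 1) + 1) = (p ^ k) ^ 2 * (p ^ k) ^ (2 * j + 1) := by ring
      rw [this, pow_mul, hx2, ih]
  obtain ⟨j, rfl⟩ := hodd
  rw [hq, pow_mul', hiter]

/-- **S2711**, in terms of the standard maps -/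
theorem coset_conjU {p f : ℕ} [Fact p.Prime] (hq : q = p ^ f) (hF : Fintype.card F = q ^ 2)
    (hn : 3 ≤ n) (hs : ¬ (n = 3 ∧ q = 2))
    (x δ : MulAut (Cfsg.PSU n F q)) (hx : Cfsg.IsFieldAutClassPSU x) {r : ℕ} (hr : r.Prime)
    (hxr : orderOf x = r) (hδ : δ ∈ Cfsg.inndiagPSU n F q) (hpow : (δ * x) ^ r = 1) :
    Cfsg.IsConjUnder (Cfsg.inndiagPSU n F q) x (δ * x) := by
  have hF' : Fintype.card F = p ^ (2 * f) := by rw [hF, hq, ← pow_mul, mul_comm]
  haveI hchar : CharP F p := charP_of_card_eq_prime_pow hF'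
  haveI hnorm := inndiag_normal (F := F) p hF hn hs
  obtain ⟨α, φ, σ, hσ1, hσodd, hφ, hαx⟩ := hx
  rw [isFieldAutOf_iff] at hφ
  subst hφ
  have hσr : orderOf σ = r := by
    rw [← orderOf_injective (PhiU : (F ≃+* F) →* MulAut (Cfsg.PSU n F q))
      (PhiU_injective hF hn) σ, ← hαx, orderOf_conj_eq, hxr]
  rw [hσr] at hσodd
  obtain ⟨-, hK, hqq⟩ := fixK_card hq hF σ r hσr hσodd
  apply transfer (Cfsg.inndiagPSU n F q) x (PhiU σ) α δ hαx hδ r _ hpow
  intro δ' hδ' hδ'r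
  obtain ⟨g, rfl⟩ := (mem_inndiag_iff _).1 hδ'
  obtain ⟨k, hk⟩ := field_caseU hF hn σ r hσr hr.pos _ hK hqq g hδ'r
  exact ⟨GamU k, (mem_inndiag_iff _).2 ⟨k, rfl⟩, hk⟩

end Cfsg.Agent.Lib.Helper45.UAut
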