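import Mathlib
import Cfsg.Agent.Lib.Helper45.BalanceSkel
import Cfsg.Agent.Lib.Helper45.UAutCoset

set_option autoImplicit false
set_option linter.unusedSimpArgs false
set_option linter.unusedVariables false
set_option linter.unusedSectionVars false
set_option linter.unnecessarySeqFocus false
set_option linter.style.haveILetI false

/-!
# Local balance for `PSU_n(q)`, the field case: the subgroup `L0U σ`, the image of the special
unitary group over the fixed field of `σ`
-/

namespace Cfsg.Agent.Lib.Helper45.UBal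

open Matrix Cfsg.Agent.Lib.Helper5.AutPSU Cfsg.Agent.Lib.Helper99 Cfsg.Agent.Lib.Helper99.SURoot

variable {F : Type*} [Field F] [Fintype F] {q n : ℕ}

/-- the special unitary matrices fixed by the field automorphism `σ` -/
def FixSU (σ : F ≃+* F) : Subgroup ↥(Cfsg.SU n F q) where
  carrier := {s | fieldU σ s = s}
  mul_mem' := by
    intro a b ha hb
    simp only [Set.mem_ofPred_eq] at *
    rw [map_mul, ha, hb]
  one_mem' := map_one _
  inv_mem' := by
    intro a ha
    simp only [Set.mem_ofPred_eq] at *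
    rw [map_inv, ha]

lemma mem_FixSU {σ : F ≃+* F} {s : ↥(Cfsg.SU n F q)} : s ∈ FixSU σ ↔ fieldU σ s = s := Iff.rfl

lemma mem_FixSU_iff_mat {σ : F ≃+* F} {s : ↥(Cfsg.SU n F q)} :
    s ∈ FixSU σ ↔ (mat n s).map σ = mat n s := by
  rw [mem_FixSU]
  constructor
  · intro h
    rw [← fieldU_mat, h]
  · intro h
    apply Subtype.ext
    apply Subtype.ext
    exact h

/-- the image in `PSU` of the special unitary group over the fixed field -/
def L0U (σ : F ≃+* F) : Subgroup (Cfsg.PSU n F q) := (FixSU σ).map pr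

lemma L0U_fix (σ : F ≃+* F) : ∀ l ∈ L0U (n := n) (q := q) σ, PhiU σ l = l := by
  rintro _ ⟨s, hs, rfl⟩
  rw [PhiU_pr, mem_FixSU.1 hs]

/-- a fixed point of `PhiU σ` lifts to a matrix moved by `σ` by a central factor -/
lemma exists_central_of_fix (σ : F ≃+* F) (t : ↥(Cfsg.SU n F q)) (hk : PhiU σ (pr t) = pr t) :
    ∃ z ∈ Subgroup.center ↥(Cfsg.SU n F q), fieldU σ t = t * z := by
  rw [PhiU_pr] at hk
  refine ⟨t⁻¹ * fieldU σ t, pr_eq_iff.1 hk.symm, by group⟩

/-- the fixed points of `PhiU σ` normalise `L0U σ` -/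
lemma L0U_norm (σ : F ≃+* F) (k : Cfsg.PSU n F q) (hk : PhiU σ k = k) :
    ∀ l ∈ L0U (n := n) (q := q) σ, k * l * k⁻¹ ∈ L0U σ := by
  rintro _ ⟨s, hs, rfl⟩
  obtain ⟨t, rfl⟩ := pr_surjective k
  obtain ⟨z, hz, htz⟩ := exists_central_of_fix σ t hk
  refine ⟨t * s * t⁻¹, ?_, by simp only [map_mul, map_inv]⟩
  have hs' : fieldU σ s = s := hs
  show fieldU σ (t * s * t⁻¹) = t * s * t⁻¹
  rw [map_mul, map_mul, map_inv, hs', htz]
  have hzs : z * s = s * z := (Subgroup.mem_center_iff.1 hz s).symm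
  calc t * z * s * (t * z)⁻¹ = t * (z * s) * z⁻¹ * t⁻¹ := by group
    _ = t * (s * z) * z⁻¹ * t⁻¹ := by rw [hzs]
    _ = t * s * t⁻¹ := by group

end Cfsg.Agent.Lib.Helper45.UBal
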