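import Mathlib
import Cfsg.Agent.Lib.Helper45.UAutCoset

set_option autoImplicit false
set_option linter.unusedSimpArgs false
set_option linter.unusedVariables false
set_option linter.unusedSectionVars false
set_option linter.unnecessarySeqFocus false
set_option linter.style.haveILetI false

/-!
# Base change `GU_n(q₀) → GU_n(q)` and the centralizer of a field automorphism of `PSU_n(q)`
-/

namespace Cfsg.Agent.Lib.Helper45.UAut

open Matrix Cfsg.Agent.Lib.Helper5.AutPSU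
open Cfsg.Agent.Lib.Helper45.AutPSL (glS glS_val)

variable {F : Type*} [Field F] [Fintype F] {q n : ℕ} {F₀ : Type*} [Field F₀] [Fintype F₀] {q₀ : ℕ}

/-- base change on `GL_n` -/
noncomputable def mapGLn (j : F₀ →+* F) : GL (Fin n) F₀ →* GL (Fin n) F :=
  Matrix.GeneralLinearGroup.map j

omit [Fintype F] [Fintype F₀] in
lemma mapGLn_val (j : F₀ →+* F) (g₀ : GL (Fin n) F₀) : (mapGLn j g₀).1 = g₀.1.map j := rfl

lemma mapGLn_mem_iff (hF : Fintype.card F = q ^ 2) (hF₀ : Fintype.card F₀ = q₀ ^ 2) (j : F₀ →+* F)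
    (hjq : ∀ x : F₀, j x ^ q = j (x ^ q₀)) (g₀ : GL (Fin n) F₀) :
    mapGLn j g₀ ∈ Cfsg.GU n F q ↔ g₀ ∈ Cfsg.GU n F₀ q₀ := by
  obtain ⟨φ, hφ⟩ := Cfsg.Agent.Lib.Helper13.exists_powRingHom hF
  obtain ⟨φ₀, hφ₀⟩ := Cfsg.Agent.Lib.Helper13.exists_powRingHom hF₀
  rw [mem_GU_iff_mat φ hφ, mem_GU_iff_mat φ₀ hφ₀, mapGLn_val]
  have h1 : (g₀.1.map j).map φ = (g₀.1.map φ₀).map j := by
    ext a b
    simp only [Matrix.map_apply]
    rw [hφ, hφ₀, hjq]
  rw [h1, ← transpose_map, ← Matrix.map_mul]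
  constructor
  · intro h
    apply Matrix.map_injective j.injective
    show (g₀.1ᵀ * g₀.1.map φ₀).map j = (1 : Matrix (Fin n) (Fin n) F₀).map j
    rw [h, Matrix.map_one _ (map_zero j) (map_one j)]
  · intro h
    rw [h, Matrix.map_one _ (map_zero j) (map_one j)]

/-- base change on `GU_n` -/
noncomputable def mapU (hF : Fintype.card F = q ^ 2) (hF₀ : Fintype.card F₀ = q₀ ^ 2) (j : F₀ →+* F)
    (hjq : ∀ x : F₀, j x ^ q = j (x ^ q₀)) : ↥(Cfsg.GU n F₀ q₀) →* ↥(Cfsg.GU n F q) :=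
  ((mapGLn j).comp (Cfsg.GU n F₀ q₀).subtype).codRestrict (Cfsg.GU n F q)
    (fun g => (mapGLn_mem_iff hF hF₀ j hjq g.1).2 g.2)

lemma mapU_val_val (hF : Fintype.card F = q ^ 2) (hF₀ : Fintype.card F₀ = q₀ ^ 2) (j : F₀ →+* F)
    (hjq : ∀ x : F₀, j x ^ q = j (x ^ q₀)) (g₀ : ↥(Cfsg.GU n F₀ q₀)) :
    (mapU hF hF₀ j hjq g₀).1.1 = g₀.1.1.map j := rfl

lemma guS_mapU (hF : Fintype.card F = q ^ 2) (hF₀ : Fintype.card F₀ = q₀ ^ 2) (j : F₀ →+* F)
    (hjq : ∀ x : F₀, j x ^ q = j (x ^ q₀)) (σ : F ≃+* F)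
    (hj : ∀ a : F, σ a = a ↔ a ∈ Set.range j) (g₀ : ↥(Cfsg.GU n F₀ q₀)) :
    guS σ (mapU hF hF₀ j hjq g₀) = mapU hF hF₀ j hjq g₀ := by
  apply Subtype.ext
  apply Units.ext
  show (mapU hF hF₀ j hjq g₀).1.1.map σ = _
  rw [mapU_val_val]
  ext k l
  exact (hj _).2 ⟨_, rfl⟩

omit [Fintype F] [Fintype F₀] in
/-- a matrix over `F` with all entries in the image of `F₀` comes from `GL(F₀)` -/
lemma exists_mapGLn_eq (j : F₀ →+* F) (g : GL (Fin n) F) (hg : ∀ k l, g.1 k l ∈ Set.range j) :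
    ∃ g₀ : GL (Fin n) F₀, mapGLn j g₀ = g := by
  choose A hA using hg
  have hmap : (Matrix.of A).map j = g.1 := by
    ext k l
    exact hA k l
  have hdet : (Matrix.of A).det ≠ 0 := by
    intro h0
    have h1 : j (Matrix.of A).det = g.1.det := by
      rw [RingHom.map_det]
      congr 1
    rw [h0, map_zero] at h1
    have h2 : IsUnit g.1.det := (Matrix.isUnit_iff_isUnit_det g.1).1 ⟨g, rfl⟩
    rw [← h1] at h2
    exact not_isUnit_zero h2
  refine ⟨Matrix.GeneralLinearGroup.mkOfDetNeZero (Matrix.of A) hdet, ?_⟩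
  apply Units.ext
  exact hmap

omit [Fintype F] in
/-- an invertible matrix has a non-zero entry -/
lemma exists_entry_ne_zero (hn : 1 ≤ n) (g : GL (Fin n) F) : ∃ k l, g.1 k l ≠ 0 := by
  by_contra hcon
  push Not at hcon
  have h0 : g.1 = 0 := by
    ext k l
    exact hcon k l
  have h2 : IsUnit g.1.det := (Matrix.isUnit_iff_isUnit_det g.1).1 ⟨g, rfl⟩
  haveI : Nonempty (Fin n) := ⟨⟨0, by omega⟩⟩
  rw [h0, Matrix.det_zero] at h2
  exact not_isUnit_zero h2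

/-- the scalar matrix `a • 1` as an element of `GL` -/
noncomputable def scGL (a : F) (ha : a ≠ 0) : GL (Fin n) F :=
  ⟨a • 1, a⁻¹ • 1, by rw [Matrix.smul_mul, Matrix.mul_smul, smul_smul, Matrix.mul_one,
    mul_inv_cancel₀ ha, one_smul], by rw [Matrix.smul_mul, Matrix.mul_smul, smul_smul, Matrix.mul_one,
    inv_mul_cancel₀ ha, one_smul]⟩

/-- the elements of `GU` inducing automorphisms that commute with `PhiU σ` -/
theorem GamU_comm_PhiU_iff (hF : Fintype.card F = q ^ 2) (hF₀ : Fintype.card F₀ = q₀ ^ 2) (hn : 3 ≤ n)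
    (j : F₀ →+* F) (hjq : ∀ x : F₀, j x ^ q = j (x ^ q₀)) (σ : F ≃+* F)
    (hj : ∀ a : F, σ a = a ↔ a ∈ Set.range j) (g : ↥(Cfsg.GU n F q)) :
    (GamU g * PhiU σ : MulAut (Cfsg.PSU n F q)) = PhiU σ * GamU g ↔
      ∃ (s : ↥(Cfsg.GU n F q)) (g₀ : ↥(Cfsg.GU n F₀ q₀)),
        (GamU s : MulAut (Cfsg.PSU n F q)) = 1 ∧ g = s * mapU hF hF₀ j hjq g₀ := by
  constructor
  · intro h
    obtain ⟨φ, hφ⟩ := Cfsg.Agent.Lib.Helper13.exists_powRingHom hF
    obtain ⟨φ₀, hφ₀⟩ := Cfsg.Agent.Lib.Helper13.exists_powRingHom hF₀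
    have hφφ : ∀ x, φ (φ x) = x := fun x => by
      rw [hφ, hφ]; exact Cfsg.Agent.Lib.Helper13.pow_q_pow_q hF x
    have hjφ : ∀ x : F₀, φ (j x) = j (φ₀ x) := fun x => by rw [hφ, hφ₀, hjq]
    rw [PhiU_mul_GamU'] at h
    have h1 : (GamU g : MulAut (Cfsg.PSU n F q)) = GamU (guS σ g) := mul_right_cancel h
    have h2 : (GamU (g⁻¹ * guS σ g) : MulAut (Cfsg.PSU n F q)) = 1 := by
      rw [map_mul, map_inv, ← h1, inv_mul_cancel]
    obtain ⟨c, hc⟩ := (GamU_eq_one_iff hF hn _).1 h2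
    have hc' := mat_eq_smul_one hc
    have h3 : g.1.1.map σ = c • g.1.1 := by
      have h4 : (g⁻¹ * guS σ g).1.1 = (g⁻¹).1.1 * g.1.1.map σ := rfl
      rw [h4] at hc'
      have h5 : g.1.1 * ((g⁻¹).1.1 * g.1.1.map σ) = g.1.1 * (c • 1) := by rw [hc']
      rw [← Matrix.mul_assoc] at h5
      have h6 : g.1.1 * (g⁻¹).1.1 = 1 := g.1.mul_inv
      rw [h6, Matrix.one_mul, Matrix.mul_smul, Matrix.mul_one] at h5
      exact h5
    have h4 : ∀ k l, σ (g.1.1 k l) = c * g.1.1 k l := by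
      intro k l
      have := congrFun (congrFun h3 k) l
      rw [Matrix.map_apply, Matrix.smul_apply, smul_eq_mul] at this
      exact this
    obtain ⟨k, l, hkl⟩ := exists_entry_ne_zero (by omega) g.1
    obtain ⟨θ, hθ⟩ : ∃ θ : F, θ = g.1.1 k l := ⟨_, rfl⟩
    rw [← hθ] at hkl
    have hθσ : σ θ = c * θ := by rw [hθ]; exact h4 k l
    have hc0 : c ≠ 0 := by
      rintro rfl
      rw [zero_mul] at hθσ
      exact hkl ((map_eq_zero σ).1 hθσ)
    -- the matrix `θ⁻¹ g` is fixed by `σ`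
    have hfix : ∀ a b, ((scGL θ hkl)⁻¹ * g.1 : GL (Fin n) F).1 a b ∈ Set.range j := by
      intro a b
      rw [← hj]
      have h6 : ((scGL θ hkl)⁻¹ * g.1 : GL (Fin n) F).1 = θ⁻¹ • g.1.1 := by
        show (θ⁻¹ • (1 : Matrix (Fin n) (Fin n) F)) * g.1.1 = _
        rw [Matrix.smul_mul, Matrix.one_mul]
      rw [h6, Matrix.smul_apply, smul_eq_mul, map_mul, map_inv₀, h4 a b, hθσ]
      field_simp
    obtain ⟨g₁, hg₁⟩ := exists_mapGLn_eq j _ hfix
    have hg₁' : g₁.1.map j = θ⁻¹ • g.1.1 := by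
      have := congrArg Units.val hg₁
      rw [mapGLn_val] at this
      rw [this]
      show (θ⁻¹ • (1 : Matrix (Fin n) (Fin n) F)) * g.1.1 = _
      rw [Matrix.smul_mul, Matrix.one_mul]
    have hgU : g.1.1ᵀ * g.1.1.map φ = 1 := (mem_GU_iff_mat φ hφ g.1).1 g.2
    -- the multiplier
    obtain ⟨X, hX⟩ : ∃ X, X = g₁.1ᵀ * g₁.1.map φ₀ := ⟨_, rfl⟩
    have hXj : X.map j = (θ⁻¹ * φ θ⁻¹) • (1 : Matrix (Fin n) (Fin n) F) := by
      have h7 : (g₁.1.map φ₀).map j = (g₁.1.map j).map φ := by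
        ext a b
        simp only [Matrix.map_apply]
        rw [hjφ]
      rw [hX, Matrix.map_mul, transpose_map, h7, hg₁', transpose_smul, map_smul_ring,
        Matrix.smul_mul, Matrix.mul_smul, smul_smul, hgU]
    obtain ⟨i0⟩ : Nonempty (Fin n) := ⟨⟨0, by omega⟩⟩
    obtain ⟨lam, hlam⟩ : ∃ lam : F₀, lam = X i0 i0 := ⟨_, rfl⟩
    have hlamj : j lam = θ⁻¹ * φ θ⁻¹ := by
      have := congrFun (congrFun hXj i0) i0
      rw [Matrix.map_apply, Matrix.smul_apply, Matrix.one_apply_eq, smul_eq_mul, mul_one] at this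
      rw [hlam, this]
    have hXlam : X = lam • (1 : Matrix (Fin n) (Fin n) F₀) := by
      apply Matrix.map_injective j.injective
      show X.map j = (lam • (1 : Matrix (Fin n) (Fin n) F₀)).map j
      rw [hXj, ← hlamj]
      ext a b
      rw [Matrix.map_apply, Matrix.smul_apply, Matrix.smul_apply, Matrix.one_apply, Matrix.one_apply]
      split_ifs
      · rw [smul_eq_mul, smul_eq_mul, mul_one, mul_one]
      · rw [smul_zero, smul_zero, map_zero]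
    have hθi0 : θ⁻¹ ≠ 0 := inv_ne_zero hkl
    have hlam0 : lam ≠ 0 := by
      rintro rfl
      rw [map_zero] at hlamj
      have : θ⁻¹ * φ θ⁻¹ ≠ 0 := by
        refine mul_ne_zero hθi0 ?_
        rw [hφ]; exact pow_ne_zero _ hθi0
      exact this hlamj.symm
    have hlamq : lam ^ q₀ = lam := by
      apply j.injective
      rw [← hφ₀, ← hjφ, hlamj, map_mul, hφφ, mul_comm]
    obtain ⟨d, hd⟩ := HermCopy.exists_norm_eq hF₀ lam hlam0 hlamq
    have hd0 : d ≠ 0 := by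
      rintro rfl
      rw [zero_pow (by omega)] at hd
      exact hlam0 hd.symm
    have hdφ : d * φ₀ d = lam := by rw [hφ₀, ← pow_succ']; exact hd
    -- `g₀ = d⁻¹ g₁`
    obtain ⟨g₀, hg₀⟩ : ∃ g₀ : GL (Fin n) F₀, g₀ = (scGL d hd0)⁻¹ * g₁ := ⟨_, rfl⟩
    have hg₀v : g₀.1 = d⁻¹ • g₁.1 := by
      rw [hg₀]
      show (d⁻¹ • (1 : Matrix (Fin n) (Fin n) F₀)) * g₁.1 = _
      rw [Matrix.smul_mul, Matrix.one_mul]
    have hg₀mem : g₀ ∈ Cfsg.GU n F₀ q₀ := by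
      rw [mem_GU_iff_mat φ₀ hφ₀, hg₀v, transpose_smul, map_smul_ring, Matrix.smul_mul,
        Matrix.mul_smul, smul_smul, ← hX, hXlam, smul_smul, ← hdφ, map_inv₀]
      have : d⁻¹ * (φ₀ d)⁻¹ * (d * φ₀ d) = 1 := by
        have : φ₀ d ≠ 0 := by rw [hφ₀]; exact pow_ne_zero _ hd0
        field_simp
      rw [this, one_smul]
    obtain ⟨G₀, hG₀⟩ : ∃ G₀ : ↥(Cfsg.GU n F₀ q₀), G₀ = ⟨g₀, hg₀mem⟩ := ⟨_, rfl⟩
    obtain ⟨s, hs⟩ : ∃ s : ↥(Cfsg.GU n F q), s = g * (mapU hF hF₀ j hjq G₀)⁻¹ := ⟨_, rfl⟩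
    refine ⟨s, G₀, ?_, by rw [hs]; group⟩
    rw [GamU_eq_one_iff hF hn]
    refine ⟨θ * j d, fun x => ?_⟩
    have h8 : g.1.1 = (θ * j d) • (mapU hF hF₀ j hjq G₀).1.1 := by
      rw [mapU_val_val, hG₀]
      show g.1.1 = (θ * j d) • g₀.1.map j
      rw [hg₀v]
      have : (d⁻¹ • g₁.1).map j = j d⁻¹ • g₁.1.map j := by
        ext a b
        simp only [Matrix.map_apply, Matrix.smul_apply, smul_eq_mul, map_mul]
      rw [this, hg₁', smul_smul, smul_smul, map_inv₀]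
      have hjd : j d ≠ 0 := (map_ne_zero j).2 hd0
      have : θ * j d * (j d)⁻¹ * θ⁻¹ = 1 := by field_simp
      rw [this, one_smul]
    have h9 : s.1.1 = (θ * j d) • (1 : Matrix (Fin n) (Fin n) F) := by
      rw [hs]
      show g.1.1 * ((mapU hF hF₀ j hjq G₀)⁻¹).1.1 = _
      rw [h8, Matrix.smul_mul]
      congr 1
      exact (mapU hF hF₀ j hjq G₀).1.mul_inv
    rw [h9, smul_mulVec, one_mulVec]
  · rintro ⟨s, g₀, hs, rfl⟩
    rw [map_mul, hs, one_mul, PhiU_mul_GamU', guS_mapU hF hF₀ j hjq σ hj]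

lemma mapU_mem_scalars_iff (hF : Fintype.card F = q ^ 2) (hF₀ : Fintype.card F₀ = q₀ ^ 2) (hn : 3 ≤ n)
    (j : F₀ →+* F) (hjq : ∀ x : F₀, j x ^ q = j (x ^ q₀)) (g₀ : ↥(Cfsg.GU n F₀ q₀)) :
    (GamU (mapU hF hF₀ j hjq g₀) : MulAut (Cfsg.PSU n F q)) = 1 ↔
      g₀ ∈ (Cfsg.Geo.scalars (Fin n) F₀).subgroupOf (Cfsg.GU n F₀ q₀) := by
  rw [Subgroup.mem_subgroupOf, Cfsg.Geo.mem_scalars_iff, GamU_eq_one_iff hF hn]
  obtain ⟨i0⟩ : Nonempty (Fin n) := ⟨⟨0, by omega⟩⟩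
  constructor
  · rintro ⟨a, ha⟩
    have hM := mat_eq_smul_one ha
    rw [mapU_val_val] at hM
    have h00 : j (g₀.1.1 i0 i0) = a := by
      have := congrFun (congrFun hM i0) i0
      rw [Matrix.map_apply, Matrix.smul_apply, Matrix.one_apply_eq, smul_eq_mul, mul_one] at this
      exact this
    have ha0 : a ≠ 0 := by
      rintro rfl
      rw [zero_smul] at hM
      have h3 : ((mapU hF hF₀ j hjq g₀).1.1).det ≠ 0 :=
        ((Matrix.isUnit_iff_isUnit_det _).1 (mapU hF hF₀ j hjq g₀).1.isUnit).ne_zero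
      rw [mapU_val_val, hM] at h3
      haveI : Nonempty (Fin n) := ⟨i0⟩
      exact h3 det_zero
    have hc₀ : g₀.1.1 i0 i0 ≠ 0 := by
      intro h0
      rw [h0, map_zero] at h00
      exact ha0 h00.symm
    refine ⟨Units.mk0 _ hc₀, ?_⟩
    ext k l
    apply j.injective
    have := congrFun (congrFun hM k) l
    rw [Matrix.map_apply] at this
    rw [this, Matrix.smul_apply, Matrix.smul_apply, Matrix.one_apply, Matrix.one_apply, Units.val_mk0]
    split_ifs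
    · rw [smul_eq_mul, mul_one, smul_eq_mul, mul_one, h00]
    · rw [smul_zero, smul_zero, map_zero]
  · rintro ⟨c₀, hc₀⟩
    refine ⟨j c₀, fun x => ?_⟩
    have : (mapU hF hF₀ j hjq g₀).1.1 = j c₀ • (1 : Matrix (Fin n) (Fin n) F) := by
      rw [mapU_val_val, hc₀]
      ext k l
      rw [Matrix.map_apply, Matrix.smul_apply, Matrix.smul_apply, Matrix.one_apply, Matrix.one_apply]
      split_ifs
      · rw [smul_eq_mul, mul_one, smul_eq_mul, mul_one]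
      · rw [smul_zero, smul_zero, map_zero]
    rw [this, smul_mulVec, one_mulVec]

/-- **The centralizer in `PGU_n(q)` of the standard field automorphism `PhiU σ`** is `PGU_n(q₀)` over
the fixed field. -/
theorem centralizer_PhiU_equiv (hF : Fintype.card F = q ^ 2) (hF₀ : Fintype.card F₀ = q₀ ^ 2)
    (hn : 3 ≤ n) (j : F₀ →+* F) (hjq : ∀ x : F₀, j x ^ q = j (x ^ q₀)) (σ : F ≃+* F)
    (hj : ∀ a : F, σ a = a ↔ a ∈ Set.range j) :
    Nonempty (↥((GamU : ↥(Cfsg.GU n F q) →* MulAut (Cfsg.PSU n F q)).range ⊓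
      Subgroup.centralizer {PhiU σ}) ≃* Cfsg.PGU n F₀ q₀) := by
  let ψ : ↥(Cfsg.GU n F₀ q₀) →* MulAut (Cfsg.PSU n F q) := GamU.comp (mapU hF hF₀ j hjq)
  have hker : ψ.ker = (Cfsg.Geo.scalars (Fin n) F₀).subgroupOf (Cfsg.GU n F₀ q₀) := by
    ext g₀
    rw [MonoidHom.mem_ker, ← mapU_mem_scalars_iff hF hF₀ hn j hjq g₀]
    rfl
  have hrange : ψ.range = (GamU : ↥(Cfsg.GU n F q) →* _).range ⊓
      Subgroup.centralizer {PhiU σ} := by
    ext y
    rw [Subgroup.mem_inf, Subgroup.mem_centralizer_singleton_iff]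
    constructor
    · rintro ⟨g₀, rfl⟩
      refine ⟨⟨_, rfl⟩, ?_⟩
      have := (GamU_comm_PhiU_iff hF hF₀ hn j hjq σ hj (mapU hF hF₀ j hjq g₀)).2
        ⟨1, g₀, map_one _, by rw [one_mul]⟩
      exact this
    · rintro ⟨⟨g, rfl⟩, h2⟩
      obtain ⟨s, g₀, hs, rfl⟩ := (GamU_comm_PhiU_iff hF hF₀ hn j hjq σ hj g).1 h2
      exact ⟨g₀, by rw [map_mul, hs, one_mul]; rfl⟩
  have e1 := QuotientGroup.quotientKerEquivRange ψ
  have e2 : Cfsg.PGU n F₀ q₀ ≃* ↥(Cfsg.GU n F₀ q₀) ⧸ ψ.ker :=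
    QuotientGroup.quotientMulEquivOfEq hker.symm
  have e3 := MulEquiv.subgroupCongr hrange
  exact ⟨(e3.symm.trans e1.symm).trans e2.symm⟩

end Cfsg.Agent.Lib.Helper45.UAut
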