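import Mathlib
import Cfsg.Agent.Lib.Helper45.BalUDefs
import Cfsg.Agent.Lib.Helper45.BalUCent
import Cfsg.Agent.Lib.Helper45.UAutBase

set_option autoImplicit false
set_option linter.unusedSimpArgs false
set_option linter.unusedVariables false
set_option linter.unusedSectionVars false
set_option linter.unnecessarySeqFocus false
set_option linter.style.haveILetI false

/-!
# Base change `SU_n(q₀) → SU_n(q)`, and the "simplicity" of `L0U σ`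
-/

namespace Cfsg.Agent.Lib.Helper45.UBal

open Matrix Cfsg.Agent.Lib.Helper5.AutPSU Cfsg.Agent.Lib.Helper99 Cfsg.Agent.Lib.Helper99.SURoot
open Cfsg.Agent.Lib.Helper45.UAut (mapGLn mapGLn_val mapGLn_mem_iff)

variable {F : Type*} [Field F] [Fintype F] {q n : ℕ} {F₀ : Type*} [Field F₀] [Fintype F₀] {q₀ : ℕ}

/-- FU-E1: an element of `SU_n(q)` fixing all isotropic points is central -/
theorem central_of_fix_isotropic (hF : Fintype.card F = q ^ 2) (hn : 3 ≤ n) (x : ↥(Cfsg.SU n F q))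
    (hx : ∀ r : Fin n → F, r ≠ 0 → Cfsg.hermForm n F q r r = 0 → ∃ a : F, mat n x *ᵥ r = a • r) :
    x ∈ Subgroup.center ↥(Cfsg.SU n F q) := by
  obtain ⟨-, l, hl⟩ := scalar_of_fix_isotropic hF hn (RingHom.id F)
    (Matrix.SpecialLinearGroup.toGL x.1) (1 : F ≃+* F) (by
      intro v₀ hv0 hiso
      obtain ⟨a, ha⟩ := hx v₀ hv0 hiso
      exact ⟨a, ha⟩)
  apply mem_center_of_scalar (ν := l)
  intro v
  have : mat n x = l • (1 : Matrix (Fin n) (Fin n) F) := hl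
  rw [this, smul_mulVec, one_mulVec]

lemma su_mem_iff_toGL (x : Matrix.SpecialLinearGroup (Fin n) F) :
    x ∈ Cfsg.SU n F q ↔ Matrix.SpecialLinearGroup.toGL x ∈ Cfsg.GU n F q := Iff.rfl

lemma map_mem_SU (hF : Fintype.card F = q ^ 2) (hF₀ : Fintype.card F₀ = q₀ ^ 2) (j : F₀ →+* F)
    (hjq : ∀ x : F₀, j x ^ q = j (x ^ q₀)) (s : Matrix.SpecialLinearGroup (Fin n) F₀) :
    Matrix.SpecialLinearGroup.map j s ∈ Cfsg.SU n F q ↔ s ∈ Cfsg.SU n F₀ q₀ := by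
  rw [su_mem_iff_toGL, su_mem_iff_toGL, ← mapGLn_mem_iff hF hF₀ j hjq]
  have : Matrix.SpecialLinearGroup.toGL (Matrix.SpecialLinearGroup.map j s) =
      mapGLn j (Matrix.SpecialLinearGroup.toGL s) := by
    apply Units.ext
    rfl
  rw [this]

/-- base change on `SU_n` -/
noncomputable def mapSU (hF : Fintype.card F = q ^ 2) (hF₀ : Fintype.card F₀ = q₀ ^ 2)
    (j : F₀ →+* F) (hjq : ∀ x : F₀, j x ^ q = j (x ^ q₀)) :
    ↥(Cfsg.SU n F₀ q₀) →* ↥(Cfsg.SU n F q) :=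
  ((Matrix.SpecialLinearGroup.map j).comp (Cfsg.SU n F₀ q₀).subtype).codRestrict (Cfsg.SU n F q)
    (fun s => (map_mem_SU hF hF₀ j hjq s.1).2 s.2)

lemma mapSU_mat (hF : Fintype.card F = q ^ 2) (hF₀ : Fintype.card F₀ = q₀ ^ 2) (j : F₀ →+* F)
    (hjq : ∀ x : F₀, j x ^ q = j (x ^ q₀)) (s : ↥(Cfsg.SU n F₀ q₀)) :
    mat n (mapSU hF hF₀ j hjq s) = (mat n s).map j := rfl

lemma mapSU_injective (hF : Fintype.card F = q ^ 2) (hF₀ : Fintype.card F₀ = q₀ ^ 2)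
    (j : F₀ →+* F) (hjq : ∀ x : F₀, j x ^ q = j (x ^ q₀)) :
    Function.Injective (mapSU (n := n) hF hF₀ j hjq) := by
  intro a b hab
  apply Subtype.ext
  apply Subtype.ext
  apply Matrix.map_injective j.injective
  have := congrArg (fun s => mat n s) hab
  exact this

lemma mapSU_mem_FixSU (hF : Fintype.card F = q ^ 2) (hF₀ : Fintype.card F₀ = q₀ ^ 2)
    (j : F₀ →+* F) (hjq : ∀ x : F₀, j x ^ q = j (x ^ q₀)) (σ : F ≃+* F)
    (hj : ∀ a : F, σ a = a ↔ a ∈ Set.range j) (s : ↥(Cfsg.SU n F₀ q₀)) :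
    mapSU hF hF₀ j hjq s ∈ FixSU σ := by
  rw [mem_FixSU_iff_mat, mapSU_mat]
  ext k l
  exact (hj _).2 ⟨_, rfl⟩

lemma exists_mapSU_of_mem_FixSU (hF : Fintype.card F = q ^ 2) (hF₀ : Fintype.card F₀ = q₀ ^ 2)
    (j : F₀ →+* F) (hjq : ∀ x : F₀, j x ^ q = j (x ^ q₀)) (σ : F ≃+* F)
    (hj : ∀ a : F, σ a = a ↔ a ∈ Set.range j) {s : ↥(Cfsg.SU n F q)} (hs : s ∈ FixSU σ) :
    ∃ s₀ : ↥(Cfsg.SU n F₀ q₀), mapSU hF hF₀ j hjq s₀ = s := by
  rw [mem_FixSU_iff_mat] at hs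
  have hent : ∀ k l, mat n s k l ∈ Set.range j := by
    intro k l
    apply (hj _).1
    have := congrFun (congrFun hs k) l
    exact this
  choose A hA using hent
  have hmap : (Matrix.of A).map j = mat n s := by
    ext k l
    exact hA k l
  have hdet : (Matrix.of A).det = 1 := by
    apply j.injective
    rw [map_one, ← Cfsg.Agent.Lib.Helper45.UAut.det_map_ring, hmap]
    exact s.1.2
  obtain ⟨s₁, hs₁⟩ : ∃ s₁ : Matrix.SpecialLinearGroup (Fin n) F₀, s₁ = ⟨Matrix.of A, hdet⟩ :=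
    ⟨_, rfl⟩
  have hmap1 : Matrix.SpecialLinearGroup.map j s₁ = s.1 := by
    apply Subtype.ext
    rw [hs₁]
    exact hmap
  have hmem : s₁ ∈ Cfsg.SU n F₀ q₀ := by
    rw [← map_mem_SU hF hF₀ j hjq, hmap1]
    exact s.2
  refine ⟨⟨s₁, hmem⟩, ?_⟩
  apply Subtype.ext
  exact hmap1

lemma mem_L0U_iff (hF : Fintype.card F = q ^ 2) (hF₀ : Fintype.card F₀ = q₀ ^ 2)
    (j : F₀ →+* F) (hjq : ∀ x : F₀, j x ^ q = j (x ^ q₀)) (σ : F ≃+* F)
    (hj : ∀ a : F, σ a = a ↔ a ∈ Set.range j) (l : Cfsg.PSU n F q) :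
    l ∈ L0U σ ↔ ∃ s₀ : ↥(Cfsg.SU n F₀ q₀), pr (mapSU hF hF₀ j hjq s₀) = l := by
  constructor
  · rintro ⟨s, hs, rfl⟩
    obtain ⟨s₀, rfl⟩ := exists_mapSU_of_mem_FixSU hF hF₀ j hjq σ hj hs
    exact ⟨s₀, rfl⟩
  · rintro ⟨s₀, rfl⟩
    exact ⟨_, mapSU_mem_FixSU hF hF₀ j hjq σ hj s₀, rfl⟩

/-- central elements correspond under base change -/
lemma mapSU_mem_center_iff (hF : Fintype.card F = q ^ 2) (hF₀ : Fintype.card F₀ = q₀ ^ 2)
    (hn : 3 ≤ n) (j : F₀ →+* F) (hjq : ∀ x : F₀, j x ^ q = j (x ^ q₀)) (s : ↥(Cfsg.SU n F₀ q₀)) :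
    mapSU hF hF₀ j hjq s ∈ Subgroup.center ↥(Cfsg.SU n F q) ↔
      s ∈ Subgroup.center ↥(Cfsg.SU n F₀ q₀) := by
  constructor
  · intro h
    obtain ⟨ν, -, hν⟩ := exists_scalar_of_mem_center hF hn h
    have h1 : (mat n s).map j = ν • (1 : Matrix (Fin n) (Fin n) F) := by
      rw [← mapSU_mat hF hF₀ j hjq]
      exact Cfsg.Agent.Lib.Helper45.UAut.mat_eq_smul_one hν
    obtain ⟨i0⟩ : Nonempty (Fin n) := ⟨⟨0, by omega⟩⟩
    apply mem_center_of_scalar (ν := mat n s i0 i0)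
    intro v
    have h2 : mat n s = (mat n s i0 i0) • (1 : Matrix (Fin n) (Fin n) F₀) := by
      apply Matrix.map_injective j.injective
      ext a b
      have e1 := congrFun (congrFun h1 a) b
      have e2 := congrFun (congrFun h1 i0) i0
      simp only [Matrix.map_apply, Matrix.smul_apply, Matrix.one_apply, smul_eq_mul, if_true,
        mul_one] at e1 e2 ⊢
      rw [e1, map_mul, e2]
      split_ifs <;> simp
    rw [h2, smul_mulVec, one_mulVec]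
    simp
  · intro h
    obtain ⟨ν, -, hν⟩ := exists_scalar_of_mem_center hF₀ hn h
    apply mem_center_of_scalar (ν := j ν)
    intro v
    have h1 : mat n s = ν • (1 : Matrix (Fin n) (Fin n) F₀) :=
      Cfsg.Agent.Lib.Helper45.UAut.mat_eq_smul_one hν
    rw [mapSU_mat, h1]
    have : (ν • (1 : Matrix (Fin n) (Fin n) F₀)).map j = j ν • (1 : Matrix (Fin n) (Fin n) F) := by
      ext a b
      simp only [Matrix.map_apply, Matrix.smul_apply, Matrix.one_apply, smul_eq_mul]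
      split_ifs <;> simp
    rw [this, smul_mulVec, one_mulVec]

lemma pr_mapSU_eq_iff (hF : Fintype.card F = q ^ 2) (hF₀ : Fintype.card F₀ = q₀ ^ 2)
    (hn : 3 ≤ n) (j : F₀ →+* F) (hjq : ∀ x : F₀, j x ^ q = j (x ^ q₀))
    (a b : ↥(Cfsg.SU n F₀ q₀)) :
    pr (mapSU hF hF₀ j hjq a) = pr (mapSU hF hF₀ j hjq b) ↔ pr a = pr b := by
  rw [pr_eq_iff, pr_eq_iff, ← map_inv, ← map_mul, mapSU_mem_center_iff hF hF₀ hn]

/-- the induced map `PSU_n(q₀) → PSU_n(q)` -/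
noncomputable def mapPSU (hF : Fintype.card F = q ^ 2) (hF₀ : Fintype.card F₀ = q₀ ^ 2)
    (hn : 3 ≤ n) (j : F₀ →+* F) (hjq : ∀ x : F₀, j x ^ q = j (x ^ q₀)) :
    Cfsg.PSU n F₀ q₀ →* Cfsg.PSU n F q :=
  QuotientGroup.lift _ ((pr : ↥(Cfsg.SU n F q) →* Cfsg.PSU n F q).comp (mapSU hF hF₀ j hjq))
    (fun s hs => by
      show pr (mapSU hF hF₀ j hjq s) = 1
      rw [pr_eq_one_iff, mapSU_mem_center_iff hF hF₀ hn]
      exact hs)

lemma mapPSU_pr (hF : Fintype.card F = q ^ 2) (hF₀ : Fintype.card F₀ = q₀ ^ 2)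
    (hn : 3 ≤ n) (j : F₀ →+* F) (hjq : ∀ x : F₀, j x ^ q = j (x ^ q₀)) (s : ↥(Cfsg.SU n F₀ q₀)) :
    mapPSU hF hF₀ hn j hjq (pr s) = pr (mapSU hF hF₀ j hjq s) := rfl

lemma mapPSU_injective (hF : Fintype.card F = q ^ 2) (hF₀ : Fintype.card F₀ = q₀ ^ 2)
    (hn : 3 ≤ n) (j : F₀ →+* F) (hjq : ∀ x : F₀, j x ^ q = j (x ^ q₀)) :
    Function.Injective (mapPSU (n := n) hF hF₀ hn j hjq) := by
  intro a b hab
  obtain ⟨a, rfl⟩ := pr_surjective a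
  obtain ⟨b, rfl⟩ := pr_surjective b
  rw [mapPSU_pr, mapPSU_pr] at hab
  exact (pr_mapSU_eq_iff hF hF₀ hn j hjq a b).1 hab

lemma mapPSU_range (hF : Fintype.card F = q ^ 2) (hF₀ : Fintype.card F₀ = q₀ ^ 2)
    (hn : 3 ≤ n) (j : F₀ →+* F) (hjq : ∀ x : F₀, j x ^ q = j (x ^ q₀)) (σ : F ≃+* F)
    (hj : ∀ a : F, σ a = a ↔ a ∈ Set.range j) :
    (mapPSU (n := n) hF hF₀ hn j hjq).range = L0U σ := by
  ext l
  rw [mem_L0U_iff hF hF₀ j hjq σ hj]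
  constructor
  · rintro ⟨x, rfl⟩
    obtain ⟨s, rfl⟩ := pr_surjective x
    exact ⟨s, (mapPSU_pr hF hF₀ hn j hjq s).symm⟩
  · rintro ⟨s, rfl⟩
    exact ⟨pr s, mapPSU_pr hF hF₀ hn j hjq s⟩

/-- transport of "no nontrivial normal `p'`-subgroup" from `PSU_n(q₀)` to `L0U σ` -/
theorem L0U_core_of (hF : Fintype.card F = q ^ 2) (hF₀ : Fintype.card F₀ = q₀ ^ 2)
    (hn : 3 ≤ n) (j : F₀ →+* F) (hjq : ∀ x : F₀, j x ^ q = j (x ^ q₀)) (σ : F ≃+* F)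
    (hj : ∀ a : F, σ a = a ↔ a ∈ Set.range j) (p : ℕ)
    (hcore : ∀ N : Subgroup (Cfsg.PSU n F₀ q₀), N.Normal → (Nat.card ↥N).Coprime p → N = ⊥)
    (M : Subgroup (Cfsg.PSU n F q)) (hML : M ≤ L0U σ)
    (hinv : ∀ l ∈ L0U (n := n) (q := q) σ, ∀ x ∈ M, l * x * l⁻¹ ∈ M)
    (hc : (Nat.card ↥M).Coprime p) : M = ⊥ := by
  obtain ⟨f, hf⟩ : ∃ f : Cfsg.PSU n F₀ q₀ →* Cfsg.PSU n F q, f = mapPSU hF hF₀ hn j hjq := ⟨_, rfl⟩
  have hfinj : Function.Injective f := hf ▸ mapPSU_injective hF hF₀ hn j hjq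
  have hfrange : f.range = L0U σ := hf ▸ mapPSU_range hF hF₀ hn j hjq σ hj
  have hNn : (M.comap f).Normal := by
    constructor
    intro x hx t
    show f (t * x * t⁻¹) ∈ M
    rw [map_mul, map_mul, map_inv]
    exact hinv _ (hfrange ▸ ⟨t, rfl⟩) _ hx
  have hMr : M ≤ f.range := hfrange ▸ hML
  have hcard : Nat.card ↥(M.comap f) = Nat.card ↥M := by
    have e := (M.comap f).equivMapOfInjective f hfinj
    rw [Nat.card_congr e.toEquiv, Subgroup.map_comap_eq, inf_eq_right.2 hMr]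
  have h1 := hcore (M.comap f) hNn (by rw [hcard]; exact hc)
  rw [eq_bot_iff]
  intro l hl
  obtain ⟨x, rfl⟩ := hMr hl
  have : x ∈ M.comap f := hl
  rw [h1, Subgroup.mem_bot] at this
  rw [this, map_one]
  exact Subgroup.one_mem _

/-- the order of `L0U σ` -/
lemma card_L0U (hF : Fintype.card F = q ^ 2) (hF₀ : Fintype.card F₀ = q₀ ^ 2)
    (hn : 3 ≤ n) (j : F₀ →+* F) (hjq : ∀ x : F₀, j x ^ q = j (x ^ q₀)) (σ : F ≃+* F)
    (hj : ∀ a : F, σ a = a ↔ a ∈ Set.range j) :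
    Nat.card ↥(L0U (n := n) (q := q) σ) = Nat.card (Cfsg.PSU n F₀ q₀) := by
  rw [← mapPSU_range hF hF₀ hn j hjq σ hj]
  exact (Nat.card_congr (MonoidHom.ofInjective (mapPSU_injective hF hF₀ hn j hjq)).toEquiv).symm

end Cfsg.Agent.Lib.Helper45.UBal
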