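import Mathlib
import Cfsg.Agent.Lib.Helper45.BalUMap
import Cfsg.Agent.Lib.Helper5.AutPSUMain
import Cfsg.Agent.S0283
import Cfsg.Agent.Lib.Helper14.SU32

set_option autoImplicit false
set_option linter.unusedSimpArgs false
set_option linter.unusedVariables false
set_option linter.unusedSectionVars false
set_option linter.unnecessarySeqFocus false
set_option linter.style.haveILetI false

/-!
# Local balance for `PSU_n(q)`, the field case: the centralizer condition and the assembly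
-/

namespace Cfsg.Agent.Lib.Helper45.UBal

open Matrix Cfsg.Agent.Lib.Helper5.AutPSU Cfsg.Agent.Lib.Helper99 Cfsg.Agent.Lib.Helper99.SURoot
open Cfsg.Agent.Lib.Helper5.AutPSLn (ee tv tv_coe)
open Cfsg.Agent.Lib.Helper5.Bal (vmap vmap_smul vmap_ne_zero ucFrob ucFrob_apply ucFrob_ucFrob
  unit_tv_mem transvection_fix fc_mem_zpowers_of_fix)
open Cfsg.Agent.Lib.Helper45.SpAut (fixK mem_fixK)

variable {F : Type*} [Field F] [Fintype F] {q n : ℕ} {F₀ : Type*} [Field F₀] [Fintype F₀] {q₀ : ℕ}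

/-- an automorphism `GamU k * PhiU τ` fixing `pr x`, in terms of matrices -/
lemma mat_of_fixU (hF : Fintype.card F = q ^ 2) (hn : 3 ≤ n) (k : ↥(Cfsg.GU n F q)) (τ : F ≃+* F)
    (x : ↥(Cfsg.SU n F q))
    (h : (GamU k * PhiU τ : MulAut (Cfsg.PSU n F q)) (pr x) = pr x) :
    ∃ c : F, k.1.1 * (mat n x).map τ * (k.1⁻¹).1 = c • mat n x := by
  rw [MulAut.mul_apply, PhiU_pr, GamU_pr] at h
  obtain ⟨ν, -, hν⟩ := exists_smul_of_pr_eq hF hn h.symm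
  refine ⟨ν, ?_⟩
  rw [← fieldU_mat, ← conjU_mat]
  apply Matrix.ext_iff_mulVec.mpr
  intro v
  rw [hν, Matrix.smul_mulVec]

lemma jmap_vecMulVec (j : F₀ →+* F) (u w : Fin n → F₀) :
    (1 + Matrix.vecMulVec u w).map j = 1 + Matrix.vecMulVec (jmap j u) (jmap j w) := by
  ext a b
  simp only [Matrix.map_apply, Matrix.add_apply, Matrix.one_apply, Matrix.vecMulVec_apply, jmap,
    map_add, map_mul]
  split_ifs <;> simp

/-- **the centralizer condition**: an automorphism of `PSU_n(q)` fixing `L0U σ` pointwise is a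
power of `PhiU σ` -/
theorem cent_L0U (hF : Fintype.card F = q ^ 2) (hF₀ : Fintype.card F₀ = q₀ ^ 2) (hn : 3 ≤ n)
    (hs : ¬ (n = 3 ∧ q = 2)) (r : ℕ) [Fact r.Prime] [CharP F r]
    (j : F₀ →+* F) (hjq : ∀ x : F₀, j x ^ q = j (x ^ q₀)) (σ : F ≃+* F)
    (hj : ∀ a : F, σ a = a ↔ a ∈ Set.range j) (ν : MulAut (Cfsg.PSU n F q))
    (hν : ∀ l ∈ L0U (n := n) (q := q) σ, ν l = l) : ν ∈ Subgroup.zpowers (PhiU σ) := by
  obtain ⟨g, τ, rfl⟩ := exists_GamU_PhiU r hF hn hs ν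
  obtain ⟨φ₀, hφ₀d⟩ : ∃ φ₀ : F₀ ≃+* F₀, φ₀ = ucFrob hF₀ := ⟨_, rfl⟩
  have hφ₀ : ∀ a, φ₀ a = a ^ q₀ := fun a => by rw [hφ₀d]; exact ucFrob_apply hF₀ a
  have hφ₀2 : ∀ a, φ₀ (φ₀ a) = a := fun a => by rw [hφ₀d]; exact ucFrob_ucFrob hF₀ a
  obtain ⟨t, ht0, ht⟩ := Cfsg.Agent.Lib.Helper99.exists_trace_zero hF₀
  have ht' : t + φ₀ t = 0 := by rw [hφ₀]; exact ht
  have key : ∀ v₀ : Fin n → F₀, v₀ ≠ 0 → Cfsg.hermForm n F₀ q₀ v₀ v₀ = 0 →
      ∃ l : F, g.1.1 *ᵥ vmap τ (jmap j v₀) = l • jmap j v₀ := by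
    intro v₀ hv0 hiso
    have hiso' : vmap φ₀ v₀ ⬝ᵥ v₀ = 0 := by
      rw [hφ₀d, ← herm_eq_dot hF₀]
      exact hiso
    obtain ⟨hd, hmem⟩ := unit_tv_mem φ₀ hφ₀ hφ₀2 v₀ hiso' t ht'
    obtain ⟨x₀, hx₀⟩ : ∃ x₀ : ↥(Cfsg.SU n F₀ q₀), x₀ = ⟨tv v₀ (t • vmap φ₀ v₀), hmem⟩ := ⟨_, rfl⟩
    have hx₀m : mat n x₀ = 1 + Matrix.vecMulVec v₀ (t • vmap φ₀ v₀) := by
      rw [hx₀]
      exact tv_coe hd
    have hfix := hν _ ⟨_, mapSU_mem_FixSU hF hF₀ j hjq σ hj x₀, rfl⟩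
    obtain ⟨c, hc⟩ := mat_of_fixU hF hn g τ _ hfix
    rw [mapSU_mat, hx₀m, jmap_vecMulVec] at hc
    have hu : jmap j v₀ ≠ 0 := by
      intro h0
      apply hv0
      ext i
      have := congrFun h0 i
      exact j.injective (by simpa [jmap] using this)
    have hw0 : t • vmap φ₀ v₀ ≠ 0 := by
      intro h0
      rcases smul_eq_zero.1 h0 with h1 | h1
      · exact ht0 h1
      · exact vmap_ne_zero φ₀ hv0 h1
    have hw : jmap j (t • vmap φ₀ v₀) ≠ 0 := by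
      intro h0
      apply hw0
      ext i
      have := congrFun h0 i
      exact j.injective (by simpa [jmap] using this)
    have huw : jmap j (t • vmap φ₀ v₀) ⬝ᵥ jmap j v₀ = 0 := by
      have : jmap j (t • vmap φ₀ v₀) ⬝ᵥ jmap j v₀ = j ((t • vmap φ₀ v₀) ⬝ᵥ v₀) := by
        unfold dotProduct jmap
        rw [map_sum]
        exact Finset.sum_congr rfl (fun i _ => (map_mul j _ _).symm)
      rw [this, hd, map_zero]
    obtain ⟨⟨l, -, hl⟩, -⟩ := transvection_fix (by omega) g.1 τ hu hw huw c hc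
    exact ⟨l, hl⟩
  obtain ⟨hτ, l, hl⟩ := scalar_of_fix_isotropic hF₀ hn j g.1 τ key
  have hg1 : (GamU g : MulAut (Cfsg.PSU n F q)) = 1 := by
    rw [GamU_eq_one_iff hF hn]
    exact ⟨l, fun x => by rw [hl, smul_mulVec, one_mulVec]⟩
  rw [hg1, one_mul]
  have hτσ : τ ∈ Subgroup.zpowers σ := by
    apply fc_mem_zpowers_of_fix
    intro a ha
    obtain ⟨a₀, rfl⟩ := (hj a).1 ha
    exact hτ a₀
  obtain ⟨m, rfl⟩ := Subgroup.mem_zpowers_iff.1 hτσ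
  rw [map_zpow]
  exact Subgroup.zpow_mem_zpowers _ m

end Cfsg.Agent.Lib.Helper45.UBal
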