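import Mathlib
import Cfsg.Agent.Lib.Helper45.BalUField
import Cfsg.Agent.Lib.Helper47.BalUDvd
import Cfsg.Agent.Lib.Helper80.BalUExc

set_option autoImplicit false
set_option linter.unusedSimpArgs false
set_option linter.unusedVariables false
set_option linter.unusedSectionVars false
set_option linter.unnecessarySeqFocus false
set_option linter.style.haveILetI false

/-!
# Local balance for `PSU_n(q)`: the data of the skeleton for a field automorphism of odd order
-/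

namespace Cfsg.Agent.Lib.Helper5.BalU

open Matrix Cfsg.Agent.Lib.Helper5.AutPSU Cfsg.Agent.Lib.Helper45.UBal
open Cfsg.Agent.Lib.Helper45.SpAut (fixK mem_fixK)

variable {F : Type*} [Field F] [Fintype F] {q n : ℕ}

/-- BALU-FIELD: the field case; `L` = image of `SU_n` over the fixed field of `σ`. -/
theorem good_fieldU (hF : Fintype.card F = q ^ 2) (hn : 3 ≤ n) (hs : ¬ (n = 3 ∧ q = 2))
    {r : ℕ} [Fact r.Prime] [CharP F r] {p : ℕ} [Fact p.Prime] (hpr : p ≠ r) (hp2 : p ≠ 2)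
    (σ : F ≃+* F) (hσ : orderOf σ = p) :
    ∃ L : Subgroup (Cfsg.PSU n F q),
      Cfsg.Agent.Lib.Helper45.Balance.Good p (PhiU σ : MulAut (Cfsg.PSU n F q)) L := by
  classical
  have hp : p.Prime := Fact.out
  have hr : r.Prime := Fact.out
  have hcr : CharP F r := inferInstance
  obtain ⟨r', f, hr', hchar', hq⟩ := Cfsg.Agent.Lib.Helper5.exists_prime_pow hF
  have hrr : r' = r := CharP.eq F hchar' hcr
  subst hrr
  have hodd : Odd p := hp.odd_of_ne_two hp2
  obtain ⟨-, hK, hqq⟩ := Cfsg.Agent.Lib.Helper45.UAut.fixK_card hq hF σ p hσ hodd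
  obtain ⟨q₀, hq₀⟩ : ∃ q₀ : ℕ, q₀ = r' ^ (f / p) := ⟨_, rfl⟩
  rw [← hq₀] at hK hqq
  letI instK : Fintype ↥(fixK σ) := Fintype.ofFinite _
  have hF₀ : Fintype.card ↥(fixK σ) = q₀ ^ 2 := by
    rw [← Nat.card_eq_fintype_card]; exact hK
  obtain ⟨j, hjd⟩ : ∃ j : ↥(fixK σ) →+* F, j = (fixK σ).subtype := ⟨_, rfl⟩
  have hjv : ∀ x : ↥(fixK σ), j x = x.1 := fun x => by rw [hjd]; rfl
  have hj : ∀ a : F, σ a = a ↔ a ∈ Set.range j := by
    intro a
    constructor
    · intro ha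
      exact ⟨⟨a, ha⟩, hjv _⟩
    · rintro ⟨x, rfl⟩
      rw [hjv]
      exact x.2
  have hjq : ∀ x : ↥(fixK σ), j x ^ q = j (x ^ q₀) := by
    intro x
    rw [map_pow]
    exact hqq _ ((hj _).2 ⟨x, rfl⟩)
  have hcardL : Nat.card ↥(L0U (n := n) (q := q) σ) = Nat.card (Cfsg.PSU n ↥(fixK σ) q₀) :=
    card_L0U hF hF₀ hn j hjq σ hj
  -- the order of `PSU_3(2)`
  have h216 : n = 3 ∧ q₀ = 2 → Nat.card (Cfsg.PSU n ↥(fixK σ) q₀) ∣ 216 := by
    rintro ⟨rfl, rfl⟩
    have hF4 : Fintype.card ↥(fixK σ) = 4 := by rw [hF₀]; norm_num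
    have := Cfsg.Agent.Lib.Helper14.SU32.card_G hF4
    rw [← this]
    exact Subgroup.card_quotient_dvd_card _
  refine ⟨L0U σ, L0U_fix σ, L0U_norm σ, ?_, ?_, cent_L0U hF hF₀ hn hs r' j hjq σ hj⟩
  · -- simple
    intro hdvd M hML hinv hc
    have hpL := dvd_card_L0U hF hn σ hp2 hdvd
    rw [hcardL] at hpL
    apply L0U_core_of hF hF₀ hn j hjq σ hj p _ M hML hinv hc
    intro N hN hNc
    by_cases hexc : n = 3 ∧ q₀ = 2
    · have hp3 : p = 3 := by
        have h1 : p ∣ 216 := dvd_trans hpL (h216 hexc)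
        have h2 : (216 : ℕ) = 2 ^ 3 * 3 ^ 3 := by norm_num
        rw [h2] at h1
        rcases (Nat.Prime.dvd_mul hp).1 h1 with h3 | h3
        · exact absurd ((Nat.prime_dvd_prime_iff_eq hp Nat.prime_two).1 (hp.dvd_of_dvd_pow h3)) hp2
        · exact (Nat.prime_dvd_prime_iff_eq hp Nat.prime_three).1 (hp.dvd_of_dvd_pow h3)
      obtain ⟨rfl, rfl⟩ := hexc
      subst hp3
      exact psu32_core (by rw [hF₀]) N hN hNc
    · haveI := Cfsg.Agent.S0283.result hF₀ n hn hexc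
      rcases hN.eq_bot_or_eq_top with h | h
      · exact h
      · exfalso
        rw [h, Subgroup.card_top] at hNc
        exact (Nat.Prime.coprime_iff_not_dvd hp).1 hNc.symm hpL
  · -- nontrivial
    intro hbot
    have h1 : Nat.card (Cfsg.PSU n ↥(fixK σ) q₀) = 1 := by
      rw [← hcardL, hbot, Subgroup.card_bot]
    by_cases hexc : n = 3 ∧ q₀ = 2
    · obtain ⟨rfl, rfl⟩ := hexc
      have hF4 : Fintype.card ↥(fixK σ) = 4 := by rw [hF₀]; norm_num
      obtain ⟨N, -, hN9, -, -⟩ := Cfsg.Agent.Lib.Helper14.SU32.main hF4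
      have := Subgroup.card_dvd_of_le (le_top : N ≤ ⊤)
      rw [Subgroup.card_top, hN9, h1] at this
      omega
    · haveI := Cfsg.Agent.S0283.result hF₀ n hn hexc
      haveI : Nontrivial (Cfsg.PSU n ↥(fixK σ) q₀) := IsSimpleGroup.toNontrivial
      have hfin : Finite (Cfsg.PSU n ↥(fixK σ) q₀) := Nat.finite_of_card_ne_zero (by omega)
      have := Finite.one_lt_card (α := Cfsg.PSU n ↥(fixK σ) q₀)
      omega

end Cfsg.Agent.Lib.Helper5.BalU
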