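import Mathlib
import Cfsg.Agent.Lib.Helper45.BalUGood

set_option autoImplicit false
set_option linter.unusedSimpArgs false
set_option linter.unusedVariables false
set_option linter.unusedSectionVars false
set_option linter.unnecessarySeqFocus false
set_option linter.style.haveILetI false

/-!
# Local balance for `PSU_n(q)` and an automorphism of odd prime order
-/

namespace Cfsg.Agent.Lib.Helper45.UBal

open Matrix Cfsg.Agent.Lib.Helper5.AutPSU Cfsg.Agent.Lib.Helper45.UAut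
open Cfsg.Agent.Lib.Helper45.AutPSL (tw pow_eq_tw)
open Cfsg.Agent.Lib.Helper45.SpAut (fixK mem_fixK)

variable {F : Type*} [Field F] [Fintype F] {q n : ℕ}

/-- the centre of `PSU_n(q)` is trivial -/
lemma conjU_injective (hF : Fintype.card F = q ^ 2) (hn : 3 ≤ n) :
    Function.Injective (MulAut.conj : Cfsg.PSU n F q →* MulAut (Cfsg.PSU n F q)) := by
  rw [injective_iff_map_eq_one]
  intro k hk
  obtain ⟨x, rfl⟩ := pr_surjective k
  rw [conj_pr, GamU_eq_one_iff hF hn] at hk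
  obtain ⟨a, ha⟩ := hk
  rw [pr_eq_one_iff]
  exact mem_center_of_scalar (ν := a) ha

/-- **local balance for `PSU_n(q)`** and a non-inner-diagonal automorphism of odd prime order
different from the characteristic -/
theorem psu_balance_odd (hF : Fintype.card F = q ^ 2) (hn : 3 ≤ n) (hs : ¬ (n = 3 ∧ q = 2))
    {r : ℕ} [Fact r.Prime] [CharP F r]
    (A : Subgroup (MulAut (Cfsg.PSU n F q))) (hinn : ∀ k : Cfsg.PSU n F q, MulAut.conj k ∈ A)
    {p : ℕ} [Fact p.Prime] (hpr : p ≠ r) (hp2 : p ≠ 2)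
    (β : MulAut (Cfsg.PSU n F q)) (hord : orderOf β = p)
    (hnot : ¬ Cfsg.IsInnerDiagonalAutPSU β) :
    Cfsg.pPrimeCore p ↥(A ⊓ Subgroup.centralizer {β}) ≠ ⊥ ↔
      ((∃ γ φ : MulAut (Cfsg.PSU n F q), Cfsg.IsInnerDiagonalAutPSU γ ∧
          (∃ σ : F ≃+* F, Cfsg.IsFieldAutPSUOf σ φ) ∧ β = φ.trans γ) ∧
        Nat.Coprime p (Nat.card ↥(MonoidHom.eqLocus β.toMonoidHom
          (MonoidHom.id (Cfsg.PSU n F q))))) := by
  classical
  have hp : p.Prime := Fact.out
  have hcr : CharP F r := inferInstance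
  obtain ⟨g, σ, hβ⟩ := exists_GamU_PhiU r hF hn hs β
  have hβp : β ^ p = 1 := by rw [← hord]; exact pow_orderOf_eq_one β
  have hσ1 : σ ≠ 1 := by
    rintro rfl
    apply hnot
    rw [isInnerDiagonal_iff]
    exact ⟨g, by rw [hβ, map_one, mul_one]⟩
  have hσp : σ ^ p = 1 := by
    have e1 := pow_eq_tw (GamU : ↥(Cfsg.GU n F q) →* MulAut (Cfsg.PSU n F q))
      (PhiU σ) (guS σ) (PhiU_mul_GamU' σ) g p
    rw [← hβ, hβp, PhiU_pow] at e1
    have e2 : (GamU (tw (guS σ) g p) * PhiU (σ ^ p) : MulAut (Cfsg.PSU n F q)) =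
        GamU (1 : ↥(Cfsg.GU n F q)) * PhiU (1 : F ≃+* F) := by
      rw [← e1, map_one, map_one, mul_one]
    exact nf_uniqueU hF hn e2
  have hσord : orderOf σ = p := orderOf_eq_prime hσp hσ1
  -- the fixed field
  obtain ⟨r', f, hr', hchar', hq⟩ := Cfsg.Agent.Lib.Helper5.exists_prime_pow hF
  have hrr : r' = r := CharP.eq F hchar' hcr
  subst hrr
  have hodd : Odd p := hp.odd_of_ne_two hp2
  obtain ⟨-, hK, hqq⟩ := fixK_card hq hF σ p hσord hodd
  obtain ⟨h, hh⟩ := field_caseU hF hn σ p hσord hp.pos _ hK hqq g (by rw [← hβ]; exact hβp)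
  rw [← hβ] at hh
  obtain ⟨L, hL⟩ := Cfsg.Agent.Lib.Helper5.BalU.good_fieldU hF hn hs hpr hp2 σ hσord
  have hGood := hL.conj (GamU h)
  rw [← hh] at hGood
  have hβInn : β ∉ Cfsg.Inn (Cfsg.PSU n F q) := by
    rintro ⟨k, rfl⟩
    apply hnot
    obtain ⟨s, rfl⟩ := pr_surjective k
    rw [isInnerDiagonal_iff]
    exact ⟨_, conj_pr s⟩
  have hiff := hGood.core_ne_bot_iff (conjU_injective hF hn) A hinn hord hβInn
  rw [hiff]
  constructor
  · intro hc
    refine ⟨⟨GamU g, PhiU σ, ?_, ⟨σ, ?_⟩, ?_⟩, hc⟩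
    · rw [isInnerDiagonal_iff]; exact ⟨g, rfl⟩
    · rw [isFieldAutOf_iff]
    · rw [hβ]; rfl
  · exact fun h => h.2

end Cfsg.Agent.Lib.Helper45.UBal
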