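import Cfsg.Agent.Lib.Helper45.Amalgam

/-!
# Critical pairs in the coset graph of a characteristic `p` amalgam pair
-/

set_option autoImplicit false
open Cfsg

namespace Cfsg.Agent.Lib.Helper45

section graph

theorem exists_adj_dist_succ {V : Type*} {G : SimpleGraph V} (hG : G.Connected) {u v : V}
    (huv : u ≠ v) : ∃ w, G.Adj u w ∧ G.dist w v + 1 = G.dist u v := by
  obtain ⟨q, hq⟩ := hG.exists_walk_length_eq_dist u v
  cases q with
  | nil => exact absurd rfl huv
  | @cons _ w _ hadj q =>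
    refine ⟨w, hadj, ?_⟩
    rw [SimpleGraph.Walk.length_cons] at hq
    have h1 : G.dist w v ≤ q.length := SimpleGraph.dist_le q
    have h2 : G.dist u v ≤ G.dist u w + G.dist w v := hG.dist_triangle
    have h3 : G.dist u w = 1 := SimpleGraph.dist_eq_one_iff_adj.mpr hadj
    omega

end graph

section critical

variable {X : Type*} [Group X] {M₁ M₂ : Subgroup X}

theorem vertexZ_le_neighbourKernel_of_dist_lt {p : ℕ} (δ μ : CosetVertex M₁ M₂)
    (hlt : (cosetGraph M₁ M₂).dist δ μ < criticalDistance p M₁ M₂) :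
    vertexZ p δ ≤ neighbourKernel μ := by
  by_contra hcon
  have : criticalDistance p M₁ M₂ ≤ (cosetGraph M₁ M₂).dist δ μ :=
    Nat.sInf_le ⟨δ, μ, rfl, hcon⟩
  omega

theorem neighbourKernel_le_stabilizer (μ : CosetVertex M₁ M₂) :
    neighbourKernel μ ≤ MulAction.stabilizer X μ := by
  unfold neighbourKernel
  exact inf_le_left

theorem neighbourKernel_le_stabilizer_of_adj {μ ν : CosetVertex M₁ M₂}
    (hadj : (cosetGraph M₁ M₂).Adj μ ν) :
    neighbourKernel μ ≤ MulAction.stabilizer X ν := by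
  unfold neighbourKernel
  refine inf_le_right.trans ?_
  exact (iInf_le _ ν).trans (iInf_le _ hadj)

theorem omegaOneCenter_le_vertexZ {p : ℕ} (δ : CosetVertex M₁ M₂)
    (S : Sylow p ↥(MulAction.stabilizer X δ)) :
    omegaOne p (((S : Subgroup ↥(MulAction.stabilizer X δ)).map (MulAction.stabilizer X δ).subtype) ⊓
      Subgroup.centralizer (((S : Subgroup ↥(MulAction.stabilizer X δ)).map
        (MulAction.stabilizer X δ).subtype : Subgroup X) : Set X)) ≤ vertexZ p δ := by
  unfold vertexZ sylowCenterClosure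
  exact le_iSup (fun S : Sylow p ↥(MulAction.stabilizer X δ) =>
    omegaOne p (((S : Subgroup ↥(MulAction.stabilizer X δ)).map (MulAction.stabilizer X δ).subtype) ⊓
      Subgroup.centralizer (((S : Subgroup ↥(MulAction.stabilizer X δ)).map
        (MulAction.stabilizer X δ).subtype : Subgroup X) : Set X))) S

theorem vertexZ_le_vertexQ {p : ℕ} [Fact p.Prime] (h : IsCharPAmalgamPair p M₁ M₂)
    (δ : CosetVertex M₁ M₂) : vertexZ p δ ≤ vertexQ p δ := by
  obtain ⟨μ, hμ⟩ := exists_adj δ
  have hgp := goodPair_of_adj h hμ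
  have := hgp.finH
  unfold vertexZ sylowCenterClosure
  apply iSup_le
  intro S
  refine (omegaOne_le p _).trans ?_
  refine le_trans ?_ hgp.charH
  intro z hz
  refine ⟨?_, Subgroup.centralizer_le (pCoreOf_le_sylow S) hz.2⟩
  obtain ⟨a, -, rfl⟩ := hz.1
  exact a.2

theorem vertexZ_le_neighbourKernel_self {p : ℕ} [Fact p.Prime] (h : IsCharPAmalgamPair p M₁ M₂)
    (δ : CosetVertex M₁ M₂) : vertexZ p δ ≤ neighbourKernel δ :=
  (vertexZ_le_vertexQ h δ).trans (vertexQ_le_neighbourKernel h δ)

theorem cosetGraph_connected_of_isCharPAmalgamPair {p : ℕ} (h : IsCharPAmalgamPair p M₁ M₂) :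
    (cosetGraph M₁ M₂).Connected :=
  cosetGraph_connected M₁ M₂ h.1.1

theorem criticalPair_ne {p : ℕ} [Fact p.Prime] (h : IsCharPAmalgamPair p M₁ M₂)
    {α α' : CosetVertex M₁ M₂} (hc : IsCriticalPair p α α') : α ≠ α' := by
  rintro rfl
  exact hc.1 (vertexZ_le_neighbourKernel_self h α)

/-- For a critical pair `(α, α')`, `Z_α ≤ G_{α'}`. -/
theorem criticalPair_vertexZ_le_stabilizer {p : ℕ} [Fact p.Prime]
    (h : IsCharPAmalgamPair p M₁ M₂)
    {α α' : CosetVertex M₁ M₂} (hc : IsCriticalPair p α α') :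
    vertexZ p α ≤ MulAction.stabilizer X α' := by
  have hconn := cosetGraph_connected_of_isCharPAmalgamPair h
  have hne := criticalPair_ne h hc
  obtain ⟨β, hβ, hd⟩ := exists_adj_dist_succ hconn hne.symm
  have hlt : (cosetGraph M₁ M₂).dist α β < criticalDistance p M₁ M₂ := by
    rw [← hc.2, SimpleGraph.dist_comm, SimpleGraph.dist_comm (u := α)]
    omega
  exact (vertexZ_le_neighbourKernel_of_dist_lt α β hlt).trans
    (neighbourKernel_le_stabilizer_of_adj hβ.symm)

/-- For a critical pair `(α, α')`, `Z_{α'} ≤ G_α`. -/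
theorem criticalPair_vertexZ_le_stabilizer' {p : ℕ} [Fact p.Prime]
    (h : IsCharPAmalgamPair p M₁ M₂)
    {α α' : CosetVertex M₁ M₂} (hc : IsCriticalPair p α α') :
    vertexZ p α' ≤ MulAction.stabilizer X α := by
  have hconn := cosetGraph_connected_of_isCharPAmalgamPair h
  have hne := criticalPair_ne h hc
  obtain ⟨β, hβ, hd⟩ := exists_adj_dist_succ hconn hne
  have hlt : (cosetGraph M₁ M₂).dist α' β < criticalDistance p M₁ M₂ := by
    rw [← hc.2, SimpleGraph.dist_comm]
    omega
  exact (vertexZ_le_neighbourKernel_of_dist_lt α' β hlt).trans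
    (neighbourKernel_le_stabilizer_of_adj hβ.symm)

theorem criticalPair_commutator_le {p : ℕ} [Fact p.Prime]
    (h : IsCharPAmalgamPair p M₁ M₂)
    {α α' : CosetVertex M₁ M₂} (hc : IsCriticalPair p α α') :
    ⁅vertexZ p α, vertexZ p α'⁆ ≤ vertexZ p α ⊓ vertexZ p α' := by
  apply commutator_le_inf_of_le_normalizer
  · exact (criticalPair_vertexZ_le_stabilizer h hc).trans
      (le_normalizer_sylowCenterClosure p _)
  · exact (criticalPair_vertexZ_le_stabilizer' h hc).trans
      (le_normalizer_sylowCenterClosure p _)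

/-- For a critical pair `(α, α')`, `Z_α` is not `Ω₁(Z(T))` for a Sylow subgroup `T` of `G_α`. -/
theorem criticalPair_vertexZ_ne_omegaOne_center {p : ℕ} [Fact p.Prime]
    (h : IsCharPAmalgamPair p M₁ M₂)
    {α α' : CosetVertex M₁ M₂} (hc : IsCriticalPair p α α')
    (S : Sylow p ↥(MulAction.stabilizer X α)) (T : Subgroup X)
    (hT : T = (S : Subgroup ↥(MulAction.stabilizer X α)).map (MulAction.stabilizer X α).subtype) :
    vertexZ p α ≠ omegaOne p (T ⊓ Subgroup.centralizer (T : Set X)) := by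
  intro heq
  have hconn := cosetGraph_connected_of_isCharPAmalgamPair h
  have hne := criticalPair_ne h hc
  obtain ⟨β, hβ, hd⟩ := exists_adj_dist_succ hconn hne
  have hlt : (cosetGraph M₁ M₂).dist β α' < criticalDistance p M₁ M₂ := by
    rw [← hc.2]
    omega
  have hgp := goodPair_of_adj h hβ
  have hfα := hgp.finH
  have hfe : Finite ↥(MulAction.stabilizer X α ⊓ MulAction.stabilizer X β) :=
    Finite.of_injective _ (Subgroup.inclusion_injective
      (inf_le_left : MulAction.stabilizer X α ⊓ MulAction.stabilizer X β ≤ MulAction.stabilizer X α))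
  obtain ⟨S₀⟩ : Nonempty (Sylow p ↥(MulAction.stabilizer X α ⊓ MulAction.stabilizer X β)) :=
    inferInstance
  obtain ⟨P₁, hP₁⟩ := hgp.exists_sylow_left S₀
  obtain ⟨P₂, hP₂⟩ := hgp.exists_sylow_right S₀
  obtain ⟨g, hg⟩ := MulAction.exists_smul_eq (↥(MulAction.stabilizer X α)) S P₁
  have hT₀ : (P₂ : Subgroup ↥(MulAction.stabilizer X β)).map (MulAction.stabilizer X β).subtype =
      T.map (MulAut.conj (g : X)).toMonoidHom := by
    rw [hP₂, ← hP₁, ← hg, sylow_smul_map_subtype, hT]
  have h1 : vertexZ p α = (vertexZ p α).map (MulAut.conj (g : X)).toMonoidHom :=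
    (map_conj_eq_of_mem_normalizer (le_normalizer_sylowCenterClosure p _ g.2)).symm
  have h2 : (vertexZ p α).map (MulAut.conj (g : X)).toMonoidHom ≤
      omegaOne p ((T.map (MulAut.conj (g : X)).toMonoidHom) ⊓
        Subgroup.centralizer ((T.map (MulAut.conj (g : X)).toMonoidHom : Subgroup X) : Set X)) := by
    rw [heq]
    exact omegaOne_map_le p _ (center_map_le _ _)
  have h3 : vertexZ p α ≤ vertexZ p β := by
    rw [h1]
    refine h2.trans ?_
    rw [← hT₀]
    exact omegaOneCenter_le_vertexZ β P₂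
  exact hc.1 (h3.trans (vertexZ_le_neighbourKernel_of_dist_lt β α' hlt))

end critical

end Cfsg.Agent.Lib.Helper45
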