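import Mathlib
import Cfsg.Agent.Lib.Helper47.Asym2
import Cfsg.Agent.Lib.Helper32.RelSylow
import Cfsg.Agent.Lib.Helper32.PPrimeP
import Cfsg.Agent.Lib.Helper96.Wielandt

set_option autoImplicit false

/-!
General lemmas used for families of subgroups permuted transitively (MSS, p-minimal / p-irreducible
groups generated by such families).
-/

namespace Cfsg.Agent.Lib.Helper45

open Subgroup
open scoped Pointwise

section general
variable {K : Type*} [Group K] [Finite K] {p : ℕ} [hp : Fact p.Prime]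

/-- If the normal subgroup `C` contains all `p'`-elements, then `C T = K` for every Sylow
`p`-subgroup `T`. -/
theorem sup_sylow_eq_top (C : Subgroup K) [hCn : C.Normal]
    (hC : ∀ k : K, (orderOf k).Coprime p → k ∈ C) (T : Sylow p K) :
    C ⊔ (T : Subgroup K) = ⊤ := by
  have hpp : p.Prime := hp.out
  have hq : IsPGroup p (K ⧸ C) := by
    intro q
    obtain ⟨k, rfl⟩ := QuotientGroup.mk_surjective q
    have hk0 : orderOf k ≠ 0 := (orderOf_pos k).ne'
    obtain ⟨e, m, hm, hkm⟩ := Nat.exists_eq_pow_mul_and_not_dvd hk0 p hpp.ne_one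
    refine ⟨e, ?_⟩
    have hord : orderOf (k ^ (p ^ e)) = m := by
      rw [orderOf_pow' k (pow_ne_zero e hpp.ne_zero), hkm, Nat.gcd_eq_right (Dvd.intro _ rfl),
        Nat.mul_div_cancel_left m (pow_pos hpp.pos e)]
    have hcop : (orderOf (k ^ (p ^ e))).Coprime p := by
      rw [hord]; exact ((Nat.Prime.coprime_iff_not_dvd hpp).mpr hm).symm
    have hmem := hC _ hcop
    rw [← QuotientGroup.mk_pow]
    exact (QuotientGroup.eq_one_iff _).mpr hmem
  obtain ⟨n, hn⟩ := IsPGroup.iff_card.mp hq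
  have hidx : C.index = p ^ n := by rw [Subgroup.index_eq_card]; exact hn
  rw [← Subgroup.index_eq_one]
  have h1 : (C ⊔ (T : Subgroup K)).index ∣ p ^ n := hidx ▸ Subgroup.index_dvd_of_le le_sup_left
  have h2 : (C ⊔ (T : Subgroup K)).index ∣ (T : Subgroup K).index :=
    Subgroup.index_dvd_of_le le_sup_right
  obtain ⟨j, _, hj⟩ := (Nat.dvd_prime_pow hpp).mp h1
  rcases Nat.eq_zero_or_pos j with hj0 | hjpos
  · rw [hj, hj0, pow_zero]
  · exfalso
    apply T.not_dvd_index
    refine dvd_trans ?_ h2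
    rw [hj]
    exact dvd_pow_self p hjpos.ne'

/-- Conjugacy of relative Sylow subgroups inside a subgroup `M`. -/
theorem relSylow_conj {M A B : Subgroup K} (hAM : A ≤ M) (hA : IsPGroup p A)
    (hAi : ¬ p ∣ A.relIndex M) (hBM : B ≤ M) (hB : IsPGroup p B)
    (hcard : Nat.card B = Nat.card A) :
    ∃ m ∈ M, B = A.map (MulAut.conj m).toMonoidHom := by
  have hA' : IsPGroup p (A.subgroupOf M) := hA.comap_subtype
  let SA : Sylow p M := IsPGroup.toSylow hA' hAi
  have hB' : IsPGroup p (B.subgroupOf M) := hB.comap_subtype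
  obtain ⟨SB, hSB⟩ := hB'.exists_le_sylow
  obtain ⟨m, hm⟩ := MulAction.exists_smul_eq M SA SB
  have hcardSB : Nat.card (SB : Subgroup M) = Nat.card (A.subgroupOf M) := by
    rw [← hm]
    exact (Nat.card_congr (Sylow.equivSMul SA m).toEquiv).symm
  have hcB : Nat.card (B.subgroupOf M) = Nat.card B := by
    rw [← Subgroup.card_map_of_injective M.subtype_injective, Subgroup.subgroupOf_map_subtype,
      inf_of_le_left hBM]
  have hcA : Nat.card (A.subgroupOf M) = Nat.card A := by
    rw [← Subgroup.card_map_of_injective M.subtype_injective, Subgroup.subgroupOf_map_subtype,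
      inf_of_le_left hAM]
  have hEq : B.subgroupOf M = (SB : Subgroup M) :=
    Subgroup.eq_of_le_of_card_ge hSB (by rw [hcardSB, hcA, hcB, hcard])
  refine ⟨m, m.2, ?_⟩
  have h1 : B = (B.subgroupOf M).map M.subtype := by
    rw [Subgroup.subgroupOf_map_subtype, inf_of_le_left hBM]
  rw [h1, hEq, ← hm]
  have : ((m • SA : Sylow p M) : Subgroup M) = MulAut.conj m • (A.subgroupOf M) := rfl
  rw [this]
  ext x
  constructor
  · rintro ⟨y, hy, rfl⟩
    rw [SetLike.mem_coe, Subgroup.mem_pointwise_smul_iff_inv_smul_mem] at hy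
    refine ⟨(m : K)⁻¹ * (y : K) * (m : K), ?_, ?_⟩
    · have := Subgroup.mem_subgroupOf.mp hy
      simpa [MulAut.smul_def, mul_assoc] using this
    · simp [MulAut.conj_apply, mul_assoc]
  · rintro ⟨a, ha, rfl⟩
    refine ⟨⟨(m : K) * a * (m : K)⁻¹, M.mul_mem (M.mul_mem m.2 (hAM ha)) (M.inv_mem m.2)⟩, ?_, ?_⟩
    · rw [SetLike.mem_coe, Subgroup.mem_pointwise_smul_iff_inv_smul_mem, Subgroup.mem_subgroupOf]
      simpa [MulAut.smul_def, mul_assoc] using ha
    · simp [MulAut.conj_apply]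

omit [Finite K] hp in
/-- Dedekind's law with a normal factor. -/
theorem le_inf_sup_of_le_sup {Q E Y : Subgroup K} (hQn : E ≤ normalizer (Q : Set K))
    (hQY : Q ≤ Y) (hY : Y ≤ E ⊔ Q) : Y ≤ (Y ⊓ E) ⊔ Q := by
  intro y hy
  obtain ⟨e, he, q, hq, rfl⟩ :=
    Cfsg.Agent.Lib.Helper47.exists_mul_of_mem_sup_normalizer hQn (hY hy)
  have he' : e ∈ Y := by
    have : e = (e * q) * q⁻¹ := by group
    rw [this]
    exact Y.mul_mem hy (Y.inv_mem (hQY hq))
  exact Subgroup.mul_mem_sup (Subgroup.mem_inf.mpr ⟨he', he⟩) hq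

end general

end Cfsg.Agent.Lib.Helper45
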