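import Mathlib
import Cfsg.Agent.Lib.Helper94.Iso8bDefs

/-!
# ISO8B-D1: the parity of the fixed space flips under an orthogonal transvection (char 2)
-/

set_option autoImplicit false

namespace Cfsg.Agent.Lib.Helper94.Iso8

open Module QuadraticMap Cfsg.Agent.Lib.Helper43

universe u v

section abs
variable {F : Type v} [Field F]

/-- hyperplane section: the dimension drops by one exactly when the subspace is not inside the
kernel of the functional -/
theorem d1_hyper {V : Type u} [AddCommGroup V] [Module F V] [FiniteDimensional F V]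
    (φ : V →ₗ[F] F) (S : Submodule F V) :
    (S ≤ LinearMap.ker φ → finrank F S = finrank F (S ⊓ LinearMap.ker φ : Submodule F V)) ∧
    (¬ S ≤ LinearMap.ker φ →
      finrank F S = finrank F (S ⊓ LinearMap.ker φ : Submodule F V) + 1) := by
  set ψ : S →ₗ[F] F := φ ∘ₗ S.subtype with hψ
  have h1 := LinearMap.finrank_range_add_finrank_ker ψ
  have h2 : (LinearMap.ker ψ).map S.subtype = S ⊓ LinearMap.ker φ := by
    ext x
    simp only [Submodule.mem_map, LinearMap.mem_ker, Submodule.mem_inf, hψ, LinearMap.comp_apply,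
      Submodule.subtype_apply]
    constructor
    · rintro ⟨y, hy, rfl⟩
      exact ⟨y.2, hy⟩
    · rintro ⟨hx, hx0⟩
      exact ⟨⟨x, hx⟩, hx0, rfl⟩
  have h3 : finrank F (LinearMap.ker ψ) = finrank F (S ⊓ LinearMap.ker φ : Submodule F V) := by
    rw [← h2, Submodule.finrank_map_subtype_eq]
  refine ⟨fun hS => ?_, fun hS => ?_⟩
  · have hr : LinearMap.range ψ = ⊥ := by
      rw [LinearMap.range_eq_bot]
      ext y
      exact hS y.2
    rw [hr, finrank_bot] at h1
    omega
  · have hr : LinearMap.range ψ = ⊤ := by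
      rw [SetLike.not_le_iff_exists] at hS
      obtain ⟨y, hyS, hy⟩ := hS
      rw [LinearMap.mem_ker] at hy
      rw [LinearMap.range_eq_top]
      intro c
      refine ⟨(c / φ y) • ⟨y, hyS⟩, ?_⟩
      rw [map_smul, hψ, LinearMap.comp_apply, Submodule.subtype_apply, smul_eq_mul,
        div_mul_cancel₀ _ hy]
    rw [hr, finrank_top, finrank_self] at h1
    omega

variable {V : Type u} [AddCommGroup V] [Module F V]

/-- membership in the fixed space of `t_v g` -/
theorem d1_key (h2 : (2 : F) = 0) (Q : QuadraticForm F V) (g : OG Q) (v : V) (hv : Q v ≠ 0)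
    (x : V) :
    x ∈ fixSub (otv h2 Q v hv * g).1 ↔ g.1 x = x + ((Q v)⁻¹ * polar Q v x) • v := by
  rw [mem_fixSub, ← otvLin_apply]
  show otvLin Q v (g.1 x) = x ↔ _
  constructor
  · intro h
    rw [← h, otvLin_otvLin h2]
    rw [h]
  · intro h
    rw [h, otvLin_otvLin h2]

/-- if `v` lies in the image of `g - 1` then the fixed space of `g` is inside `v^⊥` -/
theorem d1_le_of_range (Q : QuadraticForm F V) (g : OG Q) (v w : V) (hw : g.1 w - w = v) :
    fixSub g.1 ≤ LinearMap.ker (polarBilin Q v) := by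
  intro x hx
  rw [mem_fixSub] at hx
  rw [LinearMap.mem_ker, polarBilin_apply_apply, ← hw, polar_sub_left]
  nth_rewrite 1 [← hx]
  rw [OG_polar, sub_self]

/-- if the fixed space of `g` is inside `v^⊥` then `v` lies in the image of `g - 1` -/
theorem d1_range_of_le [FiniteDimensional F V] (Q : QuadraticForm F V)
    (hnd : (polarBilin Q).Nondegenerate) (g : OG Q) (v : V)
    (hle : fixSub g.1 ≤ LinearMap.ker (polarBilin Q v)) : ∃ w, g.1 w - w = v := by
  set R : Submodule F V := LinearMap.range ((g.1 : V →ₗ[F] V) - LinearMap.id) with hR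
  have hrefl : (polarBilin Q).IsRefl := by
    intro x y h
    rw [polarBilin_apply_apply, polar_comm] at h
    exact h
  have hRR := LinearMap.BilinForm.orthogonal_orthogonal hnd hrefl R
  have hvR : v ∈ LinearMap.BilinForm.orthogonal (polarBilin Q)
      (LinearMap.BilinForm.orthogonal (polarBilin Q) R) := by
    rw [LinearMap.BilinForm.mem_orthogonal_iff]
    intro y hy
    rw [LinearMap.BilinForm.mem_orthogonal_iff] at hy
    have hfix : g.1 y = y := by
      have h0 : g.1 y - y = 0 := by
        apply hnd.2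
        intro x'
        obtain ⟨x, rfl⟩ := g.1.surjective x'
        have h1 := hy (g.1 x - x) ⟨x, by simp⟩
        rw [polarBilin_apply_apply, polar_sub_left] at h1
        rw [polarBilin_apply_apply, polar_sub_right, OG_polar]
        rw [sub_eq_zero] at h1
        rw [h1, sub_self]
      exact sub_eq_zero.1 h0
    have hy' : y ∈ fixSub g.1 := (mem_fixSub g.1 y).2 hfix
    have h1 := hle hy'
    rw [LinearMap.mem_ker, polarBilin_apply_apply] at h1
    rw [polarBilin_apply_apply, polar_comm]
    exact h1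
  rw [hRR] at hvR
  obtain ⟨w, hw⟩ := hvR
  refine ⟨w, ?_⟩
  rw [← hw]
  simp

/-- ISO8B-D1 (the parity of the fixed space flips under an orthogonal transvection). -/
theorem fix_parity {V : Type u} [AddCommGroup V] [Module F V] [FiniteDimensional F V]
    (h2 : (2 : F) = 0) (Q : QuadraticForm F V)
    (hnd : (polarBilin Q).Nondegenerate) (g : OG Q) (v : V) (hv : Q v ≠ 0) :
    Odd (finrank F (fixSub (otv h2 Q v hv * g).1) + finrank F (fixSub g.1)) := by
  set φ : V →ₗ[F] F := polarBilin Q v with hφdef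
  have hφ : ∀ x, φ x = polar Q v x := fun x => rfl
  have key := d1_key h2 Q g v hv
  have hinf : fixSub (otv h2 Q v hv * g).1 ⊓ LinearMap.ker φ = fixSub g.1 ⊓ LinearMap.ker φ := by
    ext x
    simp only [Submodule.mem_inf, LinearMap.mem_ker, hφ, key, mem_fixSub]
    constructor
    · rintro ⟨h1, h0⟩
      rw [h0, mul_zero, zero_smul, add_zero] at h1
      exact ⟨h1, h0⟩
    · rintro ⟨h1, h0⟩
      refine ⟨?_, h0⟩
      rw [h0, mul_zero, zero_smul, add_zero]
      exact h1
  have e1 := d1_hyper φ (fixSub (otv h2 Q v hv * g).1)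
  have e2 := d1_hyper φ (fixSub g.1)
  rw [hinf] at e1
  -- not both inside `v^⊥`
  have h3a : ¬ (fixSub g.1 ≤ LinearMap.ker φ ∧
      fixSub (otv h2 Q v hv * g).1 ≤ LinearMap.ker φ) := by
    rintro ⟨hg, hh⟩
    obtain ⟨w, hw⟩ := d1_range_of_le Q hnd g v hg
    have hgw : g.1 w = w + v := by rw [← hw]; abel
    have hQ : Q v = polar Q v w := by
      have h1 : Q (g.1 w) = Q w := g.2 w
      rw [hgw] at h1
      have h3 : Q (w + v) = Q w + Q v + polar Q w v := by
        rw [polar]; ring
      rw [h3, polar_comm] at h1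
      have h4 : Q v + polar Q v w = 0 := by linear_combination h1
      linear_combination h4 - (polar Q v w) * h2
    have hwmem : w ∈ fixSub (otv h2 Q v hv * g).1 := by
      rw [key, ← hQ, inv_mul_cancel₀ hv, one_smul, hgw]
    have h5 := hh hwmem
    rw [LinearMap.mem_ker, hφ, ← hQ] at h5
    exact hv h5
  -- at least one inside `v^⊥`
  have h3b : ¬ fixSub (otv h2 Q v hv * g).1 ≤ LinearMap.ker φ →
      fixSub g.1 ≤ LinearMap.ker φ := by
    intro hh
    rw [SetLike.not_le_iff_exists] at hh
    obtain ⟨y, hy, hy0⟩ := hh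
    rw [LinearMap.mem_ker, hφ] at hy0
    rw [key] at hy
    have hc : (Q v)⁻¹ * polar Q v y ≠ 0 := mul_ne_zero (inv_ne_zero hv) hy0
    apply d1_le_of_range Q g v (((Q v)⁻¹ * polar Q v y)⁻¹ • y)
    rw [map_smul, hy, smul_add, add_sub_cancel_left, smul_smul, inv_mul_cancel₀ hc, one_smul]
  rw [Nat.odd_iff]
  by_cases hg : fixSub g.1 ≤ LinearMap.ker φ
  · by_cases hh : fixSub (otv h2 Q v hv * g).1 ≤ LinearMap.ker φ
    · exact absurd ⟨hg, hh⟩ h3a
    · have e1' := e1.2 hh
      have e2' := e2.1 hg
      omega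
  · by_cases hh : fixSub (otv h2 Q v hv * g).1 ≤ LinearMap.ker φ
    · have e1' := e1.1 hh
      have e2' := e2.2 hg
      omega
    · exact absurd (h3b hh) hg

end abs

end Cfsg.Agent.Lib.Helper94.Iso8
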