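import Mathlib
import Cfsg.Agent.Lib.Helper6.Ls.Defs
import Cfsg.Agent.Lib.Helper13.UnitaryTorus

/-!
# Ls hive (S2334/S2335, helper6): leaf C-TOR1 `exists_torus1` (helper45)

`q - 1` torus elements `t_j` of `SU_n(q)` (`n ≥ 3`) normalising the root subgroup `Z_e`, acting on its
parameter `c` by `q - 1` different scalars of the fixed field.
-/

set_option autoImplicit false

namespace Cfsg.Agent.Lib.Helper6.Ls

open Matrix Cfsg.Agent.Lib.Helper99 Cfsg.Agent.Lib.Helper13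

section tor1

variable {F : Type*} [Field F] [Fintype F] {q : ℕ}

/-- membership in the root subgroup (own copy of C-ZG (1), in parameter form). -/
theorem tor1_mem_Zgrp (hF : Fintype.card F = q ^ 2) {n : ℕ} (e : Fin n → F)
    (he : Cfsg.hermForm n F q e e = 0) (g : SUg F n q) :
    g ∈ Zgrp e ↔ ∃ c : F, c + c ^ q = 0 ∧ (g : GL (Fin n) F) = utv q e c := by
  constructor
  · intro hg
    unfold Zgrp at hg
    induction hg using Subgroup.closure_induction with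
    | mem x hx => exact hx
    | one => exact ⟨0, by rw [zero_pow (by have := q_ge_two hF; omega), add_zero], by
        rw [utv_zero e he]; rfl⟩
    | mul x y _ _ hx hy =>
      obtain ⟨c, hc, hxc⟩ := hx
      obtain ⟨d, hd, hyd⟩ := hy
      refine ⟨c + d, ?_, ?_⟩
      · rw [frob_add hF]; linear_combination hc + hd
      · rw [Subgroup.coe_mul, hxc, hyd, utv_add e he]
    | inv x _ hx =>
      obtain ⟨c, hc, hxc⟩ := hx
      refine ⟨-c, ?_, ?_⟩
      · rw [frob_neg hF]; linear_combination -hc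
      · rw [Subgroup.coe_inv, hxc, utv_inv e he]
  · intro hg
    exact Subgroup.subset_closure hg

/-- conjugating a root element by the inverse of an isometry that scales the centre. -/
theorem tor1_conj (_hF : Fintype.card F = q ^ 2) {n : ℕ} (e : Fin n → F)
    (he : Cfsg.hermForm n F q e e = 0) (B : GL (Fin n) F) (hB : B ∈ Cfsg.GU n F q) (l : F) (hl : l ≠ 0)
    (hBe : (B : Matrix (Fin n) (Fin n) F) *ᵥ e = l • e) (c : F) :
    B⁻¹ * utv q e c * B = utv q e (c * (l ^ (q + 1))⁻¹) := by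
  have hBinv : ((B⁻¹ : GL (Fin n) F) : Matrix (Fin n) (Fin n) F) *ᵥ e = l⁻¹ • e := by
    have h1 : ((B⁻¹ : GL (Fin n) F) : Matrix (Fin n) (Fin n) F) *ᵥ
        ((B : Matrix (Fin n) (Fin n) F) *ᵥ e) = e := gl_inv_mulVec_mulVec B e
    rw [hBe, mulVec_smul] at h1
    calc ((B⁻¹ : GL (Fin n) F) : Matrix (Fin n) (Fin n) F) *ᵥ e
        = l⁻¹ • (l • (((B⁻¹ : GL (Fin n) F) : Matrix (Fin n) (Fin n) F) *ᵥ e)) := by
          rw [smul_smul, inv_mul_cancel₀ hl, one_smul]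
      _ = l⁻¹ • e := by rw [h1]
  have h := conj_utv (B⁻¹) (inv_mem hB) e he c
  rw [inv_inv] at h
  rw [h, hBinv, utv_smul e he, inv_pow]

end tor1

section concrete

variable {F : Type*} [Field F] [Fintype F] {q : ℕ}

/-- C-TOR1 -/
theorem exists_torus1 (hF : Fintype.card F = q ^ 2) (n : ℕ) (hn : 3 ≤ n) (e : Fin n → F) (he0 : e ≠ 0)
    (hee : Cfsg.hermForm n F q e e = 0) :
    ∃ (κ : Type) (_ : Fintype κ) (t : κ → SUg F n q), Fintype.card κ = q - 1 ∧
      (∀ k, ∀ z ∈ (Zgrp e : Subgroup (SUg F n q)), (t k)⁻¹ * z * t k ∈ (Zgrp e : Subgroup (SUg F n q))) ∧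
      (∀ k k', k ≠ k' → ∀ z' ∈ (Zgrp e : Subgroup (SUg F n q)), ∃ z ∈ (Zgrp e : Subgroup (SUg F n q)),
        (t k)⁻¹ * z * t k * ((t k')⁻¹ * z * t k')⁻¹ = z') := by
  classical
  have hq2 := q_ge_two hF
  obtain ⟨w, a, hww, hew, haa, hae, haw⟩ := exists_torus_config hF hn e he0 hee
  -- a generator of the multiplicative group
  obtain ⟨g, hg⟩ := IsCyclic.exists_generator (α := Fˣ)
  have hord : orderOf g = q ^ 2 - 1 := by
    rw [orderOf_eq_card_of_forall_mem_zpowers hg, Nat.card_eq_fintype_card, Fintype.card_units, hF]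
  -- the scalars
  let l : Fin (q - 1) → F := fun j => ((g ^ (j : ℕ) : Fˣ) : F)
  have hl0 : ∀ j, l j ≠ 0 := fun j => Units.ne_zero _
  -- the norms
  let ν : Fin (q - 1) → F := fun j => (l j) ^ (q + 1)
  have hν0 : ∀ j, ν j ≠ 0 := fun j => pow_ne_zero _ (hl0 j)
  have hνq : ∀ j, (ν j) ^ q = ν j := by
    intro j
    show ((l j) ^ (q + 1)) ^ q = (l j) ^ (q + 1)
    rw [← pow_mul, mul_comm (q + 1) q, pow_mul, pow_succ, pow_q_pow_q hF, pow_succ, mul_comm]
  have hνinj : Function.Injective ν := by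
    intro j j' h
    have h1 : (g ^ ((j : ℕ) * (q + 1)) : Fˣ) = g ^ ((j' : ℕ) * (q + 1)) := by
      apply Units.ext
      simp only [Units.val_pow_eq_pow_val, pow_mul]
      simpa [ν, l, Units.val_pow_eq_pow_val] using h
    have h2 := (pow_inj_mod (x := g)).1 h1
    rw [hord] at h2
    have hj := j.2
    have hj' := j'.2
    have hb : (q - 1) * (q + 1) = q ^ 2 - 1 := by
      have : 1 ≤ q := by omega
      zify [this, Nat.one_le_pow 2 q (by omega)]
      ring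
    have hlt : (j : ℕ) * (q + 1) < q ^ 2 - 1 := by
      rw [← hb]; exact Nat.mul_lt_mul_of_lt_of_le hj le_rfl (by omega)
    have hlt' : (j' : ℕ) * (q + 1) < q ^ 2 - 1 := by
      rw [← hb]; exact Nat.mul_lt_mul_of_lt_of_le hj' le_rfl (by omega)
    rw [Nat.mod_eq_of_lt hlt, Nat.mod_eq_of_lt hlt'] at h2
    exact Fin.ext (Nat.eq_of_mul_eq_mul_right (by omega) h2)
  -- the torus elements
  have hB : ∀ j, ∃ B : GL (Fin n) F, B ∈ suGL (F := F) n q ∧
      (B : Matrix (Fin n) (Fin n) F) *ᵥ e = l j • e :=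
    fun j => exists_torus_elt hF e w a hee hww hew haa hae haw (l j) (hl0 j)
  choose B hBmem hBe using hB
  let t : Fin (q - 1) → SUg F n q := fun j => ⟨B j, hBmem j⟩
  have htr : ∀ (c δ : F), c + c ^ q = 0 → δ ^ q = δ → (c * δ) + (c * δ) ^ q = 0 := by
    intro c δ hc hδ
    rw [mul_pow, hδ]
    linear_combination δ * hc
  have hνinvq : ∀ j, ((ν j)⁻¹) ^ q = (ν j)⁻¹ := fun j => by rw [inv_pow, hνq]
  have hcoe : ∀ j (z : SUg F n q) (c : F), (z : GL (Fin n) F) = utv q e c →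
      (((t j)⁻¹ * z * t j : SUg F n q) : GL (Fin n) F) = utv q e (c * (ν j)⁻¹) := by
    intro j z c hz
    rw [Subgroup.coe_mul, Subgroup.coe_mul, Subgroup.coe_inv, hz]
    exact tor1_conj hF e hee (B j) (hBmem j).1 (l j) (hl0 j) (hBe j) c
  refine ⟨Fin (q - 1), inferInstance, t, by simp, ?_, ?_⟩
  · intro k z hz
    obtain ⟨c, hc, hzc⟩ := (tor1_mem_Zgrp hF e hee z).1 hz
    rw [tor1_mem_Zgrp hF e hee]
    exact ⟨c * (ν k)⁻¹, htr c _ hc (hνinvq k), hcoe k z c hzc⟩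
  · intro k k' hkk' z' hz'
    obtain ⟨c', hc', hz'c⟩ := (tor1_mem_Zgrp hF e hee z').1 hz'
    have hνne : ν k ≠ ν k' := fun h => hkk' (hνinj h)
    set δ : F := (ν k)⁻¹ - (ν k')⁻¹ with hδ
    have hδ0 : δ ≠ 0 := by
      rw [hδ, sub_ne_zero]
      intro h
      exact hνne (inv_injective h)
    have hδq : δ ^ q = δ := by rw [hδ, frob_sub hF, hνinvq, hνinvq]
    have hδiq : (δ⁻¹) ^ q = δ⁻¹ := by rw [inv_pow, hδq]
    have hc : (c' * δ⁻¹) + (c' * δ⁻¹) ^ q = 0 := htr c' _ hc' hδiq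
    let z : SUg F n q := ⟨utv q e (c' * δ⁻¹), utv_mem_suGL hF e hee _ hc⟩
    have hz : z ∈ (Zgrp e : Subgroup (SUg F n q)) :=
      (tor1_mem_Zgrp hF e hee z).2 ⟨_, hc, rfl⟩
    refine ⟨z, hz, ?_⟩
    apply Subtype.ext
    rw [Subgroup.coe_mul, Subgroup.coe_inv, hcoe k z _ rfl, hcoe k' z _ rfl, hz'c, utv_inv e hee,
      utv_add e hee]
    congr 1
    have h1 : c' * δ⁻¹ * (ν k)⁻¹ + -(c' * δ⁻¹ * (ν k')⁻¹) = c' * (δ⁻¹ * ((ν k)⁻¹ - (ν k')⁻¹)) := by ring
    rw [h1, ← hδ, inv_mul_cancel₀ hδ0, mul_one]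

end concrete

end Cfsg.Agent.Lib.Helper6.Ls
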