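import Mathlib
import Cfsg.Agent.Lib.Helper6.Ls.Defs
import Cfsg.Agent.Lib.Helper13.UnitaryTorus
import Cfsg.Agent.Lib.Helper45.LsCTOR1

/-!
# Ls hive (S2334/S2335, helper6): leaf C-TOR2 `exists_torus2` (helper45)

`q - 1` torus elements `t_j = diag(a⁻¹, a^q; a, a^{-q})` on two orthogonal hyperbolic pairs `(e,f)`, `(u,u')` of
`SU_n(q)` (`n ≥ 4`): they normalise `Z_u` (acting on its parameter by `q - 1` different scalars) and `Z_e`.
-/

set_option autoImplicit false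

namespace Cfsg.Agent.Lib.Helper6.Ls

open Matrix Cfsg.Agent.Lib.Helper99 Cfsg.Agent.Lib.Helper13

section tor2

variable {F : Type*} [Field F] [Fintype F] {q n : ℕ}

local notation "hh" => Cfsg.hermForm n F q

/-- the isometry `v ↦ l v`, `w ↦ l^{-q} w`, identity on `⟨v,w⟩^⊥`, of determinant `l / l^q`. -/
theorem tor2_pair (hF : Fintype.card F = q ^ 2) (v w : Fin n → F) (hvv : hh v v = 0)
    (hww : hh w w = 0) (hvw : hh v w = 1) (l : F) (hl : l ≠ 0) :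
    ∃ D : GL (Fin n) F, D ∈ Cfsg.GU n F q ∧
      ((D : GL (Fin n) F) : Matrix (Fin n) (Fin n) F).det = l / l ^ q ∧
      ∀ x, (D : Matrix (Fin n) (Fin n) F) *ᵥ x =
        x + ((l - 1) * hh x w) • v + (((l ^ q)⁻¹ - 1) * hh x v) • w := by
  have hwv : hh w v = 1 := by
    rw [← hermForm_conj hF n v w, hvw, one_pow]
  have hlq : l ^ q ≠ 0 := pow_ne_zero _ hl
  set a' : F := (l ^ q)⁻¹ with ha'
  have ha'0 : a' ≠ 0 := inv_ne_zero hlq
  have ha'q : a' ^ q = l⁻¹ := by rw [ha', inv_pow, pow_q_pow_q hF]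
  have hne₁ : 1 + (fun j => (a' - 1) * (v j) ^ q) ⬝ᵥ w ≠ 0 := by
    rw [utv_dot, hwv, mul_one, add_sub_cancel]
    exact ha'0
  have hne₂ : 1 + (fun j => (l - 1) * (w j) ^ q) ⬝ᵥ v ≠ 0 := by
    rw [utv_dot, hvw, mul_one, add_sub_cancel]
    exact hl
  set d₁ : GL (Fin n) F := rk1GL w (fun j => (a' - 1) * (v j) ^ q) with hd₁
  set d₂ : GL (Fin n) F := rk1GL v (fun j => (l - 1) * (w j) ^ q) with hd₂
  have hd₁x : ∀ x, (d₁ : Matrix (Fin n) (Fin n) F) *ᵥ x = x + ((a' - 1) * hh x v) • w := by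
    intro x
    rw [hd₁, coe_rk1GL _ _ hne₁, rk1_mulVec, utv_dot]
  have hd₂x : ∀ x, (d₂ : Matrix (Fin n) (Fin n) F) *ᵥ x = x + ((l - 1) * hh x w) • v := by
    intro x
    rw [hd₂, coe_rk1GL _ _ hne₂, rk1_mulVec, utv_dot]
  have hBx : ∀ x, ((d₁ * d₂ : GL (Fin n) F) : Matrix (Fin n) (Fin n) F) *ᵥ x =
      x + ((l - 1) * hh x w) • v + ((a' - 1) * hh x v) • w := by
    intro x
    rw [Units.val_mul, ← mulVec_mulVec, hd₂x, hd₁x]
    simp only [hermForm_add_left, hermForm_smul_left, hvv, mul_zero, add_zero]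
  refine ⟨d₁ * d₂, ?_, ?_, hBx⟩
  · rw [mem_GU_iff]
    intro x y
    rw [hBx, hBx]
    simp only [hermForm_add_left, hermForm_add_right hF, hermForm_smul_left, hermForm_smul_right,
      hvv, hww, hvw, hwv, mul_pow]
    have e2 : (hh y w) ^ q = hh w y := hermForm_conj hF n y w
    have e3 : (hh y v) ^ q = hh v y := hermForm_conj hF n y v
    rw [e2, e3, frob_sub hF, frob_sub hF, one_pow, ha'q]
    have k1 : l * l⁻¹ = 1 := mul_inv_cancel₀ hl
    have k2 : l ^ q * (l ^ q)⁻¹ = 1 := mul_inv_cancel₀ hlq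
    rw [ha']
    field_simp
    ring
  · rw [Units.val_mul, Matrix.det_mul, hd₁, hd₂, coe_rk1GL _ _ hne₁, coe_rk1GL _ _ hne₂, det_rk1,
      det_rk1, utv_dot, utv_dot, hwv, hvw, mul_one, mul_one, add_sub_cancel, add_sub_cancel, ha']
    field_simp

/-- the torus element `diag(a⁻¹, a^q; a, a^{-q})` on two orthogonal hyperbolic pairs. -/
theorem tor2_elt (hF : Fintype.card F = q ^ 2) (e f u u' : Fin n → F)
    (hee : hh e e = 0) (hff : hh f f = 0) (hef : hh e f = 1)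
    (huu : hh u u = 0) (hu'u' : hh u' u' = 0) (huu' : hh u u' = 1)
    (heu : hh e u = 0) (heu' : hh e u' = 0) (hfu : hh f u = 0) (a : F) (ha : a ≠ 0) :
    ∃ B : GL (Fin n) F, B ∈ suGL (F := F) n q ∧
      (B : Matrix (Fin n) (Fin n) F) *ᵥ u = a • u ∧ (B : Matrix (Fin n) (Fin n) F) *ᵥ e = a⁻¹ • e := by
  have hue : hh u e = 0 := hermForm_eq_zero_comm hF heu
  have huf : hh u f = 0 := hermForm_eq_zero_comm hF hfu
  obtain ⟨D₁, hD₁, hdet₁, hD₁x⟩ := tor2_pair hF e f hee hff hef a⁻¹ (inv_ne_zero ha)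
  obtain ⟨D₂, hD₂, hdet₂, hD₂x⟩ := tor2_pair hF u u' huu hu'u' huu' a ha
  have h2u : (D₂ : Matrix (Fin n) (Fin n) F) *ᵥ u = a • u := by
    rw [hD₂x, huu', huu, mul_one, mul_zero, zero_smul, add_zero, sub_smul, one_smul]
    abel
  have h1u : (D₁ : Matrix (Fin n) (Fin n) F) *ᵥ u = u := by
    rw [hD₁x, huf, hue, mul_zero, mul_zero, zero_smul, zero_smul, add_zero, add_zero]
  have h2e : (D₂ : Matrix (Fin n) (Fin n) F) *ᵥ e = e := by
    rw [hD₂x, heu', heu, mul_zero, mul_zero, zero_smul, zero_smul, add_zero, add_zero]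
  have h1e : (D₁ : Matrix (Fin n) (Fin n) F) *ᵥ e = a⁻¹ • e := by
    rw [hD₁x, hef, hee, mul_one, mul_zero, zero_smul, add_zero, sub_smul, one_smul]
    abel
  have hSL : D₁ * D₂ ∈ Cfsg.Geo.specialLinear (Fin n) F := by
    rw [mem_specialLinear_iff, Units.val_mul, Matrix.det_mul, hdet₁, hdet₂, inv_pow]
    have : a ^ q ≠ 0 := pow_ne_zero _ ha
    field_simp
  refine ⟨D₁ * D₂, ⟨mul_mem hD₁ hD₂, hSL⟩, ?_, ?_⟩
  · rw [Units.val_mul, ← mulVec_mulVec, h2u, mulVec_smul, h1u]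
  · rw [Units.val_mul, ← mulVec_mulVec, h2e, h1e]

end tor2

section concrete

variable {F : Type*} [Field F] [Fintype F] {q : ℕ}

/-- C-TOR2 -/
theorem exists_torus2 (hF : Fintype.card F = q ^ 2) (n : ℕ) (hn : 4 ≤ n) (e f u u' : Fin n → F)
    (hee : Cfsg.hermForm n F q e e = 0) (hff : Cfsg.hermForm n F q f f = 0)
    (hef : Cfsg.hermForm n F q e f = 1)
    (huu : Cfsg.hermForm n F q u u = 0) (hu'u' : Cfsg.hermForm n F q u' u' = 0)
    (huu' : Cfsg.hermForm n F q u u' = 1)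
    (heu : Cfsg.hermForm n F q e u = 0) (heu' : Cfsg.hermForm n F q e u' = 0)
    (hfu : Cfsg.hermForm n F q f u = 0) (hfu' : Cfsg.hermForm n F q f u' = 0) :
    ∃ (κ : Type) (_ : Fintype κ) (t : κ → SUg F n q), Fintype.card κ = q - 1 ∧
      (∀ k, ∀ z ∈ (Zgrp u : Subgroup (SUg F n q)), (t k)⁻¹ * z * t k ∈ (Zgrp u : Subgroup (SUg F n q))) ∧
      (∀ k k', k ≠ k' → ∀ z' ∈ (Zgrp u : Subgroup (SUg F n q)), ∃ z ∈ (Zgrp u : Subgroup (SUg F n q)),
        (t k)⁻¹ * z * t k * ((t k')⁻¹ * z * t k')⁻¹ = z') ∧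
      (∀ k, ∀ z ∈ (Zgrp e : Subgroup (SUg F n q)), (t k)⁻¹ * z * t k ∈ (Zgrp e : Subgroup (SUg F n q))) := by
  classical
  have hq2 := q_ge_two hF
  -- a generator of the multiplicative group
  obtain ⟨g, hg⟩ := IsCyclic.exists_generator (α := Fˣ)
  have hord : orderOf g = q ^ 2 - 1 := by
    rw [orderOf_eq_card_of_forall_mem_zpowers hg, Nat.card_eq_fintype_card, Fintype.card_units, hF]
  -- the scalars
  let l : Fin (q - 1) → F := fun j => ((g ^ (j : ℕ) : Fˣ) : F)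
  have hl0 : ∀ j, l j ≠ 0 := fun j => Units.ne_zero _
  -- the norms
  let ν : Fin (q - 1) → F := fun j => (l j) ^ (q + 1)
  have hν0 : ∀ j, ν j ≠ 0 := fun j => pow_ne_zero _ (hl0 j)
  have hνq : ∀ j, (ν j) ^ q = ν j := by
    intro j
    show ((l j) ^ (q + 1)) ^ q = (l j) ^ (q + 1)
    rw [← pow_mul, mul_comm (q + 1) q, pow_mul, pow_succ, pow_q_pow_q hF, pow_succ, mul_comm]
  have hνinj : Function.Injective ν := by
    intro j j' h
    have h1 : (g ^ ((j : ℕ) * (q + 1)) : Fˣ) = g ^ ((j' : ℕ) * (q + 1)) := by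
      apply Units.ext
      simp only [Units.val_pow_eq_pow_val, pow_mul]
      simpa [ν, l, Units.val_pow_eq_pow_val] using h
    have h2 := (pow_inj_mod (x := g)).1 h1
    rw [hord] at h2
    have hj := j.2
    have hj' := j'.2
    have hb : (q - 1) * (q + 1) = q ^ 2 - 1 := by
      have : 1 ≤ q := by omega
      zify [this, Nat.one_le_pow 2 q (by omega)]
      ring
    have hlt : (j : ℕ) * (q + 1) < q ^ 2 - 1 := by
      rw [← hb]; exact Nat.mul_lt_mul_of_lt_of_le hj le_rfl (by omega)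
    have hlt' : (j' : ℕ) * (q + 1) < q ^ 2 - 1 := by
      rw [← hb]; exact Nat.mul_lt_mul_of_lt_of_le hj' le_rfl (by omega)
    rw [Nat.mod_eq_of_lt hlt, Nat.mod_eq_of_lt hlt'] at h2
    exact Fin.ext (Nat.eq_of_mul_eq_mul_right (by omega) h2)
  -- the torus elements
  have hB : ∀ j, ∃ B : GL (Fin n) F, B ∈ suGL (F := F) n q ∧
      (B : Matrix (Fin n) (Fin n) F) *ᵥ u = l j • u ∧
      (B : Matrix (Fin n) (Fin n) F) *ᵥ e = (l j)⁻¹ • e :=
    fun j => tor2_elt hF e f u u' hee hff hef huu hu'u' huu' heu heu' hfu (l j) (hl0 j)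
  choose B hBmem hBu hBe using hB
  let t : Fin (q - 1) → SUg F n q := fun j => ⟨B j, hBmem j⟩
  have htr : ∀ (c δ : F), c + c ^ q = 0 → δ ^ q = δ → (c * δ) + (c * δ) ^ q = 0 := by
    intro c δ hc hδ
    rw [mul_pow, hδ]
    linear_combination δ * hc
  have hνinvq : ∀ j, ((ν j)⁻¹) ^ q = (ν j)⁻¹ := fun j => by rw [inv_pow, hνq]
  have hcoe : ∀ j (z : SUg F n q) (c : F), (z : GL (Fin n) F) = utv q u c →
      (((t j)⁻¹ * z * t j : SUg F n q) : GL (Fin n) F) = utv q u (c * (ν j)⁻¹) := by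
    intro j z c hz
    rw [Subgroup.coe_mul, Subgroup.coe_mul, Subgroup.coe_inv, hz]
    exact tor1_conj hF u huu (B j) (hBmem j).1 (l j) (hl0 j) (hBu j) c
  have hcoe_e : ∀ j (z : SUg F n q) (c : F), (z : GL (Fin n) F) = utv q e c →
      (((t j)⁻¹ * z * t j : SUg F n q) : GL (Fin n) F) = utv q e (c * ν j) := by
    intro j z c hz
    rw [Subgroup.coe_mul, Subgroup.coe_mul, Subgroup.coe_inv, hz]
    have := tor1_conj hF e hee (B j) (hBmem j).1 (l j)⁻¹ (inv_ne_zero (hl0 j)) (hBe j) c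
    rw [this, inv_pow, inv_inv]
  refine ⟨Fin (q - 1), inferInstance, t, by simp, ?_, ?_, ?_⟩
  · intro k z hz
    obtain ⟨c, hc, hzc⟩ := (tor1_mem_Zgrp hF u huu z).1 hz
    rw [tor1_mem_Zgrp hF u huu]
    exact ⟨c * (ν k)⁻¹, htr c _ hc (hνinvq k), hcoe k z c hzc⟩
  · intro k k' hkk' z' hz'
    obtain ⟨c', hc', hz'c⟩ := (tor1_mem_Zgrp hF u huu z').1 hz'
    have hνne : ν k ≠ ν k' := fun h => hkk' (hνinj h)
    set δ : F := (ν k)⁻¹ - (ν k')⁻¹ with hδ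
    have hδ0 : δ ≠ 0 := by
      rw [hδ, sub_ne_zero]
      intro h
      exact hνne (inv_injective h)
    have hδq : δ ^ q = δ := by rw [hδ, frob_sub hF, hνinvq, hνinvq]
    have hδiq : (δ⁻¹) ^ q = δ⁻¹ := by rw [inv_pow, hδq]
    have hc : (c' * δ⁻¹) + (c' * δ⁻¹) ^ q = 0 := htr c' _ hc' hδiq
    let z : SUg F n q := ⟨utv q u (c' * δ⁻¹), utv_mem_suGL hF u huu _ hc⟩
    have hz : z ∈ (Zgrp u : Subgroup (SUg F n q)) :=
      (tor1_mem_Zgrp hF u huu z).2 ⟨_, hc, rfl⟩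
    refine ⟨z, hz, ?_⟩
    apply Subtype.ext
    rw [Subgroup.coe_mul, Subgroup.coe_inv, hcoe k z _ rfl, hcoe k' z _ rfl, hz'c, utv_inv u huu,
      utv_add u huu]
    congr 1
    have h1 : c' * δ⁻¹ * (ν k)⁻¹ + -(c' * δ⁻¹ * (ν k')⁻¹) = c' * (δ⁻¹ * ((ν k)⁻¹ - (ν k')⁻¹)) := by ring
    rw [h1, ← hδ, inv_mul_cancel₀ hδ0, mul_one]
  · intro k z hz
    obtain ⟨c, hc, hzc⟩ := (tor1_mem_Zgrp hF e hee z).1 hz
    rw [tor1_mem_Zgrp hF e hee]
    exact ⟨c * ν k, htr c _ hc (hνq k), hcoe_e k z c hzc⟩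

end concrete

end Cfsg.Agent.Lib.Helper6.Ls
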