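import Mathlib
import Cfsg.Prelude.Def_LieTypeChar
import Cfsg.Agent.Lib.Helper45.LtCore
import Cfsg.Agent.Lib.Helper1.LtPSL
import Cfsg.Agent.Lib.Helper55.LtPSP
import Cfsg.Agent.Lib.Helper55.LtPSU
import Cfsg.Agent.Lib.Helper25.LtPPLUS
import Cfsg.Agent.Lib.Helper53.LtPMINUS
import Cfsg.Agent.Lib.Helper4.LtG2
import Cfsg.Agent.Lib.Helper4.LtF4
import Cfsg.Agent.Lib.Helper21.LtE67
import Cfsg.Agent.Lib.Helper30.LtE8
import Cfsg.Agent.Lib.Helper73.Lt2E6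
import Cfsg.Agent.Lib.Helper1.Lt3D4
import Cfsg.Agent.Lib.Helper73.LtSZ
import Cfsg.Agent.Lib.Helper73.Lt2F4
import Cfsg.Agent.Lib.Helper73.LtREE
import Cfsg.Agent.S0243
import Cfsg.Agent.S0245
import Cfsg.Agent.S0246
import Cfsg.Agent.S0280
import Cfsg.Agent.S0292
import Cfsg.Agent.S0293
import Cfsg.Agent.S0294
import Cfsg.Agent.S1163
import Cfsg.Agent.S1059
import Cfsg.Agent.S1062
import Cfsg.Agent.S1063
import Cfsg.Agent.S1064
import Cfsg.Agent.S1065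
import Cfsg.Agent.S1066
import Cfsg.Agent.S1067
import Cfsg.Agent.S1068
import Cfsg.Agent.S1069

/-!
# S2363 (Lt hive, helper45): a finite simple group of Lie type in characteristic `p` has order
`< p^(3k)`, and `|G|^3 < p^(8k)` unless `G ≅ PSL₂(p^k)`, where `p^k` is the `p`-part of `|G|`.

Assembly: case split over `Cfsg.IsLieTypeChar`, the order rows S0243 … S1069 give `|G|` as a
polynomial in `q = p^f`, and the arithmetic leaves `lt_psl … lt_ree` (one per family, proved by the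
hive) give the two inequalities.
-/

set_option autoImplicit false

/-! ### assembly -/

namespace Cfsg.Agent.Lib.Helper45.Lt

/-- a finite field of characteristic `p` has `p^f` elements, `f ≥ 1` -/
theorem main_card_field (F : Type*) [Field F] [Fintype F] (p : ℕ) [CharP F p] :
    ∃ f : ℕ, 1 ≤ f ∧ Fintype.card F = p ^ f := by
  obtain ⟨n, _, hn⟩ := FiniteField.card F p
  exact ⟨n, n.pos, hn⟩

/-- `q^e = p^n` forces `q = p^f` -/
theorem main_root {p q e n : ℕ} (hp : p.Prime) (he : 1 ≤ e) (hn : 1 ≤ n) (h : q ^ e = p ^ n) :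
    ∃ f, 1 ≤ f ∧ q = p ^ f := by
  have hq : q ∣ p ^ n := by rw [← h]; exact dvd_pow_self q (by omega)
  obtain ⟨f, _, hf⟩ := (Nat.dvd_prime_pow hp).1 hq
  refine ⟨f, ?_, hf⟩
  by_contra h0
  have hf0 : f = 0 := by omega
  subst hf0
  rw [pow_zero] at hf
  rw [hf, one_pow] at h
  have := Nat.one_lt_pow (by omega : n ≠ 0) hp.one_lt
  omega

/-- `gcd(2, q - 1) |PSp_{2m}(q)| = |Sp_{2m}(q)|` -/
theorem main_card_psp {F : Type} [Field F] [Fintype F] {q : ℕ} (hF : Fintype.card F = q) (m : ℕ)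
    (hm : 1 ≤ m) :
    Nat.gcd 2 (q - 1) * Nat.card (Cfsg.PSp m F) =
      q ^ (m ^ 2) * ∏ i ∈ Finset.range m, (q ^ (2 * (i + 1)) - 1) := by
  rw [← Cfsg.Agent.S0245.result hF m, ← Cfsg.Agent.S0246.result hF m hm, mul_comm]
  exact (Subgroup.card_eq_card_quotient_mul_card_subgroup
    (Subgroup.center (Matrix.symplecticGroup (Fin m) F))).symm

/-- S2363 -/
theorem lt_main {G : Type*} [Group G] [Finite G] (p : ℕ) (hp : p.Prime)
    (hG : Cfsg.IsLieTypeChar p G) :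
    Nat.card G < p ^ (3 * (Nat.card G).factorization p) ∧
      ((¬ ∃ (F : Type) (_ : Field F) (_ : Fintype F),
          Fintype.card F = p ^ (Nat.card G).factorization p ∧
          Nonempty (G ≃* Matrix.ProjectiveSpecialLinearGroup (Fin 2) F)) →
        Nat.card G ^ 3 < p ^ (8 * (Nat.card G).factorization p)) := by
  have hg : 0 < Nat.card G := Nat.card_pos
  rcases hG with h | h | h | h | h | h | h | h | h | h | h
  · -- PSL
    obtain ⟨F, _, _, _, n, hn, _, ⟨e⟩⟩ := h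
    obtain ⟨f, hf, hF⟩ := main_card_field F p
    have hc := Cfsg.Agent.S0243.result hF n hn
    rw [← Nat.card_congr e.toEquiv] at hc
    obtain ⟨hk, h1, h2⟩ := lt_psl hp hf hn hg hc
    refine ⟨h1, fun hno => ?_⟩
    by_cases h3 : 3 ≤ n
    · exact h2 h3
    · exfalso
      have hn2' : n = 2 := by omega
      subst hn2'
      apply hno
      refine ⟨F, inferInstance, inferInstance, ?_, ⟨e⟩⟩
      rw [hk, hF]
      norm_num
  · -- PSp
    obtain ⟨F, _, _, _, m, hm, _, ⟨e⟩⟩ := h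
    obtain ⟨f, hf, hF⟩ := main_card_field F p
    have hc := main_card_psp hF m (by omega)
    rw [← Nat.card_congr e.toEquiv] at hc
    obtain ⟨h1, h2⟩ := lt_psp hp hf hm hg hc
    exact ⟨h1, fun _ => h2⟩
  · -- PSU
    obtain ⟨F, _, _, _, n, q, hFq, hn, _, ⟨e⟩⟩ := h
    obtain ⟨f', hf', hF⟩ := main_card_field F p
    obtain ⟨f, hf, rfl⟩ := main_root hp (by norm_num : 1 ≤ 2) hf' (hFq.symm.trans hF)
    have hc := Cfsg.Agent.S0280.result hFq n (by omega)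
    rw [← Nat.card_congr e.toEquiv] at hc
    obtain ⟨h1, h2⟩ := lt_psu hp hf hn hg hc
    exact ⟨h1, fun _ => h2⟩
  · -- PΩ odd
    obtain ⟨F, _, _, _, m, hm, hodd, ⟨e⟩⟩ := h
    obtain ⟨f, hf, hF⟩ := main_card_field F p
    have hc := Cfsg.Agent.S0292.result hF (hF ▸ hodd) m hm
    rw [← Nat.card_congr e.toEquiv] at hc
    have hgcd : Nat.gcd 2 (p ^ f - 1) = 2 := by
      apply Nat.gcd_eq_left
      have ho : Odd (p ^ f) := hF ▸ hodd
      obtain ⟨t, ht⟩ := ho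
      exact ⟨t, by omega⟩
    have hc' : Nat.gcd 2 (p ^ f - 1) * Nat.card G = (p ^ f) ^ (m ^ 2) *
        ∏ i ∈ Finset.range m, ((p ^ f) ^ (2 * (i + 1)) - 1) := by
      rw [hgcd]; exact hc
    obtain ⟨h1, h2⟩ := lt_psp hp hf (by omega) hg hc'
    exact ⟨h1, fun _ => h2⟩
  · -- PΩ+
    obtain ⟨F, _, _, _, m, hm, ⟨e⟩⟩ := h
    obtain ⟨f, hf, hF⟩ := main_card_field F p
    have hc := Cfsg.Agent.S0293.result hF m hm
    rw [← Nat.card_congr e.toEquiv] at hc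
    obtain ⟨h1, h2⟩ := lt_pplus hp hf hm hg hc
    exact ⟨h1, fun _ => h2⟩
  · -- PΩ-
    obtain ⟨F, _, _, _, m, a, b, hm, hab, ⟨e⟩⟩ := h
    obtain ⟨f, hf, hF⟩ := main_card_field F p
    have hc := Cfsg.Agent.S0294.result hF m hm a b hab
    rw [← Nat.card_congr e.toEquiv] at hc
    obtain ⟨h1, h2⟩ := lt_pminus hp hf hm hg hc
    exact ⟨h1, fun _ => h2⟩
  · -- exceptional Chevalley
    obtain ⟨F, _, _, _, h⟩ := h
    obtain ⟨f, hf, hF⟩ := main_card_field F p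
    rcases h with ⟨_, ⟨e⟩⟩ | ⟨⟨e⟩⟩ | ⟨⟨e⟩⟩ | ⟨⟨e⟩⟩ | ⟨⟨e⟩⟩
    · have hc := Cfsg.Agent.S1059.result hF
      rw [← Nat.card_congr e.toEquiv] at hc
      obtain ⟨h1, h2⟩ := lt_g2 hp hf hg hc
      exact ⟨h1, fun _ => h2⟩
    · have hc := Cfsg.Agent.S1062.result hF
      rw [← Nat.card_congr e.toEquiv] at hc
      obtain ⟨h1, h2⟩ := lt_f4 hp hf hg hc
      exact ⟨h1, fun _ => h2⟩
    · have hc := Cfsg.Agent.S1063.result hF
      rw [← Nat.card_congr e.toEquiv] at hc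
      obtain ⟨h1, h2⟩ := lt_e6 hp hf hg hc
      exact ⟨h1, fun _ => h2⟩
    · have hc := Cfsg.Agent.S1064.result hF
      rw [← Nat.card_congr e.toEquiv] at hc
      obtain ⟨h1, h2⟩ := lt_e7 hp hf hg hc
      exact ⟨h1, fun _ => h2⟩
    · have hc := Cfsg.Agent.S1065.result hF
      rw [← Nat.card_congr e.toEquiv] at hc
      obtain ⟨h1, h2⟩ := lt_e8 hp hf hg hc
      exact ⟨h1, fun _ => h2⟩
  · -- ²E6, ³D4
    obtain ⟨K, _, _, _, q, hq, h⟩ := h
    obtain ⟨f', hf', hK⟩ := main_card_field K p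
    rcases h with ⟨hKq, ⟨e⟩⟩ | ⟨hKq, ⟨e⟩⟩
    · obtain ⟨f, hf, rfl⟩ := main_root hp (by norm_num : 1 ≤ 2) hf' (hKq.symm.trans hK)
      have hc := Cfsg.Agent.S1066.result hq hKq
      rw [← Nat.card_congr e.toEquiv] at hc
      obtain ⟨h1, h2⟩ := lt_2e6 hp hf hg hc
      exact ⟨h1, fun _ => h2⟩
    · obtain ⟨f, hf, rfl⟩ := main_root hp (by norm_num : 1 ≤ 3) hf' (hKq.symm.trans hK)
      have hc := Cfsg.Agent.S1067.result hq hKq
      rw [← Nat.card_congr e.toEquiv] at hc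
      obtain ⟨h1, h2⟩ := lt_3d4 hp hf hg hc
      exact ⟨h1, fun _ => h2⟩
  · -- Suzuki
    obtain ⟨rfl, F, _, _, m, hm, hF, ⟨e⟩⟩ := h
    have hc := (Cfsg.Agent.S1163.result hm hF).1
    rw [← Nat.card_congr e.toEquiv] at hc
    obtain ⟨h1, h2⟩ := lt_sz hp (by omega : 1 ≤ 2 * m + 1) hg hc
    exact ⟨h1, fun _ => h2⟩
  · -- ²F4
    obtain ⟨rfl, K, _, _, m, _, hK, ⟨e⟩⟩ := h
    have hc := Cfsg.Agent.S1068.result hK
    rw [← Nat.card_congr e.toEquiv] at hc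
    obtain ⟨h1, h2⟩ := lt_2f4 hp (by omega : 1 ≤ 2 * m + 1) hg hc
    exact ⟨h1, fun _ => h2⟩
  · -- ²G2
    obtain ⟨rfl, K, _, _, m, _, hK, ⟨e⟩⟩ := h
    have hc := Cfsg.Agent.S1069.result hK
    rw [← Nat.card_congr e.toEquiv] at hc
    obtain ⟨h1, h2⟩ := lt_ree hp (by omega : 1 ≤ 2 * m + 1) hg hc
    exact ⟨h1, fun _ => h2⟩

end Cfsg.Agent.Lib.Helper45.Lt
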