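import Mathlib
import Cfsg.Agent.Lib.Helper41.OmBNDefs
import Cfsg.Agent.Lib.Helper8.InvolCountForms
import Cfsg.Agent.Lib.Helper37.OmegaCenter2

/-!
# OmBN-ROOTOM: Eichler transformations `E(e_k, v)`, `E(f_k, v)` of `O^-_{2m+2}(F)` lie in `Ω` (all `q`)

For `Q(v) ≠ 0`, `E(u,v) = r_v r_{v + Q(v) u}` is a product of two reflections in vectors of the same norm, hence a
commutator (helper37 `refl_mul_refl_mem_omega`, via Witt).  For `Q(v) = 0` write `E(u,v) = E(u,v+c) E(u,-c)` with
`c ∈ W`, `Q(c) ≠ 0 ≠ Q(v+c)`.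
-/

set_option autoImplicit false

namespace Cfsg.Agent.Lib.Helper41.OmBN

open Matrix Cfsg Cfsg.Agent.Lib.Helper13 Cfsg.Agent.Lib.Helper8 Cfsg.Agent.Lib.Helper43
  Cfsg.Agent.Lib.Helper41.SpBN

section general

variable {ι : Type} [Fintype ι] [DecidableEq ι] {F : Type*} [Field F]

open QuadraticMap in
/-- an Eichler transformation `E(u,v)` with `Q(v) ≠ 0` is the product of the reflections in `v` and `v + Q(v) u` -/
theorem rootom_eq_refl_mul (Q : QuadraticForm F (ι → F))
    (hQ : (QuadraticMap.polarBilin Q).Nondegenerate) (u v : ι → F) (hu : Q u = 0)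
    (huv : polar (⇑Q) u v = 0) (hv : Q v ≠ 0) (hw : Q (v + Q v • u) ≠ 0) :
    eichlerElt Q hQ u v hu huv = reflElt Q v hv * reflElt Q (v + Q v • u) hw := by
  have hQw : Q (v + Q v • u) = Q v := by
    rw [QuadraticMap.map_add (⇑Q), QuadraticMap.map_smul, hu, polar_smul_right, polar_comm (⇑Q) v u,
      huv]
    simp
  have hvu : polar (⇑Q) v u = 0 := by rw [polar_comm]; exact huv
  have hvv : polar (⇑Q) v v = 2 * Q v := by
    rw [polar_self]
    simp
  apply iso_ext
  intro x
  rw [coe_mul_mulVec, eichlerElt_mulVec, coe_reflElt, coe_reflElt, reflectionMatrix_mulVec,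
    reflectionMatrix_mulVec, hQw]
  simp only [polar_add_left, polar_add_right, polar_sub_right, polar_smul_left, polar_smul_right,
    hvu, hvv, huv, smul_eq_mul, mul_zero, add_zero]
  funext i
  simp only [Pi.add_apply, Pi.sub_apply, Pi.smul_apply, smul_eq_mul]
  field_simp
  ring

/-- an Eichler transformation `E(u,v)` with `Q(v) ≠ 0` is a commutator -/
theorem rootom_nonsing (Q : QuadraticForm F (ι → F))
    (hQ : (QuadraticMap.polarBilin Q).Nondegenerate) (u v : ι → F) (hu : Q u = 0)
    (huv : QuadraticMap.polar (⇑Q) u v = 0) (hv : Q v ≠ 0) :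
    eichlerElt Q hQ u v hu huv ∈ Cfsg.Omega F ⇑Q := by
  have hQw : Q (v + Q v • u) = Q v := by
    rw [QuadraticMap.map_add (⇑Q), QuadraticMap.map_smul, hu, QuadraticMap.polar_smul_right,
      QuadraticMap.polar_comm (⇑Q) v u, huv]
    simp
  have hw : Q (v + Q v • u) ≠ 0 := by rw [hQw]; exact hv
  rw [rootom_eq_refl_mul Q hQ u v hu huv hv hw]
  exact Cfsg.Agent.Lib.Helper37.refl_mul_refl_mem_omega Q hQ v (v + Q v • u) hv hw hQw

end general

variable {F : Type*} [Field F] {m : ℕ} {a b : F}

/-- the value of the form on `W` -/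
theorem rootom_Q_vw (c : Fin 2 → F) :
    minusForm m F a b (vw F m c) = c 0 ^ 2 + a * c 0 * c 1 + b * c 1 ^ 2 := by
  rw [← minusForm_coe]
  unfold Cfsg.quadFormMinus
  simp [vw]

/-- the polar form against a vector of `W` -/
theorem rootom_polar_vw (v : MIdx m → F) (c : Fin 2 → F) :
    QuadraticMap.polar (⇑(minusForm m F a b)) v (vw F m c) =
      2 * v (Sum.inr 0) * c 0 + a * (v (Sum.inr 0) * c 1 + c 0 * v (Sum.inr 1))
        + 2 * b * v (Sum.inr 1) * c 1 := by
  rw [polar_minusForm]
  simp [vw]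

/-- LEAF ROOTOM -/
theorem eichler_mem_omega [Fintype F] (hab : Aniso a b) (k : Fin m) (u v : MIdx m → F)
    (hu : u = ve F k ∨ u = vf F k)
    (huv : QuadraticMap.polar (⇑(minusForm m F a b)) u v = 0) (g : OG F m a b)
    (hg : ActsAs F m a b g u v) : g ∈ Cfsg.Omega F ⇑(minusForm m F a b) := by
  have hQ := nondeg (m := m) hab
  have hu0 : minusForm m F a b u = 0 := by
    rcases hu with rfl | rfl
    · exact (minusForm_hyp m F a b).qe k
    · exact (minusForm_hyp m F a b).qf k
  -- `u` is orthogonal to `W`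
  have huW : ∀ c : Fin 2 → F, QuadraticMap.polar (⇑(minusForm m F a b)) u (vw F m c) = 0 := by
    intro c
    rw [rootom_polar_vw]
    rcases hu with rfl | rfl
    · simp [ve]
    · simp [vf]
  rw [hg.eq_eichlerElt hab hu0 huv]
  by_cases hv : minusForm m F a b v = 0
  · -- choose `c ∈ W` with `Q(c) ≠ 0` and `Q(v + c) ≠ 0`
    obtain ⟨c, hc1, hc2⟩ : ∃ c : Fin 2 → F, minusForm m F a b (vw F m c) ≠ 0 ∧
        minusForm m F a b (v + vw F m c) ≠ 0 := by
      by_cases hw : v (Sum.inr 0) = 0 ∧ v (Sum.inr 1) = 0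
      · refine ⟨![1, 0], ?_, ?_⟩
        · rw [rootom_Q_vw]
          simp
        · rw [QuadraticMap.map_add (⇑(minusForm m F a b)), hv, rootom_Q_vw, rootom_polar_vw, hw.1,
            hw.2]
          simp
      · have hne : v (Sum.inr 0) ^ 2 + a * v (Sum.inr 0) * v (Sum.inr 1) + b * v (Sum.inr 1) ^ 2 ≠ 0 :=
          fun h0 => hw (hab _ _ h0)
        refine ⟨![-v (Sum.inr 0), -v (Sum.inr 1)], ?_, ?_⟩
        · rw [rootom_Q_vw]
          intro h0
          apply hne
          simp only [Matrix.cons_val_zero, Matrix.cons_val_one] at h0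
          linear_combination h0
        · rw [QuadraticMap.map_add (⇑(minusForm m F a b)), hv, rootom_Q_vw, rootom_polar_vw]
          intro h0
          apply hne
          simp only [Matrix.cons_val_zero, Matrix.cons_val_one] at h0
          linear_combination -h0
    have huvc : QuadraticMap.polar (⇑(minusForm m F a b)) u (v + vw F m c) = 0 := by
      rw [QuadraticMap.polar_add_right, huv, huW, add_zero]
    have hunc : QuadraticMap.polar (⇑(minusForm m F a b)) u (-vw F m c) = 0 := by
      rw [QuadraticMap.polar_neg_right, huW, neg_zero]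
    have hc1' : minusForm m F a b (-vw F m c) ≠ 0 := by
      rw [QuadraticMap.map_neg]
      exact hc1
    have hsplit : eichlerElt (minusForm m F a b) hQ u v hu0 huv =
        eichlerElt (minusForm m F a b) hQ u (v + vw F m c) hu0 huvc *
          eichlerElt (minusForm m F a b) hQ u (-vw F m c) hu0 hunc := by
      rw [eichlerElt_mul]
      exact eichlerElt_congr _ hQ u v u _ hu0 huv hu0 _ rfl (by abel)
    rw [hsplit]
    exact Subgroup.mul_mem _ (rootom_nonsing _ hQ u _ hu0 huvc hc2)
      (rootom_nonsing _ hQ u _ hu0 hunc hc1')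
  · exact rootom_nonsing _ hQ u v hu0 huv hv

end Cfsg.Agent.Lib.Helper41.OmBN
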