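import Mathlib
import Cfsg.Agent.Lib.Helper45.FamBasic
import Cfsg.Agent.Lib.Helper47.WC
import Cfsg.Agent.Lib.Helper46.Subnormal
import Cfsg.Agent.Lib.Helper22.Fitting
import Cfsg.Prelude.Def_LocalStructure

set_option autoImplicit false

/-!
`p`-minimality of a group generated by a family of `p`-minimal subgroups permuted transitively.
-/

namespace Cfsg.Agent.Lib.Helper45

open Subgroup
open scoped Pointwise

section fam
variable {H : Type*} [Group H] [Finite H] {p : ℕ} [hp : Fact p.Prime]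

omit [Finite H] hp in
/-- Key lemma: if every proper subgroup of `E₀` over `(SE ⊓ E₀)` lies in `M₀`, then every proper
subgroup of `E₀ Q` over `SE ≥ Q` lies in `M₀ Q`. -/
theorem fam_KL {E₀ Q SE : Subgroup H} (hQn : E₀ ≤ normalizer (Q : Set H)) (hQSE : Q ≤ SE)
    (M₀ : Subgroup ↥E₀)
    (hM₀ : ∀ Y' : Subgroup ↥E₀, (SE ⊓ E₀).subgroupOf E₀ ≤ Y' → Y' ≠ ⊤ → Y' ≤ M₀)
    {Y : Subgroup H} (hY : Y ≤ E₀ ⊔ Q) (hSEY : SE ≤ Y) (hne : Y ≠ E₀ ⊔ Q) :
    Y ≤ M₀.map E₀.subtype ⊔ Q := by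
  have hQY : Q ≤ Y := hQSE.trans hSEY
  have h1 : Y ≤ (Y ⊓ E₀) ⊔ Q := le_inf_sup_of_le_sup hQn hQY hY
  have h2 : (Y ⊓ E₀).subgroupOf E₀ ≠ ⊤ := by
    intro h
    rw [Subgroup.subgroupOf_eq_top] at h
    apply hne
    exact le_antisymm hY (sup_le (h.trans inf_le_left) hQY)
  have h3 : (SE ⊓ E₀).subgroupOf E₀ ≤ (Y ⊓ E₀).subgroupOf E₀ := by
    intro x hx
    rw [Subgroup.mem_subgroupOf] at hx ⊢
    exact ⟨hSEY hx.1, hx.2⟩
  have h4 := hM₀ _ h3 h2
  have h5 : Y ⊓ E₀ ≤ M₀.map E₀.subtype := by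
    intro y hy
    exact ⟨⟨y, hy.2⟩, h4 (Subgroup.mem_subgroupOf.mpr hy), rfl⟩
  exact h1.trans (sup_le_sup_right h5 Q)

/-- `SE ⊓ E₀` is a Sylow subgroup of `E₀` when `SE ≥ Q` is a relative Sylow subgroup of `E₀ Q`. -/
theorem fam_sylow_inf {E₀ Q SE : Subgroup H} (hQn : E₀ ≤ normalizer (Q : Set H))
    (hQp : IsPGroup p Q) (hQSE : Q ≤ SE)
    (hSE : SE ≤ E₀ ⊔ Q) (hSEp : IsPGroup p SE) (hSEi : ¬ p ∣ SE.relIndex (E₀ ⊔ Q)) :
    ∃ P' : Sylow p ↥E₀, (P' : Subgroup ↥E₀) = (SE ⊓ E₀).subgroupOf E₀ := by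
  have h0 : IsPGroup p ((SE ⊓ E₀).subgroupOf E₀) :=
    (hSEp.to_le inf_le_left).comap_subtype
  obtain ⟨P', hP'⟩ := h0.exists_le_sylow
  refine ⟨P', le_antisymm ?_ hP'⟩
  set P'' : Subgroup H := (P' : Subgroup ↥E₀).map E₀.subtype with hP''
  have hP''E : P'' ≤ E₀ := Subgroup.map_subtype_le _
  have hP''p : IsPGroup p P'' := P'.isPGroup'.map _
  have hWp : IsPGroup p (P'' ⊔ Q : Subgroup H) :=
    IsPGroup.to_sup_of_normal_right' hP''p hQp (hP''E.trans hQn)
  have h1 : SE ≤ (SE ⊓ E₀) ⊔ Q := le_inf_sup_of_le_sup hQn hQSE hSE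
  have h2 : SE ⊓ E₀ ≤ P'' := by
    intro y hy
    exact ⟨⟨y, hy.2⟩, hP' (Subgroup.mem_subgroupOf.mpr hy), rfl⟩
  have h3 : SE ≤ P'' ⊔ Q := h1.trans (sup_le_sup_right h2 Q)
  have h4 : P'' ⊔ Q ≤ E₀ ⊔ Q := sup_le_sup_right hP''E Q
  have h5 : P'' ⊔ Q = SE :=
    Cfsg.Agent.Lib.Helper32.eq_of_isPGroup_of_not_dvd_relIndex h3 h4 hWp hSEi
  intro x hx
  rw [Subgroup.mem_subgroupOf]
  refine ⟨?_, x.2⟩
  rw [← h5]
  exact (le_sup_left : P'' ≤ P'' ⊔ Q) ⟨x, hx, rfl⟩


omit [Finite H] hp in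
/-- A conjugation-invariant family generates a normal subgroup. -/
theorem fam_sSup_normal (𝒦 : Set (Subgroup H))
    (hinv : ∀ h : H, ∀ E ∈ 𝒦, E.map (MulAut.conj h).toMonoidHom ∈ 𝒦) : (sSup 𝒦).Normal := by
  have key : ∀ h : H, (sSup 𝒦).map (MulAut.conj h).toMonoidHom ≤ sSup 𝒦 := by
    intro h
    rw [Subgroup.map_le_iff_le_comap]
    apply sSup_le
    intro E hE
    rw [← Subgroup.map_le_iff_le_comap]
    exact le_sSup (hinv h E hE)
  refine ⟨fun n hn g => ?_⟩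
  have := key g ⟨n, hn, rfl⟩
  simpa [MulAut.conj_apply] using this

/-- Part 1: `p`-minimality is inherited from the members of a transitive family. -/
theorem fam_isMinimalOver (𝒦 : Set (Subgroup H)) (hne : 𝒦.Nonempty)
    (hinv : ∀ h : H, ∀ E ∈ 𝒦, E.map (MulAut.conj h).toMonoidHom ∈ 𝒦)
    (htr : ∀ E ∈ 𝒦, ∀ K ∈ 𝒦, ∃ h : H, K = E.map (MulAut.conj h).toMonoidHom)
    (hres : Cfsg.pResidual p H ≤ sSup 𝒦)
    (hnorm : ∀ E ∈ 𝒦, sSup 𝒦 ⊔ Cfsg.pCore p H ≤
      Subgroup.normalizer ((E ⊔ Cfsg.pCore p H : Subgroup H) : Set H))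
    (h1 : ∀ E ∈ 𝒦, ∀ T : Sylow p ↥E, Cfsg.IsMinimalOver (T : Subgroup ↥E))
    (T : Sylow p H) : Cfsg.IsMinimalOver (T : Subgroup H) := by
  classical
  set Q : Subgroup H := Cfsg.pCore p H with hQdef
  set R : Subgroup H := sSup 𝒦 with hRdef
  have hQnorm : Q.Normal := Cfsg.Agent.Lib.Helper22.pCore_normal' p H
  have hQp : IsPGroup p Q := Cfsg.Agent.Lib.Helper47.pCore_isPGroup p H
  have hQT : Q ≤ (T : Subgroup H) := Cfsg.Agent.Lib.Helper47.pCore_le_sylow T
  have hRnorm : R.Normal := fam_sSup_normal 𝒦 hinv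
  set Rt : Subgroup H := R ⊔ Q with hRtdef
  have hRtnorm : Rt.Normal := Subgroup.sup_normal R Q
  have hp'Rt : ∀ k : H, (orderOf k).Coprime p → k ∈ Rt := by
    intro k hk
    have : k ∈ Cfsg.pResidual p H := Subgroup.subset_closure hk
    exact (le_sup_left : R ≤ Rt) (hres this)
  have hRtT : Rt ⊔ (T : Subgroup H) = ⊤ := sup_sylow_eq_top Rt hp'Rt T
  -- (a) the normal closure
  have hncl : Subgroup.normalClosure ((T : Subgroup H) : Set H) = ⊤ := by
    set N : Subgroup H := Subgroup.normalClosure ((T : Subgroup H) : Set H) with hNdef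
    have hTN : (T : Subgroup H) ≤ N := Subgroup.le_normalClosure
    have hpN : ∀ A : Subgroup H, IsPGroup p A → A ≤ N := by
      intro A hA
      obtain ⟨S, hS⟩ := hA.exists_le_sylow
      obtain ⟨g, hg⟩ := MulAction.exists_smul_eq H T S
      intro a ha
      have haS : a ∈ (S : Subgroup H) := hS ha
      rw [← hg] at haS
      have h2 : a ∈ MulAut.conj g • (T : Subgroup H) := haS
      rw [Subgroup.mem_pointwise_smul_iff_inv_smul_mem] at h2
      have h3 : g⁻¹ * a * g ∈ N := hTN (by simpa [MulAut.smul_def] using h2)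
      have h4 : g * (g⁻¹ * a * g) * g⁻¹ ∈ N :=
        (Subgroup.normalClosure_normal (s := ((T : Subgroup H) : Set H))).conj_mem _ h3 g
      have e : g * (g⁻¹ * a * g) * g⁻¹ = a := by group
      rwa [e] at h4
    have hEN : ∀ E ∈ 𝒦, E ≤ N := by
      intro E hE
      obtain ⟨P⟩ : Nonempty (Sylow p ↥E) := inferInstance
      have hP := (h1 E hE P).1
      have h2 : (P : Subgroup ↥E) ≤ N.subgroupOf E := by
        intro x hx
        rw [Subgroup.mem_subgroupOf]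
        exact hpN _ (P.isPGroup'.map E.subtype) ⟨x, hx, rfl⟩
      have h3 : Subgroup.normalClosure ((P : Subgroup ↥E) : Set ↥E) ≤ N.subgroupOf E :=
        Subgroup.normalClosure_le_normal h2
      rw [hP] at h3
      exact Subgroup.subgroupOf_eq_top.mp (top_le_iff.mp h3)
    have hRN : R ≤ N := sSup_le hEN
    have hRtN : Rt ≤ N := sup_le hRN (hQT.trans hTN)
    rw [eq_top_iff, ← hRtT]
    exact sup_le hRtN hTN
  refine ⟨hncl, ?_⟩
  -- (b) the unique maximal subgroup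
  obtain ⟨E₀, hE₀⟩ := hne
  set Et : Subgroup H := E₀ ⊔ Q with hEtdef
  have hE₀Q : E₀ ≤ normalizer (Q : Set H) := by
    rw [Subgroup.normalizer_eq_top]; exact le_top
  have hEtRt : Et ≤ Rt := sup_le_sup_right (le_sSup hE₀) Q
  have hRtEt : Rt ≤ normalizer (Et : Set H) := hnorm E₀ hE₀
  set SE : Subgroup H := (T : Subgroup H) ⊓ Et with hSEdef
  have hSEp : IsPGroup p SE := T.isPGroup'.to_le inf_le_left
  have hSEEt : SE ≤ Et := inf_le_right
  have hQSE : Q ≤ SE := le_inf hQT le_sup_right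
  have hSEi : ¬ p ∣ SE.relIndex Et := by
    have h2 := Cfsg.Agent.Lib.Helper32.not_dvd_relIndex_inf_normal T Rt
    have h3 := Cfsg.Agent.Lib.Helper32.not_dvd_relIndex_inf_of_relSylow
      (K := Rt) (P := (T : Subgroup H) ⊓ Rt) (R := Et) inf_le_right h2 hEtRt hRtEt
    have h4 : ((T : Subgroup H) ⊓ Rt) ⊓ Et = SE := by
      rw [inf_assoc, inf_of_le_right hEtRt]
    rwa [h4] at h3
  obtain ⟨P', hP'⟩ := fam_sylow_inf hE₀Q hQp hQSE hSEEt hSEp hSEi
  obtain ⟨hnclP, M₀, ⟨hM₀co, hP'M₀⟩, huniq⟩ := h1 E₀ hE₀ P'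
  have hM₀ : ∀ Y' : Subgroup ↥E₀, (SE ⊓ E₀).subgroupOf E₀ ≤ Y' → Y' ≠ ⊤ → Y' ≤ M₀ := by
    intro Y' hY' hne'
    rcases eq_top_or_exists_le_coatom Y' with h | ⟨M', hM'co, hM'⟩
    · exact absurd h hne'
    · have : M' = M₀ := huniq M' ⟨hM'co, by rw [hP']; exact hY'.trans hM'⟩
      rw [← this]; exact hM'
  set Mt : Subgroup H := M₀.map E₀.subtype ⊔ Q with hMtdef
  have KL : ∀ Y : Subgroup H, Y ≤ Et → SE ≤ Y → Y ≠ Et → Y ≤ Mt :=
    fun Y hY hSEY hne' => fam_KL hE₀Q hQSE M₀ hM₀ hY hSEY hne'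
  have hMtEt : Mt ≤ Et := sup_le_sup_right (Subgroup.map_subtype_le _) Q
  have hSEinf : SE ⊓ E₀ ≤ M₀.map E₀.subtype := by
    intro y hy
    refine ⟨⟨y, hy.2⟩, hP'M₀ ?_, rfl⟩
    rw [hP']
    exact Subgroup.mem_subgroupOf.mpr hy
  have hSEMt : SE ≤ Mt :=
    (le_inf_sup_of_le_sup hE₀Q hQSE hSEEt).trans (sup_le_sup_right hSEinf Q)
  have hMtne : Mt ≠ Et := by
    intro h
    apply hM₀co.1
    rw [eq_top_iff]
    intro e _
    have he : (e : H) ∈ Mt := by rw [h]; exact (le_sup_left : E₀ ≤ Et) e.2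
    obtain ⟨m, hm, q, hq, hmq⟩ := Cfsg.Agent.Lib.Helper47.exists_mul_of_mem_sup_normalizer
      ((Subgroup.map_subtype_le _).trans hE₀Q) he
    have hmE : m ∈ E₀ := Subgroup.map_subtype_le _ hm
    have hqE : q ∈ E₀ := by
      have : q = m⁻¹ * (e : H) := by rw [hmq]; group
      rw [this]; exact E₀.mul_mem (E₀.inv_mem hmE) e.2
    have hq' : q ∈ M₀.map E₀.subtype := hSEinf ⟨hQSE hq, hqE⟩
    have hem : (e : H) ∈ M₀.map E₀.subtype := by
      rw [hmq]; exact Subgroup.mul_mem _ hm hq'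
    obtain ⟨e', he', hee'⟩ := hem
    have : e' = e := Subtype.ext hee'
    rw [← this]; exact he'
  -- Step 5
  have hNSE : Et ⊓ normalizer (SE : Set H) ≤ Mt := by
    by_cases hY : Et ⊓ normalizer (SE : Set H) = Et
    · exfalso
      have hEtN : Et ≤ normalizer (SE : Set H) := by
        rw [← hY]; exact inf_le_right
      have hE₀N : E₀ ≤ normalizer ((SE ⊓ E₀ : Subgroup H) : Set H) := by
        apply Cfsg.Agent.Lib.Helper46.le_normalizer_of_conj_mem
        intro a ha x hx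
        refine ⟨?_, E₀.mul_mem (E₀.mul_mem ha hx.2) (E₀.inv_mem ha)⟩
        have := hEtN ((le_sup_left : E₀ ≤ Et) ha)
        rw [Subgroup.mem_normalizer_iff] at this
        exact (this x).mp hx.1
      have hnorm' : ((SE ⊓ E₀).subgroupOf E₀).Normal :=
        (Subgroup.normal_subgroupOf_iff_le_normalizer inf_le_right).mpr hE₀N
      have hP'n : (P' : Subgroup ↥E₀).Normal := by rw [hP']; exact hnorm'
      have := Subgroup.normalClosure_eq_self (P' : Subgroup ↥E₀)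
      rw [hnclP] at this
      apply hM₀co.1
      rw [eq_top_iff, this]
      exact hP'M₀
    · exact KL _ inf_le_left (le_inf hSEEt Subgroup.le_normalizer) hY
  -- Step 6
  set NR : Subgroup H := Rt ⊓ normalizer (SE : Set H) with hNRdef
  have hNRMt : NR ≤ normalizer (Mt : Set H) := by
    apply Cfsg.Agent.Lib.Helper46.le_normalizer_of_conj_mem
    intro n hn m hm
    have hnEt : Et.map (MulAut.conj n).toMonoidHom = Et :=
      Cfsg.Agent.Lib.Helper47.map_conj_eq_iff_mem_normalizer.mpr (hRtEt hn.1)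
    have hnSE : SE.map (MulAut.conj n).toMonoidHom = SE :=
      Cfsg.Agent.Lib.Helper47.map_conj_eq_iff_mem_normalizer.mpr hn.2
    have hY1 : Mt.map (MulAut.conj n).toMonoidHom ≤ Et := by
      rw [← hnEt]; exact Subgroup.map_mono hMtEt
    have hY2 : SE ≤ Mt.map (MulAut.conj n).toMonoidHom := by
      rw [← hnSE]; exact Subgroup.map_mono hSEMt
    have hY3 : Mt.map (MulAut.conj n).toMonoidHom ≠ Et := by
      intro h
      rw [← hnEt] at h
      exact hMtne (Subgroup.map_injective (MulAut.conj n).injective h)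
    exact KL _ hY1 hY2 hY3 (Cfsg.Agent.Lib.Helper47.conj_mem_map_conj n hm)
  set G₀ : Subgroup H := NR ⊔ Mt with hG₀def
  have hG₀Et : G₀ ⊓ Et ≤ Mt := by
    intro x hx
    obtain ⟨n, hn, m, hm, hnm⟩ :=
      Cfsg.Agent.Lib.Helper47.exists_mul_of_mem_sup_normalizer hNRMt hx.1
    have hnEt : n ∈ Et := by
      have : n = x * m⁻¹ := by rw [hnm]; group
      rw [this]; exact Et.mul_mem hx.2 (Et.inv_mem (hMtEt hm))
    rw [hnm]
    exact Mt.mul_mem (hNSE ⟨hnEt, hn.2⟩) hm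
  have hG₀Rt : G₀ ≤ Rt := sup_le inf_le_left (hMtEt.trans hEtRt)
  have hTRtG₀ : (T : Subgroup H) ⊓ Rt ≤ G₀ := by
    refine le_trans ?_ (le_sup_left : NR ≤ G₀)
    refine le_inf inf_le_right ?_
    apply Cfsg.Agent.Lib.Helper46.le_normalizer_of_conj_mem
    intro t ht s hs
    refine ⟨(T : Subgroup H).mul_mem ((T : Subgroup H).mul_mem ht.1 hs.1)
      ((T : Subgroup H).inv_mem ht.1), ?_⟩
    have := hRtEt ht.2
    rw [Subgroup.mem_normalizer_iff] at this
    exact (this s).mp hs.2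
  -- Step 7
  set D : Subgroup H := ⨅ t : (T : Subgroup H), G₀.map (MulAut.conj (t : H)).toMonoidHom with hDdef
  have hD : ∀ x : H, x ∈ D ↔ ∀ t ∈ (T : Subgroup H), t⁻¹ * x * t ∈ G₀ := by
    intro x
    rw [hDdef, Subgroup.mem_iInf]
    constructor
    · intro h t ht
      exact Cfsg.Agent.Lib.Helper47.mem_map_conj.mp (h ⟨t, ht⟩)
    · intro h t
      exact Cfsg.Agent.Lib.Helper47.mem_map_conj.mpr (h t t.2)
  have hDG₀ : D ≤ G₀ := by
    intro x hx
    have := (hD x).mp hx 1 (Subgroup.one_mem _)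
    simpa using this
  have hTD : (T : Subgroup H) ≤ normalizer (D : Set H) := by
    apply Cfsg.Agent.Lib.Helper46.le_normalizer_of_conj_mem
    intro t ht d hd
    rw [hD]
    intro s hs
    have := (hD d).mp hd (t⁻¹ * s) ((T : Subgroup H).mul_mem ((T : Subgroup H).inv_mem ht) hs)
    have e : s⁻¹ * (t * d * t⁻¹) * s = (t⁻¹ * s)⁻¹ * d * (t⁻¹ * s) := by group
    rw [e]; exact this
  set Mstar : Subgroup H := (T : Subgroup H) ⊔ D with hMstardef
  have hTRt : (T : Subgroup H) ≤ normalizer (Rt : Set H) := by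
    rw [Subgroup.normalizer_eq_top]; exact le_top
  have hTRtop : (T : Subgroup H) ⊔ Rt = ⊤ := by rw [sup_comm]; exact hRtT
  -- Step 8
  have hX : ∀ X : Subgroup H, (T : Subgroup H) ≤ X → X ≠ ⊤ → X ≤ Mstar := by
    intro X hTX hXne
    have h8a : ¬ Et ≤ X := by
      intro hEtX
      apply hXne
      rw [eq_top_iff, ← hRtT]
      refine sup_le (sup_le ?_ (hQT.trans hTX)) hTX
      apply sSup_le
      intro E hE
      obtain ⟨h, rfl⟩ := htr E₀ hE₀ E hE
      have hh : h ∈ (T : Subgroup H) ⊔ Rt := by rw [hTRtop]; exact Subgroup.mem_top h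
      obtain ⟨t, ht, r, hr, rfl⟩ :=
        Cfsg.Agent.Lib.Helper47.exists_mul_of_mem_sup_normalizer hTRt hh
      rw [← Cfsg.Agent.Lib.Helper47.map_conj_map_conj]
      have hrEt : Et.map (MulAut.conj r).toMonoidHom = Et :=
        Cfsg.Agent.Lib.Helper47.map_conj_eq_iff_mem_normalizer.mpr (hRtEt hr)
      have h2 : E₀.map (MulAut.conj r).toMonoidHom ≤ X := by
        refine le_trans ?_ hEtX
        rw [← hrEt]; exact Subgroup.map_mono le_sup_left
      have h3 : X.map (MulAut.conj t).toMonoidHom = X :=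
        Cfsg.Agent.Lib.Helper47.map_conj_eq_iff_mem_normalizer.mpr
          (Subgroup.le_normalizer (hTX ht))
      rw [← h3]; exact Subgroup.map_mono h2
    have h8b : X ⊓ Et ≤ Mt := by
      apply KL _ inf_le_right (inf_le_inf_right Et hTX)
      intro h
      apply h8a
      rw [← h]; exact inf_le_left
    have hSEMti : ¬ p ∣ SE.relIndex Mt := by
      intro hdvd
      apply hSEi
      rw [← Subgroup.relIndex_mul_relIndex SE Mt Et hSEMt hMtEt]
      exact Dvd.dvd.mul_right hdvd _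
    have h8c : X ⊓ Rt ≤ G₀ := by
      intro w hw
      have hwEt := hRtEt hw.2
      have hB : SE.map (MulAut.conj w).toMonoidHom ≤ Mt := by
        refine le_trans ?_ h8b
        rintro _ ⟨s, hs, rfl⟩
        refine ⟨?_, ?_⟩
        · simp only [MulEquiv.coe_toMonoidHom, MulAut.conj_apply]
          exact X.mul_mem (X.mul_mem hw.1 (hTX hs.1)) (X.inv_mem hw.1)
        · simp only [MulEquiv.coe_toMonoidHom, MulAut.conj_apply]
          rw [Subgroup.mem_normalizer_iff] at hwEt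
          exact (hwEt s).mp hs.2
      obtain ⟨m, hm, hBm⟩ := relSylow_conj hSEMt hSEp hSEMti hB
        (Cfsg.Agent.Lib.Helper47.isPGroup_map_conj hSEp w)
        (Cfsg.Agent.Lib.Helper47.card_map_conj SE w)
      have h2 : SE.map (MulAut.conj (m⁻¹ * w)).toMonoidHom = SE := by
        rw [← Cfsg.Agent.Lib.Helper47.map_conj_map_conj, hBm,
          Cfsg.Agent.Lib.Helper47.map_conj_map_conj, inv_mul_cancel]
        ext x
        simp
      have h3 : m⁻¹ * w ∈ normalizer (SE : Set H) :=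
        Cfsg.Agent.Lib.Helper47.map_conj_eq_iff_mem_normalizer.mp h2
      have h4 : m⁻¹ * w ∈ Rt := Rt.mul_mem (Rt.inv_mem (hEtRt (hMtEt hm))) hw.2
      have h5 : w = m * (m⁻¹ * w) := by group
      rw [h5]
      exact G₀.mul_mem ((le_sup_right : Mt ≤ G₀) hm) ((le_sup_left : NR ≤ G₀) ⟨h4, h3⟩)
    have h8d : X ⊓ Rt ≤ D := by
      intro w hw
      rw [hD]
      intro t ht
      apply h8c
      refine ⟨X.mul_mem (X.mul_mem (X.inv_mem (hTX ht)) hw.1) (hTX ht), ?_⟩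
      have := hRtnorm.conj_mem w hw.2 t⁻¹
      simpa using this
    intro x hx
    have hh : x ∈ (T : Subgroup H) ⊔ Rt := by rw [hTRtop]; exact Subgroup.mem_top x
    obtain ⟨t, ht, r, hr, rfl⟩ :=
      Cfsg.Agent.Lib.Helper47.exists_mul_of_mem_sup_normalizer hTRt hh
    have hrX : r ∈ X := by
      have : r = t⁻¹ * (t * r) := by group
      rw [this]; exact X.mul_mem (X.inv_mem (hTX ht)) hx
    exact Subgroup.mul_mem_sup ht (h8d ⟨hrX, hr⟩)
  -- Step 9
  have hMstar : Mstar ≠ ⊤ := by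
    intro htop
    apply hMtne
    refine le_antisymm hMtEt ?_
    intro x hx
    have hx' : x ∈ (T : Subgroup H) ⊔ D := by rw [← hMstardef, htop]; exact Subgroup.mem_top x
    obtain ⟨t, ht, d, hd, rfl⟩ :=
      Cfsg.Agent.Lib.Helper47.exists_mul_of_mem_sup_normalizer hTD hx'
    have hdG : d ∈ G₀ := hDG₀ hd
    have htRt : t ∈ Rt := by
      have : t = (t * d) * d⁻¹ := by group
      rw [this]; exact Rt.mul_mem (hEtRt hx) (Rt.inv_mem (hG₀Rt hdG))
    exact hG₀Et ⟨G₀.mul_mem (hTRtG₀ ⟨ht, htRt⟩) hdG, hx⟩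
  -- Step 10
  have hTMstar : (T : Subgroup H) ≤ Mstar := le_sup_left
  have hTne : (T : Subgroup H) ≠ ⊤ := by
    intro h
    apply hMstar
    rw [eq_top_iff, ← h]; exact hTMstar
  rcases eq_top_or_exists_le_coatom (T : Subgroup H) with h | ⟨M, hMco, hTM⟩
  · exact absurd h hTne
  · have hcoeq : ∀ M' : Subgroup H, IsCoatom M' → (T : Subgroup H) ≤ M' → M' = Mstar := by
      intro M' hM'co hTM'
      exact ((hM'co.le_iff_eq hMstar).mp (hX M' hTM' hM'co.1)).symm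
    refine ⟨M, ⟨hMco, hTM⟩, ?_⟩
    rintro M' ⟨hM'co, hTM'⟩
    rw [hcoeq M' hM'co hTM', hcoeq M hMco hTM]

end fam

end Cfsg.Agent.Lib.Helper45
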