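import Mathlib
import Cfsg.Agent.Lib.Helper45.FamBasic
import Cfsg.Agent.Lib.Helper45.PMinFamily
import Cfsg.Agent.Lib.Helper47.Asym6
import Cfsg.Agent.Lib.Helper45.VIter
import Cfsg.Prelude.Def_LocalStructure

set_option autoImplicit false

/-!
`p`-irreducibility of a group generated by a family of strongly `p`-irreducible subgroups
permuted transitively.
-/

namespace Cfsg.Agent.Lib.Helper45

open Subgroup Cfsg
open scoped Pointwise commutatorElement

section spi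
variable {p : ℕ} [hp : Fact p.Prime]

/-- A normal subgroup of a strongly `p`-irreducible group that contains all Sylow `p`-subgroups
is the whole group. -/
theorem spi_eq_top_of_sylow_le {E : Type*} [Group E] [Finite E]
    (hE : IsStronglyPIrreducible p E) (N : Subgroup E) [hN : N.Normal]
    (hNP : ∀ P : Sylow p E, (P : Subgroup E) ≤ N) : N = ⊤ := by
  by_cases h : ⁅N, (⊤ : Subgroup E)⁆ ≤ pCore p E
  · exfalso
    apply hE.1
    intro P
    refine ⟨fun x hx g => ?_⟩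
    have h1 : ⁅x, g⁆ ∈ pCore p E :=
      h (Subgroup.commutator_mem_commutator (hNP P hx) (Subgroup.mem_top g))
    have h2 : ⁅g, x⁆ ∈ (P : Subgroup E) := by
      rw [← commutatorElement_inv]
      exact (P : Subgroup E).inv_mem (Cfsg.Agent.Lib.Helper47.pCore_le_sylow P h1)
    have e : g * x * g⁻¹ = ⁅g, x⁆ * x := by
      rw [commutatorElement_def]; group
    rw [e]
    exact (P : Subgroup E).mul_mem h2 hx
  · have h1 : pResidual p E ≤ N := hE.2 N hN h
    obtain ⟨P⟩ : Nonempty (Sylow p E) := inferInstance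
    have h2 := sup_sylow_eq_top N (fun k hk => h1 (Subgroup.subset_closure hk)) P
    rw [← h2]
    exact (sup_eq_left.mpr (hNP P)).symm

variable {H : Type*} [Group H] [Finite H]

/-- A strongly `p`-irreducible subgroup lies in every subgroup containing its `p`-elements. -/
theorem spi_le_of_pElements {E : Subgroup H} (hE : IsStronglyPIrreducible p ↥E) (Y : Subgroup H)
    (hY : ∀ x ∈ E, (∃ j : ℕ, x ^ (p ^ j) = 1) → x ∈ Y) : E ≤ Y := by
  set s : Set ↥E := {x | ∃ j : ℕ, x ^ (p ^ j) = 1} with hs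
  have h1 : Subgroup.normalClosure s ≤ Y.subgroupOf E := by
    unfold Subgroup.normalClosure
    rw [Subgroup.closure_le]
    intro a ha
    rw [Group.mem_conjugatesOfSet_iff] at ha
    obtain ⟨b, ⟨j, hj⟩, hab⟩ := ha
    rw [isConj_iff] at hab
    obtain ⟨c, rfl⟩ := hab
    rw [SetLike.mem_coe, Subgroup.mem_subgroupOf]
    apply hY _ (c * b * c⁻¹).2
    refine ⟨j, ?_⟩
    have : (c * b * c⁻¹) ^ (p ^ j) = 1 := by rw [conj_pow, hj]; group
    have := congrArg Subtype.val this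
    simpa using this
  have h2 : Subgroup.normalClosure s = ⊤ := by
    apply spi_eq_top_of_sylow_le hE
    intro P x hx
    apply Subgroup.subset_normalClosure
    obtain ⟨k, hk⟩ := P.isPGroup' ⟨x, hx⟩
    refine ⟨k, ?_⟩
    have := congrArg Subtype.val hk
    simpa using this
  rw [h2] at h1
  intro e he
  have := h1 (Subgroup.mem_top (⟨e, he⟩ : ↥E))
  rwa [Subgroup.mem_subgroupOf] at this

omit [Finite H] hp in
/-- The dichotomy for a strongly `p`-irreducible subgroup `E` and a subgroup `M` normalized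
by `E`. -/
theorem spi_dichotomy {E Q M : Subgroup H} (hE : IsStronglyPIrreducible p ↥E)
    (hEQ : pCoreOf p E ≤ Q) (hEM : E ≤ normalizer (M : Set H)) :
    (∀ x ∈ E, (orderOf x).Coprime p → x ∈ M) ∨
      (∀ n ∈ M, n ∈ E → ∀ e ∈ E, ⁅n, e⁆ ∈ Q) := by
  have hN₁ : (M.subgroupOf E).Normal := Subgroup.normal_subgroupOf_of_le_normalizer hEM
  by_cases h : ⁅M.subgroupOf E, (⊤ : Subgroup ↥E)⁆ ≤ pCore p ↥E
  · right
    intro n hnM hnE e he
    have h1 : ⁅(⟨n, hnE⟩ : ↥E), (⟨e, he⟩ : ↥E)⁆ ∈ pCore p ↥E :=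
      h (Subgroup.commutator_mem_commutator (Subgroup.mem_subgroupOf.mpr hnM)
        (Subgroup.mem_top _))
    apply hEQ
    exact ⟨_, h1, rfl⟩
  · left
    have h1 : pResidual p ↥E ≤ M.subgroupOf E := hE.2 _ hN₁ h
    intro x hx hcop
    have h2 : (⟨x, hx⟩ : ↥E) ∈ pResidual p ↥E := by
      apply Subgroup.subset_closure
      show (orderOf (⟨x, hx⟩ : ↥E)).Coprime p
      rw [Subgroup.orderOf_mk]; exact hcop
    exact Subgroup.mem_subgroupOf.mp (h1 h2)

omit [Finite H] hp in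
/-- The cyclic group generated by a `p`-element is a `p`-group. -/
theorem isPGroup_zpowers_of_pow {d : H} {n : ℕ} (hd : d ^ (p ^ n) = 1) :
    IsPGroup p (Subgroup.zpowers d) := by
  rintro ⟨g, hg⟩
  obtain ⟨k, rfl⟩ := Subgroup.mem_zpowers_iff.mp hg
  refine ⟨n, ?_⟩
  apply Subtype.ext
  show (d ^ k) ^ (p ^ n) = 1
  rw [← zpow_natCast, ← zpow_mul, mul_comm, zpow_mul, zpow_natCast, hd, one_zpow]

omit hp in
/-- An element of `A` of `p`-power order modulo `Q`, central in `A` modulo `Q`, lies in `Q`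
as soon as `O_p(A) ≤ Q`. -/
theorem mem_of_central_pow {A Q : Subgroup H} [hQn : Q.Normal] (hQp : IsPGroup p Q) (hQA : Q ≤ A)
    (hAQ : pCoreOf p A ≤ Q) {d : H} (hdA : d ∈ A) (hcen : ∀ h ∈ A, ⁅h, d⁆ ∈ Q) {j : ℕ}
    (hd : d ^ (p ^ j) ∈ Q) : d ∈ Q := by
  obtain ⟨i, hi⟩ := hQp ⟨d ^ (p ^ j), hd⟩
  have hi' : d ^ (p ^ (j + i)) = 1 := by
    have := congrArg Subtype.val hi
    rw [pow_add, pow_mul]
    simpa using this
  have hzp : IsPGroup p (Subgroup.zpowers d) := by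
    rintro ⟨g, hg⟩
    obtain ⟨k, rfl⟩ := Subgroup.mem_zpowers_iff.mp hg
    refine ⟨j + i, ?_⟩
    apply Subtype.ext
    show (d ^ k) ^ (p ^ (j + i)) = 1
    rw [← zpow_natCast, ← zpow_mul, mul_comm, zpow_mul, zpow_natCast, hi', one_zpow]
  have hQnorm : ∀ X : Subgroup H, X ≤ normalizer (Q : Set H) := by
    intro X; rw [Subgroup.normalizer_eq_top]; exact le_top
  set V : Subgroup H := Subgroup.zpowers d ⊔ Q with hV
  have hVp : IsPGroup p V := IsPGroup.to_sup_of_normal_right' hzp hQp (hQnorm _)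
  have hVA : V ≤ A := sup_le (Subgroup.zpowers_le.mpr hdA) hQA
  have hAV : A ≤ normalizer (V : Set H) := by
    intro h hh
    apply Cfsg.Agent.Lib.Helper47.mem_normalizer_of_map_conj_le
    rw [hV, Subgroup.map_sup]
    apply sup_le
    · rw [MonoidHom.map_zpowers, Subgroup.zpowers_le]
      have e : (MulAut.conj h).toMonoidHom d = ⁅h, d⁆ * d := by
        simp only [MulEquiv.coe_toMonoidHom, MulAut.conj_apply]
        rw [commutatorElement_def]; group
      rw [e]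
      exact V.mul_mem ((le_sup_right : Q ≤ V) (hcen h hh))
        ((le_sup_left : Subgroup.zpowers d ≤ V) (Subgroup.mem_zpowers d))
    · refine le_trans ?_ (le_sup_right : Q ≤ V)
      rintro _ ⟨q, hq, rfl⟩
      simp only [MulEquiv.coe_toMonoidHom, MulAut.conj_apply]
      exact hQn.conj_mem q hq h
  have h1 : V ≤ pCoreOf p A := Cfsg.Agent.Lib.Helper47.le_pCoreOf hVA hAV hVp
  exact hAQ (h1 ((le_sup_left : Subgroup.zpowers d ≤ V) (Subgroup.mem_zpowers d)))

/-- If `x ∈ A` is a `p`-element, `y` normalizes `A`, and `[y, x]` is central in `A` modulo `Q`,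
then `[y, x] ∈ Q`. -/
theorem comm_mem_of_pElement {A Q : Subgroup H} [hQn : Q.Normal] (hQp : IsPGroup p Q) (hQA : Q ≤ A)
    (hAQ : pCoreOf p A ≤ Q) {x y : H} (hx : x ∈ A) {j : ℕ} (hxj : x ^ (p ^ j) = 1)
    (hy : y ∈ normalizer (A : Set H)) (hcen : ∀ h ∈ A, ⁅h, ⁅y, x⁆⁆ ∈ Q) : ⁅y, x⁆ ∈ Q := by
  have hdA : ⁅y, x⁆ ∈ A := by
    rw [commutatorElement_def]
    have h1 : y * x * y⁻¹ ∈ A := (Subgroup.mem_normalizer_iff.mp hy x).mp hx
    exact A.mul_mem h1 (A.inv_mem hx)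
  apply mem_of_central_pow hQp hQA hAQ hdA hcen (j := j)
  set π := QuotientGroup.mk' Q with hπ
  have hker : ∀ g : H, π g = 1 ↔ g ∈ Q := fun g => QuotientGroup.eq_one_iff g
  rw [← hker, map_pow]
  have hcomm : Commute (π ⁅y, x⁆) (π x) := by
    have h1 : π ⁅x, ⁅y, x⁆⁆ = 1 := (hker _).mpr (hcen x hx)
    rw [map_commutatorElement, commutatorElement_eq_one_iff_commute] at h1
    exact h1.symm
  have e1 : π ⁅y, x⁆ * π x = π y * π x * (π y)⁻¹ := by
    rw [← map_mul, ← map_inv, ← map_mul, ← map_mul]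
    congr 1
    rw [commutatorElement_def]; group
  have e2 : (π ⁅y, x⁆ * π x) ^ (p ^ j) = 1 := by
    rw [e1, conj_pow, ← map_pow, hxj, map_one]; group
  rw [hcomm.mul_pow, ← map_pow π x, hxj, map_one, mul_one] at e2
  exact e2

omit [Finite H] hp in
/-- Elements of `M ∩ E Q` are central in `E Q` modulo `Q` when `[M ∩ E, E] ≤ Q`. -/
theorem comm_mem_of_inf {E Q M : Subgroup H} [hQn : Q.Normal] (hQM : Q ≤ M)
    (hM : ∀ n ∈ M, n ∈ E → ∀ e ∈ E, ⁅n, e⁆ ∈ Q) {d : H} (hdM : d ∈ M) (hdE : d ∈ E ⊔ Q) :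
    ∀ h ∈ E ⊔ Q, ⁅h, d⁆ ∈ Q := by
  intro h hh
  have hEQ : E ≤ normalizer (Q : Set H) := by rw [Subgroup.normalizer_eq_top]; exact le_top
  obtain ⟨e', he', q, hq, rfl⟩ :=
    Cfsg.Agent.Lib.Helper47.exists_mul_of_mem_sup_normalizer hEQ hdE
  obtain ⟨e, he, q', hq', rfl⟩ :=
    Cfsg.Agent.Lib.Helper47.exists_mul_of_mem_sup_normalizer hEQ hh
  have he'M : e' ∈ M := by
    have : e' = (e' * q) * q⁻¹ := by group
    rw [this]; exact M.mul_mem hdM (M.inv_mem (hQM hq))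
  set π := QuotientGroup.mk' Q with hπ
  have hker : ∀ g : H, π g = 1 ↔ g ∈ Q := fun g => QuotientGroup.eq_one_iff g
  rw [← hker, map_commutatorElement, map_mul, map_mul, (hker q).mpr hq, (hker q').mpr hq',
    mul_one, mul_one, ← map_commutatorElement, hker, ← commutatorElement_inv]
  exact Q.inv_mem (hM e' he'M he' e he)


omit [Finite H] hp in
/-- `O^p` of a conjugate subgroup. -/
theorem pPrimeClosure_map_conj (A : Subgroup H) (h : H) :
    Cfsg.Agent.Lib.Helper47.pPrimeClosure p (A.map (MulAut.conj h).toMonoidHom) =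
      (Cfsg.Agent.Lib.Helper47.pPrimeClosure p A).map (MulAut.conj h).toMonoidHom := by
  unfold Cfsg.Agent.Lib.Helper47.pPrimeClosure
  rw [MonoidHom.map_closure]
  congr 1
  ext a
  constructor
  · rintro ⟨⟨b, hb, rfl⟩, hao⟩
    refine ⟨b, ⟨hb, ?_⟩, rfl⟩
    have : orderOf ((MulAut.conj h) b) = orderOf b := MulEquiv.orderOf_eq _ _
    rw [← this]; exact hao
  · rintro ⟨b, ⟨hb, hbo⟩, rfl⟩
    refine ⟨⟨b, hb, rfl⟩, ?_⟩
    have : orderOf ((MulAut.conj h) b) = orderOf b := MulEquiv.orderOf_eq _ _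
    show (orderOf ((MulAut.conj h) b)).Coprime p
    rw [this]; exact hbo

/-- The common set-up for the family. -/
structure FamCtx (p : ℕ) (𝒦 : Set (Subgroup H)) : Prop where
  hinv : ∀ h : H, ∀ E ∈ 𝒦, E.map (MulAut.conj h).toMonoidHom ∈ 𝒦
  htr : ∀ E ∈ 𝒦, ∀ K ∈ 𝒦, ∃ h : H, K = E.map (MulAut.conj h).toMonoidHom
  hres : Cfsg.pResidual p H ≤ sSup 𝒦
  hnorm : ∀ E ∈ 𝒦, sSup 𝒦 ⊔ Cfsg.pCore p H ≤
      Subgroup.normalizer ((E ⊔ Cfsg.pCore p H : Subgroup H) : Set H)
  hspi : ∀ E ∈ 𝒦, Cfsg.IsStronglyPIrreducible p ↥E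

namespace FamCtx

variable {𝒦 : Set (Subgroup H)}

omit [Finite H] hp in
theorem Rt_normal (h : FamCtx p 𝒦) : (sSup 𝒦 ⊔ Cfsg.pCore p H).Normal := by
  haveI := fam_sSup_normal 𝒦 h.hinv
  haveI := Cfsg.Agent.Lib.Helper22.pCore_normal' p H
  exact Subgroup.sup_normal _ _

omit [Finite H] hp in
theorem le_Rt (h : FamCtx p 𝒦) {E : Subgroup H} (hE : E ∈ 𝒦) :
    E ⊔ Cfsg.pCore p H ≤ sSup 𝒦 ⊔ Cfsg.pCore p H := sup_le_sup_right (le_sSup hE) _

theorem pCoreOf_Rt_le (h : FamCtx p 𝒦) :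
    pCoreOf p (sSup 𝒦 ⊔ Cfsg.pCore p H) ≤ Cfsg.pCore p H := by
  haveI := h.Rt_normal
  exact Cfsg.Agent.Lib.Helper47.pCoreOf_le_pCore_of_normal _

theorem pCoreOf_Et_le (h : FamCtx p 𝒦) {E : Subgroup H} (hE : E ∈ 𝒦) :
    pCoreOf p (E ⊔ Cfsg.pCore p H) ≤ Cfsg.pCore p H :=
  (Cfsg.Agent.Lib.Helper47.pCoreOf_le_pCoreOf_of_le_normalizer (h.le_Rt hE)
    (h.hnorm E hE)).trans h.pCoreOf_Rt_le

theorem pCoreOf_E_le (h : FamCtx p 𝒦) {E : Subgroup H} (hE : E ∈ 𝒦) :
    pCoreOf p E ≤ Cfsg.pCore p H := by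
  set Q := Cfsg.pCore p H with hQ
  haveI hQn : Q.Normal := Cfsg.Agent.Lib.Helper22.pCore_normal' p H
  have hQp : IsPGroup p Q := Cfsg.Agent.Lib.Helper47.pCore_isPGroup p H
  have hXn : ∀ X : Subgroup H, X ≤ normalizer (Q : Set H) := by
    intro X; rw [Subgroup.normalizer_eq_top]; exact le_top
  have h1 : IsPGroup p (pCoreOf p E ⊔ Q : Subgroup H) :=
    IsPGroup.to_sup_of_normal_right' (Cfsg.Agent.Lib.Helper47.pCoreOf_isPGroup p E) hQp (hXn _)
  have h2 : pCoreOf p E ⊔ Q ≤ E ⊔ Q :=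
    sup_le_sup_right (Cfsg.Agent.Lib.Helper47.pCoreOf_le p E) Q
  have h3 : E ⊔ Q ≤ normalizer ((pCoreOf p E ⊔ Q : Subgroup H) : Set H) := by
    apply sup_le
    · refine le_trans ?_ (Cfsg.Agent.Lib.Helper47.normalizer_inf_le_normalizer_sup _ _)
      exact le_inf (Cfsg.Agent.Lib.Helper47.le_normalizer_pCoreOf p E) (hXn E)
    · exact le_sup_right.trans Subgroup.le_normalizer
  have h4 := Cfsg.Agent.Lib.Helper47.le_pCoreOf h2 h3 h1
  exact le_sup_left.trans (h4.trans (h.pCoreOf_Et_le hE))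


/-- For a `p`-element `x ∈ E`, `y` normalizing `E Q`, and `M ≥ Q` normal-ish with
`[M ∩ E, E] ≤ Q` and `[y, x] ∈ M`: `[y, x] ∈ Q`. -/
theorem comm_mem_Et (h : FamCtx p 𝒦) {E : Subgroup H} (hE : E ∈ 𝒦) {M : Subgroup H}
    (hQM : Cfsg.pCore p H ≤ M)
    (hM : ∀ n ∈ M, n ∈ E → ∀ e ∈ E, ⁅n, e⁆ ∈ Cfsg.pCore p H)
    {x y : H} (hx : x ∈ E) {j : ℕ} (hxj : x ^ (p ^ j) = 1)
    (hy : y ∈ normalizer ((E ⊔ Cfsg.pCore p H : Subgroup H) : Set H)) (hyx : ⁅y, x⁆ ∈ M) :
    ⁅y, x⁆ ∈ Cfsg.pCore p H := by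
  set Q := Cfsg.pCore p H with hQ
  haveI hQn : Q.Normal := Cfsg.Agent.Lib.Helper22.pCore_normal' p H
  have hQp : IsPGroup p Q := Cfsg.Agent.Lib.Helper47.pCore_isPGroup p H
  have hxEt : x ∈ E ⊔ Q := (le_sup_left : E ≤ E ⊔ Q) hx
  have hdEt : ⁅y, x⁆ ∈ E ⊔ Q := by
    rw [commutatorElement_def]
    have h1 : y * x * y⁻¹ ∈ E ⊔ Q := (Subgroup.mem_normalizer_iff.mp hy x).mp hxEt
    exact (E ⊔ Q).mul_mem h1 ((E ⊔ Q).inv_mem hxEt)
  exact comm_mem_of_pElement hQp le_sup_right (h.pCoreOf_Et_le hE) hxEt hxj hy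
    (comm_mem_of_inf hQM hM hyx hdEt)

/-- The dichotomy `O^p(E Q) = O^p(K Q)` or `[E, K] ≤ Q`. -/
theorem dichotomy (h : FamCtx p 𝒦) {E K : Subgroup H} (hE : E ∈ 𝒦) (hK : K ∈ 𝒦) :
    (Cfsg.pResidual p ↥(E ⊔ Cfsg.pCore p H)).map (E ⊔ Cfsg.pCore p H).subtype =
      (Cfsg.pResidual p ↥(K ⊔ Cfsg.pCore p H)).map (K ⊔ Cfsg.pCore p H).subtype ∨
    ⁅E, K⁆ ≤ Cfsg.pCore p H := by
  set Q := Cfsg.pCore p H with hQ
  haveI hQn : Q.Normal := Cfsg.Agent.Lib.Helper22.pCore_normal' p H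
  have hQp : IsPGroup p Q := Cfsg.Agent.Lib.Helper47.pCore_isPGroup p H
  set Rt := sSup 𝒦 ⊔ Q with hRt
  have hERt : E ≤ Rt := le_sup_left.trans (h.le_Rt hE)
  have hKRt : K ≤ Rt := le_sup_left.trans (h.le_Rt hK)
  have hEKt : E ≤ normalizer ((K ⊔ Q : Subgroup H) : Set H) := hERt.trans (h.hnorm K hK)
  rcases spi_dichotomy (h.hspi E hE) (h.pCoreOf_E_le hE) hEKt with hA | hB
  · left
    rw [Cfsg.Agent.Lib.Helper47.pResidual_map_subtype,
      Cfsg.Agent.Lib.Helper47.pResidual_map_subtype]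
    -- all `p'`-elements of `E Q` lie in `K Q`
    obtain ⟨P⟩ : Nonempty (Sylow p ↥E) := inferInstance
    set T' : Subgroup H := (P : Subgroup ↥E).map E.subtype with hT'
    have hT'E : T' ≤ E := Subgroup.map_subtype_le _
    have hT'p : IsPGroup p T' := P.isPGroup'.map _
    have hT'n : T' ≤ normalizer ((K ⊔ Q : Subgroup H) : Set H) := hT'E.trans hEKt
    have hres : Cfsg.pResidual p ↥E ≤ (K ⊔ Q).subgroupOf E := by
      unfold Cfsg.pResidual
      rw [Subgroup.closure_le]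
      intro g hg
      rw [SetLike.mem_coe, Subgroup.mem_subgroupOf]
      apply hA _ g.2
      rw [Subgroup.orderOf_coe]; exact hg
    have hEle : E ≤ T' ⊔ (K ⊔ Q) := by
      intro e he
      obtain ⟨t, ht, b, hb, hetb⟩ := exists_sylow_mul_pResidual_mem P (⟨e, he⟩ : ↥E)
      have : e = (t : H) * (b : H) := by
        have := congrArg Subtype.val hetb
        simpa using this
      rw [this]
      exact Subgroup.mul_mem_sup ⟨t, ht, rfl⟩ (Subgroup.mem_subgroupOf.mp (hres hb))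
    have hEtle : E ⊔ Q ≤ T' ⊔ (K ⊔ Q) :=
      sup_le hEle (le_sup_right.trans le_sup_right)
    have hle : Cfsg.Agent.Lib.Helper47.pPrimeClosure p (E ⊔ Q) ≤
        Cfsg.Agent.Lib.Helper47.pPrimeClosure p (K ⊔ Q) := by
      unfold Cfsg.Agent.Lib.Helper47.pPrimeClosure
      apply Subgroup.closure_mono
      rintro a ⟨ha, hao⟩
      exact ⟨Cfsg.Agent.Lib.Helper47.mem_of_mem_sup_of_coprime' T' (K ⊔ Q) hT'n hT'p
        (hEtle ha) hao, hao⟩
    obtain ⟨g, hg⟩ := h.htr E hE K hK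
    have hKt : K ⊔ Q = (E ⊔ Q).map (MulAut.conj g).toMonoidHom := by
      rw [Subgroup.map_sup, ← hg]
      congr 1
      exact (Cfsg.Agent.Lib.Helper47.map_conj_eq_iff_mem_normalizer.mpr
        (by rw [Subgroup.normalizer_eq_top]; exact Subgroup.mem_top g)).symm
    apply Subgroup.eq_of_le_of_card_ge hle
    rw [hKt, pPrimeClosure_map_conj, Cfsg.Agent.Lib.Helper47.card_map_conj]
  · right
    have hXn : ∀ X : Subgroup H, X ≤ normalizer (Q : Set H) := by
      intro X; rw [Subgroup.normalizer_eq_top]; exact le_top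
    have key : E ≤ Cfsg.Agent.Lib.Helper47.centMod ⊤ K Q (hXn ⊤) := by
      apply spi_le_of_pElements (h.hspi E hE)
      rintro x hx ⟨j, hxj⟩
      refine ⟨Subgroup.mem_top x, fun k hk => ?_⟩
      have hkn : k ∈ normalizer ((E ⊔ Q : Subgroup H) : Set H) := h.hnorm E hE (hKRt hk)
      have hxn : x ∈ normalizer ((K ⊔ Q : Subgroup H) : Set H) := hEKt hx
      have hkx : ⁅k, x⁆ ∈ K ⊔ Q := by
        rw [commutatorElement_def]
        have hkKt : k ∈ K ⊔ Q := (le_sup_left : K ≤ K ⊔ Q) hk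
        have h1 : x * k⁻¹ * x⁻¹ ∈ K ⊔ Q :=
          (Subgroup.mem_normalizer_iff.mp hxn k⁻¹).mp ((K ⊔ Q).inv_mem hkKt)
        have e : k * x * k⁻¹ * x⁻¹ = k * (x * k⁻¹ * x⁻¹) := by group
        rw [e]; exact (K ⊔ Q).mul_mem hkKt h1
      exact h.comm_mem_Et hE (le_sup_right : Q ≤ K ⊔ Q) hB hx hxj hkn hkx
    rw [Subgroup.commutator_le]
    intro e he k hk
    rw [← commutatorElement_inv]
    exact Q.inv_mem ((key he).2 k hk)


theorem not_isPClosed (h : FamCtx p 𝒦) (hne : 𝒦.Nonempty) : ¬ IsPClosed p H := by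
  intro hcl
  obtain ⟨E, hE⟩ := hne
  apply (h.hspi E hE).1
  set Q := Cfsg.pCore p H with hQ
  haveI hQn : Q.Normal := Cfsg.Agent.Lib.Helper22.pCore_normal' p H
  have hQp : IsPGroup p Q := Cfsg.Agent.Lib.Helper47.pCore_isPGroup p H
  have htop : IsPClosed p ↥(⊤ : Subgroup H) :=
    Cfsg.Agent.Lib.Helper47.isPClosed_of_mulEquiv Subgroup.topEquiv.symm hcl
  have hA : ∀ A : Subgroup H, IsPGroup p A → A ≤ Q := fun A hA =>
    Cfsg.Agent.Lib.Helper47.le_pCore_of_isPClosed (X := ⊤) htop hA le_top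
  apply Cfsg.Agent.Lib.Helper47.isPClosed_of_forall_pElement_mem (E := Q) hQp
    (by rw [Subgroup.normalizer_eq_top]; exact le_top)
  rintro t _ ⟨k, hk⟩
  exact hA _ (isPGroup_zpowers_of_pow hk) (Subgroup.mem_zpowers t)

/-- `H` is `p`-irreducible. -/
theorem isPIrreducible (h : FamCtx p 𝒦) (hne : 𝒦.Nonempty) : IsPIrreducible p H := by
  refine ⟨h.not_isPClosed hne, fun N hN hNcl => ?_⟩
  set Q := Cfsg.pCore p H with hQ
  haveI hQn : Q.Normal := Cfsg.Agent.Lib.Helper22.pCore_normal' p H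
  have hQp : IsPGroup p Q := Cfsg.Agent.Lib.Helper47.pCore_isPGroup p H
  set Rt := sSup 𝒦 ⊔ Q with hRt
  haveI hRtn : Rt.Normal := h.Rt_normal
  have hQRt : Q ≤ Rt := le_sup_right
  have hXn : ∀ X : Subgroup H, X ≤ normalizer (Q : Set H) := by
    intro X; rw [Subgroup.normalizer_eq_top]; exact le_top
  have hp'Rt : ∀ k : H, (orderOf k).Coprime p → k ∈ Rt := by
    intro k hk
    have : k ∈ Cfsg.pResidual p H := Subgroup.subset_closure hk
    exact (le_sup_left : sSup 𝒦 ≤ Rt) (h.hres this)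
  set N' : Subgroup H := N ⊔ Q with hN'
  haveI hN'n : N'.Normal := Subgroup.sup_normal N Q
  have hQN' : Q ≤ N' := le_sup_right
  have hXN' : ∀ X : Subgroup H, X ≤ normalizer (N' : Set H) := by
    intro X; rw [Subgroup.normalizer_eq_top]; exact le_top
  by_cases hI : ∃ E ∈ 𝒦, ∀ x ∈ E, (orderOf x).Coprime p → x ∈ N'
  · -- Case I
    obtain ⟨E₁, hE₁, hE₁N⟩ := hI
    have hall : ∀ E ∈ 𝒦, ∀ x ∈ E, (orderOf x).Coprime p → x ∈ N' := by
      intro E hE x hx hcop
      obtain ⟨g, rfl⟩ := h.htr E₁ hE₁ E hE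
      have hx' : g⁻¹ * x * g ∈ E₁ := Cfsg.Agent.Lib.Helper47.mem_map_conj.mp hx
      have hord : orderOf (g⁻¹ * x * g) = orderOf x := by
        have := MulEquiv.orderOf_eq (MulAut.conj g⁻¹) x
        simpa [MulAut.conj_apply] using this
      have h1 := hE₁N _ hx' (by rw [hord]; exact hcop)
      have h2 := hN'n.conj_mem _ h1 g
      have e : g * (g⁻¹ * x * g) * g⁻¹ = x := by group
      rwa [e] at h2
    have hpow : ∀ E ∈ 𝒦, ∀ e ∈ E, ∃ k : ℕ, e ^ (p ^ k) ∈ N' := by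
      intro E hE e he
      have hres : Cfsg.pResidual p ↥E ≤ N'.subgroupOf E := by
        unfold Cfsg.pResidual
        rw [Subgroup.closure_le]
        intro g hg
        rw [SetLike.mem_coe, Subgroup.mem_subgroupOf]
        apply hall E hE _ g.2
        rw [Subgroup.orderOf_coe]; exact hg
      obtain ⟨k, hk⟩ := Cfsg.Agent.Lib.Helper47.pow_mem_pResidual (p := p) (⟨e, he⟩ : ↥E)
      refine ⟨k, ?_⟩
      have := Subgroup.mem_subgroupOf.mp (hres hk)
      simpa using this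
    set π' := QuotientGroup.mk' N' with hπ'
    have hker : ∀ g : H, π' g = 1 ↔ g ∈ N' := fun g => QuotientGroup.eq_one_iff g
    set Rb : Subgroup (H ⧸ N') := Rt.map π' with hRb
    have hQb : Q.map π' = ⊥ := by
      rw [Subgroup.map_eq_bot_iff, QuotientGroup.ker_mk']; exact hQN'
    have hEb : ∀ E ∈ 𝒦, E.map π' ≤ pCoreOf p Rb := by
      intro E hE
      apply Cfsg.Agent.Lib.Helper47.le_pCoreOf
      · exact Subgroup.map_mono (le_sup_left.trans (h.le_Rt hE))
      · have e1 : E.map π' = (E ⊔ Q).map π' := by rw [Subgroup.map_sup, hQb, sup_bot_eq]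
        rw [e1]
        exact (Subgroup.map_mono (h.hnorm E hE)).trans (Subgroup.le_normalizer_map π')
      · rintro ⟨_, e, he, rfl⟩
        obtain ⟨k, hk⟩ := hpow E hE e he
        refine ⟨k, Subtype.ext ?_⟩
        show (π' e) ^ (p ^ k) = 1
        rw [← map_pow]; exact (hker _).mpr hk
    have hRble : Rt ≤ (pCoreOf p Rb).comap π' := by
      apply sup_le
      · apply sSup_le
        intro E hE
        exact Subgroup.map_le_iff_le_comap.mp (hEb E hE)
      · intro q hq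
        rw [Subgroup.mem_comap, (hker q).mpr (hQN' hq)]
        exact Subgroup.one_mem _
    have hRtpow : ∀ r ∈ Rt, ∃ k : ℕ, r ^ (p ^ k) ∈ N' := by
      intro r hr
      have h1 : π' r ∈ pCoreOf p Rb := hRble hr
      obtain ⟨k, hk⟩ := (Cfsg.Agent.Lib.Helper47.pCoreOf_isPGroup p Rb) ⟨π' r, h1⟩
      refine ⟨k, ?_⟩
      have h2 : (π' r) ^ (p ^ k) = 1 := by
        have := congrArg Subtype.val hk
        simpa using this
      rw [← map_pow] at h2
      exact (hker _).mp h2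
    have hresN' : Cfsg.pResidual p H ≤ Q ⊔ N := by
      rw [sup_comm]
      unfold Cfsg.pResidual
      rw [Subgroup.closure_le]
      intro x hx
      obtain ⟨k, hk⟩ := hRtpow x (hp'Rt x hx)
      exact Cfsg.Agent.Lib.Helper47.mem_of_pow_mem_of_coprime (C := N') (m := orderOf x) (k := k)
        hx (by rw [pow_orderOf_eq_one]; exact Subgroup.one_mem _) hk
    exact Cfsg.Agent.Lib.Helper47.pResidual_le_of_le_sup Q N hQp hresN'
  · -- Case II
    exfalso
    apply hNcl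
    push Not at hI
    have hM : ∀ E ∈ 𝒦, ∀ n ∈ N', n ∈ E → ∀ e ∈ E, ⁅n, e⁆ ∈ Q := by
      intro E hE
      rcases spi_dichotomy (h.hspi E hE) (h.pCoreOf_E_le hE) (hXN' E) with hA | hB
      · obtain ⟨x, hx, hcop, hxN⟩ := hI E hE
        exact absurd (hA x hx hcop) hxN
      · exact hB
    have hQcent : ∀ A : Subgroup H, Q ≤ Cfsg.Agent.Lib.Helper47.centMod ⊤ A Q (hXn ⊤) := by
      intro A q hq
      refine ⟨Subgroup.mem_top q, fun y _ => ?_⟩
      rw [commutatorElement_def]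
      have h1 : y * q * y⁻¹ ∈ Q := hQn.conj_mem q hq y
      exact Q.mul_mem h1 (Q.inv_mem hq)
    set N₀ : Subgroup H := N' ⊓ Rt with hN₀
    have claim2 : Rt ≤ Cfsg.Agent.Lib.Helper47.centMod ⊤ N₀ Q (hXn ⊤) := by
      apply sup_le _ (hQcent N₀)
      apply sSup_le
      intro E hE
      apply spi_le_of_pElements (h.hspi E hE)
      rintro x hx ⟨j, hxj⟩
      refine ⟨Subgroup.mem_top x, fun y hy => ?_⟩
      have hyn : y ∈ normalizer ((E ⊔ Q : Subgroup H) : Set H) := h.hnorm E hE hy.2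
      have hyx : ⁅y, x⁆ ∈ N' := by
        rw [commutatorElement_def]
        have h1 : x * y⁻¹ * x⁻¹ ∈ N' := hN'n.conj_mem _ (N'.inv_mem hy.1) x
        have e : y * x * y⁻¹ * x⁻¹ = y * (x * y⁻¹ * x⁻¹) := by group
        rw [e]; exact N'.mul_mem hy.1 h1
      exact h.comm_mem_Et hE hQN' (hM E hE) hx hxj hyn hyx
    have hRtT : ∀ T : Sylow p H, Rt ⊔ (T : Subgroup H) = ⊤ :=
      fun T => sup_sylow_eq_top Rt hp'Rt T
    have key : ∀ T : Sylow p H, (T : Subgroup H) ⊓ N' ≤ Q := by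
      intro T
      set Pt : Subgroup H := (T : Subgroup H) ⊓ N' with hPt
      have hQT : Q ≤ (T : Subgroup H) := Cfsg.Agent.Lib.Helper47.pCore_le_sylow T
      have hQPt : Q ≤ Pt := le_inf hQT hQN'
      have claim3 : Rt ≤ Cfsg.Agent.Lib.Helper47.centMod ⊤ Pt Q (hXn ⊤) := by
        apply sup_le _ (hQcent Pt)
        apply sSup_le
        intro E hE
        apply spi_le_of_pElements (h.hspi E hE)
        rintro e he ⟨j, hej⟩
        refine ⟨Subgroup.mem_top e, fun x hx => ?_⟩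
        have heRt : e ∈ Rt := (le_sup_left.trans (h.le_Rt hE)) he
        have hxn : x ∈ normalizer (Rt : Set H) := by
          rw [Subgroup.normalizer_eq_top]; exact Subgroup.mem_top x
        have hd : ⁅x, e⁆ ∈ N₀ := by
          constructor
          · rw [commutatorElement_def]
            have h1 : e * x⁻¹ * e⁻¹ ∈ N' := hN'n.conj_mem _ (N'.inv_mem hx.2) e
            have e' : x * e * x⁻¹ * e⁻¹ = x * (e * x⁻¹ * e⁻¹) := by group
            rw [e']; exact N'.mul_mem hx.2 h1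
          · rw [commutatorElement_def]
            have h1 : x * e * x⁻¹ ∈ Rt := hRtn.conj_mem _ heRt x
            exact Rt.mul_mem h1 (Rt.inv_mem heRt)
        apply comm_mem_of_pElement hQp hQRt h.pCoreOf_Rt_le heRt hej hxn
        intro r hr
        rw [← commutatorElement_inv]
        exact Q.inv_mem ((claim2 hr).2 _ hd)
      have hnorm : Pt.Normal := by
        rw [← Subgroup.normalizer_eq_top_iff, eq_top_iff, ← hRtT T]
        apply sup_le
        · apply Cfsg.Agent.Lib.Helper46.le_normalizer_of_conj_mem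
          intro r hr x hx
          have h1 : ⁅r, x⁆ ∈ Q := by
            rw [← commutatorElement_inv]
            exact Q.inv_mem ((claim3 hr).2 x hx)
          have e : r * x * r⁻¹ = ⁅r, x⁆ * x := by rw [commutatorElement_def]; group
          rw [e]
          exact Pt.mul_mem (hQPt h1) hx
        · apply Cfsg.Agent.Lib.Helper46.le_normalizer_of_conj_mem
          intro t ht x hx
          exact ⟨(T : Subgroup H).mul_mem ((T : Subgroup H).mul_mem ht hx.1)
            ((T : Subgroup H).inv_mem ht), hN'n.conj_mem _ hx.2 t⟩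
      exact Cfsg.Agent.Lib.Helper47.le_pCore hnorm (T.isPGroup'.to_le inf_le_left)
    apply Cfsg.Agent.Lib.Helper47.isPClosed_of_forall_pElement_mem (E := Q) hQp (hXn N)
    rintro t ht ⟨k, hk⟩
    obtain ⟨T, hT⟩ := (isPGroup_zpowers_of_pow (p := p) hk).exists_le_sylow
    exact key T ⟨hT (Subgroup.mem_zpowers t), (le_sup_left : N ≤ N') ht⟩

end FamCtx

end spi

end Cfsg.Agent.Lib.Helper45
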