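import Mathlib
import Cfsg.Agent.Lib.Helper38.RhDefs
import Cfsg.Agent.Lib.Helper12.RtNonsplitD
import Cfsg.Agent.Lib.Helper12.RtInst
import Cfsg.Agent.Lib.Helper52.RtR7CENT
import Cfsg.Agent.Lib.Helper75.RtR7NORM
import Cfsg.Agent.Lib.Helper18.RtMOD7

/-! # Rh hive (helper38): `TorusHyp` for the small Ree groups (helper45)

`x` of prime order `p ∣ N = q² - q + 1`: `C(x)` is cyclic of order dividing `N`, and `|N(⟨x⟩)|` divides `6 |C(x)|`. -/

set_option autoImplicit false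

namespace Cfsg.Agent.Lib.Helper38.Rh

open Cfsg.Agent.Lib.Helper12.Rt Cfsg.Agent.Lib.Helper12.ReeOut Cfsg.Agent.Lib.Helper12.ReeInv

/-- arithmetic of a prime `p ∣ q² - q + 1` -/
theorem th_arith (q p : ℕ) (hq : 1 ≤ q) (hq3 : 3 ∣ q) (hp : p.Prime) (hpN : p ∣ q ^ 2 - q + 1) :
    ¬ p ∣ q ∧ p ∣ q ^ 6 - 1 ∧ (∀ k : ℕ, 1 ≤ k → k < 6 → ¬ p ∣ q ^ k - 1) ∧ p ≠ 2 ∧ p ≠ 3 ∧ ¬ p ∣ q + 1 := by
  haveI : Fact p.Prime := ⟨hp⟩
  set z : ZMod p := (q : ZMod p) with hz
  have hqq : q ≤ q ^ 2 := by nlinarith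
  have hN : z ^ 2 - z + 1 = 0 := by
    have := (ZMod.natCast_eq_zero_iff (q ^ 2 - q + 1) p).mpr hpN
    rw [Nat.cast_add, Nat.cast_sub hqq, Nat.cast_pow, Nat.cast_one] at this
    exact this
  have hcast : ∀ k : ℕ, p ∣ q ^ k - 1 ↔ z ^ k = 1 := by
    intro k
    have h1 : 1 ≤ q ^ k := Nat.one_le_pow _ _ hq
    rw [← ZMod.natCast_eq_zero_iff, Nat.cast_sub h1, Nat.cast_pow, Nat.cast_one, sub_eq_zero]
  have h1ne : (1 : ZMod p) ≠ 0 := one_ne_zero
  -- p ≠ 3 : N ≡ 1 mod 3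
  have hp3 : p ≠ 3 := by
    rintro rfl
    obtain ⟨c, rfl⟩ := hq3
    have : (3 * c) ^ 2 - 3 * c + 1 = 3 * (3 * c * c - c) + 1 := by
      have : 3 * c ≤ (3 * c) ^ 2 := hqq
      have h2 : (3 * c) ^ 2 = 3 * (3 * c * c) := by ring
      have h3 : c ≤ 3 * c * c := by nlinarith
      omega
    rw [this] at hpN
    omega
  -- p ≠ 2 : N is odd
  have hp2 : p ≠ 2 := by
    rintro rfl
    have h2 : 2 ∣ q ^ 2 - q := by
      have : q ^ 2 - q = q * (q - 1) := by
        rw [Nat.mul_sub, mul_one, pow_two]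
      rw [this]
      exact (Nat.even_mul_pred_self q).two_dvd
    omega
  have h2ne : (2 : ZMod p) ≠ 0 := by
    intro h
    have h' : ((2 : ℕ) : ZMod p) = 0 := by exact_mod_cast h
    rw [ZMod.natCast_eq_zero_iff] at h'
    exact hp2 ((Nat.prime_dvd_prime_iff_eq hp Nat.prime_two).mp h')
  have h3ne : (3 : ZMod p) ≠ 0 := by
    intro h
    have h' : ((3 : ℕ) : ZMod p) = 0 := by exact_mod_cast h
    rw [ZMod.natCast_eq_zero_iff] at h'
    exact hp3 ((Nat.prime_dvd_prime_iff_eq hp Nat.prime_three).mp h')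
  have hz2 : z ^ 2 = z - 1 := by linear_combination hN
  have hz3 : z ^ 3 = -1 := by linear_combination (z + 1) * hN
  have hz0 : z ≠ 0 := by
    intro h
    rw [h] at hN
    apply h1ne
    linear_combination hN
  have hzm1 : z ≠ -1 := by
    intro h
    rw [h] at hN
    apply h3ne
    linear_combination hN
  refine ⟨?_, ?_, ?_, hp2, hp3, ?_⟩
  · intro h
    exact hz0 ((ZMod.natCast_eq_zero_iff q p).mpr h)
  · rw [hcast]
    calc z ^ 6 = (z ^ 3) ^ 2 := by ring
      _ = 1 := by rw [hz3]; ring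
  · intro k hk1 hk6
    rw [hcast]
    intro hk
    interval_cases k
    · -- z = 1
      rw [pow_one] at hk
      rw [hk] at hN
      apply h1ne
      linear_combination hN
    · -- z^2 = 1
      have hz : z = 2 := by linear_combination hk - hz2 + 0 * hN
      rw [hz] at hN
      apply h3ne
      linear_combination hN
    · -- z^3 = 1
      apply h2ne
      linear_combination hz3 - hk
    · -- z^4 = 1
      have : z = -1 := by
        have h4 : z ^ 4 = - z := by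
          calc z ^ 4 = z ^ 3 * z := by ring
            _ = - z := by rw [hz3]; ring
        linear_combination h4 - hk
      exact hzm1 this
    · -- z^5 = 1
      have h5 : z ^ 5 = - z ^ 2 := by
        calc z ^ 5 = z ^ 3 * z ^ 2 := by ring
          _ = - z ^ 2 := by rw [hz3]; ring
      have : z = 0 := by linear_combination -(hk - h5) - hz2 + 0 * hN
      exact hz0 this
  · intro h
    have := (ZMod.natCast_eq_zero_iff (q + 1) p).mpr h
    rw [Nat.cast_add, Nat.cast_one] at this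
    apply hzm1
    linear_combination this

section main
variable {K : Type*} [Field K] [Fintype K] {G : Type*} [Group G] {m : ℕ}

/-- `x` of prime order `p ∣ N` commutes with no element of prime order `l ∣ q³(q-1)(q+1)` -/
theorem th_no_comm (D : RtData K G m) (x : G) (p : ℕ) (hp : p.Prime)
    (hpN : p ∣ (3 ^ (2 * m + 1)) ^ 2 - 3 ^ (2 * m + 1) + 1) (hx : orderOf x = p)
    (y : G) (l : ℕ) (hl : l.Prime) (hy : orderOf y = l) (hyx : y * x = x * y)
    (hld : l ∣ (3 ^ (2 * m + 1)) ^ 3 * (3 ^ (2 * m + 1) - 1) * (3 ^ (2 * m + 1) + 1)) : False := by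
  have := D.finite
  have hq1 : 1 ≤ 3 ^ (2 * m + 1) := Nat.one_le_pow _ _ (by norm_num)
  have hq3 : 3 ∣ 3 ^ (2 * m + 1) := ⟨3 ^ (2 * m), by rw [pow_succ]; ring⟩
  obtain ⟨hpq, hp6, hpk, hp2, hp3, hpq1⟩ := th_arith _ p hq1 hq3 hp hpN
  have hpqm1 : ¬ p ∣ 3 ^ (2 * m + 1) - 1 := by
    have := hpk 1 le_rfl (by norm_num)
    rwa [pow_one] at this
  have hpqm2 : ¬ p ∣ (3 ^ (2 * m + 1)) ^ 2 - 1 := hpk 2 (by norm_num) (by norm_num)
  have hy1 : y ≠ 1 := by
    rintro rfl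
    rw [orderOf_one] at hy
    exact hl.one_lt.ne hy
  have hxy : x ∈ Subgroup.centralizer ({y} : Set G) := Subgroup.mem_centralizer_singleton_iff.mpr hyx.symm
  have hpC : p ∣ Nat.card ↥(Subgroup.centralizer ({y} : Set G)) := by
    have h1 : orderOf (⟨x, hxy⟩ : ↥(Subgroup.centralizer ({y} : Set G))) ∣ _ := orderOf_dvd_natCard _
    rw [← Subgroup.orderOf_coe] at h1
    rw [← hx]
    exact h1
  by_cases hl3 : l = 3
  · subst hl3
    have hy3 : y ^ 3 ^ 1 = 1 := by rw [pow_one, ← hy, pow_orderOf_eq_one]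
    have h := D.orderOf_dvd_of_comm_three y hy1 1 hy3 x hyx
    rw [hx] at h
    rcases (Nat.Prime.dvd_mul hp).mp h with h | h
    · exact hpq (hp.dvd_of_dvd_pow h)
    · exact hpqm1 h
  by_cases hl2 : l = 2
  · subst hl2
    have hy2 : y * y = 1 := by rw [← pow_two, ← hy, pow_orderOf_eq_one]
    obtain ⟨c, hc⟩ := D.inv_conj y hy1 hy2
    have hax' : D.I.a * (c⁻¹ * x * c) = (c⁻¹ * x * c) * D.I.a := by
      have h1 : D.I.a = c⁻¹ * y * c := by rw [← hc]; group
      rw [h1]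
      calc c⁻¹ * y * c * (c⁻¹ * x * c) = c⁻¹ * (y * x) * c := by group
        _ = c⁻¹ * (x * y) * c := by rw [hyx]
        _ = c⁻¹ * x * c * (c⁻¹ * y * c) := by group
    have hox' : orderOf (c⁻¹ * x * c) = p := by
      have h1 : c⁻¹ * x * c = MulAut.conj c⁻¹ x := by simp
      rw [h1, MulEquiv.orderOf_eq, hx]
    have hrange : ∀ w : G, w ∈ D.I.φ.range → orderOf w = p → False := by
      intro w hw how
      have h1 : orderOf (⟨w, hw⟩ : ↥D.I.φ.range) ∣ Nat.card ↥D.I.φ.range := orderOf_dvd_natCard _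
      rw [← Subgroup.orderOf_coe] at h1
      have h2 : p ∣ 3 ^ (2 * m + 1) * ((3 ^ (2 * m + 1)) ^ 2 - 1) := by
        rw [← D.card_phi_range, ← how]
        exact Dvd.dvd.mul_left h1 2
      rcases (Nat.Prime.dvd_mul hp).mp h2 with h | h
      · exact hpq h
      · exact hpqm2 h
    obtain ⟨z, hz | hz⟩ := D.I.hcent _ hax'
    · exact hrange _ ⟨z, hz.symm⟩ hox'
    · -- x' = a * φ z, of odd order p: impossible
      have hpodd : Odd p := hp.odd_of_ne_two hp2
      have hap : D.I.a ^ p = D.I.a := by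
        obtain ⟨k, rfl⟩ := hpodd
        rw [pow_succ, pow_mul, pow_two, D.I.ha2, one_pow, one_mul]
      have h1 : (D.I.a * D.I.φ z) ^ p = 1 := by
        rw [← hz, ← hox', pow_orderOf_eq_one]
      have hcomm : Commute D.I.a (D.I.φ z) := D.I.hcomm z
      rw [hcomm.mul_pow, hap, ← map_pow] at h1
      have h2 : D.I.a = D.I.φ (z ^ p)⁻¹ := by
        rw [map_inv]
        exact eq_inv_of_mul_eq_one_left h1
      exact D.I.hne _ h2
  · -- l odd, l ∣ q - 1 or l ∣ q + 1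
    have hl3' : ¬ l ∣ (3 ^ (2 * m + 1)) ^ 3 := by
      intro h
      have h1 := hl.dvd_of_dvd_pow (hl.dvd_of_dvd_pow h)
      exact hl3 ((Nat.prime_dvd_prime_iff_eq hl Nat.prime_three).mp h1)
    rcases (Nat.Prime.dvd_mul hl).mp hld with h | h
    · rcases (Nat.Prime.dvd_mul hl).mp h with h | h
      · exact hl3' h
      · obtain ⟨g, hg⟩ := D.cent_split y l hl hl2 h hy
        rw [hg, map_conj_card, D.card_H] at hpC
        exact hpqm1 hpC
    · have h1 := (D.cent_nonsplit y l hl hl2 h hy).1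
      rw [h1] at hpC
      exact hpq1 hpC

/-- `TorusHyp` from the data `RtData` and a faithful 7-dimensional module -/
theorem th_core (D : RtData K G m) {W : Type*} [AddCommGroup W] [Module K W] (hW : Module.finrank K W = 7)
    (ρ : G →* Module.End K W) (hρ : Function.Injective ρ) : TorusHyp G (NN m) := by
  intro x p hp hpN hx
  have := D.finite
  have hpN' : p ∣ (3 ^ (2 * m + 1)) ^ 2 - 3 ^ (2 * m + 1) + 1 := hpN
  have hq1 : 1 ≤ 3 ^ (2 * m + 1) := Nat.one_le_pow _ _ (by norm_num)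
  have hq3 : 3 ∣ 3 ^ (2 * m + 1) := ⟨3 ^ (2 * m), by rw [pow_succ]; ring⟩
  obtain ⟨hpq, hp6, hpk, hp2, hp3, hpq1⟩ := th_arith _ p hq1 hq3 hp hpN'
  -- |C(x)| is prime to q³(q-1)(q+1)
  have hcop : (Nat.card ↥(Subgroup.centralizer ({x} : Set G))).Coprime
      ((3 ^ (2 * m + 1)) ^ 3 * (3 ^ (2 * m + 1) - 1) * (3 ^ (2 * m + 1) + 1)) := by
    apply Nat.coprime_of_dvd
    intro l hl hlC hld
    haveI : Fact l.Prime := ⟨hl⟩
    obtain ⟨y, hy⟩ := exists_prime_orderOf_dvd_card' (G := ↥(Subgroup.centralizer ({x} : Set G))) l hlC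
    have hyx : (y : G) * x = x * y := Subgroup.mem_centralizer_singleton_iff.mp y.2
    exact th_no_comm D x p hp hpN' hx (y : G) l hl (by rw [Subgroup.orderOf_coe, hy]) hyx hld
  have hdvdN : Nat.card ↥(Subgroup.centralizer ({x} : Set G)) ∣ NN m := by
    have h1 : Nat.card ↥(Subgroup.centralizer ({x} : Set G)) ∣ Nat.card G := Subgroup.card_subgroup_dvd_card _
    rw [D.card_G, q_cube_add_one _ hq1] at h1
    have h2 : (3 ^ (2 * m + 1)) ^ 3 * (3 ^ (2 * m + 1) - 1) *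
        ((3 ^ (2 * m + 1) + 1) * (3 ^ (2 * m + 1) * (3 ^ (2 * m + 1) - 1) + 1)) =
        ((3 ^ (2 * m + 1)) ^ 3 * (3 ^ (2 * m + 1) - 1) * (3 ^ (2 * m + 1) + 1)) * NN m := by
      have h3 : NN m = 3 ^ (2 * m + 1) * (3 ^ (2 * m + 1) - 1) + 1 := by
        show (3 ^ (2 * m + 1)) ^ 2 - 3 ^ (2 * m + 1) + 1 = _
        rw [Nat.mul_sub, mul_one, pow_two]
      rw [h3]
      ring
    rw [h2] at h1
    exact hcop.dvd_of_dvd_mul_left h1
  have hK := D.R.hK
  have hpK : ¬ p ∣ Fintype.card K := by rw [hK]; exact hpq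
  have hp6' : p ∣ Fintype.card K ^ 6 - 1 := by rw [hK]; exact hp6
  have hpk' : ∀ k : ℕ, 1 ≤ k → k < 6 → ¬ p ∣ Fintype.card K ^ k - 1 := by rw [hK]; exact hpk
  refine ⟨?_, hdvdN, ?_⟩
  · apply r7_cent hW ρ hρ p hp hpK hp6' hpk' x hx
    · intro c hc
      exact Subgroup.mem_centralizer_singleton_iff.mp hc
    · rw [hK]
      exact Nat.Coprime.coprime_dvd_right
        (Dvd.dvd.mul_right (Dvd.dvd.mul_left (dvd_refl _) _) _) hcop
  · exact r7_norm hW ρ hρ p hp hpK hp6' hpk' x hx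

end main

section ree
open Cfsg Cfsg.Lie
variable {K : Type*} [Field K] [Fintype K] {m : ℕ}

/-- `TorusHyp` for `²G₂(q)` -/
theorem torusHyp_ree (hm : 1 ≤ m) (hK : Fintype.card K = 3 ^ (2 * m + 1)) :
    TorusHyp ↥(twistedG2 K (3 ^ m)) (NN m) := by
  obtain ⟨W, ρ, hW, hρ⟩ := exists_rep7 (K := K) hm hK
  exact th_core (rtData hm hK) hW ρ hρ

end ree

end Cfsg.Agent.Lib.Helper38.Rh
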