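import Mathlib
import Cfsg.Agent.Lib.Helper45.RsDefs
import Cfsg.Agent.S1157
import Cfsg.Agent.Lib.Helper12.ReeInvC
import Cfsg.Agent.Lib.Helper55.RtINVCONJ

/-! # Rs hive (helper45, S2361), leaf RS-INV (written by helper13, compiled + landed by helper45 at helper13's request): every involution `t` of the small Ree group `²G₂(q)` has
`C(t) ≃* Z₂ × PSL₂(K)` (true for helper12's diagonal involution `aG`; all involutions are conjugate by
`Rt.inv_conj_of_sylow` + S1157; conjugation carries centralizers). -/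

set_option autoImplicit false

namespace Cfsg.Agent.Lib.Helper45.Rs

/-- conjugation by `g` carries `C(a)` onto `C(g a g⁻¹)` -/
def inv_conjEquiv {G : Type*} [Group G] (g a : G) :
    ↥(Subgroup.centralizer ({a} : Set G)) ≃* ↥(Subgroup.centralizer ({g * a * g⁻¹} : Set G)) where
  toFun x := ⟨g * x * g⁻¹, by
    have hx : a * (x : G) = x * a := Subgroup.mem_centralizer_singleton_iff.1 x.2 |>.symm
    rw [Subgroup.mem_centralizer_singleton_iff]
    calc g * ↑x * g⁻¹ * (g * a * g⁻¹) = g * (↑x * a) * g⁻¹ := by group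
      _ = g * (a * ↑x) * g⁻¹ := by rw [hx]
      _ = g * a * g⁻¹ * (g * ↑x * g⁻¹) := by group⟩
  invFun y := ⟨g⁻¹ * y * g, by
    have hy : g * a * g⁻¹ * (y : G) = y * (g * a * g⁻¹) :=
      Subgroup.mem_centralizer_singleton_iff.1 y.2 |>.symm
    rw [Subgroup.mem_centralizer_singleton_iff]
    calc g⁻¹ * ↑y * g * a = g⁻¹ * (↑y * (g * a * g⁻¹)) * g := by group
      _ = g⁻¹ * (g * a * g⁻¹ * ↑y) * g := by rw [hy]
      _ = a * (g⁻¹ * ↑y * g) := by group⟩
  left_inv x := by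
    apply Subtype.ext
    show g⁻¹ * (g * ↑x * g⁻¹) * g = ↑x
    group
  right_inv y := by
    apply Subtype.ext
    show g * (g⁻¹ * ↑y * g) * g⁻¹ = ↑y
    group
  map_mul' x y := by
    apply Subtype.ext
    show g * (↑x * ↑y) * g⁻¹ = g * ↑x * g⁻¹ * (g * ↑y * g⁻¹)
    group

section ree
open Cfsg Cfsg.Lie
variable {K : Type*} [Field K] [Fintype K] {m : ℕ}

/-- RS-INV (on `Cfsg.Agent.S1152.result`, `Cfsg.Agent.S1157.result`, helper12's `ReeInv.aG` and
`Cfsg.Agent.Lib.Helper12.Rt.inv_conj_of_sylow` [helper55/helper69, landed]).  EVERY involution `t` of `²G₂(q)` has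
`C(t) ≃* Z₂ × PSL₂(K)`.  (True for the diagonal involution `a`; all involutions are conjugate; conjugation carries centralizers.) -/
theorem centralizer_invol_iso (hm : 1 ≤ m) (hK : Fintype.card K = 3 ^ (2 * m + 1))
    (t : ↥(twistedG2 K (3 ^ m))) (ht1 : t ≠ 1) (ht2 : t * t = 1) :
    Nonempty (↥(Subgroup.centralizer ({t} : Set ↥(twistedG2 K (3 ^ m)))) ≃*
      Multiplicative (ZMod 2) × Matrix.ProjectiveSpecialLinearGroup (Fin 2) K) := by
  have : CharP K 3 := Cfsg.Agent.Lib.Helper36.ree_charP hK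
  have := Cfsg.Agent.Lib.Helper12.ReeInv.ree_finite (K := K) (m := m) hK
  obtain ⟨S⟩ : Nonempty (Sylow 2 ↥(twistedG2 K (3 ^ m))) := inferInstance
  obtain ⟨h8, hexp⟩ := Cfsg.Agent.Lib.Helper12.ReeInv.sylow_two hK S
  obtain ⟨hC, hN⟩ := Cfsg.Agent.S1157.result hm hK S
  obtain ⟨g, hg⟩ := Cfsg.Agent.Lib.Helper12.Rt.inv_conj_of_sylow S h8 hexp hC hN
    (Cfsg.Agent.Lib.Helper12.ReeInv.aG hK) t (Cfsg.Agent.Lib.Helper12.ReeInv.aG_ne_one hK)
    (Cfsg.Agent.Lib.Helper12.ReeInv.aG_sq hK) ht1 ht2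
  obtain ⟨e⟩ := Cfsg.Agent.Lib.Helper12.ReeInv.centralizer_iso (K := K) (m := m) hK
  subst hg
  exact ⟨(inv_conjEquiv g (Cfsg.Agent.Lib.Helper12.ReeInv.aG hK)).symm.trans e⟩

end ree

end Cfsg.Agent.Lib.Helper45.Rs
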