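import Mathlib
import Cfsg.Agent.Lib.Helper45.RsDefs
import Cfsg.Agent.Lib.Helper45.RsINV
import Cfsg.Agent.Lib.Helper55.RsTHREE
import Cfsg.Agent.Lib.Helper68.RsPROD
import Cfsg.Agent.Lib.Helper72.RsARITH
import Cfsg.Agent.Lib.Helper84.RsPSLZ
import Cfsg.Agent.Lib.Helper85.RsPSL
import Cfsg.Agent.Lib.Helper88.RsODD
import Cfsg.Agent.Lib.Helper88.RsUNIQ
import Cfsg.Agent.Lib.Helper94.RsAL
import Cfsg.Agent.Lib.Helper12.ReeNormRee
import Cfsg.Agent.S1069

/-! # Rs hive (helper45): S2361 modulo `HallHyp` (= the part of S1158 that is needed)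

Leaves: RS-AL (helper94), RS-ODD + RS-UNIQ (helper88), RS-ARITH + RS-ARITH2 (helper72), RS-PSL (helper85),
RS-PSLZ (helper84), RS-PROD (helper68), RS-THREE (helper55), RS-INV (helper13).  RS-FOUR + RS-MAIN: helper45. -/

set_option autoImplicit false

namespace Cfsg.Agent.Lib.Helper45.Rs

section ree
open Cfsg Cfsg.Lie
variable {K : Type*} [Field K] [Fintype K] {m : ℕ}

/-- elements of exponent-2 subgroup commute -/
theorem four_comm {G : Type*} [Group G] {x y : G} (hx : x * x = 1) (hy : y * y = 1) (hxy : (x * y) * (x * y) = 1) :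
    x * y = y * x := by
  have h1 : x⁻¹ = x := inv_eq_of_mul_eq_one_left hx
  have h2 : y⁻¹ = y := inv_eq_of_mul_eq_one_left hy
  have h3 : (x * y)⁻¹ = x * y := inv_eq_of_mul_eq_one_left hxy
  calc x * y = (x * y)⁻¹ := h3.symm
    _ = y⁻¹ * x⁻¹ := mul_inv_rev x y
    _ = y * x := by rw [h1, h2]

/-- the normalizer of `V` normalizes the centralizer of `V` -/
theorem four_normalizer_le {G : Type*} [Group G] (V : Subgroup G) :
    Subgroup.normalizer (V : Set G) ≤ Subgroup.normalizer ((Subgroup.centralizer (V : Set G) : Subgroup G) : Set G) := by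
  intro n hn
  rw [Subgroup.mem_normalizer_iff] at hn ⊢
  have key : ∀ n : G, (∀ h, h ∈ V ↔ n * h * n⁻¹ ∈ V) → ∀ c, c ∈ Subgroup.centralizer (V : Set G) →
      n * c * n⁻¹ ∈ Subgroup.centralizer (V : Set G) := by
    intro n hn c hc
    rw [Subgroup.mem_centralizer_iff] at hc ⊢
    intro w hw
    have hw' : n⁻¹ * w * n ∈ V := by
      have := (hn (n⁻¹ * w * n)).mpr (by simpa [mul_assoc] using hw)
      exact this
    have := hc _ hw'
    calc w * (n * c * n⁻¹) = n * ((n⁻¹ * w * n) * c) * n⁻¹ := by group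
      _ = n * (c * (n⁻¹ * w * n)) * n⁻¹ := by rw [this]
      _ = n * c * n⁻¹ * w := by group
  intro c
  constructor
  · exact key n hn c
  · intro hc
    have hn' : ∀ h, h ∈ V ↔ n⁻¹ * h * n⁻¹⁻¹ ∈ V := by
      intro h
      rw [hn (n⁻¹ * h * n⁻¹⁻¹)]
      simp [mul_assoc]
    have := key n⁻¹ hn' _ hc
    simpa [mul_assoc] using this

/-- RS-FOUR -/
theorem four_group_normalizer (hm : 1 ≤ m) (hK : Fintype.card K = 3 ^ (2 * m + 1))
    (V : Subgroup ↥(twistedG2 K (3 ^ m))) (hV : Nat.card V = 4)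
    (l : ℕ) (hl : l.Prime) (hl2 : l ≠ 2) (hdvd : l ∣ 3 ^ (2 * m + 1) + 1) :
    ∃ X : Subgroup ↥(twistedG2 K (3 ^ m)), Nat.card X = l ∧
      Subgroup.normalizer (V : Set ↥(twistedG2 K (3 ^ m))) ≤ Subgroup.normalizer (X : Set ↥(twistedG2 K (3 ^ m))) := by
  classical
  have : CharP K 3 := Cfsg.Agent.Lib.Helper36.ree_charP hK
  have : Finite ↥(twistedG2 K (3 ^ m)) := Cfsg.Agent.Lib.Helper12.ReeInv.ree_finite hK
  have : Fact (Nat.Prime 2) := ⟨Nat.prime_two⟩
  -- V is a 2-group inside a Sylow 2-subgroup of exponent 2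
  have hVp : IsPGroup 2 V := IsPGroup.of_card (n := 2) (by rw [hV]; norm_num)
  obtain ⟨P, hVP⟩ := hVp.exists_le_sylow
  obtain ⟨_, hPexp⟩ := Cfsg.Agent.Lib.Helper12.ReeInv.sylow_two hK P
  have hexp : ∀ x ∈ V, x * x = 1 := fun x hx => hPexp x (hVP hx)
  -- pick t ≠ 1 in V
  have hVne : V ≠ ⊥ := by
    intro h
    rw [h, Subgroup.card_bot] at hV
    norm_num at hV
  obtain ⟨⟨t, htV⟩, ht1'⟩ := Subgroup.ne_bot_iff_exists_ne_one.mp hVne
  have ht1 : t ≠ 1 := fun h => ht1' (Subtype.ext h)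
  have ht2 : t * t = 1 := hexp t htV
  -- pick v ∈ V, v ≠ 1, v ≠ t
  have hex : ∃ v ∈ V, v ≠ 1 ∧ v ≠ t := by
    by_contra hcon
    push Not at hcon
    have hsub : (V : Set ↥(twistedG2 K (3 ^ m))) ⊆ {1, t} := by
      intro v hv
      by_cases h1 : v = 1
      · simp [h1]
      · have := hcon v hv h1
        simp [this]
    have hle : Nat.card V ≤ 2 := by
      have h1 : Nat.card (V : Set ↥(twistedG2 K (3 ^ m))) ≤ Nat.card ({1, t} : Set ↥(twistedG2 K (3 ^ m))) :=
        Nat.card_mono (Set.toFinite _) hsub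
      have h2 : Nat.card ({1, t} : Set ↥(twistedG2 K (3 ^ m))) ≤ 2 := by
        rw [Nat.card_coe_set_eq]
        exact (Set.ncard_insert_le _ _).trans (by simp)
      exact h1.trans h2
    omega
  obtain ⟨v, hvV, hv1, hvt⟩ := hex
  have hv2 : v * v = 1 := hexp v hvV
  have htv : t * v = v * t := four_comm ht2 hv2 (hexp _ (V.mul_mem htV hvV))
  -- V = closure {t, v}
  have hclos : V = Subgroup.closure ({t, v} : Set ↥(twistedG2 K (3 ^ m))) := by
    symm
    have hle : Subgroup.closure ({t, v} : Set ↥(twistedG2 K (3 ^ m))) ≤ V := by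
      rw [Subgroup.closure_le]
      intro x hx
      rcases hx with rfl | rfl
      · exact htV
      · exact hvV
    apply Subgroup.eq_of_le_of_card_ge hle
    -- closure has at least 3 elements, and its card divides 4
    have hdv : Nat.card (Subgroup.closure ({t, v} : Set ↥(twistedG2 K (3 ^ m)))) ∣ 4 := hV ▸ Subgroup.card_dvd_of_le hle
    have h3 : 3 ≤ Nat.card (Subgroup.closure ({t, v} : Set ↥(twistedG2 K (3 ^ m)))) := by
      have hsub : ({1, t, v} : Set ↥(twistedG2 K (3 ^ m))) ⊆ (Subgroup.closure ({t, v} : Set ↥(twistedG2 K (3 ^ m))) : Set _) := by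
        intro x hx
        rcases hx with rfl | rfl | rfl
        · exact Subgroup.one_mem _
        · exact Subgroup.subset_closure (by simp)
        · exact Subgroup.subset_closure (by simp)
      have h1 : Nat.card ({1, t, v} : Set ↥(twistedG2 K (3 ^ m))) ≤ Nat.card (Subgroup.closure ({t, v} : Set ↥(twistedG2 K (3 ^ m))) : Set _) :=
        Nat.card_mono (Set.toFinite _) hsub
      have h2 : Nat.card ({1, t, v} : Set ↥(twistedG2 K (3 ^ m))) = 3 := by
        rw [Nat.card_coe_set_eq, Set.ncard_eq_three]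
        exact ⟨1, t, v, fun h => ht1 h.symm, fun h => hv1 h.symm, fun h => hvt h.symm, rfl⟩
      rw [h2] at h1
      exact h1
    have : Nat.card (Subgroup.closure ({t, v} : Set ↥(twistedG2 K (3 ^ m)))) = 4 := by
      have hle4 := Nat.le_of_dvd (by norm_num) hdv
      generalize Nat.card (Subgroup.closure ({t, v} : Set ↥(twistedG2 K (3 ^ m)))) = n at hdv h3 hle4
      interval_cases n <;> omega
    rw [hV, this]
  -- the centralizer of t
  obtain ⟨e⟩ := centralizer_invol_iso hm hK t ht1 ht2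
  set C : Subgroup ↥(twistedG2 K (3 ^ m)) := Subgroup.centralizer ({t} : Set ↥(twistedG2 K (3 ^ m))) with hC
  have htC : t ∈ C := by rw [hC, Subgroup.mem_centralizer_iff]; intro x hx; rw [Set.mem_singleton_iff.mp hx]
  have hvC : v ∈ C := by rw [hC, Subgroup.mem_centralizer_iff]; intro x hx; rw [Set.mem_singleton_iff.mp hx]; exact htv
  have hcomm_t : ∀ c ∈ C, t * c = c * t := by
    intro c hc
    rw [hC, Subgroup.mem_centralizer_iff] at hc
    exact hc t rfl
  let t' : C := ⟨t, htC⟩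
  let v' : C := ⟨v, hvC⟩
  have ht'c : t' ∈ Subgroup.center C := by
    rw [Subgroup.mem_center_iff]
    intro c
    apply Subtype.ext
    exact (hcomm_t c.1 c.2).symm
  have hq8 := (exists_prime_dvd_k1 m hm).2
  have hq4 : Fintype.card K % 4 = 3 := by rw [hK]; omega
  have hq27 : 4 ≤ Fintype.card K := by
    rw [hK]
    have : 3 ^ 1 ≤ 3 ^ (2 * m + 1) := Nat.pow_le_pow_right (by norm_num) (by omega)
    have h3 : 3 ^ 3 ≤ 3 ^ (2 * m + 1) := Nat.pow_le_pow_right (by norm_num) (by omega)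
    omega
  have hZ := psl2_center (K := K) hq27
  have hdvd' : l ∣ Fintype.card K + 1 := by rw [hK]; exact hdvd
  obtain ⟨X', hX'card, hX'le, hX'uniq⟩ := prod_cent_invol e hZ l hl hl2
    (fun v₀ h1 h2 => psl2_cent_invol hq4 v₀ h1 h2 l hl hl2 hdvd') t' v' ht'c
    (fun h => ht1 (congrArg Subtype.val h)) (Subtype.ext ht2) (fun h => hv1 (congrArg Subtype.val h))
    (fun h => hvt (congrArg Subtype.val h)) (Subtype.ext hv2)
  refine ⟨X'.map C.subtype, ?_, ?_⟩
  · rw [Subgroup.card_map_of_injective C.subtype_injective, hX'card]  -- card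
  · refine (four_normalizer_le V).trans ?_
    apply normalizer_le_of_unique l hl
    · -- X ≤ C(V)
      intro x hx
      obtain ⟨x', hx', rfl⟩ := Subgroup.mem_map.mp hx
      have hxv : x' ∈ Subgroup.centralizer ({v'} : Set C) := hX'le hx'
      rw [hclos]
      rw [Subgroup.mem_centralizer_iff]
      -- commute with closure {t, v}
      have hct : t * (x' : ↥(twistedG2 K (3 ^ m))) = x' * t := hcomm_t x'.1 x'.2
      have hcv : v * (x' : ↥(twistedG2 K (3 ^ m))) = x' * v := by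
        rw [Subgroup.mem_centralizer_iff] at hxv
        have := hxv v' rfl
        exact congrArg Subtype.val this
      intro w hw
      have hw' : w ∈ Subgroup.closure ({t, v} : Set ↥(twistedG2 K (3 ^ m))) := hw
      have : w ∈ Subgroup.centralizer ({(x' : ↥(twistedG2 K (3 ^ m)))} : Set ↥(twistedG2 K (3 ^ m))) := by
        revert hw'
        rw [← SetLike.mem_coe]
        change w ∈ (Subgroup.closure ({t, v} : Set ↥(twistedG2 K (3 ^ m))) : Set _) → _
        intro hw'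
        have hle : Subgroup.closure ({t, v} : Set ↥(twistedG2 K (3 ^ m))) ≤
            Subgroup.centralizer ({(x' : ↥(twistedG2 K (3 ^ m)))} : Set ↥(twistedG2 K (3 ^ m))) := by
          rw [Subgroup.closure_le]
          intro y hy
          rw [SetLike.mem_coe, Subgroup.mem_centralizer_iff]
          intro z hz
          rw [Set.mem_singleton_iff.mp hz]
          rcases hy with rfl | rfl
          · exact hct.symm
          · exact hcv.symm
        exact hle hw'
      rw [Subgroup.mem_centralizer_iff] at this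
      exact (this _ rfl).symm
    · rw [Subgroup.card_map_of_injective C.subtype_injective, hX'card]
    · -- uniqueness
      intro x hx hxo
      have hxt : x ∈ C := by
        rw [hC, Subgroup.mem_centralizer_iff]
        intro y hy
        rw [Set.mem_singleton_iff.mp hy]
        rw [Subgroup.mem_centralizer_iff] at hx
        exact hx t htV
      have hxv : (⟨x, hxt⟩ : C) ∈ Subgroup.centralizer ({v'} : Set C) := by
        rw [Subgroup.mem_centralizer_iff]
        intro y hy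
        rw [Set.mem_singleton_iff.mp hy]
        apply Subtype.ext
        rw [Subgroup.mem_centralizer_iff] at hx
        exact hx v hvV
      have hxo' : orderOf (⟨x, hxt⟩ : C) = l := by
        rw [← hxo]
        exact Subgroup.orderOf_mk x hxt
      exact Subgroup.mem_map.mpr ⟨⟨x, hxt⟩, hX'uniq _ hxv hxo', rfl⟩

-- `HallHyp K m` (the part of S1158 we need) is defined in RsDefs

theorem main_cyclic_map {G : Type*} [Group G] (A : Subgroup G) (hA : IsCyclic A) (g : G) :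
    IsCyclic ↥(A.map (MulAut.conj g).toMonoidHom) := by
  have e := A.equivMapOfInjective (MulAut.conj g).toMonoidHom (MulAut.conj g).injective
  exact (MulEquiv.isCyclic e).mp hA

theorem main_card_map {G : Type*} [Group G] (A : Subgroup G) (g : G) :
    Nat.card ↥(A.map (MulAut.conj g).toMonoidHom) = Nat.card A :=
  Subgroup.card_map_of_injective (MulAut.conj g).injective

/-- RS-MAIN (owner: helper45).  S2361 modulo `HallHyp`. -/
theorem rs_main (hm : 1 ≤ m) (hK : Fintype.card K = 3 ^ (2 * m + 1)) (hH : HallHyp K m)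
    (S : Subgroup ↥(twistedG2 K (3 ^ m))) (hS : Group.IsSolvable S) :
    ∃ A : Subgroup ↥(twistedG2 K (3 ^ m)), S ≤ Subgroup.normalizer (A : Set ↥(twistedG2 K (3 ^ m))) ∧
      ((∃ P : Sylow 2 ↥(twistedG2 K (3 ^ m)), A = P) ∨
       (∃ P : Sylow 3 ↥(twistedG2 K (3 ^ m)), A = P) ∨
       (IsCyclic A ∧ (Nat.card A = (3 ^ (2 * m + 1) - 1) / 2 ∨ Nat.card A = (3 ^ (2 * m + 1) + 1) / 4 ∨
          Nat.card A = 3 ^ (2 * m + 1) - 3 ^ (m + 1) + 1 ∨ Nat.card A = 3 ^ (2 * m + 1) + 3 ^ (m + 1) + 1))) := by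
  classical
  have : CharP K 3 := Cfsg.Agent.Lib.Helper36.ree_charP hK
  have : Finite ↥(twistedG2 K (3 ^ m)) := Cfsg.Agent.Lib.Helper12.ReeInv.ree_finite hK
  have : Fact (Nat.Prime 2) := ⟨Nat.prime_two⟩
  have hcard : Nat.card ↥(twistedG2 K (3 ^ m)) =
      (3 ^ (2 * m + 1)) ^ 3 * (3 ^ (2 * m + 1) - 1) * ((3 ^ (2 * m + 1)) ^ 3 + 1) := Cfsg.Agent.S1069.result hK
  -- the cyclic case, packaged
  have hcyc : ∀ (i : Fin 4) (l : ℕ), l.Prime → l ≠ 2 → l ≠ 3 → l ∣ kk m i →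
      ∀ X : Subgroup ↥(twistedG2 K (3 ^ m)), IsPGroup l X → X ≠ ⊥ →
        S ≤ Subgroup.normalizer (X : Set ↥(twistedG2 K (3 ^ m))) →
      ∃ A : Subgroup ↥(twistedG2 K (3 ^ m)), S ≤ Subgroup.normalizer (A : Set ↥(twistedG2 K (3 ^ m))) ∧
        (IsCyclic A ∧ (Nat.card A = (3 ^ (2 * m + 1) - 1) / 2 ∨ Nat.card A = (3 ^ (2 * m + 1) + 1) / 4 ∨
          Nat.card A = 3 ^ (2 * m + 1) - 3 ^ (m + 1) + 1 ∨ Nat.card A = 3 ^ (2 * m + 1) + 3 ^ (m + 1) + 1)) := by
    intro i l hl hl2 hl3 hli X hXp hXne hSX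
    obtain ⟨A, hAcyc, hAcard, hAN⟩ := hH i
    have hfac : (Nat.card A).factorization l = (Nat.card ↥(twistedG2 K (3 ^ m))).factorization l := by
      rw [hAcard, hcard]
      exact (arith_hall_factorization m hm l hl hl2 hl3 i hli).symm
    obtain ⟨g, hg⟩ := le_normalizer_conj l hl A hfac hAN S X hXp hXne hSX
    refine ⟨A.map (MulAut.conj g).toMonoidHom, hg, main_cyclic_map A hAcyc g, ?_⟩
    rw [main_card_map, hAcard]
    fin_cases i
    · left; rfl
    · right; left; rfl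
    · right; right; left; rfl
    · right; right; right; rfl
  by_cases hne : S = ⊥
  · obtain ⟨P⟩ : Nonempty (Sylow 2 ↥(twistedG2 K (3 ^ m))) := inferInstance
    exact ⟨P, by rw [hne]; exact bot_le, Or.inl ⟨P, rfl⟩⟩
  obtain ⟨l, B, hl, hBS, hBne, hBp, hSB, h2⟩ := exists_normal_pgroup S hS hne
  by_cases hl2 : l = 2
  · subst hl2
    obtain ⟨P, hBP⟩ := hBp.exists_le_sylow
    obtain ⟨hP8, hPexp⟩ := Cfsg.Agent.Lib.Helper12.ReeInv.sylow_two hK P
    have hdvd : Nat.card B ∣ 8 := hP8 ▸ Subgroup.card_dvd_of_le hBP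
    have hB1 : Nat.card B ≠ 1 := fun h => hBne (Subgroup.card_eq_one.mp h)
    have hcases : Nat.card B = 2 ∨ Nat.card B = 4 ∨ Nat.card B = 8 := by
      have hle := Nat.le_of_dvd (by norm_num) hdvd
      have hpos : 0 < Nat.card B := Nat.card_pos
      generalize Nat.card B = n at hdvd hB1 hle hpos
      interval_cases n <;> omega
    rcases hcases with h | h | h
    · have hSeq := h2 rfl h
      refine ⟨P, ?_, Or.inl ⟨P, rfl⟩⟩
      rw [hSeq]
      exact hBP.trans Subgroup.le_normalizer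
    · obtain ⟨⟨l', hl', hl'2, hl'3, hl'k, hl'q⟩, _⟩ := exists_prime_dvd_k1 m hm
      obtain ⟨X, hXcard, hNX⟩ := four_group_normalizer hm hK B h l' hl' hl'2 hl'q
      have hXp : IsPGroup l' X := by
        haveI : Fact l'.Prime := ⟨hl'⟩
        exact IsPGroup.of_card (n := 1) (by rw [hXcard, pow_one])
      have hXne : X ≠ ⊥ := by
        intro h0
        rw [h0, Subgroup.card_bot] at hXcard
        exact hl'.one_lt.ne hXcard
      obtain ⟨A, hA1, hA2⟩ := hcyc 1 l' hl' hl'2 hl'3 hl'k X hXp hXne (hSB.trans hNX)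
      exact ⟨A, hA1, Or.inr (Or.inr hA2)⟩
    · -- B is a Sylow 2-subgroup
      have hB8 : Nat.card B = 2 ^ (Nat.card ↥(twistedG2 K (3 ^ m))).factorization 2 := by
        rw [h, ← hP8, P.card_eq_multiplicity]
      refine ⟨B, hSB, Or.inl ⟨Sylow.ofCard B hB8, rfl⟩⟩
  by_cases hl3 : l = 3
  · subst hl3
    obtain ⟨P, hP⟩ := le_normalizer_sylow_three hm hK S B hBp hBne hSB
    exact ⟨P, hP, Or.inr (Or.inl ⟨P, rfl⟩)⟩
  · -- l > 3
    have hlB : l ∣ Nat.card B := by
      haveI : Fact l.Prime := ⟨hl⟩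
      obtain ⟨n, hn⟩ := IsPGroup.iff_card.mp hBp
      have hn0 : n ≠ 0 := by
        intro h0
        rw [h0, pow_zero] at hn
        exact hBne (Subgroup.card_eq_one.mp hn)
      rw [hn]
      exact dvd_pow_self l hn0
    have hlG : l ∣ (3 ^ (2 * m + 1)) ^ 3 * (3 ^ (2 * m + 1) - 1) * ((3 ^ (2 * m + 1)) ^ 3 + 1) := by
      rw [← hcard]
      exact hlB.trans (Subgroup.card_subgroup_dvd_card B)
    obtain ⟨i, hi⟩ := arith_exists_hall_dvd m hm l hl hl2 hl3 hlG
    obtain ⟨A, hA1, hA2⟩ := hcyc i l hl hl2 hl3 hi B hBp hBne hSB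
    exact ⟨A, hA1, Or.inr (Or.inr hA2)⟩

end ree

/-- `HallHyp` from the statement of S1158. -/
theorem hallHyp_of_s1158 {K : Type*} [Field K] [Fintype K] {m : ℕ}
    (h : ∀ kn ∈ ({((3 ^ (2 * m + 1) - 1) / 2, 2 * (3 ^ (2 * m + 1) - 1)), ((3 ^ (2 * m + 1) + 1) / 4, 6 * (3 ^ (2 * m + 1) + 1)),
        (3 ^ (2 * m + 1) - 3 ^ (m + 1) + 1, 6 * (3 ^ (2 * m + 1) - 3 ^ (m + 1) + 1)),
        (3 ^ (2 * m + 1) + 3 ^ (m + 1) + 1, 6 * (3 ^ (2 * m + 1) + 3 ^ (m + 1) + 1))} : Set (ℕ × ℕ)),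
      ∃ A : Subgroup ↥(Cfsg.Lie.twistedG2 K (3 ^ m)), IsCyclic A ∧ Nat.card A = kn.1 ∧
        Nat.card (Subgroup.normalizer (A : Set ↥(Cfsg.Lie.twistedG2 K (3 ^ m)))) = kn.2 ∧
        ∀ A₀ : Subgroup ↥(Cfsg.Lie.twistedG2 K (3 ^ m)), A₀ ≤ A → A₀ ≠ ⊥ →
          Subgroup.normalizer (A₀ : Set ↥(Cfsg.Lie.twistedG2 K (3 ^ m))) = Subgroup.normalizer (A : Set ↥(Cfsg.Lie.twistedG2 K (3 ^ m)))) :
    HallHyp K m := by
  intro i
  fin_cases i
  · obtain ⟨A, h1, h2, _, h4⟩ := h ((3 ^ (2 * m + 1) - 1) / 2, 2 * (3 ^ (2 * m + 1) - 1)) (by simp)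
    exact ⟨A, h1, h2, h4⟩
  · obtain ⟨A, h1, h2, _, h4⟩ := h ((3 ^ (2 * m + 1) + 1) / 4, 6 * (3 ^ (2 * m + 1) + 1)) (by simp)
    exact ⟨A, h1, h2, h4⟩
  · obtain ⟨A, h1, h2, _, h4⟩ := h (3 ^ (2 * m + 1) - 3 ^ (m + 1) + 1, 6 * (3 ^ (2 * m + 1) - 3 ^ (m + 1) + 1)) (by simp)
    exact ⟨A, h1, h2, h4⟩
  · obtain ⟨A, h1, h2, _, h4⟩ := h (3 ^ (2 * m + 1) + 3 ^ (m + 1) + 1, 6 * (3 ^ (2 * m + 1) + 3 ^ (m + 1) + 1)) (by simp)
    exact ⟨A, h1, h2, h4⟩


end Cfsg.Agent.Lib.Helper45.Rs
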