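import Mathlib
import Cfsg.Agent.Lib.Helper45.SpAutStruct

set_option autoImplicit false
set_option linter.unusedSimpArgs false
set_option linter.unusedVariables false
set_option linter.unusedSectionVars false
set_option linter.unnecessarySeqFocus false
set_option linter.style.haveILetI false

/-!
# `Sp₄` in characteristic two: long or short root elements

An automorphism of `PSp₄(F)`, `F` finite of characteristic two, maps the long root subgroup at `e₀`
either to a long root subgroup or to a short root subgroup.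
-/

namespace Cfsg.Agent.Lib.Helper45.SpAut

open Matrix Cfsg.Agent.Lib.Helper13 Pointwise
open Cfsg.Agent.Lib.Helper5.AutPSLn (Par)

variable {F : Type*} [Field F] {m : ℕ}

/-- in characteristic two, the mixed central elements of the Sylow subgroup (products of a long and
a short root element) do not have the property `OT` -/
theorem OT_fail2 [NeZero m] (hm : 2 ≤ m) (h2 : (2 : F) = 0) (a b : F) (ha : a ≠ 0) (hb : b ≠ 0) :
    ¬ OT (pr (Psi (eV 0) (eV ⟨1, hm⟩) a b : SpG m F)) := by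
  intro hOT
  obtain ⟨i1, hi1⟩ : ∃ i : Fin m, i = ⟨1, hm⟩ := ⟨_, rfl⟩
  rw [← hi1] at hOT
  have h01 : (0 : Fin m) ≠ i1 := by
    rw [hi1]; intro h; have := congrArg Fin.val h; simp at this
  have g00 : B (eV i1 : Vec m F) (fV 0) = 0 := by
    rw [B_fV_right, eV_apply_inl, if_neg h01, neg_zero]
  -- Witt's lemma
  obtain ⟨Q, hQ⟩ := exists_sp_frame (F := F) m 2 ![eV 0, eV i1] ![eV i1, fV 0]
    (by
      rw [LinearIndependent.pair_iff]
      intro s t hst
      have e0 := congrFun hst (Sum.inl 0)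
      have e1 := congrFun hst (Sum.inl i1)
      simp only [Pi.add_apply, Pi.smul_apply, eV_apply_inl, if_true, if_neg h01, ↓reduceIte,
        if_neg h01.symm, smul_eq_mul, mul_one, mul_zero, add_zero, zero_add, Pi.zero_apply] at e0 e1
      exact ⟨e0, e1⟩)
    (by
      rw [LinearIndependent.pair_iff]
      intro s t hst
      have e0 := congrFun hst (Sum.inl i1)
      have e1 := congrFun hst (Sum.inr 0)
      simp only [Pi.add_apply, Pi.smul_apply, eV_apply_inl, eV_apply_inr, fV_apply_inl,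
        fV_apply_inr, if_true, ↓reduceIte, smul_eq_mul, mul_one, mul_zero, add_zero, zero_add,
        Pi.zero_apply] at e0 e1
      exact ⟨e0, e1⟩)
    (by
      intro i j
      fin_cases i <;> fin_cases j <;>
        simp only [Fin.zero_eta, Fin.mk_one, Matrix.cons_val_zero, Matrix.cons_val_one,
          Matrix.head_cons, Fin.isValue]
      · rw [sympForm_self, sympForm_self]
      · rw [show Cfsg.sympForm m F (eV i1) (fV 0) = 0 from g00]
        exact ((inL_eV 0).B_eq_zero (inL_eV i1)).symm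
      · rw [show Cfsg.sympForm m F (fV 0) (eV i1) = 0 from B_eq_zero_comm.1 g00]
        exact ((inL_eV i1).B_eq_zero (inL_eV 0)).symm
      · rw [sympForm_self, sympForm_self])
  have hQ0 : Q.1 *ᵥ (eV 0 : Vec m F) = eV i1 := hQ 0
  have hQ1 : Q.1 *ᵥ (eV i1 : Vec m F) = fV 0 := hQ 1
  obtain ⟨z, hz⟩ : ∃ z : SpG m F, z = Psi (eV 0) (eV i1) a b := ⟨_, rfl⟩
  obtain ⟨z', hz'⟩ : ∃ z' : SpG m F, z' = Psi (eV i1) (fV 0) a b := ⟨_, rfl⟩
  have hconj : Q * z * Q⁻¹ = z' := by rw [hz, hz', conj_Psi, hQ0, hQ1]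
  rw [← hz] at hOT
  have key := hOT (pr Q)
  have e : pr z * (pr Q * pr z * (pr Q)⁻¹) = pr (z * z') := by
    rw [← hconj]; simp only [map_mul, map_inv]
  rw [e, ← map_pow, ← map_pow] at key
  obtain ⟨u, hu⟩ : ∃ u : SpG m F, u = z * z' := ⟨_, rfl⟩
  rw [← hu] at key
  have p01 : B (eV 0 : Vec m F) (eV i1) = 0 := (inL_eV 0).B_eq_zero (inL_eV i1)
  -- the action of `z` and `z'`
  have hzx : ∀ x : Vec m F, z.1 *ᵥ x = x + (a * B x (eV 0)) • eV 0 + (b * B x (eV 0)) • eV i1 +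
      (b * B x (eV i1)) • eV 0 := by
    intro x; rw [hz, Psi_mulVec p01]
  have hz'x : ∀ x : Vec m F, z'.1 *ᵥ x = x + (a * B x (eV i1)) • eV i1 + (b * B x (eV i1)) • fV 0 +
      (b * B x (fV 0)) • eV i1 := by
    intro x; rw [hz', Psi_mulVec g00]
  have huL : ∀ y : Vec m F, InL y → u.1 *ᵥ y = y + (b * B y (fV 0)) • eV i1 := by
    intro y hy
    have h1 : z'.1 *ᵥ y = y + (b * B y (fV 0)) • eV i1 := by
      rw [hz'x, hy.B_eq_zero (inL_eV i1)]
      module
    have h3 : InL (y + (b * B y (fV 0)) • eV i1) := hy.add ((inL_eV i1).smul _)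
    rw [hu, mul_mulVec, h1, hzx, h3.B_eq_zero (inL_eV 0), h3.B_eq_zero (inL_eV i1)]
    module
  have hu2 : u ^ 2 ∈ NS m F := by
    intro y hy
    have h3 : InL (y + (b * B y (fV 0)) • eV i1) := hy.add ((inL_eV i1).smul _)
    rw [sq, mul_mulVec, huL y hy, huL _ h3]
    have : B (y + (b * B y (fV 0)) • eV i1) (fV 0) = B y (fV 0) := by
      show Cfsg.sympForm m F _ _ = _
      rw [sympForm_add_left, sympForm_smul_left, show Cfsg.sympForm m F (eV i1) (fV 0) = 0 from g00,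
        mul_zero, add_zero]
    rw [this]
    have h4 : y + (b * B y (fV 0)) • eV i1 + (b * B y (fV 0)) • eV i1 =
        y + ((2 : F) * (b * B y (fV 0))) • (eV i1 : Vec m F) := by module
    rw [h4, h2, zero_mul, zero_smul, add_zero]
  have hu4 : u ^ 4 = 1 := by
    have e4 : u ^ 4 = (u ^ 2) ^ 2 := by rw [← pow_mul]
    rw [e4]
    apply sp_ext
    intro x
    rw [NS_pow_mulVec hu2, one_mulVec']
    push_cast
    rw [h2, zero_smul, add_zero]
  have h1 := key (by rw [hu4, map_one])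
  have hu2' : u ^ 2 = 1 := by
    apply eq_of_pr_eq_of_fix (h1.trans (map_one pr).symm) (eV_ne_zero i1)
    rw [hu2 _ (inL_eV i1), one_mulVec']
  -- contradiction at `f₀`
  have c1 : z'.1 *ᵥ (fV 0 : Vec m F) = fV 0 := by
    rw [hz'x, B_eV_right, B_fV_right, fV_apply_inr, if_neg h01.symm, fV_apply_inl]
    simp
  have c2 : z.1 *ᵥ (fV 0 : Vec m F) = fV 0 + a • eV 0 + b • eV i1 := by
    rw [hzx, B_eV_right, B_eV_right, fV_apply_inr, if_pos rfl, fV_apply_inr, if_neg h01.symm]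
    module
  have c3 : u.1 *ᵥ (fV 0 : Vec m F) = fV 0 + a • eV 0 + b • eV i1 := by
    rw [hu, mul_mulVec, c1, c2]
  have c4 : u.1 *ᵥ (eV 0 : Vec m F) = eV 0 + (-b) • eV i1 := by
    rw [huL _ (inL_eV 0), B_fV_right, eV_apply_inl, if_pos rfl]
    congr 2
    ring
  have c4' : u.1 *ᵥ (eV i1 : Vec m F) = eV i1 := by
    rw [huL _ (inL_eV i1), B_fV_right, eV_apply_inl, if_neg h01]
    simp
  have c5 : (u ^ 2).1 *ᵥ (fV 0 : Vec m F) =
      fV 0 + a • eV 0 + b • eV i1 + a • (eV 0 + (-b) • eV i1) + b • eV i1 := by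
    rw [sq, mul_mulVec, c3, mulVec_add, mulVec_add, mulVec_smul, mulVec_smul, c3, c4, c4']
  rw [hu2', one_mulVec'] at c5
  have c6 := congrFun c5 (Sum.inl i1)
  simp only [Pi.add_apply, Pi.smul_apply, eV_apply_inl, fV_apply_inl, if_neg h01.symm, if_true,
    ↓reduceIte, smul_eq_mul, mul_zero, mul_one, zero_add, add_zero] at c6
  have : a * b = 0 := by linear_combination c6 + b * h2
  rcases mul_eq_zero.1 this with h | h
  · exact ha h
  · exact hb h

lemma Psi_mul (u w : Vec m F) (a b : F) : Psi u w a 0 * Psi u w 0 b = Psi u w a b := by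
  rw [Psi_zero]
  unfold Psi
  rw [← mul_assoc, ← mul_assoc, T_add]
  congr 3
  ring

/-- a transvection subgroup mapped into itself is mapped onto itself -/
lemma smul_Xb_eq_of_le [Fintype F] {δ : MulAut (Cfsg.PSp m F)} {v : Vec m F}
    (h : δ • Xb v ≤ Xb v) : δ • Xb v = Xb v := by
  haveI : Finite ↥(Xb v) := by
    have : Function.Surjective (fun c : F => (⟨pr (T v c), pr_T_mem v c⟩ : ↥(Xb v))) := by
      rintro ⟨y, hy⟩
      obtain ⟨c, hc⟩ := mem_Xb.1 hy
      exact ⟨c, Subtype.ext hc.symm⟩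
    exact Finite.of_surjective _ this
  apply Subgroup.eq_of_le_of_card_ge h
  rw [Nat.card_congr (Subgroup.equivSMul δ (Xb v)).toEquiv]

/-- an automorphism fixing the transvection subgroup at `e₀` satisfies Step A -/
theorem stepAt_of_rel_e0 [NeZero m] {δ : MulAut (Cfsg.PSp m F)}
    (h : Rel δ (eV 0 : Vec m F) (eV 0)) : StepAt δ := by
  intro v hv
  obtain ⟨A, -, hA⟩ := exists_transv_of_ne_zero m (eV 0 : Vec m F) v (eV_ne_zero 0) hv
  obtain ⟨g', hg'⟩ := pr_surjective (δ (pr A))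
  have := h.equiv hg'.symm
  rw [hA] at this
  exact ⟨_, mulVec_ne_zero _ (eV_ne_zero 0), this⟩

/-- an automorphism normalising the centre of the Sylow subgroup maps the long root subgroup at
`e₀` onto itself or into the short root subgroup -/
theorem zu_dichotomy [Fintype F] [CharP F 2] {β : MulAut (Cfsg.PSp 2 F)}
    (hZ : β • ZU 2 F = ZU 2 F) :
    β • Xb (eV 0 : Vec 2 F) = Xb (eV 0) ∨
    ∀ t : F, ∃ b : F, β (pr (T (eV 0 : Vec 2 F) t)) = pr (Psi (eV 0) (eV 1) 0 b) := by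
  haveI : Fact (Nat.Prime 2) := ⟨Nat.prime_two⟩
  have h2 : (2 : F) = 0 := CharTwo.two_eq_zero
  have key : ∀ t : F, ∃ a b : F, (a = 0 ∨ b = 0) ∧
      β (pr (T (eV 0 : Vec 2 F) t)) = pr (Psi (eV 0) (eV 1) a b) := by
    intro t
    have h1 : β (pr (T (eV 0 : Vec 2 F) t)) ∈ ZU 2 F := by
      rw [← hZ, ← MulAut.smul_def]
      exact Subgroup.smul_mem_pointwise_smul _ _ _ (Xb_le_ZU (pr_T_mem _ _))
    obtain ⟨a, b, -, hab⟩ := ZU_le (le_refl 2) 2 h1
    refine ⟨a, b, ?_, hab⟩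
    by_contra hcon
    push Not at hcon
    have hOT : OT (β (pr (T (eV 0 : Vec 2 F) t))) := OT_map β (OT_transv (le_refl 2) h2 _ _)
    rw [hab] at hOT
    exact OT_fail2 (le_refl 2) h2 a b hcon.1 hcon.2 hOT
  choose a b hab hβ using key
  by_cases hA : ∃ t1, a t1 ≠ 0
  · left
    obtain ⟨t1, ht1⟩ := hA
    have hb1 : b t1 = 0 := (hab t1).resolve_left ht1
    have hb : ∀ t, b t = 0 := by
      intro t
      by_contra hbt
      have hat : a t = 0 := (hab t).resolve_right hbt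
      have e : β (pr (T (eV 0 : Vec 2 F) (t1 + t))) = pr (Psi (eV 0) (eV 1) (a t1) (b t)) := by
        rw [← T_add, map_mul, map_mul, hβ t1, hβ t, hb1, hat, ← map_mul, Psi_mul]
      have hOT : OT (β (pr (T (eV 0 : Vec 2 F) (t1 + t)))) :=
        OT_map β (OT_transv (le_refl 2) h2 _ _)
      rw [e] at hOT
      exact OT_fail2 (le_refl 2) h2 _ _ ht1 hbt hOT
    apply smul_Xb_eq_of_le
    intro y hy
    rw [Subgroup.mem_pointwise_smul_iff_inv_smul_mem] at hy
    obtain ⟨c, hc⟩ := mem_Xb.1 hy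
    have : y = β (pr (T (eV 0) c)) := by rw [← hc, MulAut.smul_def, MulAut.apply_inv_self]
    rw [this, hβ c, hb c, Psi_zero]
    exact pr_T_mem _ _
  · right
    push Not at hA
    intro t
    exact ⟨b t, by rw [hβ t, hA t]⟩

/-- given an automorphism `γ` mapping the short root subgroup into the long root subgroup, every
automorphism `β` of `PSp₄(F)` is standard, or `γ β` is -/
theorem gamma_dichotomy [Fintype F] [CharP F 2] (γ : MulAut (Cfsg.PSp 2 F))
    (hγ : ∀ b : F, γ (pr (Psi (eV 0 : Vec 2 F) (eV 1) 0 b)) ∈ Xb (eV 0 : Vec 2 F))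
    (β : MulAut (Cfsg.PSp 2 F)) :
    (∃ (g : ↥(Cfsg.GSp 2 F)) (σ : F ≃+* F), β = Gam g * Phi σ) ∨
    (∃ (g : ↥(Cfsg.GSp 2 F)) (σ : F ≃+* F), γ * β = Gam g * Phi σ) := by
  haveI : Fact (Nat.Prime 2) := ⟨Nat.prime_two⟩
  obtain ⟨c, hc⟩ := exists_conj_normalize 2 β
  have hZ := smul_ZU hc
  obtain ⟨s, rfl⟩ := pr_surjective c
  rcases zu_dichotomy hZ with h | h
  · left
    have hS : StepAt (MulAut.conj (pr s) * β) := stepAt_of_rel_e0 h
    obtain ⟨g, σ, e⟩ := aut_decomp' (le_refl 2) _ hS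
    refine ⟨(spToGSp s)⁻¹ * g, σ, ?_⟩
    rw [map_mul, map_inv, ← conj_pr_eq_Gam, mul_assoc, ← e]
    group
  · right
    have hle : (γ * (MulAut.conj (pr s) * β)) • Xb (eV 0 : Vec 2 F) ≤ Xb (eV 0) := by
      intro y hy
      rw [Subgroup.mem_pointwise_smul_iff_inv_smul_mem] at hy
      obtain ⟨t, ht⟩ := mem_Xb.1 hy
      have hy' : y = (γ * (MulAut.conj (pr s) * β)) (pr (T (eV 0) t)) := by
        rw [← ht, MulAut.smul_def, MulAut.apply_inv_self]
      obtain ⟨b, hb⟩ := h t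
      rw [hy', MulAut.mul_apply, hb]
      exact hγ b
    have hS : StepAt (γ * (MulAut.conj (pr s) * β)) := stepAt_of_rel_e0 (smul_Xb_eq_of_le hle)
    obtain ⟨g, σ, e⟩ := aut_decomp' (le_refl 2) _ hS
    obtain ⟨s', hs'⟩ := pr_surjective (γ (pr s))
    refine ⟨(spToGSp s')⁻¹ * g, σ, ?_⟩
    rw [map_mul, map_inv, ← conj_pr_eq_Gam, hs', mul_assoc, ← e, ← mul_assoc γ,
      mulAut_mul_conj γ (pr s)]
    group

/-- uniqueness of the field automorphism in the normal form -/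
theorem sigma_eq_one_of_nf [NeZero m] (hm : 2 ≤ m) {g : ↥(Cfsg.GSp m F)} {σ : F ≃+* F}
    (h : (Gam g * Phi σ : MulAut (Cfsg.PSp m F)) = 1) : σ = 1 := by
  obtain ⟨c, hc, hmul⟩ := exists_mult g.2
  have hR : Rel (Gam g * Phi σ) (eV 0 : Vec m F) (g.1.1 *ᵥ eV 0) := by
    have h1 := rel_Phi σ (eV 0 : Vec m F)
    rw [map_eV] at h1
    exact h1.comp (rel_Gam g _)
  rw [h] at hR
  obtain ⟨l, hl0, hl⟩ := (Rel.unique hm (Rel.one _) hR (eV_ne_zero 0)).symm
  have key : ∀ a : F, a = l ^ 2 * (σ a / c) := by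
    intro a
    have h1 : (Gam g * Phi σ : MulAut (Cfsg.PSp m F)) (pr (T (eV 0 : Vec m F) a)) =
        pr (T (eV 0) (l ^ 2 * (σ a / c))) := by
      rw [MulAut.mul_apply, Phi_T, map_eV, Gam_T g hc hmul, hl, T_smul]
    rw [h, MulAut.one_apply] at h1
    exact pr_T_injective (eV_ne_zero 0) h1
  have k1 := key 1
  rw [map_one] at k1
  ext a
  have ka := key a
  have : σ a = a := by
    have e : l ^ 2 * (σ a / c) = (l ^ 2 * (1 / c)) * σ a := by ring
    rw [e, ← k1, one_mul] at ka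
    exact ka.symm
  exact this

/-- `PSp_{2m}(F)` has trivial centre -/
theorem conj_injective [NeZero m] (hm : 2 ≤ m) :
    Function.Injective (MulAut.conj : Cfsg.PSp m F →* MulAut (Cfsg.PSp m F)) := by
  rw [injective_iff_map_eq_one]
  intro y hy
  obtain ⟨s, rfl⟩ := pr_surjective y
  apply pr_eq_one_of_par
  intro v hv
  have h1 : Rel (MulAut.conj (pr s)) v (s.1 *ᵥ v) := rel_conj s v
  rw [hy] at h1
  exact Rel.unique hm h1 (Rel.one v) (mulVec_ne_zero s hv)

theorem card_Inn [NeZero m] (hm : 2 ≤ m) :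
    Nat.card ↥(Cfsg.Inn (Cfsg.PSp m F)) = Nat.card (Cfsg.PSp m F) :=
  (Nat.card_congr (MonoidHom.ofInjective (conj_injective hm)).toEquiv).symm

end Cfsg.Agent.Lib.Helper45.SpAut
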