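import Mathlib
import Cfsg.Agent.Lib.Helper5.Omega5
import Cfsg.Agent.Lib.Helper5.OddOrthSymp
import Cfsg.Agent.Lib.Helper45.SpAutFinal

set_option autoImplicit false
set_option linter.unusedSimpArgs false
set_option linter.unusedVariables false
set_option linter.unusedSectionVars false
set_option linter.unnecessarySeqFocus false
set_option linter.style.haveILetI false

namespace Cfsg.Agent.Lib.Helper45.Sp4

open Matrix Cfsg.Agent.Lib.Helper5 Cfsg.Agent.Lib.Helper5.Om6
open Cfsg.Agent.Lib.Helper5.Om5 (I5 S4 e4 reMat aLin aGL aO aLin_apply aGL_mulVec proj)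
open Cfsg.Agent.Lib.Helper45.SpAut (T T_mulVec eV fV Vec SpG B_eV_right B_fV_right sp_ext Psi Psi_mulVec inL_eV InL.B_eq_zero B)

variable {F : Type*} [Field F]

/-- entries of a conjugated alternating matrix, via `2 × 2` minors -/
lemma conj_altM_apply (A : Matrix (Fin 4) (Fin 4) F) (p12 p13 p14 p23 p24 p34 : F) (i j : Fin 4) :
    (A * altM p12 p13 p14 p23 p24 p34 * Aᵀ) i j =
      p12 * (A i 0 * A j 1 - A i 1 * A j 0) + p13 * (A i 0 * A j 2 - A i 2 * A j 0) +
      p14 * (A i 0 * A j 3 - A i 3 * A j 0) + p23 * (A i 1 * A j 2 - A i 2 * A j 1) +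
      p24 * (A i 1 * A j 3 - A i 3 * A j 1) + p34 * (A i 2 * A j 3 - A i 3 * A j 2) := by
  simp only [Matrix.mul_apply, Fin.sum_univ_four, Matrix.transpose_apply, altM]
  simp
  ring

/-- first index of the pair attached to a coordinate -/
def pa : S4 → Fin 4 := Sum.elim ![0, 0] ![2, 1]
/-- second index of the pair attached to a coordinate -/
def pb : S4 → Fin 4 := Sum.elim ![1, 3] ![3, 2]

/-- the minor of `A` with rows `i, j` and columns `k, l` -/
def mnr (A : Matrix (Fin 4) (Fin 4) F) (i j k l : Fin 4) : F := A i k * A j l - A i l * A j k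

variable [CharP F 2]

/-- the exceptional endomorphism of `Sp₄(F)` in characteristic two -/
noncomputable def gam0 : Matrix.symplecticGroup (Fin 2) F →* Matrix.symplecticGroup (Fin 2) F :=
  (oddOrthToSymp F 2).comp aO

lemma gam0_mulVec (g : Matrix.symplecticGroup (Fin 2) F) (w : Fin 2 ⊕ Fin 2 → F) :
    (gam0 g).1 *ᵥ w = fun s => aLin g (Sum.elim 0 w) (Sum.inr s) := by
  have h1 : (gam0 g).1 = ((aGL g : GL I5 F) : Matrix I5 I5 F).toBlocks₂₂ := rfl
  rw [h1, ← mulVec_elim_zero_comp_inr, aGL_mulVec]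
  rfl

/-- the action of `g` on coordinates, explicitly -/
lemma gam0_mulVec' (g : Matrix.symplecticGroup (Fin 2) F) (w : Fin 2 ⊕ Fin 2 → F) (s : Fin 2 ⊕ Fin 2) :
    ((gam0 g).1 *ᵥ w) s =
      proj (ofA (reMat g.1 * toA (Cfsg.Agent.Lib.Helper5.Om5.iota (Sum.elim 0 w)) * (reMat g.1)ᵀ)) (Sum.inr s) := by
  rw [gam0_mulVec]
  rfl

lemma gam0_mulVec'' (g : Matrix.symplecticGroup (Fin 2) F) (w : Fin 2 ⊕ Fin 2 → F) (s : Fin 2 ⊕ Fin 2) :
    ((gam0 g).1 *ᵥ w) s =
      w (Sum.inl 0) * mnr (reMat g.1) (pa s) (pb s) 0 1 +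
      w (Sum.inl 1) * mnr (reMat g.1) (pa s) (pb s) 0 3 +
      w (Sum.inr 0) * mnr (reMat g.1) (pa s) (pb s) 2 3 +
      w (Sum.inr 1) * mnr (reMat g.1) (pa s) (pb s) 1 2 := by
  rw [gam0_mulVec']
  have h1 : toA (Cfsg.Agent.Lib.Helper5.Om5.iota (Sum.elim (0 : Unit → F) w)) =
      altM (w (Sum.inl 0)) 0 (w (Sum.inl 1)) (w (Sum.inr 1)) (-0) (w (Sum.inr 0)) := by
    simp [toA, Cfsg.Agent.Lib.Helper5.Om5.iota]
  have h2 : ∀ X : Matrix (Fin 4) (Fin 4) F, proj (ofA X) (Sum.inr s) = X (pa s) (pb s) := by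
    intro X
    rcases s with s | s <;> fin_cases s <;> simp [proj, ofA, pa, pb]
  rw [h1, h2, conj_altM_apply]
  unfold mnr
  ring

lemma gam0_apply (g : Matrix.symplecticGroup (Fin 2) F) (s s' : Fin 2 ⊕ Fin 2) :
    (gam0 g).1 s s' = mnr (reMat g.1) (pa s) (pb s) (pa s') (pb s') := by
  have h := gam0_mulVec'' g (Pi.single s' 1) s
  rw [mulVec_single_one] at h
  rw [show (gam0 g).1 s s' = ((gam0 g).1.col s') s from rfl, h]
  rcases s' with s' | s' <;> fin_cases s' <;> simp [pa, pb]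

omit [CharP F 2] in
lemma T_e0_entry (c : F) (i j : Fin 2 ⊕ Fin 2) :
    (T (eV 0 : Vec 2 F) c).1 i j = (if i = j then 1 else 0) + (if i = Sum.inl 0 ∧ j = Sum.inr 0 then c else 0) := by
  have h := congrFun (T_mulVec (eV 0 : Vec 2 F) c (Pi.single j 1)) i
  rw [mulVec_single_one, B_eV_right] at h
  rw [show (T (eV 0 : Vec 2 F) c).1 i j = ((T (eV 0 : Vec 2 F) c).1.col j) i from rfl, h]
  simp only [Pi.add_apply, Pi.smul_apply, Pi.single_apply, smul_eq_mul, eV]
  rcases i with i | i <;> rcases j with j | j <;> fin_cases i <;> fin_cases j <;> simp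

omit [CharP F 2] in
lemma B_e0_e1 : B (eV 0 : Vec 2 F) (eV 1) = 0 := (inL_eV 0).B_eq_zero (inL_eV 1)

omit [CharP F 2] in
lemma Psi_entry (c : F) (i j : Fin 2 ⊕ Fin 2) :
    (Psi (eV 0 : Vec 2 F) (eV 1) 0 c).1 i j = (if i = j then 1 else 0) +
      (if i = Sum.inl 1 ∧ j = Sum.inr 0 then c else 0) +
      (if i = Sum.inl 0 ∧ j = Sum.inr 1 then c else 0) := by
  have h := congrFun (Psi_mulVec (B_e0_e1 (F := F)) 0 c (Pi.single j 1)) i
  rw [mulVec_single_one, B_eV_right, B_eV_right] at h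
  rw [show (Psi (eV 0 : Vec 2 F) (eV 1) 0 c).1 i j = ((Psi (eV 0 : Vec 2 F) (eV 1) 0 c).1.col j) i from rfl, h]
  simp only [Pi.add_apply, Pi.smul_apply, Pi.single_apply, smul_eq_mul, eV]
  rcases i with i | i <;> rcases j with j | j <;> fin_cases i <;> fin_cases j <;> simp

/-- the exceptional endomorphism maps long root elements to short root elements -/
theorem gam0_T (c : F) : gam0 (T (eV 0 : Vec 2 F) c) = Psi (eV 0) (eV 1) 0 c := by
  apply sp_ext
  intro x
  funext s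
  have hneg : ∀ y : F, -y = y := fun y => CharTwo.neg_eq y
  rw [gam0_mulVec'', Psi_mulVec B_e0_e1, B_eV_right, B_eV_right]
  rcases s with s | s <;> fin_cases s <;>
    simp [mnr, pa, pb, reMat, e4, T_e0_entry, hneg] <;> (try simp [eV]) <;> (try ring)

/-- the exceptional endomorphism maps short root elements to long root elements, squaring the
parameter -/
theorem gam0_Psi (c : F) : gam0 (Psi (eV 0 : Vec 2 F) (eV 1) 0 c) = T (eV 0) (c ^ 2) := by
  apply sp_ext
  intro x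
  funext s
  have hneg : ∀ y : F, -y = y := fun y => CharTwo.neg_eq y
  rw [gam0_mulVec'', T_mulVec, B_eV_right]
  rcases s with s | s <;> fin_cases s <;>
    simp [mnr, pa, pb, reMat, e4, Psi_entry, hneg] <;> (try simp [eV]) <;> (try ring)

end Cfsg.Agent.Lib.Helper45.Sp4
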