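import Mathlib
import Cfsg.Agent.Lib.Helper45.Sp4Dich
import Cfsg.Agent.Lib.Helper5.AutPSL2Out

set_option autoImplicit false
set_option linter.unusedSimpArgs false
set_option linter.unusedVariables false
set_option linter.unusedSectionVars false
set_option linter.unnecessarySeqFocus false
set_option linter.style.haveILetI false

namespace Cfsg.Agent.Lib.Helper45.SpAut

open Matrix Cfsg.Agent.Lib.Helper13 Pointwise
open Cfsg.Agent.Lib.Helper5.AutPSLn (Par)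

variable {F : Type*} [Field F] {m : ℕ}

/-- in characteristic two the projection `Sp → PSp` is injective -/
lemma pr_injective_char_two [NeZero m] [CharP F 2] :
    Function.Injective (pr : SpG m F →* Cfsg.PSp m F) := by
  intro g h e
  rcases pr_eq_iff.1 e with e' | e'
  · exact Subtype.ext e'.symm
  · apply Subtype.ext
    rw [e', CharTwo.neg_eq]

/-- a short root element is not a transvection -/
lemma Psi_ne_T {b : F} (hb : b ≠ 0) (v : Vec 2 F) (c : F) :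
    Psi (eV 0 : Vec 2 F) (eV 1) 0 b ≠ T v c := by
  intro h
  have p01 : B (eV 0 : Vec 2 F) (eV 1) = 0 := (inL_eV 0).B_eq_zero (inL_eV 1)
  have h0 := congrArg (fun g : SpG 2 F => g.1 *ᵥ (fV 0 : Vec 2 F)) h
  have h1 := congrArg (fun g : SpG 2 F => g.1 *ᵥ (fV 1 : Vec 2 F)) h
  simp only [Psi_mulVec p01, T_mulVec, B_eV_right, fV_apply_inr] at h0 h1
  have a1 := congrFun h0 (Sum.inl 0)
  have a2 := congrFun h0 (Sum.inl 1)
  have a3 := congrFun h1 (Sum.inl 0)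
  simp [eV_apply_inl, fV_apply_inl] at a1 a2 a3
  rcases a1 with a1 | a1
  · rcases a1 with a1 | a1
    · rw [a1] at a3; simp at a3; exact hb a3
    · rw [a1] at a2; simp at a2; exact hb a2
  · rw [a1] at a3; simp at a3; exact hb a3

/-- evaluation of the normal form on the transvection subgroup at `e₀` -/
theorem nf_eval [NeZero m] (hm : 2 ≤ m) {g : ↥(Cfsg.GSp m F)} {σ : F ≃+* F} {φ : F → F}
    (h : ∀ a : F, (Gam g * Phi σ : MulAut (Cfsg.PSp m F)) (pr (T (eV 0 : Vec m F) a)) =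
      pr (T (eV 0) (φ a))) (h1 : φ 1 = 1) : ∀ a : F, σ a = φ a := by
  obtain ⟨c, hc, hmul⟩ := exists_mult g.2
  have hev : ∀ a : F, (Gam g * Phi σ : MulAut (Cfsg.PSp m F)) (pr (T (eV 0 : Vec m F) a)) =
      pr (T (g.1.1 *ᵥ eV 0) (σ a / c)) := by
    intro a
    rw [MulAut.mul_apply, Phi_T, map_eV, Gam_T g hc hmul]
  have e1 := (hev 1).symm.trans (h 1)
  rw [h1, map_one] at e1
  have hgv : g.1.1 *ᵥ (eV 0 : Vec m F) ≠ 0 := by
    intro h0
    rw [h0, T_zero_left] at e1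
    exact pr_T_ne_one (eV_ne_zero 0) one_ne_zero (e1.symm.trans (map_one pr))
  obtain ⟨l, hl0, hl⟩ := par_of_pr_T_eq hm hgv (one_div_ne_zero hc) e1
  have key : ∀ a : F, l ^ 2 * (σ a / c) = φ a := by
    intro a
    have e := (hev a).symm.trans (h a)
    rw [hl, T_smul] at e
    exact pr_T_injective (eV_ne_zero 0) e
  have k1 := key 1
  rw [map_one, h1] at k1
  intro a
  have ka := key a
  have e : l ^ 2 * (σ a / c) = (l ^ 2 * (1 / c)) * σ a := by ring
  rw [e, k1, one_mul] at ka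
  exact ka


/-- the squaring automorphism of a field of order `2 ^ f` generates the automorphism group, which
has order `f` -/
lemma orderOf_sq_aut [Fintype F] [CharP F 2] {f : ℕ} (hf : 1 ≤ f) (hF : Fintype.card F = 2 ^ f)
    (σ : F ≃+* F) (hσ : ∀ c : F, σ c = c ^ 2) :
    orderOf σ = f ∧ Subgroup.zpowers σ = ⊤ := by
  classical
  haveI : Fact (Nat.Prime 2) := ⟨Nat.prime_two⟩
  have hcard : Nat.card (F ≃+* F) = f := Cfsg.Agent.Lib.Helper5.AutPSL2.card_ringAut 2 hF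
  haveI : Finite (F ≃+* F) := Nat.finite_of_card_ne_zero (by omega)
  have hpow : ∀ (n : ℕ) (c : F), (σ ^ n) c = c ^ (2 ^ n) := by
    intro n
    induction n with
    | zero => intro c; simp
    | succ k ih =>
      intro c
      rw [pow_succ', RingAut.mul_apply, ih, hσ, ← pow_mul, pow_succ]
  obtain ⟨n, hn⟩ : ∃ n, n = orderOf σ := ⟨_, rfl⟩
  have hn0 : 0 < n := hn ▸ orderOf_pos σ
  have hdvd : n ∣ f := by
    rw [hn, ← hcard]; exact orderOf_dvd_natCard σ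
  have hle : f ≤ n := by
    have h1 : ∀ c : F, c ^ (2 ^ n) = c := fun c => by
      rw [← hpow, hn, pow_orderOf_eq_one]; rfl
    obtain ⟨ζ, hζ⟩ := IsCyclic.exists_ofOrder_eq_natCard (α := Fˣ)
    have h2n : 1 ≤ 2 ^ n := Nat.one_le_two_pow
    have h2 : ζ ^ (2 ^ n - 1) = 1 := by
      apply Units.ext
      push_cast
      have h3 := h1 (ζ : F)
      have h4 : (ζ : F) ^ (2 ^ n - 1) * ζ = 1 * ζ := by
        rw [← pow_succ, Nat.sub_add_cancel h2n, h3, one_mul]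
      exact mul_right_cancel₀ ζ.ne_zero h4
    have h3 : Nat.card Fˣ ∣ 2 ^ n - 1 := hζ ▸ orderOf_dvd_of_pow_eq_one h2
    rw [Nat.card_eq_fintype_card, Fintype.card_units, hF] at h3
    have h5 : 2 ≤ 2 ^ n := by
      calc 2 = 2 ^ 1 := by norm_num
        _ ≤ 2 ^ n := Nat.pow_le_pow_right (by norm_num) hn0
    have h4 : 2 ^ f - 1 ≤ 2 ^ n - 1 := Nat.le_of_dvd (by omega) h3
    have h2f : 1 ≤ 2 ^ f := Nat.one_le_two_pow
    exact (Nat.pow_le_pow_iff_right (by norm_num : 1 < 2)).1 (by omega)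
  have hnf : n = f := Nat.le_antisymm (Nat.le_of_dvd (by omega) hdvd) hle
  refine ⟨hn ▸ hnf, ?_⟩
  apply Subgroup.eq_top_of_card_eq
  rw [Nat.card_zpowers, ← hn, hnf, hcard]


/-- the outer automorphism group of `PSp₄(F)`, `F` of order `2 ^ f`, given an automorphism
interchanging long and short root elements -/
theorem out_of_gamma [Fintype F] [CharP F 2] {f : ℕ} (hf : 1 ≤ f) (hF : Fintype.card F = 2 ^ f)
    (γ : MulAut (Cfsg.PSp 2 F))
    (hγT : ∀ c : F, γ (pr (T (eV 0 : Vec 2 F) c)) = pr (Psi (eV 0) (eV 1) 0 c))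
    (hγP : ∀ c : F, γ (pr (Psi (eV 0 : Vec 2 F) (eV 1) 0 c)) = pr (T (eV 0) (c ^ 2))) :
    IsCyclic (Cfsg.Out (Cfsg.PSp 2 F)) ∧ Nat.card (Cfsg.Out (Cfsg.PSp 2 F)) = 2 * f := by
  classical
  have hm : 2 ≤ 2 := le_refl 2
  obtain ⟨mk, hmk⟩ : ∃ mk : MulAut (Cfsg.PSp 2 F) →* Cfsg.Out (Cfsg.PSp 2 F),
      mk = QuotientGroup.mk' _ := ⟨_, rfl⟩
  have hmk1 : ∀ x, mk x = 1 ↔ x ∈ Cfsg.Inn (Cfsg.PSp 2 F) := fun x => by
    rw [hmk]; exact QuotientGroup.eq_one_iff x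
  have hGamI : ∀ g : ↥(Cfsg.GSp 2 F), mk (Gam g) = 1 := by
    intro g
    rw [hmk1]
    obtain ⟨s, hs⟩ := Gam_eq_conj_of_char_two g
    exact ⟨pr s, hs.symm⟩
  -- the square of `γ`
  have hγ2 : ∀ c : F, (γ * γ) (pr (T (eV 0 : Vec 2 F) c)) = pr (T (eV 0) (c ^ 2)) := fun c => by
    rw [MulAut.mul_apply, hγT, hγP]
  have hle : (γ * γ) • Xb (eV 0 : Vec 2 F) ≤ Xb (eV 0) := by
    intro y hy
    rw [Subgroup.mem_pointwise_smul_iff_inv_smul_mem] at hy
    obtain ⟨t, ht⟩ := mem_Xb.1 hy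
    have hy' : y = (γ * γ) (pr (T (eV 0) t)) := by
      rw [← ht, MulAut.smul_def, MulAut.apply_inv_self]
    rw [hy', hγ2]
    exact pr_T_mem _ _
  obtain ⟨g₂, σ, e₂⟩ := aut_decomp' hm _ (stepAt_of_rel_e0 (smul_Xb_eq_of_le hle))
  have hσ : ∀ c : F, σ c = c ^ 2 :=
    nf_eval hm (φ := fun c => c ^ 2) (fun a => by rw [← e₂, hγ2]) (one_pow 2)
  obtain ⟨hord, htop⟩ := orderOf_sq_aut hf hF σ hσ
  -- the class of `γ`
  obtain ⟨c, hc⟩ : ∃ c, c = mk γ := ⟨_, rfl⟩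
  have hc2 : c ^ 2 = mk (Phi σ) := by
    rw [hc, sq, ← map_mul, e₂, map_mul, hGamI, one_mul]
  have hPhi : ∀ τ : F ≃+* F, mk (Phi τ) ∈ Subgroup.zpowers c := by
    intro τ
    have h1 : τ ∈ Subgroup.zpowers σ := by rw [htop]; exact Subgroup.mem_top _
    obtain ⟨k, rfl⟩ := Subgroup.mem_zpowers_iff.1 h1
    rw [map_zpow, map_zpow, ← hc2, ← zpow_natCast, ← _root_.zpow_mul]
    exact Subgroup.zpow_mem_zpowers c _
  have hall : ∀ x : Cfsg.Out (Cfsg.PSp 2 F), x ∈ Subgroup.zpowers c := by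
    intro x
    obtain ⟨β, rfl⟩ := QuotientGroup.mk'_surjective _ x
    have hx : (QuotientGroup.mk' (Cfsg.Inn (Cfsg.PSp 2 F))) β = mk β := by rw [hmk]
    rw [hx]
    rcases gamma_dichotomy γ (fun b => by rw [hγP]; exact pr_T_mem _ _) β with
      ⟨g, τ, e⟩ | ⟨g, τ, e⟩
    · rw [e, map_mul, hGamI, one_mul]
      exact hPhi τ
    · have h1 : mk β = c⁻¹ * mk (Phi τ) := by
        rw [eq_inv_mul_iff_mul_eq, hc, ← map_mul, e, map_mul, hGamI, one_mul]
      rw [h1]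
      exact Subgroup.mul_mem _ (Subgroup.inv_mem _ (Subgroup.mem_zpowers c)) (hPhi τ)
  -- the order of `c`
  have hInnPhi : ∀ τ : F ≃+* F, mk (Phi τ) = 1 → τ = 1 := by
    intro τ h
    rw [hmk1] at h
    obtain ⟨y, hy⟩ := h
    obtain ⟨s, rfl⟩ := pr_surjective y
    rw [conj_pr_eq_Gam] at hy
    apply sigma_eq_one_of_nf hm (g := (spToGSp s)⁻¹)
    rw [map_inv, hy, inv_mul_cancel]
  have hodd : ∀ j : ℕ, c ^ (2 * j + 1) ≠ 1 := by
    intro j h
    have h1 : c = mk (Phi ((σ ^ j)⁻¹)) := by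
      rw [map_inv, map_inv, map_pow, map_pow, ← hc2, ← pow_mul, eq_inv_iff_mul_eq_one, ← pow_succ']
      exact h
    have h2 : γ * (Phi ((σ ^ j)⁻¹))⁻¹ ∈ Cfsg.Inn (Cfsg.PSp 2 F) := by
      rw [← hmk1, map_mul, map_inv, ← h1, hc, mul_inv_cancel]
    obtain ⟨y, hy⟩ := h2
    obtain ⟨s, rfl⟩ := pr_surjective y
    have h3 : γ = MulAut.conj (pr s) * Phi ((σ ^ j)⁻¹) := by rw [hy]; group
    have h4 := hγT 1
    rw [h3, MulAut.mul_apply, Phi_T, MulAut.conj_apply, ← map_inv, ← map_mul, ← map_mul,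
      conj_T] at h4
    exact Psi_ne_T one_ne_zero _ _ (pr_injective_char_two h4).symm
  have hord_c : orderOf c = 2 * f := by
    apply Nat.dvd_antisymm
    · apply orderOf_dvd_of_pow_eq_one
      rw [pow_mul, hc2, ← map_pow, ← map_pow, ← hord, pow_orderOf_eq_one, map_one, map_one]
    · obtain ⟨n, hn⟩ : ∃ n, n = orderOf c := ⟨_, rfl⟩
      have h1 : c ^ n = 1 := hn ▸ pow_orderOf_eq_one c
      rw [← hn]
      rcases Nat.even_or_odd' n with ⟨j, rfl | rfl⟩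
      · rw [pow_mul, hc2, ← map_pow, ← map_pow] at h1
        have h2 := hInnPhi _ h1
        have h3 : f ∣ j := hord ▸ orderOf_dvd_of_pow_eq_one h2
        exact Nat.mul_dvd_mul_left 2 h3
      · exact absurd h1 (hodd j)
  refine ⟨⟨c, hall⟩, ?_⟩
  rw [← hord_c]
  exact (orderOf_eq_card_of_forall_mem_zpowers hall).symm

end Cfsg.Agent.Lib.Helper45.SpAut
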