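import Mathlib
import Cfsg.Agent.Lib.Helper45.Sp4Graph
import Cfsg.Agent.Lib.Helper45.Sp4Out
import Cfsg.Agent.S0247

set_option autoImplicit false
set_option linter.unusedSimpArgs false
set_option linter.unusedVariables false
set_option linter.unusedSectionVars false
set_option linter.unnecessarySeqFocus false
set_option linter.style.haveILetI false

namespace Cfsg.Agent.Lib.Helper45.Sp4

open Matrix Cfsg.Agent.Lib.Helper5
open Cfsg.Agent.Lib.Helper5.Om5 (aO aOmega ker_aOmega)
open Cfsg.Agent.Lib.Helper45.SpAut (T T_mulVec eV fV Vec SpG sp_ext Psi pr Psi_ne_T T_eq_one_iff eV_ne_zero)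

variable {F : Type*} [Field F] [Fintype F] [CharP F 2]

/-- the exceptional endomorphism is injective when the field has at least three elements -/
lemma gam0_injective_of_three_le (hq : 3 ≤ Fintype.card F) :
    Function.Injective (gam0 : SpG 2 F →* SpG 2 F) := by
  rw [injective_iff_map_eq_one]
  intro g hg
  have h1 : aO g = 1 := oddOrthToSymp_injective F 2 (by rw [map_one]; exact hg)
  have h2 : aOmega hq g = 1 := Subtype.ext h1
  have h3 : g ∈ (aOmega (F := F) hq).ker := h2
  rw [ker_aOmega hq] at h3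
  rcases (mem_center_symplecticGroup_iff g).1 h3 with h | h
  · exact Subtype.ext h
  · apply Subtype.ext
    rw [h, CharTwo.neg_eq]
    rfl

/-- the exceptional endomorphism is injective over the field with two elements -/
lemma gam0_injective_two (hq : Fintype.card F = 2) :
    Function.Injective (gam0 : SpG 2 F →* SpG 2 F) := by
  classical
  obtain ⟨e⟩ := Cfsg.Agent.S0247.result hq
  by_contra hinj
  have hker : (gam0 : SpG 2 F →* SpG 2 F).ker ≠ ⊥ := by
    rwa [Ne, MonoidHom.ker_eq_bot_iff]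
  obtain ⟨N, hN⟩ : ∃ N : Subgroup (SpG 2 F), N = (gam0 : SpG 2 F →* SpG 2 F).ker := ⟨_, rfl⟩
  haveI : N.Normal := hN ▸ MonoidHom.normal_ker _
  obtain ⟨N', hN'⟩ : ∃ N' : Subgroup (Equiv.Perm (Fin 6)), N' = N.map e.toMonoidHom := ⟨_, rfl⟩
  haveI : N'.Normal := hN' ▸ Subgroup.Normal.map inferInstance _ e.surjective
  have hnt : Nontrivial N' := by
    rw [Subgroup.nontrivial_iff_ne_bot, hN', Ne, Subgroup.map_eq_bot_iff_of_injective _ e.injective,
      hN]
    exact hker
  have hA : alternatingGroup (Fin 6) ≤ N' :=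
    Equiv.Perm.alternatingGroup_le_of_normal (by simp) hnt
  have hidx : N'.index ∣ 2 := by
    have := Subgroup.index_dvd_of_le hA
    rwa [alternatingGroup.index_eq_two] at this
  have hidx2 : N.index = N'.index := by
    rw [hN']
    exact (Subgroup.index_map_equiv N e).symm
  have hrange : Nat.card ↥(gam0 : SpG 2 F →* SpG 2 F).range ≤ 2 := by
    rw [← Subgroup.index_ker, ← hN, hidx2]
    exact Nat.le_of_dvd (by norm_num) hidx
  haveI : Fintype ↥(gam0 : SpG 2 F →* SpG 2 F).range := Fintype.ofFinite _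
  rw [Nat.card_eq_fintype_card] at hrange
  have h3 : 2 < Fintype.card ↥(gam0 : SpG 2 F →* SpG 2 F).range := by
    rw [Fintype.two_lt_card_iff]
    refine ⟨⟨1, Subgroup.one_mem _⟩, ⟨gam0 (T (eV 0) 1), ⟨_, rfl⟩⟩,
      ⟨gam0 (Psi (eV 0) (eV 1) 0 1), ⟨_, rfl⟩⟩, ?_, ?_, ?_⟩
    · intro h
      have h' := congrArg Subtype.val h
      simp only [gam0_T] at h'
      have := Psi_ne_T (F := F) one_ne_zero (0 : Vec 2 F) 0
      rw [SpAut.T_zero] at this
      exact this h'.symm
    · intro h
      have h' := congrArg Subtype.val h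
      simp only [gam0_Psi] at h'
      have h0 : ((1 : F) ^ 2) = 0 := (T_eq_one_iff (eV_ne_zero (0 : Fin 2))).1 h'.symm
      rw [one_pow] at h0
      exact one_ne_zero h0
    · intro h
      have h' := congrArg Subtype.val h
      simp only [gam0_T, gam0_Psi] at h'
      exact Psi_ne_T one_ne_zero _ _ h'
  omega

end Cfsg.Agent.Lib.Helper45.Sp4

namespace Cfsg.Agent.Lib.Helper45.Sp4

open Matrix Cfsg.Agent.Lib.Helper5
open Cfsg.Agent.Lib.Helper45.SpAut (T eV Vec SpG Psi pr)

/-- the outer automorphism group of `PSp₄(2 ^ f)` is cyclic of order `2 f` -/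
theorem out_psp4 {F : Type*} [Field F] [Fintype F] {f : ℕ} (hf : 1 ≤ f)
    (hF : Fintype.card F = 2 ^ f) :
    IsCyclic (Cfsg.Out (Cfsg.PSp 2 F)) ∧ Nat.card (Cfsg.Out (Cfsg.PSp 2 F)) = 2 * f := by
  haveI : Fact (Nat.Prime 2) := ⟨Nat.prime_two⟩
  haveI : CharP F 2 := charP_of_card_eq_prime_pow hF
  have hinj : Function.Injective (gam0 : SpG 2 F →* SpG 2 F) := by
    by_cases h : f = 1
    · exact gam0_injective_two (by rw [hF, h]; rfl)
    · apply gam0_injective_of_three_le
      rw [hF]
      have h2 : 2 ≤ f := by omega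
      calc 3 ≤ 2 ^ 2 := by norm_num
        _ ≤ 2 ^ f := Nat.pow_le_pow_right (by norm_num) h2
  have hbij : Function.Bijective (gam0 : SpG 2 F →* SpG 2 F) :=
    ⟨hinj, Finite.surjective_of_injective hinj⟩
  exact SpAut.out_of_gamma hf hF (AutPSL2.desc (MulEquiv.ofBijective gam0 hbij))
    (fun c => by
      show pr (gam0 (T (eV 0 : Vec 2 F) c)) = _
      rw [gam0_T])
    (fun c => by
      show pr (gam0 (Psi (eV 0 : Vec 2 F) (eV 1) 0 c)) = _
      rw [gam0_Psi])

end Cfsg.Agent.Lib.Helper45.Sp4
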