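import Mathlib
import Cfsg.Agent.Lib.Helper45.Sp4Gamma
import Cfsg.Agent.Lib.Helper45.SpAutMult

set_option autoImplicit false
set_option linter.unusedSimpArgs false
set_option linter.unusedVariables false
set_option linter.unusedSectionVars false
set_option linter.unnecessarySeqFocus false
set_option linter.style.haveILetI false

/-!
# The order of `Aut(PSp_{2m}(q))`
-/

namespace Cfsg.Agent.Lib.Helper45.SpAut

open Matrix Cfsg.Agent.Lib.Helper13 Pointwise

variable {F : Type*} [Field F] {m : ℕ}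

/-- the image of `GSp` in the automorphism group has order `gcd(2, q - 1) |PSp|` -/
theorem card_Gam_range [Fintype F] [NeZero m] (hm : 2 ≤ m) :
    Nat.card ↥((Gam : ↥(Cfsg.GSp m F) →* MulAut (Cfsg.PSp m F)).range) =
      Nat.gcd 2 (Fintype.card F - 1) * Nat.card (Cfsg.PSp m F) := by
  classical
  obtain ⟨sq, hsq⟩ : ∃ sq0 : Fˣ →* Fˣ, sq0 = powMonoidHom 2 := ⟨_, rfl⟩
  obtain ⟨ψ, hψ⟩ : ∃ ψ : ↥(Cfsg.GSp m F) →* Fˣ ⧸ sq.range,
      ψ = (QuotientGroup.mk' sq.range).comp mult := ⟨_, rfl⟩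
  have hsurj : Function.Surjective ψ := by
    rw [hψ]
    exact (QuotientGroup.mk'_surjective _).comp mult_surjective
  have hker : ψ.ker = (Cfsg.Inn (Cfsg.PSp m F)).comap
      (Gam : ↥(Cfsg.GSp m F) →* MulAut (Cfsg.PSp m F)) := by
    ext g
    rw [MonoidHom.mem_ker, Subgroup.mem_comap, Gam_mem_Inn_iff hm, hψ, MonoidHom.comp_apply,
      QuotientGroup.mk'_apply, QuotientGroup.eq_one_iff, hsq]
    constructor
    · rintro ⟨d, hd⟩
      exact ⟨d, by rw [← hd, powMonoidHom_apply, pow_two]⟩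
    · rintro ⟨d, hd⟩
      exact ⟨d, by rw [hd, powMonoidHom_apply, pow_two]⟩
  have h1 : ψ.ker.index = Nat.gcd 2 (Fintype.card F - 1) := by
    rw [Subgroup.index_ker, MonoidHom.range_eq_top.2 hsurj, Subgroup.card_top,
      ← Subgroup.index_eq_card, hsq, IsCyclic.index_powMonoidHom_range, Nat.card_eq_fintype_card,
      Fintype.card_units, Nat.gcd_comm]
  rw [hker, Subgroup.index_comap] at h1
  have h2 := Subgroup.relIndex_mul_relIndex ⊥ (Cfsg.Inn (Cfsg.PSp m F))
    (Gam : ↥(Cfsg.GSp m F) →* MulAut (Cfsg.PSp m F)).range bot_le Inn_le_Gam_range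
  rw [Subgroup.relIndex_bot_left, Subgroup.relIndex_bot_left, h1, card_Inn hm] at h2
  rw [← h2, mul_comm]

/-- the group of field automorphisms of `PSp_{2m}(p ^ f)` has order `f` -/
theorem card_Phi_range [Fintype F] [NeZero m] (p : ℕ) [Fact p.Prime] {f : ℕ}
    (hF : Fintype.card F = p ^ f) :
    Nat.card ↥((Phi : (F ≃+* F) →* MulAut (Cfsg.PSp m F)).range) = f := by
  haveI : CharP F p := charP_of_card_eq_prime_pow hF
  rw [← Nat.card_congr (MonoidHom.ofInjective (Phi_injective (F := F) (m := m))).toEquiv]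
  exact Cfsg.Agent.Lib.Helper5.AutPSL2.card_ringAut p hF

/-- the order of the automorphism group when every automorphism is standard -/
theorem card_aut_of_stepA [Fintype F] [NeZero m] (hm : 2 ≤ m) (p : ℕ) [Fact p.Prime] {f : ℕ}
    (hF : Fintype.card F = p ^ f) (hA : StepA m F) :
    Nat.card (MulAut (Cfsg.PSp m F)) =
      Nat.gcd 2 (Fintype.card F - 1) * f * Nat.card (Cfsg.PSp m F) := by
  have hdisj : Disjoint (Gam : ↥(Cfsg.GSp m F) →* MulAut (Cfsg.PSp m F)).range
      (Phi : (F ≃+* F) →* MulAut (Cfsg.PSp m F)).range := by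
    rw [Subgroup.disjoint_def]
    rintro x ⟨g, rfl⟩ ⟨σ, hσ⟩
    have h1 : (Gam g⁻¹ * Phi σ : MulAut (Cfsg.PSp m F)) = 1 := by
      rw [map_inv, hσ, inv_mul_cancel]
    have h2 := sigma_eq_one_of_nf hm h1
    rw [← hσ, h2, map_one]
  have hmul : ((Gam : ↥(Cfsg.GSp m F) →* MulAut (Cfsg.PSp m F)).range : Set (MulAut (Cfsg.PSp m F))) *
      ((Phi : (F ≃+* F) →* MulAut (Cfsg.PSp m F)).range : Set (MulAut (Cfsg.PSp m F))) = Set.univ := by
    rw [Set.eq_univ_iff_forall]
    intro β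
    obtain ⟨g, σ, rfl⟩ := aut_decomp hm hA β
    exact Set.mul_mem_mul ⟨g, rfl⟩ ⟨σ, rfl⟩
  have h := (Subgroup.isComplement'_of_disjoint_and_mul_eq_univ hdisj hmul).card_mul_card
  rw [card_Gam_range hm, card_Phi_range p hF] at h
  rw [← h]
  ring

end Cfsg.Agent.Lib.Helper45.SpAut
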