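import Mathlib
import Cfsg.Agent.Lib.Helper45.BalanceSkel
import Cfsg.Agent.Lib.Helper45.Sp4Gamma
import Cfsg.Agent.Lib.Helper45.SpAutCoset

set_option autoImplicit false
set_option linter.unusedSimpArgs false
set_option linter.unusedVariables false
set_option linter.unusedSectionVars false
set_option linter.unnecessarySeqFocus false
set_option linter.style.haveILetI false

/-!
# Local balance for `PSp_{2m}(q)`: the data of the skeleton for a standard field automorphism
-/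

namespace Cfsg.Agent.Lib.Helper45.SpAut

open Matrix Cfsg.Agent.Lib.Helper13 Pointwise
open Cfsg.Agent.Lib.Helper5.AutPSLn (Par)

variable {F : Type*} [Field F] {m : ℕ}

lemma fieldSp_T (σ : F ≃+* F) (v : Vec m F) (a : F) :
    fieldSp σ (T v a) = T (fun i => σ (v i)) (σ a) := by
  apply Subtype.ext
  rw [fieldSp_coe]
  show (Cfsg.sympTransvection m v a).map σ = Cfsg.sympTransvection m (fun i => σ (v i)) (σ a)
  unfold Cfsg.sympTransvection
  ext i j
  simp only [Matrix.map_apply, Matrix.add_apply, Matrix.smul_apply, Matrix.vecMulVec_apply,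
    smul_eq_mul, map_add, map_mul, Matrix.one_apply]
  congr 1
  · split_ifs <;> simp
  · congr 2
    simp only [Matrix.mulVec, dotProduct, map_sum, map_mul]
    apply Finset.sum_congr rfl
    intro k _
    congr 1
    have := congrFun (congrFun (J_map (m := m) σ) j) k
    simpa [Matrix.map_apply] using this

/-- the symplectic matrices fixed by the field automorphism `σ` -/
def FixSp (σ : F ≃+* F) : Subgroup (SpG m F) where
  carrier := {s | fieldSp σ s = s}
  mul_mem' := by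
    intro a b ha hb
    simp only [Set.mem_ofPred_eq] at *
    rw [map_mul, ha, hb]
  one_mem' := map_one _
  inv_mem' := by
    intro a ha
    simp only [Set.mem_ofPred_eq] at *
    rw [map_inv, ha]

lemma mem_FixSp {σ : F ≃+* F} {s : SpG m F} : s ∈ FixSp σ ↔ fieldSp σ s = s := Iff.rfl

/-- the image in `PSp` of the symplectic group over the fixed field -/
def L0 (σ : F ≃+* F) : Subgroup (Cfsg.PSp m F) := (FixSp σ).map pr

lemma L0_fix (σ : F ≃+* F) : ∀ l ∈ L0 (m := m) σ, Phi σ l = l := by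
  rintro _ ⟨s, hs, rfl⟩
  rw [Phi_pr, mem_FixSp.1 hs]

lemma pr_T_mem_L0 (σ : F ≃+* F) {v : Vec m F} {a : F} (hv : (fun i => σ (v i)) = v) (ha : σ a = a) :
    pr (T v a) ∈ L0 σ := by
  refine ⟨T v a, ?_, rfl⟩
  show fieldSp σ (T v a) = T v a
  rw [fieldSp_T, hv, ha]

lemma L0_ne_bot [NeZero m] (σ : F ≃+* F) : L0 (m := m) σ ≠ ⊥ := by
  intro h
  have h1 : pr (T (eV 0 : Vec m F) 1) ∈ L0 σ := pr_T_mem_L0 σ (map_eV σ 0) (map_one σ)
  rw [h, Subgroup.mem_bot] at h1
  exact pr_T_ne_one (eV_ne_zero 0) one_ne_zero h1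

/-- the fixed points of `Phi σ` normalise `L0 σ` -/
lemma L0_norm [NeZero m] (σ : F ≃+* F) (k : Cfsg.PSp m F) (hk : Phi σ k = k) :
    ∀ l ∈ L0 (m := m) σ, k * l * k⁻¹ ∈ L0 σ := by
  rintro _ ⟨s, hs, rfl⟩
  obtain ⟨t, rfl⟩ := pr_surjective k
  rw [Phi_pr] at hk
  refine ⟨t * s * t⁻¹, ?_, by simp only [map_mul, map_inv]⟩
  have hs' : fieldSp σ s = s := hs
  show fieldSp σ (t * s * t⁻¹) = t * s * t⁻¹
  rw [map_mul, map_mul, map_inv, hs']
  rcases pr_eq_iff.1 hk with e | e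
  · have : fieldSp σ t = t := (Subtype.ext e).symm
    rw [this]
  · apply Subtype.ext
    have e1 : (fieldSp σ t).1 = -t.1 := by rw [e, neg_neg]
    have e2 : ((fieldSp σ t)⁻¹).1 = -(t⁻¹).1 := by
      have h1 : (fieldSp σ t).1 * (-(t⁻¹).1) = 1 := by
        rw [e1, Matrix.neg_mul, Matrix.mul_neg, neg_neg]
        exact congrArg Subtype.val (mul_inv_cancel t)
      have h2 : (fieldSp σ t).1 * ((fieldSp σ t)⁻¹).1 = 1 :=
        congrArg Subtype.val (mul_inv_cancel (fieldSp σ t))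
      have h3 : ((fieldSp σ t)⁻¹).1 * (fieldSp σ t).1 = 1 :=
        congrArg Subtype.val (inv_mul_cancel (fieldSp σ t))
      calc ((fieldSp σ t)⁻¹).1 = ((fieldSp σ t)⁻¹).1 * ((fieldSp σ t).1 * (-(t⁻¹).1)) := by
            rw [h1, Matrix.mul_one]
        _ = -(t⁻¹).1 := by rw [← Matrix.mul_assoc, h3, Matrix.one_mul]
    show (fieldSp σ t).1 * s.1 * ((fieldSp σ t)⁻¹).1 = t.1 * s.1 * (t⁻¹).1
    rw [e1, e2, Matrix.neg_mul, Matrix.neg_mul, Matrix.mul_neg, neg_neg]

/-- squares of fixed points of `Phi σ` lie in `L0 σ` -/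
lemma sq_mem_L0 [NeZero m] (σ : F ≃+* F) (k : Cfsg.PSp m F) (hk : Phi σ k = k) :
    k ^ 2 ∈ L0 (m := m) σ := by
  obtain ⟨t, rfl⟩ := pr_surjective k
  rw [Phi_pr] at hk
  refine ⟨t ^ 2, ?_, by rw [map_pow]⟩
  show fieldSp σ (t ^ 2) = t ^ 2
  rw [map_pow]
  rcases pr_eq_iff.1 hk with e | e
  · have : fieldSp σ t = t := (Subtype.ext e).symm
    rw [this]
  · apply Subtype.ext
    have e1 : (fieldSp σ t).1 = -t.1 := by rw [e, neg_neg]
    show ((fieldSp σ t) ^ 2).1 = (t ^ 2).1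
    rw [sq, sq]
    show (fieldSp σ t).1 * (fieldSp σ t).1 = t.1 * t.1
    rw [e1, Matrix.neg_mul, Matrix.mul_neg, neg_neg]

end Cfsg.Agent.Lib.Helper45.SpAut
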