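import Mathlib
import Cfsg.Agent.Lib.Helper45.SpBalance
import Cfsg.Agent.Lib.Helper45.SpAutDescent

set_option autoImplicit false
set_option linter.unusedSimpArgs false
set_option linter.unusedVariables false
set_option linter.unusedSectionVars false
set_option linter.unnecessarySeqFocus false
set_option linter.style.haveILetI false

namespace Cfsg.Agent.Lib.Helper45.SpAut

open Matrix Cfsg.Agent.Lib.Helper13 Pointwise
open Cfsg.Agent.Lib.Helper5.AutPSLn (Par)

variable {F : Type*} [Field F] {m : ℕ}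

lemma mapK_mem_symplectic (σ : F ≃+* F) (s : SpG m (fixK σ)) :
    s.1.map (fixK σ).subtype ∈ Matrix.symplecticGroup (Fin m) F := by
  rw [SymplecticGroup.mem_iff]
  have h := s.2
  rw [SymplecticGroup.mem_iff] at h
  have e1 : s.1.map (fixK σ).subtype * J (Fin m) F * (s.1.map (fixK σ).subtype)ᵀ =
      (s.1 * J (Fin m) (fixK σ) * s.1ᵀ).map (fixK σ).subtype := by
    have e0 : (s.1 * J (Fin m) (fixK σ) * s.1ᵀ).map (fixK σ).subtype =
        (fixK σ).subtype.mapMatrix (s.1 * J (Fin m) (fixK σ) * s.1ᵀ) := rfl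
    rw [e0, map_mul, map_mul]
    have e2 : (fixK σ).subtype.mapMatrix (J (Fin m) (fixK σ)) = J (Fin m) F := J_mapK _
    rw [e2]
    rfl
  rw [e1, h, J_mapK]

/-- the inclusion of the symplectic group over the fixed field -/
def mapSp (σ : F ≃+* F) : SpG m (fixK σ) →* SpG m F where
  toFun s := ⟨s.1.map (fixK σ).subtype, mapK_mem_symplectic σ s⟩
  map_one' := by
    apply Subtype.ext
    ext i j
    simp [Matrix.map_apply, Matrix.one_apply, apply_ite]
  map_mul' := fun s t => by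
    apply Subtype.ext
    show (fixK σ).subtype.mapMatrix (s.1 * t.1) =
      (fixK σ).subtype.mapMatrix s.1 * (fixK σ).subtype.mapMatrix t.1
    rw [map_mul]

lemma mapSp_coe (σ : F ≃+* F) (s : SpG m (fixK σ)) : (mapSp σ s).1 = s.1.map (fixK σ).subtype := rfl

lemma mapSp_mem_FixSp (σ : F ≃+* F) (s : SpG m (fixK σ)) : mapSp σ s ∈ FixSp σ := by
  show fieldSp σ (mapSp σ s) = mapSp σ s
  apply Subtype.ext
  rw [fieldSp_coe, mapSp_coe]
  exact map_fixK σ s.1

lemma exists_mapSp_of_mem_FixSp (σ : F ≃+* F) {s : SpG m F} (hs : s ∈ FixSp σ) :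
    ∃ s₀ : SpG m (fixK σ), mapSp σ s₀ = s := by
  have hs' : fieldSp σ s = s := hs
  have h1 : s.1.map σ = s.1 := by
    have := congrArg Subtype.val hs'
    rwa [fieldSp_coe] at this
  obtain ⟨M, hM⟩ := exists_of_map_eq σ s.1 h1
  have hinj : Function.Injective (fun A : Matrix (Fin m ⊕ Fin m) (Fin m ⊕ Fin m) (fixK σ) =>
      A.map (fixK σ).subtype) := Matrix.map_injective Subtype.val_injective
  have hMs : M ∈ Matrix.symplecticGroup (Fin m) (fixK σ) := by
    rw [SymplecticGroup.mem_iff]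
    apply hinj
    show (M * J (Fin m) (fixK σ) * Mᵀ).map (fixK σ).subtype = (J (Fin m) (fixK σ)).map (fixK σ).subtype
    have e0 : (M * J (Fin m) (fixK σ) * Mᵀ).map (fixK σ).subtype =
        (fixK σ).subtype.mapMatrix (M * J (Fin m) (fixK σ) * Mᵀ) := rfl
    rw [e0, map_mul, map_mul]
    have e2 : (fixK σ).subtype.mapMatrix (J (Fin m) (fixK σ)) = J (Fin m) F := J_mapK _
    rw [e2, J_mapK]
    have e3 : (fixK σ).subtype.mapMatrix M = s.1 := hM
    have e4 : (fixK σ).subtype.mapMatrix Mᵀ = s.1ᵀ := by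
      rw [← hM]; rfl
    rw [e3, e4]
    have := s.2
    rwa [SymplecticGroup.mem_iff] at this
  exact ⟨⟨M, hMs⟩, Subtype.ext hM⟩

lemma pr_mapSp_eq_iff [NeZero m] (σ : F ≃+* F) (a b : SpG m (fixK σ)) :
    pr (mapSp σ a) = pr (mapSp σ b) ↔ pr a = pr b := by
  rw [pr_eq_iff, pr_eq_iff, mapSp_coe, mapSp_coe]
  have hinj : Function.Injective (fun A : Matrix (Fin m ⊕ Fin m) (Fin m ⊕ Fin m) (fixK σ) =>
      A.map (fixK σ).subtype) := Matrix.map_injective Subtype.val_injective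
  have hneg : (-a.1).map (fixK σ).subtype = -(a.1.map (fixK σ).subtype) := by
    ext i j
    simp [Matrix.map_apply]
  constructor
  · rintro (e | e)
    · exact Or.inl (hinj e)
    · right
      apply hinj
      show b.1.map (fixK σ).subtype = (-a.1).map (fixK σ).subtype
      rw [hneg, e]
  · rintro (e | e)
    · left; rw [e]
    · right; rw [e, hneg]

lemma mem_L0_iff (σ : F ≃+* F) (l : Cfsg.PSp m F) :
    l ∈ L0 σ ↔ ∃ s₀ : SpG m (fixK σ), pr (mapSp σ s₀) = l := by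
  constructor
  · rintro ⟨s, hs, rfl⟩
    obtain ⟨s₀, rfl⟩ := exists_mapSp_of_mem_FixSp σ hs
    exact ⟨s₀, rfl⟩
  · rintro ⟨s₀, rfl⟩
    exact ⟨mapSp σ s₀, mapSp_mem_FixSp σ s₀, rfl⟩

/-- `L0 σ` is "simple" when `PSp` over the fixed field is -/
theorem L0_simple_like [NeZero m] (σ : F ≃+* F) (hsimple : IsSimpleGroup (Cfsg.PSp m (fixK σ)))
    (M : Subgroup (Cfsg.PSp m F)) (hML : M ≤ L0 σ)
    (hinv : ∀ l ∈ L0 (m := m) σ, ∀ x ∈ M, l * x * l⁻¹ ∈ M) : M = ⊥ ∨ M = L0 σ := by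
  obtain ⟨N, hN⟩ : ∃ N : Subgroup (SpG m (fixK σ)), N = M.comap (pr.comp (mapSp σ)) := ⟨_, rfl⟩
  have hmemN : ∀ n, n ∈ N ↔ pr (mapSp σ n) ∈ M := by
    intro n; rw [hN]; exact Iff.rfl
  haveI hNn : N.Normal := by
    constructor
    intro n hn t
    rw [hmemN] at hn ⊢
    rw [map_mul, map_mul, map_inv, map_mul, map_mul, map_inv]
    exact hinv _ ((mem_L0_iff σ _).2 ⟨t, rfl⟩) _ hn
  haveI : (N.map (pr : SpG m (fixK σ) →* Cfsg.PSp m (fixK σ))).Normal :=
    Subgroup.Normal.map hNn _ pr_surjective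
  rcases hsimple.eq_bot_or_eq_top_of_normal (N.map (pr : SpG m (fixK σ) →* Cfsg.PSp m (fixK σ)))
    inferInstance with h | h
  · left
    rw [eq_bot_iff]
    intro l hl
    obtain ⟨s₀, rfl⟩ := (mem_L0_iff σ l).1 (hML hl)
    have h1 : pr s₀ ∈ N.map (pr : SpG m (fixK σ) →* Cfsg.PSp m (fixK σ)) :=
      ⟨s₀, (hmemN s₀).2 hl, rfl⟩
    rw [h, Subgroup.mem_bot] at h1
    rw [Subgroup.mem_bot]
    have h2 : pr s₀ = pr (1 : SpG m (fixK σ)) := by rw [h1, map_one]
    rw [(pr_mapSp_eq_iff σ s₀ 1).2 h2, map_one, map_one]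
  · right
    apply le_antisymm hML
    intro l hl
    obtain ⟨s₀, rfl⟩ := (mem_L0_iff σ l).1 hl
    have h1 : pr s₀ ∈ N.map (pr : SpG m (fixK σ) →* Cfsg.PSp m (fixK σ)) := by
      rw [h]; exact Subgroup.mem_top _
    obtain ⟨n, hn, hn2⟩ := h1
    rw [← (pr_mapSp_eq_iff σ n s₀).2 hn2]
    exact (hmemN n).1 hn

end Cfsg.Agent.Lib.Helper45.SpAut
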