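import Mathlib
import Cfsg.Agent.Lib.Helper45.SpBalance2
import Cfsg.Agent.S0270
import Cfsg.Agent.Lib.Helper13.SpTorus

set_option autoImplicit false
set_option linter.unusedSimpArgs false
set_option linter.unusedVariables false
set_option linter.unusedSectionVars false
set_option linter.unnecessarySeqFocus false
set_option linter.style.haveILetI false

namespace Cfsg.Agent.Lib.Helper45.SpAut

open Matrix Cfsg.Agent.Lib.Helper13 Pointwise
open Cfsg.Agent.Lib.Helper5.AutPSLn (Par)

variable {F : Type*} [Field F] {m : ℕ}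

/-- an odd prime dividing the number of fixed points of `Phi σ` divides the order of `L0 σ` -/
lemma dvd_card_L0_of_odd [Finite F] [NeZero m] (σ : F ≃+* F) {p : ℕ} [Fact p.Prime] (hp2 : p ≠ 2)
    (h : p ∣ Nat.card ↥(MonoidHom.eqLocus (Phi σ : MulAut (Cfsg.PSp m F)).toMonoidHom
      (MonoidHom.id (Cfsg.PSp m F)))) :
    p ∣ Nat.card ↥(L0 (m := m) σ) := by
  have hp : p.Prime := Fact.out
  obtain ⟨k, hk⟩ := exists_prime_orderOf_dvd_card' p h
  have hk1 : Phi σ k.1 = k.1 := k.2
  have hk2 : orderOf k.1 = p := by rw [← hk]; exact Subgroup.orderOf_coe k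
  have hsq := sq_mem_L0 σ k.1 hk1
  have hodd : Odd p := hp.odd_of_ne_two hp2
  obtain ⟨j, hj⟩ := hodd
  have hmem : k.1 ∈ L0 (m := m) σ := by
    have e : k.1 = (k.1 ^ 2) ^ (j + 1) := by
      rw [← pow_mul]
      have : 2 * (j + 1) = p + 1 := by omega
      rw [this, pow_succ, ← hk2, pow_orderOf_eq_one, one_mul]
    rw [e]
    exact Subgroup.pow_mem _ hsq _
  have := orderOf_dvd_natCard (⟨k.1, hmem⟩ : ↥(L0 (m := m) σ))
  rwa [Subgroup.orderOf_mk, hk2] at this

/-- `L0 σ` has even order in odd characteristic -/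
lemma two_dvd_card_L0 [Finite F] (hm : 2 ≤ m) (h2 : (2 : F) ≠ 0) (σ : F ≃+* F) :
    2 ∣ Nat.card ↥(L0 (m := m) σ) := by
  classical
  haveI : NeZero m := ⟨by omega⟩
  have h11 : (1 : F) ≠ -1 := by
    intro h
    apply h2
    have : (2 : F) = 1 + 1 := by norm_num
    rw [this]
    nth_rewrite 2 [h]
    exact add_neg_cancel 1
  obtain ⟨i0, hi0⟩ : ∃ i0 : Fin m, i0 = ⟨0, by omega⟩ := ⟨_, rfl⟩
  obtain ⟨i1, hi1⟩ : ∃ i1 : Fin m, i1 = ⟨1, by omega⟩ := ⟨_, rfl⟩
  have h01 : i1 ≠ i0 := by
    rw [hi0, hi1]; intro h; simpa using congrArg Fin.val h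
  obtain ⟨d, hd⟩ : ∃ d : Fin m ⊕ Fin m → F,
      d = fun a => if a = Sum.inl i0 ∨ a = Sum.inr i0 then -1 else 1 := ⟨_, rfl⟩
  have hdd : ∀ a, d a = 1 ∨ d a = -1 := by
    intro a; rw [hd]; dsimp only; split_ifs <;> simp
  have hds : ∀ a, d a.swap = d a := by
    intro a
    rw [hd]
    rcases a with a | a <;> simp
  have hd2 : ∀ a, d a * d a = 1 := by
    intro a; rcases hdd a with h | h <;> rw [h] <;> simp
  have hdsw : ∀ a, d a * d a.swap = 1 := by
    intro a; rw [hds, hd2]
  obtain ⟨s, hs⟩ : ∃ s : SpG m F, s = spDiag d hdsw := ⟨_, rfl⟩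
  have hs1 : s.1 = Matrix.diagonal d := by rw [hs]; rfl
  have hsfix : s ∈ FixSp σ := by
    show fieldSp σ s = s
    apply Subtype.ext
    rw [fieldSp_coe, hs1]
    ext a b
    rw [Matrix.map_apply]
    by_cases hab : a = b
    · subst hab
      rw [Matrix.diagonal_apply_eq]
      rcases hdd a with h | h <;> rw [h] <;> simp
    · rw [Matrix.diagonal_apply_ne _ hab, map_zero]
  have hmem : pr s ∈ L0 (m := m) σ := ⟨s, hsfix, rfl⟩
  have hsq : (pr s) ^ 2 = 1 := by
    rw [← map_pow]
    have : s ^ 2 = 1 := by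
      apply Subtype.ext
      rw [sq]
      show s.1 * s.1 = 1
      rw [hs1, Matrix.diagonal_mul_diagonal]
      rw [← Matrix.diagonal_one]
      congr 1
      funext a
      exact hd2 a
    rw [this, map_one]
  have hne : pr s ≠ 1 := by
    intro h
    have h' : pr s = pr (1 : SpG m F) := by rw [h, map_one]
    have e0 : d (Sum.inl i0) = -1 := by rw [hd]; simp
    have e1 : d (Sum.inl i1) = 1 := by
      rw [hd]; dsimp only
      rw [if_neg]
      rintro (h | h)
      · exact h01 (Sum.inl_injective h)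
      · exact Sum.inl_ne_inr h
    rcases pr_eq_iff.1 h' with e | e
    · have := congrFun (congrFun e (Sum.inl i0)) (Sum.inl i0)
      rw [hs1, Matrix.diagonal_apply_eq, e0] at this
      have h3 : ((1 : SpG m F).1) (Sum.inl i0) (Sum.inl i0) = 1 := by
        show (1 : Matrix _ _ F) (Sum.inl i0) (Sum.inl i0) = 1
        exact Matrix.one_apply_eq _
      rw [h3] at this
      exact h11 this
    · have := congrFun (congrFun e (Sum.inl i1)) (Sum.inl i1)
      rw [Matrix.neg_apply, hs1, Matrix.diagonal_apply_eq, e1] at this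
      have h3 : ((1 : SpG m F).1) (Sum.inl i1) (Sum.inl i1) = 1 := by
        show (1 : Matrix _ _ F) (Sum.inl i1) (Sum.inl i1) = 1
        exact Matrix.one_apply_eq _
      rw [h3] at this
      exact h11 this
  have hord : orderOf (pr s) = 2 := orderOf_eq_prime hsq hne
  have := orderOf_dvd_natCard (⟨pr s, hmem⟩ : ↥(L0 (m := m) σ))
  rwa [Subgroup.orderOf_mk, hord] at this

end Cfsg.Agent.Lib.Helper45.SpAut
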