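import Mathlib
import Cfsg.Agent.Lib.Helper45.SpBalance3
import Cfsg.Agent.Lib.Helper45.Sp4Gamma

set_option autoImplicit false
set_option linter.unusedSimpArgs false
set_option linter.unusedVariables false
set_option linter.unusedSectionVars false
set_option linter.unnecessarySeqFocus false
set_option linter.style.haveILetI false

namespace Cfsg.Agent.Lib.Helper45.SpAut

open Matrix Cfsg.Agent.Lib.Helper13 Pointwise
open Cfsg.Agent.Lib.Helper5.AutPSLn (Par)

variable {F : Type*} [Field F] {m : ℕ}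

lemma mapSp_injective (σ : F ≃+* F) : Function.Injective (mapSp (m := m) σ) := by
  intro a b h
  have h1 := congrArg Subtype.val h
  rw [mapSp_coe, mapSp_coe] at h1
  exact Subtype.ext (Matrix.map_injective Subtype.val_injective h1)

/-- the exceptional case: the fixed field has two elements -/
theorem L0_simple_exc [Fintype F] [CharP F 2] (σ : F ≃+* F) (hF0 : Nat.card (fixK σ) = 2)
    {p : ℕ} [Fact p.Prime] (hp2 : p ≠ 2) (hdvd : p ∣ Nat.card ↥(L0 (m := 2) σ))
    (M : Subgroup (Cfsg.PSp 2 F)) (hML : M ≤ L0 σ)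
    (hinv : ∀ l ∈ L0 (m := 2) σ, ∀ x ∈ M, l * x * l⁻¹ ∈ M)
    (hc : (Nat.card ↥M).Coprime p) : M = ⊥ := by
  classical
  have hp : p.Prime := Fact.out
  haveI : Fintype (fixK σ) := Fintype.ofFinite _
  have hF0' : Fintype.card (fixK σ) = 2 := by rw [← Nat.card_eq_fintype_card, hF0]
  obtain ⟨e⟩ := Cfsg.Agent.S0247.result hF0'
  obtain ⟨ψ, hψ⟩ : ∃ ψ : SpG 2 (fixK σ) →* Cfsg.PSp 2 F, ψ = pr.comp (mapSp σ) := ⟨_, rfl⟩
  have hψa : ∀ s, ψ s = pr (mapSp σ s) := fun s => by rw [hψ]; rfl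
  have hψinj : Function.Injective ψ := by
    intro a b h
    rw [hψa, hψa] at h
    exact mapSp_injective σ (pr_injective_char_two h)
  have hrange : ψ.range = L0 σ := by
    ext l
    rw [mem_L0_iff]
    constructor
    · rintro ⟨s, rfl⟩; exact ⟨s, (hψa s).symm⟩
    · rintro ⟨s, rfl⟩; exact ⟨s, hψa s⟩
  obtain ⟨N, hN⟩ : ∃ N : Subgroup (SpG 2 (fixK σ)), N = M.comap ψ := ⟨_, rfl⟩
  have hmemN : ∀ n, n ∈ N ↔ ψ n ∈ M := by
    intro n; rw [hN]; exact Iff.rfl
  haveI hNn : N.Normal := by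
    constructor
    intro n hn t
    rw [hmemN] at hn ⊢
    rw [map_mul, map_mul, map_inv]
    apply hinv _ _ _ hn
    rw [← hrange]
    exact ⟨t, rfl⟩
  have hMN : M = N.map ψ := by
    ext l
    constructor
    · intro hl
      have : l ∈ ψ.range := by rw [hrange]; exact hML hl
      obtain ⟨s, rfl⟩ := this
      exact ⟨s, (hmemN s).2 hl, rfl⟩
    · rintro ⟨s, hs, rfl⟩
      exact (hmemN s).1 hs
  obtain ⟨N', hN'⟩ : ∃ N' : Subgroup (Equiv.Perm (Fin 6)), N' = N.map e.toMonoidHom := ⟨_, rfl⟩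
  haveI : N'.Normal := hN' ▸ Subgroup.Normal.map inferInstance _ e.surjective
  by_contra hMne
  have hnt : Nontrivial N' := by
    rw [Subgroup.nontrivial_iff_ne_bot, hN', Ne, Subgroup.map_eq_bot_iff_of_injective _ e.injective]
    intro h
    apply hMne
    rw [hMN, h, Subgroup.map_bot]
  have hA : alternatingGroup (Fin 6) ≤ N' :=
    Equiv.Perm.alternatingGroup_le_of_normal (by simp) hnt
  have hidx : N'.index ∣ 2 := by
    have := Subgroup.index_dvd_of_le hA
    rwa [alternatingGroup.index_eq_two] at this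
  have hcardL : Nat.card ↥(L0 (m := 2) σ) = Nat.card (Equiv.Perm (Fin 6)) := by
    rw [← hrange, ← Nat.card_congr (MonoidHom.ofInjective hψinj).toEquiv]
    exact Nat.card_congr e.toEquiv
  have hcardM : Nat.card ↥M = Nat.card ↥N' := by
    rw [hMN, hN', Subgroup.card_map_of_injective hψinj]
    exact (Subgroup.card_map_of_injective (f := e.toMonoidHom) e.injective).symm
  have h1 : p ∣ Nat.card ↥N' * N'.index := by
    rw [Subgroup.card_mul_index, ← hcardL]
    exact hdvd
  rcases (Nat.Prime.dvd_mul hp).1 h1 with h | h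
  · rw [← hcardM] at h
    have h2 : p ∣ Nat.gcd (Nat.card ↥M) p := Nat.dvd_gcd h dvd_rfl
    have h3 : Nat.gcd (Nat.card ↥M) p = 1 := hc
    rw [h3] at h2
    exact hp.one_lt.ne' (Nat.dvd_one.1 h2)
  · have h2 : p ∣ 2 := h.trans hidx
    exact hp2 ((Nat.prime_dvd_prime_iff_eq hp Nat.prime_two).1 h2)

/-- the `simple` field of the balance skeleton for a standard field automorphism -/
theorem L0_simple [Fintype F] {r : ℕ} [Fact r.Prime] [CharP F r] (hm : 2 ≤ m) (σ : F ≃+* F)
    {p : ℕ} [Fact p.Prime] (hpr : p ≠ r)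
    (hdvd : p ∣ Nat.card ↥(MonoidHom.eqLocus (Phi σ : MulAut (Cfsg.PSp m F)).toMonoidHom
      (MonoidHom.id (Cfsg.PSp m F))))
    (M : Subgroup (Cfsg.PSp m F)) (hML : M ≤ L0 σ)
    (hinv : ∀ l ∈ L0 (m := m) σ, ∀ x ∈ M, l * x * l⁻¹ ∈ M)
    (hc : (Nat.card ↥M).Coprime p) : M = ⊥ := by
  classical
  haveI : NeZero m := ⟨by omega⟩
  have hp : p.Prime := Fact.out
  have hr : r.Prime := Fact.out
  have hdvdL : p ∣ Nat.card ↥(L0 (m := m) σ) := by
    by_cases hp2 : p = 2
    · rw [hp2]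
      apply two_dvd_card_L0 hm _ σ
      intro h
      have h1 : ((2 : ℕ) : F) = 0 := by exact_mod_cast h
      rw [CharP.cast_eq_zero_iff F r 2] at h1
      exact hpr (hp2.trans ((Nat.prime_dvd_prime_iff_eq hr Nat.prime_two).1 h1).symm)
    · exact dvd_card_L0_of_odd σ hp2 hdvd
  haveI : Fintype (fixK σ) := Fintype.ofFinite _
  by_cases hexc : m = 2 ∧ Nat.card (fixK σ) = 2
  · obtain ⟨hm2, hF0⟩ := hexc
    subst hm2
    have h2 : ((2 : ℕ) : F) = 0 := by
      have h1 : (Nat.card (fixK σ)) • (1 : fixK σ) = 0 := card_nsmul_eq_zero'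
      rw [hF0] at h1
      have h3 : ((1 : fixK σ) + 1 : fixK σ) = 0 := by rw [← two_nsmul]; exact h1
      have h4 : (1 : F) + 1 = 0 := congrArg Subtype.val h3
      push_cast
      rw [← one_add_one_eq_two]
      exact h4
    rw [CharP.cast_eq_zero_iff F r 2] at h2
    have hr2 : r = 2 := (Nat.prime_dvd_prime_iff_eq hr Nat.prime_two).1 h2
    subst hr2
    exact L0_simple_exc σ hF0 hpr hdvdL M hML hinv hc
  · have hsimple : IsSimpleGroup (Cfsg.PSp m (fixK σ)) := by
      apply Cfsg.Agent.S0270.result m hm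
      intro hm2
      have h1 : Nat.card (fixK σ) ≠ 2 := fun h => hexc ⟨hm2, h⟩
      rw [Nat.card_eq_fintype_card] at h1
      have h2 := Fintype.one_lt_card (α := fixK σ)
      omega
    rcases L0_simple_like σ hsimple M hML hinv with h | h
    · exact h
    · exfalso
      rw [h] at hc
      have h2 : p ∣ Nat.gcd (Nat.card ↥(L0 (m := m) σ)) p := Nat.dvd_gcd hdvdL dvd_rfl
      have h3 : Nat.gcd (Nat.card ↥(L0 (m := m) σ)) p = 1 := hc
      rw [h3] at h2
      exact hp.one_lt.ne' (Nat.dvd_one.1 h2)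

end Cfsg.Agent.Lib.Helper45.SpAut
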