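import Mathlib
import Cfsg.Agent.Lib.Helper45.SpBalance4

set_option autoImplicit false
set_option linter.unusedSimpArgs false
set_option linter.unusedVariables false
set_option linter.unusedSectionVars false
set_option linter.unnecessarySeqFocus false
set_option linter.style.haveILetI false

namespace Cfsg.Agent.Lib.Helper45.SpAut

open Matrix Cfsg.Agent.Lib.Helper13 Pointwise
open Cfsg.Agent.Lib.Helper5.AutPSLn (Par)

variable {F : Type*} [Field F] {m : ℕ}

/-! ### Galois theory of a cyclic group of field automorphisms -/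

/-- an automorphism fixing the fixed field of `σ` is a power of `σ` -/
lemma mem_zpowers_of_fix [Finite F] (σ τ : F ≃+* F) (h : ∀ a, σ a = a → τ a = a) :
    τ ∈ Subgroup.zpowers σ := by
  classical
  haveI : Finite (F ≃+* F) :=
    Finite.of_injective (fun e : F ≃+* F => (e : F → F)) DFunLike.coe_injective
  let G : Subgroup (F ≃+* F) := Subgroup.zpowers σ
  let f : F ≃ₐ[FixedPoints.subfield G F] F := AlgEquiv.ofRingEquiv (f := τ) (fun x => by
    apply h
    exact x.2 ⟨σ, Subgroup.mem_zpowers σ⟩)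
  obtain ⟨g, hg⟩ := FixedPoints.toAlgAut_surjective G F f
  have : g.1 = τ := by
    ext a
    have := AlgEquiv.congr_fun hg a
    exact this
  rw [← this]
  exact g.2

/-! ### Normalized automorphisms -/

/-- a normalized automorphism satisfying step A is a standard field automorphism -/
theorem eq_Phi_of_normalized [Fintype F] [NeZero m] (hm : 2 ≤ m) {β : MulAut (Cfsg.PSp m F)}
    (hA : StepAt β) (hN : Normalized β) : ∃ σ : F ≃+* F, β = Phi σ := by
  obtain ⟨σ, hσ⟩ := exists_sigma hm hN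
  obtain ⟨β₃, hβ₃⟩ : ∃ β₃, β₃ = (Phi σ)⁻¹ * β := ⟨_, rfl⟩
  have hPhiRel : ∀ v : Vec m F, (fun i => σ (v i)) = v →
      Rel ((Phi σ)⁻¹ : MulAut (Cfsg.PSp m F)) v v := by
    intro v hv
    have := (rel_Phi (m := m) σ v).inv
    rwa [hv] at this
  have hF3 : FixFrame β₃ := by
    intro s
    rw [hβ₃]
    exact (hN.1 s).comp (hPhiRel _ (map_bV σ s))
  have hU3 : ∀ j : Fin m, j ≠ 0 → Rel β₃ (eV 0 + eV j) (eV 0 + eV j) := by
    intro j hj
    rw [hβ₃]
    exact (hN.2.1 j hj).comp (hPhiRel _ (map_unit σ j))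
  have hT3 : FixT β₃ := by
    intro i c
    constructor
    · rw [mem_FixS, hβ₃, MulAut.mul_apply, (hσ i c).1, MulAut.inv_apply, MulEquiv.symm_apply_eq,
        Phi_T, map_eV]
    · rw [mem_FixS, hβ₃, MulAut.mul_apply, (hσ i c).2, MulAut.inv_apply, MulEquiv.symm_apply_eq,
        Phi_T, map_fV]
  have hA3 : StepAt β₃ := by
    rw [hβ₃]
    exact (stepAt_Phi_inv σ).mul hA
  have h1 : β₃ = 1 := eq_one_of_rel_all hm (fun x hx => rel_all' hm hA3 hF3 hT3 hU3 hx)
  refine ⟨σ, ?_⟩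
  have : Phi σ * β₃ = β := by rw [hβ₃, mul_inv_cancel_left]
  rw [← this, h1, mul_one]

/-- an automorphism satisfying step A and fixing `L0 σ` pointwise is a standard field
automorphism -/
theorem eq_Phi_of_fix_L0 [Fintype F] [NeZero m] (hm : 2 ≤ m) (σ : F ≃+* F)
    {n : MulAut (Cfsg.PSp m F)} (hA : StepAt n) (hfix : ∀ l ∈ L0 (m := m) σ, n l = l) :
    ∃ τ : F ≃+* F, n = Phi τ := by
  have relfix : ∀ v : Vec m F, v ≠ 0 → (fun i => σ (v i)) = v → Rel n v v := by
    intro v hv hvσ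
    obtain ⟨v', hv', hR⟩ := hA v hv
    obtain ⟨c', hc'⟩ := hR.apply 1
    rw [hfix _ (pr_T_mem_L0 σ hvσ (map_one σ))] at hc'
    exact hR.par_right (par_of_pr_T_eq hm hv one_ne_zero hc')
  apply eq_Phi_of_normalized hm hA
  refine ⟨fun s => relfix _ (bV_ne_zero s) (map_bV σ s),
    fun j hj => relfix _ (eV_add_ne_zero hj) (map_unit σ j),
    hfix _ (pr_T_mem_L0 σ (map_eV σ 0) (map_one σ))⟩

/-- the `cent` field of the balance skeleton, under step A -/
theorem cent_of_stepAt [Fintype F] [NeZero m] (hm : 2 ≤ m) (σ : F ≃+* F)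
    {n : MulAut (Cfsg.PSp m F)} (hA : StepAt n) (hfix : ∀ l ∈ L0 (m := m) σ, n l = l) :
    n ∈ Subgroup.zpowers (Phi σ : MulAut (Cfsg.PSp m F)) := by
  obtain ⟨τ, rfl⟩ := eq_Phi_of_fix_L0 hm σ hA hfix
  have hτ : ∀ a, σ a = a → τ a = a := by
    intro a ha
    have h1 := hfix _ (pr_T_mem_L0 σ (map_eV σ (0 : Fin m)) ha)
    rw [Phi_T, map_eV] at h1
    exact pr_T_injective (eV_ne_zero 0) h1
  obtain ⟨k, hk⟩ := Subgroup.mem_zpowers_iff.1 (mem_zpowers_of_fix σ τ hτ)
  rw [Subgroup.mem_zpowers_iff]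
  exact ⟨k, by rw [← hk, map_zpow]⟩

end Cfsg.Agent.Lib.Helper45.SpAut
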