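import Mathlib
import Cfsg.Agent.Lib.Helper45.SpBalance5

set_option autoImplicit false
set_option linter.unusedSimpArgs false
set_option linter.unusedVariables false
set_option linter.unusedSectionVars false
set_option linter.unnecessarySeqFocus false
set_option linter.style.haveILetI false

namespace Cfsg.Agent.Lib.Helper45.SpAut

open Matrix Cfsg.Agent.Lib.Helper13 Pointwise
open Cfsg.Agent.Lib.Helper5.AutPSLn (Par)

variable {F : Type*} [Field F] {m : ℕ}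

/-- the exceptional graph automorphism of `PSp₄` in characteristic two -/
theorem exists_gamma [Fintype F] [CharP F 2] : ∃ γ : MulAut (Cfsg.PSp 2 F),
    (∀ c : F, γ (pr (T (eV 0 : Vec 2 F) c)) = pr (Psi (eV 0) (eV 1) 0 c)) ∧
    (∀ c : F, γ (pr (Psi (eV 0 : Vec 2 F) (eV 1) 0 c)) = pr (T (eV 0) (c ^ 2))) := by
  classical
  have hinj : Function.Injective (Sp4.gam0 : SpG 2 F →* SpG 2 F) := by
    by_cases h : 3 ≤ Fintype.card F
    · exact Sp4.gam0_injective_of_three_le h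
    · apply Sp4.gam0_injective_two
      have := Fintype.one_lt_card (α := F)
      omega
  have hbij : Function.Bijective (Sp4.gam0 : SpG 2 F →* SpG 2 F) :=
    ⟨hinj, Finite.surjective_of_injective hinj⟩
  refine ⟨Cfsg.Agent.Lib.Helper5.AutPSL2.desc (MulEquiv.ofBijective Sp4.gam0 hbij), ?_, ?_⟩
  · intro c
    show pr (Sp4.gam0 (T (eV 0 : Vec 2 F) c)) = _
    rw [Sp4.gam0_T]
  · intro c
    show pr (Sp4.gam0 (Psi (eV 0 : Vec 2 F) (eV 1) 0 c)) = _
    rw [Sp4.gam0_Psi]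

/-- the group of semilinear automorphisms, in normal form -/
def GamPhi (m : ℕ) (F : Type*) [Field F] : Subgroup (MulAut (Cfsg.PSp m F)) where
  carrier := {β | ∃ (g : ↥(Cfsg.GSp m F)) (σ : F ≃+* F), β = Gam g * Phi σ}
  mul_mem' := by
    rintro _ _ ⟨g, σ, rfl⟩ ⟨h, τ, rfl⟩
    refine ⟨g * gspS σ h, σ * τ, ?_⟩
    calc Gam g * Phi σ * (Gam h * Phi τ) = Gam g * (Phi σ * Gam h) * Phi τ := by group
      _ = Gam g * (Gam (gspS σ h) * Phi σ) * Phi τ := by rw [Phi_mul_Gam]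
      _ = Gam (g * gspS σ h) * Phi (σ * τ) := by rw [map_mul, map_mul]; group
  one_mem' := ⟨1, 1, by rw [map_one, map_one, one_mul]⟩
  inv_mem' := by
    rintro _ ⟨g, σ, rfl⟩
    refine ⟨gspS σ⁻¹ g⁻¹, σ⁻¹, ?_⟩
    rw [← Phi_mul_Gam, map_inv, map_inv, _root_.mul_inv_rev]

lemma mem_GamPhi {β : MulAut (Cfsg.PSp m F)} :
    β ∈ GamPhi m F ↔ ∃ (g : ↥(Cfsg.GSp m F)) (σ : F ≃+* F), β = Gam g * Phi σ := Iff.rfl

/-- a semilinear automorphism maps transvections to transvections -/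
lemma GamPhi_T (g : ↥(Cfsg.GSp m F)) (σ : F ≃+* F) (v : Vec m F) (a : F) :
    ∃ (w : Vec m F) (d : F), (Gam g * Phi σ : MulAut (Cfsg.PSp m F)) (pr (T v a)) = pr (T w d) := by
  obtain ⟨c, hc, hmul⟩ := exists_mult g.2
  exact ⟨_, _, by rw [MulAut.mul_apply, Phi_T, Gam_T g hc hmul]⟩

/-- the graph automorphism is not semilinear -/
lemma gamma_not_mem [Fintype F] [CharP F 2] {γ : MulAut (Cfsg.PSp 2 F)}
    (hγT : ∀ c : F, γ (pr (T (eV 0 : Vec 2 F) c)) = pr (Psi (eV 0) (eV 1) 0 c))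
    {β : MulAut (Cfsg.PSp 2 F)} {v : Vec 2 F} {c : F}
    (hβ : β (pr (T (eV 0 : Vec 2 F) 1)) = pr (T v c)) (h : γ * β ∈ GamPhi 2 F) :
    β⁻¹ ∈ GamPhi 2 F → False := by
  intro h2
  have h3 : γ ∈ GamPhi 2 F := by
    have := (GamPhi 2 F).mul_mem h h2
    rwa [mul_inv_cancel_right] at this
  obtain ⟨g, σ, hg⟩ := h3
  obtain ⟨w, d, hwd⟩ := GamPhi_T g σ (eV 0 : Vec 2 F) 1
  rw [← hg, hγT] at hwd
  exact Psi_ne_T one_ne_zero w d (pr_injective_char_two hwd)

/-- in the exceptional case, an automorphism fixing a transvection is semilinear -/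
theorem mem_GamPhi_of_fix_T [Fintype F] [CharP F 2] {n : MulAut (Cfsg.PSp 2 F)}
    (h : n (pr (T (eV 0 : Vec 2 F) 1)) = pr (T (eV 0) 1)) : n ∈ GamPhi 2 F := by
  obtain ⟨γ, hγT, hγP⟩ := exists_gamma (F := F)
  have hγ : ∀ b : F, γ (pr (Psi (eV 0 : Vec 2 F) (eV 1) 0 b)) ∈ Xb (eV 0 : Vec 2 F) := by
    intro b; rw [hγP]; exact pr_T_mem _ _
  rcases gamma_dichotomy γ hγ n with h1 | ⟨g, σ, hg⟩
  · exact h1
  · exfalso
    obtain ⟨w, d, hwd⟩ := GamPhi_T g σ (eV 0 : Vec 2 F) 1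
    rw [← hg, MulAut.mul_apply, h, hγT] at hwd
    exact Psi_ne_T one_ne_zero w d (pr_injective_char_two hwd)

/-- in the exceptional case the semilinear automorphisms have index two -/
theorem GamPhi_index [Fintype F] [CharP F 2] : (GamPhi 2 F).index = 2 := by
  obtain ⟨γ, hγT, hγP⟩ := exists_gamma (F := F)
  have hγ : ∀ b : F, γ (pr (Psi (eV 0 : Vec 2 F) (eV 1) 0 b)) ∈ Xb (eV 0 : Vec 2 F) := by
    intro b; rw [hγP]; exact pr_T_mem _ _
  have hγn : γ ∉ GamPhi 2 F := by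
    rintro ⟨g, σ, hg⟩
    obtain ⟨w, d, hwd⟩ := GamPhi_T g σ (eV 0 : Vec 2 F) 1
    rw [← hg, hγT] at hwd
    exact Psi_ne_T one_ne_zero w d (pr_injective_char_two hwd)
  rw [Subgroup.index_eq_two_iff']
  refine ⟨γ, fun b => ?_⟩
  rcases gamma_dichotomy γ hγ b with h1 | h1
  · refine Or.inr ⟨h1, ?_⟩
    intro h2
    apply hγn
    have := (GamPhi 2 F).mul_mem h2 ((GamPhi 2 F).inv_mem h1)
    rwa [mul_inv_cancel_right] at this
  · by_cases hb : b ∈ GamPhi 2 F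
    · exfalso
      apply hγn
      have := (GamPhi 2 F).mul_mem h1 ((GamPhi 2 F).inv_mem hb)
      rwa [mul_inv_cancel_right] at this
    · exact Or.inl ⟨h1, hb⟩

/-- step A for an automorphism fixing the transvection at `e₀` -/
theorem stepAt_of_fix_T [Fintype F] {r : ℕ} [Fact r.Prime] [CharP F r] (hm : 2 ≤ m)
    {n : MulAut (Cfsg.PSp m F)}
    (h : haveI : NeZero m := ⟨by omega⟩; n (pr (T (eV 0 : Vec m F) 1)) = pr (T (eV 0) 1)) :
    StepAt n := by
  haveI : NeZero m := ⟨by omega⟩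
  by_cases hexc : m = 2 ∧ r = 2
  · obtain ⟨hm2, hr2⟩ := hexc
    subst hm2
    subst hr2
    obtain ⟨g, σ, rfl⟩ := mem_GamPhi_of_fix_T h
    exact (stepAt_Gam g).mul (stepAt_Phi σ)
  · have h4 : m = 2 → r ≠ 2 := fun h1 h2 => hexc ⟨h1, h2⟩
    exact fun v hv => exists_rel hm r h4 n hv

/-- an automorphism of prime order different from the characteristic is semilinear -/
theorem mem_GamPhi_of_orderOf [Fintype F] {r : ℕ} [Fact r.Prime] [CharP F r] (hm : 2 ≤ m)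
    {x : MulAut (Cfsg.PSp m F)} {p : ℕ} (hp : p.Prime) (hpr : p ≠ r) (hord : orderOf x = p) :
    x ∈ GamPhi m F := by
  haveI : NeZero m := ⟨by omega⟩
  by_cases hexc : m = 2 ∧ r = 2
  · obtain ⟨hm2, hr2⟩ := hexc
    subst hm2
    subst hr2
    have hsq := Subgroup.sq_mem_of_index_two (GamPhi_index (F := F)) x
    obtain ⟨j, hj⟩ := hp.odd_of_ne_two hpr
    have e : x = (x ^ 2) ^ (j + 1) := by
      rw [← pow_mul]
      have : 2 * (j + 1) = p + 1 := by omega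
      rw [this, pow_succ, ← hord, pow_orderOf_eq_one, one_mul]
    rw [e]
    exact Subgroup.pow_mem _ hsq _
  · have h4 : m = 2 → r ≠ 2 := fun h1 h2 => hexc ⟨h1, h2⟩
    exact aut_decomp hm (fun β v hv => exists_rel hm r h4 β hv) x

end Cfsg.Agent.Lib.Helper45.SpAut
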