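import Mathlib
import Cfsg.Agent.Lib.Helper45.SpBalance6

set_option autoImplicit false
set_option linter.unusedSimpArgs false
set_option linter.unusedVariables false
set_option linter.unusedSectionVars false
set_option linter.unnecessarySeqFocus false
set_option linter.style.haveILetI false

namespace Cfsg.Agent.Lib.Helper45.SpAut

open Matrix Cfsg.Agent.Lib.Helper13 Pointwise
open Cfsg.Agent.Lib.Helper5.AutPSLn (Par)

variable {F : Type*} [Field F] {m : ℕ}

/-- local balance for `PSp_{2m}(q)` and a non-inner-diagonal automorphism of prime order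
different from the characteristic -/
theorem psp_balance [Fintype F] {r : ℕ} [Fact r.Prime] [CharP F r] (hm : 2 ≤ m)
    (A : Subgroup (MulAut (Cfsg.PSp m F))) (hinn : ∀ k : Cfsg.PSp m F, MulAut.conj k ∈ A)
    {p : ℕ} [Fact p.Prime] (hpr : p ≠ r) (x : MulAut (Cfsg.PSp m F)) (hord : orderOf x = p)
    (hnot : ¬ Cfsg.IsInnerDiagonalAutPSp x) :
    Cfsg.pPrimeCore p ↥(A ⊓ Subgroup.centralizer {x}) ≠ ⊥ ↔
      (Cfsg.IsFieldAutClassPSp x ∧ Nat.Coprime p (Nat.card
        ↥(MonoidHom.eqLocus x.toMonoidHom (MonoidHom.id (Cfsg.PSp m F))))) := by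
  classical
  haveI : NeZero m := ⟨by omega⟩
  have hp : p.Prime := Fact.out
  obtain ⟨g, σ, hx⟩ := mem_GamPhi_of_orderOf hm hp hpr hord
  have hσ1 : σ ≠ 1 := by
    rintro rfl
    apply hnot
    rw [isInnerDiagonal_iff]
    exact ⟨g, by rw [hx, map_one, mul_one]⟩
  have hxp : x ^ p = 1 := by rw [← hord]; exact pow_orderOf_eq_one x
  have hσp : σ ^ p = 1 := by
    have e1 := AutPSL.pow_eq_tw (Gam : ↥(Cfsg.GSp m F) →* MulAut (Cfsg.PSp m F))
      (Phi σ) (gspS σ) (Phi_mul_Gam σ) g p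
    rw [← hx, hxp, Phi_pow] at e1
    exact sigma_eq_one_of_nf hm e1.symm
  have hσord : orderOf σ = p := orderOf_eq_prime hσp hσ1
  obtain ⟨h, hh⟩ := field_caseSp hm σ p hσord hp.pos g (by rw [← hx]; exact hxp)
  rw [← hx] at hh
  have hGood : Balance.Good p (Phi σ : MulAut (Cfsg.PSp m F)) (L0 σ) :=
    ⟨L0_fix σ, L0_norm σ, fun hdvd M hML hinv hc => L0_simple hm σ hpr hdvd M hML hinv hc,
      L0_ne_bot σ,
      fun n hn => cent_of_stepAt hm σ
        (stepAt_of_fix_T hm (hn _ (pr_T_mem_L0 σ (map_eV σ 0) (map_one σ)))) hn⟩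
  have hGood' := hGood.conj (Gam h)
  rw [← hh] at hGood'
  have hxInn : x ∉ Cfsg.Inn (Cfsg.PSp m F) := by
    rintro ⟨k, rfl⟩
    apply hnot
    obtain ⟨s, rfl⟩ := pr_surjective k
    rw [isInnerDiagonal_iff]
    exact ⟨spToGSp s, conj_pr_eq_Gam s⟩
  have hiff := hGood'.core_ne_bot_iff (conj_injective hm) A hinn hord hxInn
  have hfield : Cfsg.IsFieldAutClassPSp x := by
    refine ⟨(Gam h)⁻¹, σ, hσ1, ?_⟩
    rw [isStdField_iff, hh]
    group
  rw [hiff]
  exact ⟨fun hc => ⟨hfield, hc⟩, fun hc => hc.2⟩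

end Cfsg.Agent.Lib.Helper45.SpAut
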