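import Mathlib
import Cfsg.Agent.Lib.Helper24.Coprime
import Cfsg.Agent.S1900
import Cfsg.Agent.Lib.Helper47.PCoreOf2
import Cfsg.Agent.Lib.Helper47.Basic

set_option autoImplicit false

/-!
# Automorphisms acting trivially on `A / A'`, and a Sylow criterion for `O_p`

* `stabMod A`: the subgroup of `N_G(A)` acting trivially on `A / [A, A]`.
* Burnside: a `p'`-element of `stabMod A` centralizes the finite `p`-group `A`.
* If all `p'`-elements of `K` lie in the normal subgroup `C` of `K`, every `p`-subgroup of `K`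
  normalized by `C` lies in `O_p(K)`.
-/

namespace Cfsg.Agent.Lib.Helper45

open Subgroup
open scoped commutatorElement Pointwise

universe u

section stabMod
variable {G : Type u} [Group G]

theorem conj_mem_commutator_self_of_mem_normalizer {A : Subgroup G} {g : G}
    (hg : g ∈ normalizer (A : Set G)) {z : G} (hz : z ∈ ⁅A, A⁆) : g * z * g⁻¹ ∈ ⁅A, A⁆ := by
  have hmap : A.map (MulAut.conj g).toMonoidHom = A :=
    Subgroup.mem_normalizer_iff_map_conj_eq.mp hg
  have h2 : (⁅A, A⁆).map (MulAut.conj g).toMonoidHom = ⁅A, A⁆ := by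
    rw [Subgroup.map_commutator, hmap]
  rw [← h2]
  exact ⟨z, hz, by simp [MulAut.conj_apply]⟩

/-- The subgroup of `N_G(A)` acting trivially on `A / [A, A]`. -/
def stabMod (A : Subgroup G) : Subgroup G where
  carrier := {l | l ∈ normalizer (A : Set G) ∧ ∀ a ∈ A, ⁅a, l⁆ ∈ ⁅A, A⁆}
  one_mem' := ⟨one_mem _, fun a _ => by simp⟩
  mul_mem' := by
    rintro x y ⟨hx, hx'⟩ ⟨hy, hy'⟩
    refine ⟨mul_mem hx hy, fun a ha => ?_⟩
    have e : ⁅a, x * y⁆ = ⁅a, x⁆ * (x * ⁅a, y⁆ * x⁻¹) := by
      simp only [commutatorElement_def]; group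
    rw [e]
    exact mul_mem (hx' a ha) (conj_mem_commutator_self_of_mem_normalizer hx (hy' a ha))
  inv_mem' := by
    rintro x ⟨hx, hx'⟩
    refine ⟨inv_mem hx, fun a ha => ?_⟩
    have e : ⁅a, x⁻¹⁆ = x⁻¹ * (⁅a, x⁆)⁻¹ * (x⁻¹)⁻¹ := by
      simp only [commutatorElement_def]; group
    rw [e]
    exact conj_mem_commutator_self_of_mem_normalizer (inv_mem hx) (inv_mem (hx' a ha))

theorem mem_stabMod {A : Subgroup G} {l : G} :
    l ∈ stabMod A ↔ l ∈ normalizer (A : Set G) ∧ ∀ a ∈ A, ⁅a, l⁆ ∈ ⁅A, A⁆ := Iff.rfl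

theorem stabMod_le_normalizer (A : Subgroup G) : stabMod A ≤ normalizer (A : Set G) :=
  fun _ h => h.1

theorem centralizer_le_stabMod (A : Subgroup G) : centralizer (A : Set G) ≤ stabMod A := by
  intro c hc
  refine ⟨Subgroup.centralizer_le_normalizer (A : Set G) hc, fun a ha => ?_⟩
  have h := (Subgroup.mem_centralizer_iff.mp hc) a ha
  have : ⁅a, c⁆ = 1 := by
    rw [commutatorElement_eq_one_iff_mul_comm]; exact h
  rw [this]; exact one_mem _

theorem normalizer_le_normalizer_stabMod (A : Subgroup G) :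
    normalizer (A : Set G) ≤ normalizer (stabMod A : Set G) := by
  have key : ∀ n ∈ normalizer (A : Set G), ∀ l ∈ stabMod A, n * l * n⁻¹ ∈ stabMod A := by
    intro n hn l hl
    refine ⟨mul_mem (mul_mem hn hl.1) (inv_mem hn), fun a ha => ?_⟩
    have ha' : n⁻¹ * a * n ∈ A := by
      have := (Subgroup.mem_normalizer_iff.mp (inv_mem hn) a).mp ha
      simpa using this
    have e : ⁅a, n * l * n⁻¹⁆ = n * ⁅n⁻¹ * a * n, l⁆ * n⁻¹ := by
      simp only [commutatorElement_def]; group
    rw [e]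
    exact conj_mem_commutator_self_of_mem_normalizer hn (hl.2 _ ha')
  intro n hn
  rw [Subgroup.mem_normalizer_iff]
  intro l
  constructor
  · intro hl; exact key n hn l hl
  · intro hl
    have := key n⁻¹ (inv_mem hn) _ hl
    simpa [mul_assoc] using this

/-- Burnside: a `p'`-element acting trivially on `A / A'` centralizes the finite `p`-group `A`. -/
theorem mem_centralizer_of_mem_stabMod [Finite G] {p : ℕ} [Fact p.Prime] {A : Subgroup G}
    (hA : IsPGroup p A) {x : G} (hx : x ∈ stabMod A) (hcop : (orderOf x).Coprime p) :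
    x ∈ centralizer (A : Set G) := by
  have hXs : zpowers x ≤ stabMod A := (Subgroup.zpowers_le).mpr hx
  have hXn : zpowers x ≤ normalizer (A : Set G) := fun l hl => (hXs hl).1
  have hcard : (Nat.card (zpowers x)).Coprime (Nat.card A) := by
    rw [Nat.card_zpowers]
    obtain ⟨n, hn⟩ := IsPGroup.iff_card.mp hA
    rw [hn]; exact Nat.Coprime.pow_right n hcop
  have h1 := Cfsg.Agent.Lib.Helper24.commutator_sup_centralizer_eq (zpowers x) A hXn hcard
    (Or.inl inferInstance)
  have h2 : ⁅A, zpowers x⁆ ≤ ⁅A, A⁆ :=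
    Subgroup.commutator_le.mpr (fun a ha l hl => (hXs hl).2 a ha)
  have h3 : (A ⊓ centralizer ((zpowers x : Subgroup G) : Set G)) ⊔ ⁅A, A⁆ = A := by
    apply le_antisymm (sup_le inf_le_left (Subgroup.commutator_le_self A))
    calc A = ⁅A, zpowers x⁆ ⊔ (A ⊓ centralizer ((zpowers x : Subgroup G) : Set G)) := h1.symm
      _ ≤ _ := sup_le (h2.trans le_sup_right) le_sup_left
  have h4 := Cfsg.Agent.S1900.eq_of_sup_commutator_eq hA inf_le_left h3
  have h5 : A ≤ centralizer ((zpowers x : Subgroup G) : Set G) := by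
    intro a ha
    have : a ∈ A ⊓ centralizer ((zpowers x : Subgroup G) : Set G) := by rw [h4]; exact ha
    exact this.2
  rw [Subgroup.mem_centralizer_iff]
  intro a ha
  have := Subgroup.mem_centralizer_iff.mp (h5 ha) x (Subgroup.mem_zpowers x)
  exact this.symm

end stabMod

section sylowCrit

/-- If every `p'`-element of the finite group `K` lies in the normal subgroup `C`, then every
`p`-subgroup normalized by `C` lies in every Sylow `p`-subgroup. -/
theorem le_sylow_of_normalized {K : Type*} [Group K] [Finite K] {p : ℕ} [hp : Fact p.Prime]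
    (C : Subgroup K) [hCn : C.Normal] (hC : ∀ k : K, (orderOf k).Coprime p → k ∈ C)
    (V : Subgroup K) (hV : IsPGroup p V) (hCV : C ≤ normalizer (V : Set K)) (T : Sylow p K) :
    V ≤ (T : Subgroup K) := by
  have hpp : p.Prime := hp.out
  -- the quotient by `C` is a `p`-group
  have hq : IsPGroup p (K ⧸ C) := by
    intro q
    obtain ⟨k, rfl⟩ := QuotientGroup.mk_surjective q
    have hk0 : orderOf k ≠ 0 := (orderOf_pos k).ne'
    obtain ⟨e, m, hm, hkm⟩ := Nat.exists_eq_pow_mul_and_not_dvd hk0 p hpp.ne_one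
    refine ⟨e, ?_⟩
    have hord : orderOf (k ^ (p ^ e)) = m := by
      rw [orderOf_pow' k (pow_ne_zero e hpp.ne_zero), hkm, Nat.gcd_eq_right (Dvd.intro _ rfl),
        Nat.mul_div_cancel_left m (pow_pos hpp.pos e)]
    have hcop : (orderOf (k ^ (p ^ e))).Coprime p := by
      rw [hord]; exact ((Nat.Prime.coprime_iff_not_dvd hpp).mpr hm).symm
    have hmem := hC _ hcop
    rw [← QuotientGroup.mk_pow]
    exact (QuotientGroup.eq_one_iff _).mpr hmem
  obtain ⟨n, hn⟩ := IsPGroup.iff_card.mp hq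
  have hidx : C.index = p ^ n := by rw [Subgroup.index_eq_card]; exact hn
  -- `C T = K`
  have htop : C ⊔ (T : Subgroup K) = ⊤ := by
    rw [← Subgroup.index_eq_one]
    have h1 : (C ⊔ (T : Subgroup K)).index ∣ p ^ n := hidx ▸ Subgroup.index_dvd_of_le le_sup_left
    have h2 : (C ⊔ (T : Subgroup K)).index ∣ (T : Subgroup K).index :=
      Subgroup.index_dvd_of_le le_sup_right
    obtain ⟨j, _, hj⟩ := (Nat.dvd_prime_pow hpp).mp h1
    rcases Nat.eq_zero_or_pos j with hj0 | hjpos
    · rw [hj, hj0, pow_zero]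
    · exfalso
      apply T.not_dvd_index
      refine dvd_trans ?_ h2
      rw [hj]
      exact dvd_pow_self p hjpos.ne'
  obtain ⟨T₁, hVT₁⟩ := hV.exists_le_sylow
  obtain ⟨k, hk⟩ := MulAction.exists_smul_eq K T T₁
  have hkmem : k ∈ C ⊔ (T : Subgroup K) := by rw [htop]; exact Subgroup.mem_top k
  obtain ⟨c, hc, t, ht, hct⟩ := Subgroup.mem_sup_of_normal_left.mp hkmem
  have htT : t • T = T := Sylow.smul_eq_iff_mem_normalizer.mpr (Subgroup.le_normalizer ht)
  have hT₁ : (T₁ : Subgroup K) = MulAut.conj c • (T : Subgroup K) := by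
    rw [← hk, ← hct, mul_smul, htT]; rfl
  intro v hv
  have hw : c * v * c⁻¹ ∈ V := (Subgroup.mem_normalizer_iff.mp (hCV hc) v).mp hv
  have hw' : c * v * c⁻¹ ∈ (T₁ : Subgroup K) := hVT₁ hw
  rw [hT₁, Subgroup.mem_pointwise_smul_iff_inv_smul_mem] at hw'
  have e : (MulAut.conj c)⁻¹ • (c * v * c⁻¹) = v := by
    simp [MulAut.smul_def, mul_assoc]
  rwa [e] at hw'

/-- Ambient form: `C ⊴ K` contains all `p'`-elements of `K`; a `p`-subgroup `V ≤ K` normalized by `C`
lies in `O_p(K)`. -/
theorem le_pCoreOf_of_normalized {G : Type u} [Group G] [Finite G] {p : ℕ} [Fact p.Prime]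
    {K C V : Subgroup G} (hKC : K ≤ normalizer (C : Set G))
    (hp' : ∀ k ∈ K, (orderOf k).Coprime p → k ∈ C) (hVK : V ≤ K) (hV : IsPGroup p V)
    (hCV : C ≤ normalizer (V : Set G)) : V ≤ Cfsg.pCoreOf p K := by
  have hCn : (C.subgroupOf K).Normal := Subgroup.normal_subgroupOf_of_le_normalizer hKC
  have hC' : ∀ k : K, (orderOf k).Coprime p → k ∈ C.subgroupOf K := by
    intro k hk
    rw [Subgroup.mem_subgroupOf]
    apply hp' k k.2
    rwa [Subgroup.orderOf_coe]
  have hV' : IsPGroup p (V.subgroupOf K) := hV.comap_subtype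
  have hCV' : C.subgroupOf K ≤ normalizer ((V.subgroupOf K : Subgroup K) : Set K) := by
    intro c hc
    rw [Subgroup.mem_normalizer_iff]
    intro h
    simp only [Subgroup.mem_subgroupOf]
    have := Subgroup.mem_normalizer_iff.mp (hCV (Subgroup.mem_subgroupOf.mp hc)) (h : G)
    simpa using this
  have hall : ∀ T : Sylow p K, V.subgroupOf K ≤ (T : Subgroup K) :=
    le_sylow_of_normalized _ hC' _ hV' hCV'
  obtain ⟨T⟩ : Nonempty (Sylow p K) := inferInstance
  have hncl : Subgroup.normalClosure ((V.subgroupOf K : Subgroup K) : Set K) ≤ (T : Subgroup K) := by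
    rw [Subgroup.normalClosure, Subgroup.closure_le]
    intro x hx
    obtain ⟨a, ha, hax⟩ := Group.mem_conjugatesOfSet_iff.mp hx
    obtain ⟨g, hg⟩ := isConj_iff.mp hax
    have h1 := hall (g⁻¹ • T) ha
    rw [Sylow.coe_subgroup_smul, Subgroup.mem_pointwise_smul_iff_inv_smul_mem] at h1
    have e : (MulAut.conj g⁻¹)⁻¹ • a = x := by
      rw [← hg]; simp [MulAut.smul_def]
    rwa [e] at h1
  have hle : Subgroup.normalClosure ((V.subgroupOf K : Subgroup K) : Set K) ≤ Cfsg.pCore p K :=
    Cfsg.Agent.Lib.Helper47.le_pCore Subgroup.normalClosure_normal (T.2.to_le hncl)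
  intro v hv
  exact ⟨⟨v, hVK hv⟩, hle (Subgroup.subset_normalClosure (Subgroup.mem_subgroupOf.mpr hv)), rfl⟩

end sylowCrit

end Cfsg.Agent.Lib.Helper45
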