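import Mathlib

/-!
# Transvections over the field with two elements and elements inverted by them

A group `G` acts additively and faithfully on an elementary abelian `2`-group `V`.  An involution `t`
acts as a transvection with direction `a`: `t • v ∈ {v, v + a}` for all `v`.  We study elements of odd
order inverted by `t`.
-/

set_option autoImplicit false
set_option linter.unusedSectionVars false

namespace Cfsg.Agent.Lib.Helper45

section GroupLemmas

variable {G : Type*} [Group G]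

/-- an element of odd order is a power of its square -/
theorem exists_sq_pow_eq_of_odd {y : G} (h : Odd (orderOf y)) : ∃ k : ℕ, (y * y) ^ k = y := by
  obtain ⟨m, hm⟩ := h
  refine ⟨m + 1, ?_⟩
  rw [← pow_two, ← pow_mul]
  have : 2 * (m + 1) = orderOf y + 1 := by omega
  rw [this, pow_succ, pow_orderOf_eq_one, one_mul]

/-- an element of odd order killed by a power of two is trivial -/
theorem eq_one_of_odd_of_pow_two_pow {y : G} (h : Odd (orderOf y)) (k : ℕ) (hk : y ^ (2 ^ k) = 1) :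
    y = 1 := by
  have hd : orderOf y ∣ 2 ^ k := orderOf_dvd_of_pow_eq_one hk
  have hc : (orderOf y).Coprime (2 ^ k) :=
    Nat.Coprime.pow_right k (Nat.Coprime.symm (Nat.coprime_two_left.2 h))
  exact orderOf_eq_one_iff.1 (Nat.Coprime.eq_one_of_dvd hc hd)

theorem eq_one_of_odd_of_mul_self {y : G} (h : Odd (orderOf y)) (hk : y * y = 1) : y = 1 := by
  apply eq_one_of_odd_of_pow_two_pow h 1
  rw [pow_one, pow_two, hk]

end GroupLemmas

section Tv

variable {G V : Type*} [Group G] [AddCommGroup V] [Module (ZMod 2) V] [DistribMulAction G V]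

/-- the subgroup of elements `g` with `[V, g] ⊆ W` -/
def dSub (G : Type*) {V : Type*} [Group G] [AddCommGroup V] [DistribMulAction G V]
    (W : AddSubgroup V) : Subgroup G where
  carrier := {g | ∀ v : V, g • v - v ∈ W}
  mul_mem' := by
    intro g h hg hh v
    have : (g * h) • v - v = (g • (h • v) - h • v) + (h • v - v) := by
      rw [mul_smul]; abel
    rw [this]
    exact W.add_mem (hg _) (hh _)
  one_mem' := by
    intro v
    simp
  inv_mem' := by
    intro g hg v
    have : g⁻¹ • v - v = -(g • (g⁻¹ • v) - g⁻¹ • v) := by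
      rw [smul_inv_smul]; abel
    rw [this]
    exact W.neg_mem (hg _)

theorem mem_dSub {W : AddSubgroup V} {g : G} : g ∈ dSub G W ↔ ∀ v : V, g • v - v ∈ W := Iff.rfl

/-- the fixed points of `g` -/
def fixSub {G : Type*} {V : Type*} [Group G] [AddCommGroup V] [DistribMulAction G V]
    (g : G) : AddSubgroup V where
  carrier := {v | g • v = v}
  add_mem' := by
    intro v w hv hw
    show g • (v + w) = v + w
    rw [smul_add, hv, hw]
  zero_mem' := smul_zero g
  neg_mem' := by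
    intro v hv
    show g • (-v) = -v
    rw [smul_neg, hv]

theorem mem_fixSub {g : G} {v : V} : v ∈ fixSub g ↔ g • v = v := Iff.rfl

theorem mem_dSub_of_sq {W : AddSubgroup V} {y : G} (h : Odd (orderOf y)) (hy : y * y ∈ dSub G W) :
    y ∈ dSub G W := by
  obtain ⟨k, hk⟩ := exists_sq_pow_eq_of_odd h
  rw [← hk]
  exact pow_mem hy k

/-- if `[V, u] ⊆ W` and `u` fixes `W` pointwise, then `u² = 1` -/
theorem mul_self_eq_one_of_dSub [FaithfulSMul G V] {W : AddSubgroup V} {u : G} (hu : u ∈ dSub G W)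
    (hfix : ∀ w ∈ W, u • w = w) : u * u = 1 := by
  apply eq_of_smul_eq_smul (α := V)
  intro v
  have h1 := hfix _ (hu v)
  rw [smul_sub] at h1
  rw [mul_smul, one_smul]
  have h2 : u • u • v = (u • v - v) + u • v := by
    rw [← h1]; abel
  have h3 : u • v - v + u • v = (u • v + u • v) - v := by abel
  rw [h2, h3, ZModModule.add_self, zero_sub, ZModModule.neg_eq_self]

/-- `t` acts as a transvection with direction `a ≠ 0`, `t • v₀ = v₀ + a` -/
structure TvCtx (t : G) (a v₀ : V) : Prop where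
  sq : t * t = 1
  act : ∀ v : V, t • v = v ∨ t • v = v + a
  v0 : t • v₀ = v₀ + a
  ne : a ≠ 0

namespace TvCtx

variable {t : G} {a v₀ : V}

theorem inv_eq (c : TvCtx t a v₀) : t⁻¹ = t := inv_eq_of_mul_eq_one_left c.sq

theorem fix (c : TvCtx t a v₀) : t • a = a := by
  have h1 : t • t • v₀ = v₀ := by rw [← mul_smul, c.sq, one_smul]
  have h2 : t • t • v₀ = v₀ + a + t • a := by rw [c.v0, smul_add, c.v0]
  rw [h1] at h2
  have h3 : t • a = -a := by
    have : a + t • a = 0 := by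
      have h4 : v₀ + (a + t • a) = v₀ + 0 := by rw [add_zero, ← add_assoc]; exact h2.symm
      exact add_left_cancel h4
    exact (neg_eq_of_add_eq_zero_right this).symm
  rw [h3, ZModModule.neg_eq_self]

/-- an element commuting with `t` fixes `a` -/
theorem fix_of_commute (c : TvCtx t a v₀) {u : G} (hu : u * t = t * u) : u • a = a := by
  have h1 : u • t • v₀ = u • v₀ + u • a := by rw [c.v0, smul_add]
  rw [← mul_smul, hu, mul_smul] at h1
  rcases c.act (u • v₀) with h | h
  · rw [h] at h1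
    have : u • a = 0 := by
      have h4 : u • v₀ + u • a = u • v₀ + 0 := by rw [add_zero]; exact h1.symm
      exact add_left_cancel h4
    exact absurd ((smul_eq_zero_iff_eq u).1 this) c.ne
  · rw [h] at h1
    exact (add_left_cancel h1).symm

/-- `y` is inverted by `t` -/
def Inv (t y : G) : Prop := t * y * t⁻¹ = y⁻¹

theorem Inv.mul_eq {t y : G} (h : Inv t y) : t * y = y⁻¹ * t := by
  unfold Inv at h
  rw [← h]; group

theorem Inv.inv {t y : G} (h : Inv t y) : Inv t y⁻¹ := by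
  unfold Inv at h ⊢
  have h1 : t * y⁻¹ * t⁻¹ = (t * y * t⁻¹)⁻¹ := by group
  rw [h1, h]

theorem inv_mul_comm_of_comm {x₁ x₂ : G} (hcomm : x₁ * x₂ = x₂ * x₁) : x₁⁻¹ * x₂ = x₂ * x₁⁻¹ := by
  have : x₂ = x₁ * x₂ * x₁⁻¹ := by rw [hcomm]; group
  calc x₁⁻¹ * x₂ = x₁⁻¹ * (x₁ * x₂ * x₁⁻¹) := by rw [← this]
    _ = x₂ * x₁⁻¹ := by group

theorem Inv.mul {t x₁ x₂ : G} (hcomm : x₁ * x₂ = x₂ * x₁) (h1 : Inv t x₁) (h2 : Inv t x₂) :
    Inv t (x₁ * x₂) := by
  unfold Inv at h1 h2 ⊢
  calc t * (x₁ * x₂) * t⁻¹ = (t * x₁ * t⁻¹) * (t * x₂ * t⁻¹) := by group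
    _ = x₁⁻¹ * x₂⁻¹ := by rw [h1, h2]
    _ = (x₂ * x₁)⁻¹ := by group
    _ = (x₁ * x₂)⁻¹ := by rw [hcomm]

/-- the square of an element inverted by `t` is a product of two transvections -/
theorem sq_mem_dSub (c : TvCtx t a v₀) {y : G} (hy : Inv t y) {W : AddSubgroup V}
    (ha : a ∈ W) (hya : y⁻¹ • a ∈ W) : y * y ∈ dSub G W := by
  have hyy : y * y = t * (y⁻¹ * (t * y)) := by
    have h1 : t * y⁻¹ * t⁻¹ = y := by
      have := hy.inv
      unfold Inv at this
      rw [this, inv_inv]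
    rw [c.inv_eq] at h1
    calc y * y = (t * y⁻¹ * t) * y := by rw [h1]
      _ = t * (y⁻¹ * (t * y)) := by group
  intro v
  rw [hyy, mul_smul, mul_smul, mul_smul]
  rcases c.act (y • v) with h | h
  · rw [h, inv_smul_smul]
    rcases c.act v with h' | h'
    · rw [h', sub_self]; exact W.zero_mem
    · rw [h', add_sub_cancel_left]; exact ha
  · rw [h, smul_add, inv_smul_smul]
    rcases c.act (v + y⁻¹ • a) with h' | h'
    · rw [h', add_sub_cancel_left]; exact hya
    · rw [h']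
      have : v + y⁻¹ • a + a - v = y⁻¹ • a + a := by abel
      rw [this]
      exact W.add_mem hya ha

/-- an element of odd order inverted by `t` and fixing `a` is trivial -/
theorem eq_one_of_fix [FaithfulSMul G V] (c : TvCtx t a v₀) {y : G} (hy : Inv t y)
    (hodd : Odd (orderOf y)) (hya : y • a = a) : y = 1 := by
  have hya' : y⁻¹ • a = a := by rw [inv_smul_eq_iff, hya]
  have h1 : y * y ∈ dSub G (AddSubgroup.zmultiples a) :=
    c.sq_mem_dSub hy (AddSubgroup.mem_zmultiples a) (by rw [hya']; exact AddSubgroup.mem_zmultiples a)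
  have h2 : ∀ w ∈ AddSubgroup.zmultiples a, (y * y) • w = w := by
    have : AddSubgroup.zmultiples a ≤ fixSub (y * y) := by
      rw [AddSubgroup.zmultiples_le]
      show (y * y) • a = a
      rw [mul_smul, hya, hya]
    intro w hw
    exact this hw
  have h3 := mul_self_eq_one_of_dSub h1 h2
  apply eq_one_of_odd_of_pow_two_pow hodd 2
  have : y ^ (2 ^ 2) = (y * y) * (y * y) := by
    show y ^ 4 = _
    rw [← pow_two, ← pow_two, ← pow_mul]
  rw [this, h3]

/-- for an element of odd order inverted by `t` and moving `a`: `y⁻¹ a = y a + a` -/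
theorem inv_smul_eq (c : TvCtx t a v₀) {y : G} (hy : Inv t y)
    (hodd : Odd (orderOf y)) (hya : y • a ≠ a) : y⁻¹ • a = y • a + a := by
  have h1 : t • y • a = y⁻¹ • a := by
    rw [← mul_smul, hy.mul_eq, mul_smul, c.fix]
  rcases c.act (y • a) with h | h
  · exfalso
    apply hya
    rw [h1, inv_smul_eq_iff, ← mul_smul] at h
    have h2 : y * y ∈ MulAction.stabilizer G a := by
      rw [MulAction.mem_stabilizer_iff]; exact h.symm
    obtain ⟨k, hk⟩ := exists_sq_pow_eq_of_odd hodd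
    have h3 : y ∈ MulAction.stabilizer G a := by
      rw [← hk]; exact pow_mem h2 k
    exact MulAction.mem_stabilizer_iff.1 h3
  · rw [← h1, h]

/-- two commuting elements of odd order inverted by `t`, both moving `a`: their product or
quotient fixes `a` -/
theorem fix_mul_or (c : TvCtx t a v₀) {x₁ x₂ : G} (hcomm : x₁ * x₂ = x₂ * x₁)
    (h1 : Inv t x₁) (h2 : Inv t x₂)
    (ho1 : Odd (orderOf x₁)) (ho2 : Odd (orderOf x₂))
    (ho12 : Odd (orderOf (x₁ * x₂))) (ho12' : Odd (orderOf (x₁⁻¹ * x₂)))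
    (hx1 : x₁ • a ≠ a) (hx2 : x₂ • a ≠ a) :
    (x₁ * x₂) • a = a ∨ (x₁⁻¹ * x₂) • a = a := by
  by_contra hcon
  push Not at hcon
  obtain ⟨hc1, hc2⟩ := hcon
  have hcomm' : x₁⁻¹ * x₂ = x₂ * x₁⁻¹ := inv_mul_comm_of_comm hcomm
  have h12 : Inv t (x₁ * x₂) := Inv.mul hcomm h1 h2
  have h12' : Inv t (x₁⁻¹ * x₂) := Inv.mul hcomm' h1.inv h2
  have e1 := c.inv_smul_eq h1 ho1 hx1
  have e2 := c.inv_smul_eq h2 ho2 hx2
  have e3 := c.inv_smul_eq h12 ho12 hc1
  have e4 := c.inv_smul_eq h12' ho12' hc2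
  have i3 : (x₁ * x₂)⁻¹ = x₁⁻¹ * x₂⁻¹ := by rw [hcomm]; group
  have i4 : (x₁⁻¹ * x₂)⁻¹ = x₁ * x₂⁻¹ := by rw [hcomm']; group
  rw [i3, mul_smul, mul_smul, e2, smul_add, e1] at e3
  rw [i4, mul_smul, mul_smul, e2, smul_add] at e4
  -- e3 : q + (b + a) = p + a,  e4 : p + b = q + a
  apply c.ne
  have key : a = (x₁ • a + x₁ • a) -
      (((x₁⁻¹ • x₂ • a + (x₁ • a + a)) + (x₁ • x₂ • a + x₁ • a)) -
        ((x₁ • x₂ • a + a) + (x₁⁻¹ • x₂ • a + a))) := by abel
  rw [e3, e4, sub_self, sub_zero, ZModModule.add_self] at key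
  exact key

/-- two commuting elements of odd order inverted by `t`, both nontrivial: they are equal or
inverse to each other -/
theorem mul_eq_one_or [FaithfulSMul G V] (c : TvCtx t a v₀) {x₁ x₂ : G}
    (hcomm : x₁ * x₂ = x₂ * x₁) (h1 : Inv t x₁) (h2 : Inv t x₂)
    (ho1 : Odd (orderOf x₁)) (ho2 : Odd (orderOf x₂))
    (ho12 : Odd (orderOf (x₁ * x₂))) (ho12' : Odd (orderOf (x₁⁻¹ * x₂)))
    (hx1 : x₁ ≠ 1) (hx2 : x₂ ≠ 1) :
    x₁ * x₂ = 1 ∨ x₁⁻¹ * x₂ = 1 := by
  have hx1a : x₁ • a ≠ a := fun h => hx1 (c.eq_one_of_fix h1 ho1 h)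
  have hx2a : x₂ • a ≠ a := fun h => hx2 (c.eq_one_of_fix h2 ho2 h)
  rcases c.fix_mul_or hcomm h1 h2 ho1 ho2 ho12 ho12' hx1a hx2a with h | h
  · exact Or.inl (c.eq_one_of_fix (Inv.mul hcomm h1 h2) ho12 h)
  · exact Or.inr (c.eq_one_of_fix (Inv.mul (inv_mul_comm_of_comm hcomm) h1.inv h2) ho12' h)

end TvCtx

end Tv

end Cfsg.Agent.Lib.Helper45
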