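import Mathlib
import Cfsg.Prelude.Def_Solvable
import Cfsg.Agent.Lib.Helper10.FittingCent
import Cfsg.Agent.Lib.Helper10.Nilpotent
import Cfsg.Agent.Lib.Helper22.Fitting
import Cfsg.Agent.Lib.Helper22.CompSystem
import Cfsg.Agent.Lib.Helper45.Transvec

/-!
# An involution in a solvable group with trivial `O₂` acting as a transvection

Group-theoretic part: in a finite solvable group `G` with `O₂(G) = 1` and an element `p` of order
four, we find inside the Fitting subgroup a nontrivial element of odd order which is central in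
`[F(G), p²]` and either centralized or inverted by `p²`.
-/

set_option autoImplicit false
set_option linter.unusedSectionVars false
set_option linter.style.haveILetI false

namespace Cfsg.Agent.Lib.Helper45

open Subgroup

section GT

variable {G : Type*} [Group G]

theorem isNilpotent_of_le_of_isNilpotent {H K : Subgroup G} (h : H ≤ K) (hK : Group.IsNilpotent K) :
    Group.IsNilpotent H :=
  haveI := hK
  Group.nilpotent_of_mulEquiv (Subgroup.subgroupOfEquivOfLe h)

/-- a nontrivial nilpotent subgroup has a nontrivial central element -/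
theorem exists_central_of_isNilpotent {R : Subgroup G} (hR : Group.IsNilpotent R) (hne : R ≠ ⊥) :
    ∃ z ∈ R, z ≠ 1 ∧ ∀ g ∈ R, g * z = z * g := by
  haveI := hR
  have htop : (⊤ : Subgroup R) ≠ ⊥ := by
    intro h
    apply hne
    rw [eq_bot_iff]
    intro x hx
    have : (⟨x, hx⟩ : R) ∈ (⊤ : Subgroup R) := Subgroup.mem_top _
    rw [h, Subgroup.mem_bot] at this
    rw [Subgroup.mem_bot]
    exact congrArg Subtype.val this
  have h1 := Cfsg.Agent.Lib.Helper10.normal_inf_center_ne_bot (⊤ : Subgroup R) htop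
  rw [top_inf_eq] at h1
  rcases Subgroup.bot_or_exists_ne_one (Subgroup.center R) with h | ⟨z, hz, hz1⟩
  · exact absurd h h1
  · refine ⟨z.1, z.2, fun h => hz1 (Subtype.ext h), ?_⟩
    intro g hg
    have := Subgroup.mem_center_iff.1 hz ⟨g, hg⟩
    exact congrArg Subtype.val this

/-- the group-theoretic reduction -/
theorem gt_main [Finite G] [Group.IsSolvable G] (hO2 : Cfsg.pCore 2 G = ⊥) (p : G)
    (hp : orderOf p = 4) :
    ∃ (F : Subgroup G) (x : G), (∀ g ∈ F, Odd (orderOf g)) ∧ (∀ g ∈ F, p⁻¹ * g * p ∈ F) ∧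
      x ∈ F ∧ x ≠ 1 ∧
      ((∃ Y : Set G, Y ⊆ F ∧ (∀ y ∈ Y, TvCtx.Inv (p ^ 2) y) ∧ x ∈ Subgroup.closure Y ∧
          (∀ y ∈ Y, x * y = y * x) ∧ x * p ^ 2 = p ^ 2 * x) ∨
        (TvCtx.Inv (p ^ 2) x ∧ x * (p⁻¹ * x * p) = (p⁻¹ * x * p) * x)) := by
  classical
  obtain ⟨t, ht⟩ : ∃ t : G, t = p ^ 2 := ⟨_, rfl⟩
  rw [← ht]
  obtain ⟨F, hF⟩ : ∃ F : Subgroup G, F = Cfsg.fittingSubgroup G := ⟨_, rfl⟩
  have hFn : F.Normal := by rw [hF]; exact Cfsg.Agent.Lib.Helper10.fitting_normal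
  have hFnil : Group.IsNilpotent F := by
    rw [hF]; exact Cfsg.Agent.Lib.Helper22.fittingSubgroup_isNilpotent
  haveI : Fact (Nat.Prime 2) := ⟨Nat.prime_two⟩
  have hFcop : (Nat.card F).Coprime 2 := by
    rw [hF]; exact Cfsg.Agent.Lib.Helper22.fitting_card_coprime_of_pCore_eq_bot 2 hO2
  have hodd : ∀ g ∈ F, Odd (orderOf g) := by
    intro g hg
    have h1 := Subgroup.orderOf_dvd_natCard F hg
    have h2 : (orderOf g).Coprime 2 := Nat.Coprime.coprime_dvd_left h1 hFcop
    exact Nat.coprime_two_right.1 h2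
  have htt : t * t = 1 := by
    rw [ht, ← pow_add]
    have : (2 + 2 : ℕ) = orderOf p := by rw [hp]
    rw [this]; exact pow_orderOf_eq_one p
  have ht1 : t ≠ 1 := by
    intro h
    rw [ht] at h
    have h1 : orderOf p ∣ 2 := orderOf_dvd_of_pow_eq_one h
    rw [hp] at h1
    have := Nat.le_of_dvd (by norm_num) h1
    omega
  have htinv : t⁻¹ = t := inv_eq_of_mul_eq_one_left htt
  have htF : t ∉ F := by
    intro h
    have h2 := hodd t h
    have h3 : orderOf t = 2 := orderOf_eq_prime (by rw [pow_two]; exact htt) ht1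
    rw [h3] at h2
    exact absurd h2 (by decide)
  have htC : t ∉ Subgroup.centralizer (F : Set G) := by
    intro h
    apply htF
    rw [hF] at h ⊢
    exact Cfsg.Agent.Lib.Helper10.centralizer_fitting_le h
  rw [Subgroup.mem_centralizer_iff] at htC
  push Not at htC
  obtain ⟨r₀, hr₀F, hr₀t⟩ := htC
  obtain ⟨Y, hY⟩ : ∃ Y : Set G, Y = {y | ∃ r ∈ F, y = r⁻¹ * (t * r * t⁻¹)} := ⟨_, rfl⟩
  have hYF : Y ⊆ F := by
    rw [hY]
    rintro y ⟨r, hr, rfl⟩
    exact F.mul_mem (F.inv_mem hr) (hFn.conj_mem r hr t)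
  have hYinv : ∀ y ∈ Y, t * y * t⁻¹ = y⁻¹ := by
    rw [hY]
    rintro y ⟨r, hr, rfl⟩
    rw [htinv]
    calc t * (r⁻¹ * (t * r * t)) * t = t * r⁻¹ * t * r * (t * t) := by group
      _ = t * r⁻¹ * t * r := by rw [htt, mul_one]
      _ = t⁻¹ * r⁻¹ * t⁻¹ * r := by rw [htinv]
      _ = (r⁻¹ * (t * r * t))⁻¹ := by group
  obtain ⟨R, hR⟩ : ∃ R : Subgroup G, R = Subgroup.closure Y := ⟨_, rfl⟩
  have hYR : Y ⊆ R := by rw [hR]; exact Subgroup.subset_closure
  have hRF : R ≤ F := by rw [hR]; exact (Subgroup.closure_le F).2 hYF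
  have hRne : R ≠ ⊥ := by
    intro h
    have hy : r₀⁻¹ * (t * r₀ * t⁻¹) ∈ R := hYR (by rw [hY]; exact ⟨r₀, hr₀F, rfl⟩)
    rw [h, Subgroup.mem_bot, inv_mul_eq_one] at hy
    apply hr₀t
    calc r₀ * t = (t * r₀ * t⁻¹) * t := by rw [← hy]
      _ = t * r₀ := by group
  have hRnil : Group.IsNilpotent R := isNilpotent_of_le_of_isNilpotent hRF hFnil
  obtain ⟨z, hzR, hz1, hzc⟩ := exists_central_of_isNilpotent hRnil hRne
  have hRt : ∀ g ∈ R, t * g * t⁻¹ ∈ R := by
    have h1 : R ≤ R.comap (MulAut.conj t).toMonoidHom := by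
      conv_lhs => rw [hR]
      rw [Subgroup.closure_le]
      intro y hy
      show t * y * t⁻¹ ∈ R
      rw [hYinv y hy]
      exact R.inv_mem (hYR hy)
    intro g hg
    exact h1 hg
  have hRp : ∀ g ∈ R, p⁻¹ * g * p ∈ R := by
    have h1 : R ≤ R.comap (MulAut.conj p⁻¹).toMonoidHom := by
      conv_lhs => rw [hR]
      rw [Subgroup.closure_le]
      intro y hy
      show p⁻¹ * y * p⁻¹⁻¹ ∈ R
      apply hYR
      rw [hY] at hy ⊢
      obtain ⟨r, hr, rfl⟩ := hy
      refine ⟨p⁻¹ * r * p, ?_, ?_⟩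
      · have := hFn.conj_mem r hr p⁻¹
        rwa [inv_inv] at this
      · rw [ht]; group
    intro g hg
    have := h1 hg
    simpa using this
  obtain ⟨tz, htz⟩ : ∃ tz : G, tz = t * z * t⁻¹ := ⟨_, rfl⟩
  have htzR : tz ∈ R := by rw [htz]; exact hRt z hzR
  have htzc : ∀ g ∈ R, g * tz = tz * g := by
    intro g hg
    have h1 : t⁻¹ * g * t ∈ R := by
      have := hRt g hg
      rw [htinv] at this ⊢
      exact this
    have h2 := hzc _ h1
    calc g * tz = t * ((t⁻¹ * g * t) * z) * t⁻¹ := by rw [htz]; group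
      _ = t * (z * (t⁻¹ * g * t)) * t⁻¹ := by rw [h2]
      _ = tz * g := by rw [htz]; group
  have hztz : z * tz = tz * z := htzc z hzR
  have httz : t * tz * t⁻¹ = z := by
    rw [htz]
    calc t * (t * z * t⁻¹) * t⁻¹ = (t * t) * z * (t * t)⁻¹ := by group
      _ = z := by rw [htt]; group
  obtain ⟨u, hu⟩ : ∃ u : G, u = z * tz := ⟨_, rfl⟩
  obtain ⟨w, hw⟩ : ∃ w : G, w = z * tz⁻¹ := ⟨_, rfl⟩
  have huR : u ∈ R := by rw [hu]; exact R.mul_mem hzR htzR
  have hwR : w ∈ R := by rw [hw]; exact R.mul_mem hzR (R.inv_mem htzR)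
  have huc : ∀ g ∈ R, g * u = u * g := by
    intro g hg
    have c1 : Commute g z := hzc g hg
    have c2 : Commute g tz := htzc g hg
    rw [hu]
    exact c1.mul_right c2
  have hwc : ∀ g ∈ R, g * w = w * g := by
    intro g hg
    have c1 : Commute g z := hzc g hg
    have c2 : Commute g tz := htzc g hg
    rw [hw]
    exact c1.mul_right c2.inv_right
  have hut : u * t = t * u := by
    have h1 : t * u * t⁻¹ = u := by
      rw [hu]
      calc t * (z * tz) * t⁻¹ = (t * z * t⁻¹) * (t * tz * t⁻¹) := by group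
        _ = tz * z := by rw [httz, ← htz]
        _ = z * tz := hztz.symm
    calc u * t = (t * u * t⁻¹) * t := by rw [h1]
      _ = t * u := by group
  have hwt : t * w * t⁻¹ = w⁻¹ := by
    rw [hw]
    calc t * (z * tz⁻¹) * t⁻¹ = (t * z * t⁻¹) * (t * tz * t⁻¹)⁻¹ := by group
      _ = tz * z⁻¹ := by rw [httz, ← htz]
      _ = (z * tz⁻¹)⁻¹ := by group
  have hzodd : Odd (orderOf z) := hodd z (hRF hzR)
  have huw : u = 1 → w = 1 → False := by
    intro hu1 hw1
    have h1 : tz * z * tz⁻¹ = z := by rw [← hztz]; group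
    have h2 : z * z = u * w := by
      rw [hu, hw]
      calc z * z = z * (tz * z * tz⁻¹) := by rw [h1]
        _ = (z * tz) * (z * tz⁻¹) := by group
    rw [hu1, hw1, mul_one] at h2
    exact hz1 (eq_one_of_odd_of_mul_self hzodd h2)
  have hFp : ∀ g ∈ F, p⁻¹ * g * p ∈ F := by
    intro g hg
    have := hFn.conj_mem g hg p⁻¹
    rwa [inv_inv] at this
  by_cases hu1 : u = 1
  · have hw1 : w ≠ 1 := fun h => huw hu1 h
    refine ⟨F, w, hodd, hFp, hRF hwR, hw1, Or.inr ⟨hwt, ?_⟩⟩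
    exact (hwc _ (hRp w hwR)).symm
  · refine ⟨F, u, hodd, hFp, hRF huR, hu1, Or.inl ⟨Y, hYF, hYinv, ?_, ?_, hut⟩⟩
    · rw [← hR]; exact huR
    · intro y hy
      exact (huc y (hYR hy)).symm

end GT

section Main

variable {G V : Type*} [Group G] [AddCommGroup V] [Module (ZMod 2) V] [DistribMulAction G V]

/-- In a finite solvable group with `O₂ = 1` acting faithfully on an elementary abelian `2`-group,
the square of an element of order four is not a transvection. -/
theorem no_transvection_sq [Finite G] [Group.IsSolvable G] [FaithfulSMul G V]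
    (hO2 : Cfsg.pCore 2 G = ⊥) (p : G) (hp : orderOf p = 4) {a v₀ : V}
    (c : TvCtx (p ^ 2) a v₀) : False := by
  obtain ⟨F, x, hodd, hFp, hxF, hx1, hcase⟩ := gt_main hO2 p hp
  rcases hcase with ⟨Y, hYF, hYinv, hxY, hxc, hxt⟩ | ⟨hxinv, hxcomm⟩
  · -- `x` is centralized by `t` and central in the closure of `Y`
    obtain ⟨W, hW⟩ : ∃ W : AddSubgroup V,
        W = AddSubgroup.closure ({a} ∪ {w | ∃ y ∈ Y, w = y⁻¹ • a}) := ⟨_, rfl⟩
    have ha : a ∈ W := by
      rw [hW]; exact AddSubgroup.subset_closure (Or.inl rfl)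
    have hyW : ∀ y ∈ Y, y⁻¹ • a ∈ W := by
      intro y hy
      rw [hW]; exact AddSubgroup.subset_closure (Or.inr ⟨y, hy, rfl⟩)
    have hYD : Y ⊆ (dSub G W : Set G) := by
      intro y hy
      exact mem_dSub_of_sq (hodd y (hYF hy)) (c.sq_mem_dSub (hYinv y hy) ha (hyW y hy))
    have hxD : x ∈ dSub G W := ((Subgroup.closure_le _).2 hYD) hxY
    have hxa : x • a = a := c.fix_of_commute hxt
    have hfix : W ≤ fixSub x := by
      rw [hW, AddSubgroup.closure_le]
      rintro w (hw | ⟨y, hy, rfl⟩)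
      · rw [Set.mem_singleton_iff] at hw
        rw [hw]; exact hxa
      · show x • y⁻¹ • a = y⁻¹ • a
        have c1 : Commute x y := hxc y hy
        have c2 : x * y⁻¹ = y⁻¹ * x := c1.inv_right
        rw [← mul_smul, c2, mul_smul, hxa]
    have h1 := mul_self_eq_one_of_dSub hxD (fun w hw => hfix hw)
    exact hx1 (eq_one_of_odd_of_mul_self (hodd x hxF) h1)
  · -- `x` is inverted by `t` and commutes with its conjugate under `p`
    have hx2F : p⁻¹ * x * p ∈ F := hFp x hxF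
    have h2inv : TvCtx.Inv (p ^ 2) (p⁻¹ * x * p) := by
      unfold TvCtx.Inv at hxinv ⊢
      calc p ^ 2 * (p⁻¹ * x * p) * (p ^ 2)⁻¹ = p⁻¹ * (p ^ 2 * x * (p ^ 2)⁻¹) * p := by group
        _ = p⁻¹ * x⁻¹ * p := by rw [hxinv]
        _ = (p⁻¹ * x * p)⁻¹ := by group
    have hx2 : p⁻¹ * x * p ≠ 1 := by
      intro h
      apply hx1
      calc x = p * (p⁻¹ * x * p) * p⁻¹ := by group
        _ = 1 := by rw [h]; group
    have key : (p ^ 2)⁻¹ * x * p ^ 2 = x := by
      rcases c.mul_eq_one_or hxcomm hxinv h2inv (hodd _ hxF) (hodd _ hx2F)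
        (hodd _ (F.mul_mem hxF hx2F)) (hodd _ (F.mul_mem (F.inv_mem hxF) hx2F)) hx1 hx2 with h | h
      · have h' : p⁻¹ * x * p = x⁻¹ := eq_inv_of_mul_eq_one_right h
        calc (p ^ 2)⁻¹ * x * p ^ 2 = p⁻¹ * (p⁻¹ * x * p) * p := by
              rw [pow_two, mul_inv_rev]; simp only [mul_assoc]
          _ = p⁻¹ * x⁻¹ * p := by rw [h']
          _ = (p⁻¹ * x * p)⁻¹ := by group
          _ = x := by rw [h', inv_inv]
      · have h' : p⁻¹ * x * p = x := by
          have := eq_inv_of_mul_eq_one_right h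
          rwa [inv_inv] at this
        calc (p ^ 2)⁻¹ * x * p ^ 2 = p⁻¹ * (p⁻¹ * x * p) * p := by
              rw [pow_two, mul_inv_rev]; simp only [mul_assoc]
          _ = x := by rw [h', h']
    unfold TvCtx.Inv at hxinv
    have h3 : x = x⁻¹ := by
      calc x = p ^ 2 * ((p ^ 2)⁻¹ * x * p ^ 2) * (p ^ 2)⁻¹ := by group
        _ = x⁻¹ := by rw [key, hxinv]
    have h4 : x * x = 1 := by
      calc x * x = x * x⁻¹ := by rw [← h3]
        _ = 1 := mul_inv_cancel x
    exact hx1 (eq_one_of_odd_of_mul_self (hodd x hxF) h4)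

end Main

end Cfsg.Agent.Lib.Helper45
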