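import Mathlib
import Cfsg.Agent.Lib.Helper45.UAutBase
import Cfsg.Agent.Lib.Helper45.SplitCount
import Cfsg.Agent.Lib.Helper5.AutPSLnSplit

set_option autoImplicit false
set_option linter.unusedSimpArgs false
set_option linter.unusedVariables false
set_option linter.unusedSectionVars false
set_option linter.unnecessarySeqFocus false
set_option linter.style.haveILetI false

/-!
# The class-splitting number of a field automorphism of `PSU_n(q)`
-/

namespace Cfsg.Agent.Lib.Helper45.UAut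

open Matrix Cfsg.Agent.Lib.Helper5.AutPSU
open Cfsg.Agent.Lib.Helper45.AutPSL (splitClassCount_eq_index range_pow_sup)
open Cfsg.Agent.Lib.Helper5 (detGU detGU_val range_detGU card_ker_pow_succ)

/-- in a finite cyclic group of order `M`, the `d`-torsion is the group of `M/d`-th powers -/
lemma ker_pow_eq_range_pow {G : Type*} [CommGroup G] [IsCyclic G] [Finite G] {M d : ℕ}
    (hM : Nat.card G = M) (hd : d ∣ M) :
    (powMonoidHom d : G →* G).ker = (powMonoidHom (M / d) : G →* G).range := by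
  symm
  apply Subgroup.eq_of_le_of_card_ge
  · rintro _ ⟨x, rfl⟩
    rw [MonoidHom.mem_ker, powMonoidHom_apply, powMonoidHom_apply, ← pow_mul,
      Nat.div_mul_cancel hd, ← hM]
    exact pow_card_eq_one'
  · rw [IsCyclic.card_powMonoidHom_ker, hM, Nat.gcd_eq_right hd,
      Cfsg.Agent.Lib.Helper5.AutPSLn.card_pow_range hM hd]

variable {F : Type*} [Field F] [Fintype F] {q n : ℕ} {F₀ : Type*} [Field F₀] [Fintype F₀] {q₀ : ℕ}

/-- elements of norm one for the small field come from the small field -/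
lemma exists_preimage_norm_one (hF₀ : Fintype.card F₀ = q₀ ^ 2) (j : F₀ →+* F) (z : Fˣ)
    (hz : z ^ (q₀ + 1) = 1) : ∃ z₀ : F₀ˣ, z₀ ^ (q₀ + 1) = 1 ∧ Units.map (j : F₀ →* F) z₀ = z := by
  classical
  have hinj : Function.Injective (Units.map (j : F₀ →* F)) := by
    intro a b hab
    apply Units.ext
    apply j.injective
    exact congrArg Units.val hab
  have hle : (powMonoidHom (q₀ + 1) : F₀ˣ →* F₀ˣ).ker.map (Units.map (j : F₀ →* F)) ≤
      (powMonoidHom (q₀ + 1) : Fˣ →* Fˣ).ker := by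
    rintro _ ⟨x, hx, rfl⟩
    have hx' : (powMonoidHom (q₀ + 1) : F₀ˣ →* F₀ˣ) x = 1 := hx
    rw [powMonoidHom_apply] at hx'
    rw [MonoidHom.mem_ker, powMonoidHom_apply, ← map_pow, hx', map_one]
  have hcard : Nat.card (powMonoidHom (q₀ + 1) : Fˣ →* Fˣ).ker ≤
      Nat.card ((powMonoidHom (q₀ + 1) : F₀ˣ →* F₀ˣ).ker.map (Units.map (j : F₀ →* F))) := by
    rw [Subgroup.card_map_of_injective hinj, card_ker_pow_succ hF₀, IsCyclic.card_powMonoidHom_ker]
    exact Nat.le_of_dvd (by omega) (Nat.gcd_dvd_right _ _)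
  have heq := Subgroup.eq_of_le_of_card_ge hle hcard
  have hzmem : z ∈ (powMonoidHom (q₀ + 1) : Fˣ →* Fˣ).ker := by
    rw [MonoidHom.mem_ker, powMonoidHom_apply]; exact hz
  rw [← heq] at hzmem
  obtain ⟨z₀, hz₀, rfl⟩ := hzmem
  have hz₀' : (powMonoidHom (q₀ + 1) : F₀ˣ →* F₀ˣ) z₀ = 1 := hz₀
  rw [powMonoidHom_apply] at hz₀'
  exact ⟨z₀, hz₀', rfl⟩

/-- the group of elements of norm one -/
abbrev normC (F : Type*) [Field F] (q : ℕ) : Subgroup Fˣ := (powMonoidHom (q + 1) : Fˣ →* Fˣ).ker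

lemma detGU_mem (hF : Fintype.card F = q ^ 2) (g : ↥(Cfsg.GU n F q)) : detGU n F q g ∈ normC F q := by
  rw [MonoidHom.mem_ker, powMonoidHom_apply]
  apply Units.ext
  rw [Units.val_pow_eq_pow_val, detGU_val, Units.val_one]
  exact Cfsg.Agent.Lib.Helper13.GU_det_pow hF n g.1 g.2

/-- the determinant `GU_n(q) → C` onto the group of norm-one elements -/
noncomputable def detC (hF : Fintype.card F = q ^ 2) : ↥(Cfsg.GU n F q) →* ↥(normC F q) :=
  (detGU n F q).codRestrict (normC F q) (detGU_mem hF)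

lemma detC_val (hF : Fintype.card F = q ^ 2) (g : ↥(Cfsg.GU n F q)) :
    (((detC hF g : ↥(normC F q)) : Fˣ) : F) = g.1.1.det := rfl

lemma detC_surjective (hF : Fintype.card F = q ^ 2) (hn : 1 ≤ n) :
    Function.Surjective (detC (n := n) hF) := by
  obtain ⟨m, rfl⟩ : ∃ m, n = m + 1 := ⟨n - 1, by omega⟩
  rintro ⟨z, hz⟩
  have : z ∈ (detGU (m + 1) F q).range := by rw [range_detGU hF]; exact hz
  obtain ⟨g, hg⟩ := this
  exact ⟨g, Subtype.ext hg⟩

/-- the scalar matrix of a norm-one element, in `GU` -/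
noncomputable def scU (c : ↥(normC F q)) : ↥(Cfsg.GU n F q) :=
  Cfsg.Agent.Lib.Helper13.diagGU n q (fun _ => ((c : Fˣ) : F)) (fun _ => by
    have := c.2
    rw [MonoidHom.mem_ker, powMonoidHom_apply] at this
    rw [← Units.val_pow_eq_pow_val, this, Units.val_one])

lemma scU_val (c : ↥(normC F q)) :
    (scU c : ↥(Cfsg.GU n F q)).1.1 = ((c : Fˣ) : F) • (1 : Matrix (Fin n) (Fin n) F) := by
  show Matrix.diagonal _ = _
  ext i j
  rw [Matrix.smul_apply, Matrix.one_apply, Matrix.diagonal_apply]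
  split_ifs <;> simp

lemma GamU_scU (hF : Fintype.card F = q ^ 2) (hn : 3 ≤ n) (c : ↥(normC F q)) :
    (GamU (scU c) : MulAut (Cfsg.PSU n F q)) = 1 := by
  rw [GamU_eq_one_iff hF hn]
  exact ⟨((c : Fˣ) : F), fun x => by rw [scU_val, smul_mulVec, one_mulVec]⟩

lemma detC_scU (hF : Fintype.card F = q ^ 2) (c : ↥(normC F q)) :
    detC hF (scU c : ↥(Cfsg.GU n F q)) = c ^ n := by
  apply Subtype.ext
  apply Units.ext
  rw [detC_val, scU_val, Matrix.det_smul, Matrix.det_one, mul_one, Fintype.card_fin]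
  simp

/-- the elements of `GU` inducing inner automorphisms of `PSU` -/
theorem GamU_mem_Inn_iff (hF : Fintype.card F = q ^ 2) (hn : 3 ≤ n) (g : ↥(Cfsg.GU n F q)) :
    (GamU g : MulAut (Cfsg.PSU n F q)) ∈ Cfsg.Inn (Cfsg.PSU n F q) ↔
      detC hF g ∈ (powMonoidHom n : ↥(normC F q) →* ↥(normC F q)).range := by
  constructor
  · rintro ⟨y, hy⟩
    obtain ⟨x, rfl⟩ := pr_surjective y
    rw [conj_pr] at hy
    have h1 : (GamU (g * (toGU x)⁻¹) : MulAut (Cfsg.PSU n F q)) = 1 := by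
      rw [map_mul, map_inv, hy, mul_inv_cancel]
    obtain ⟨a, ha⟩ := (GamU_eq_one_iff hF hn _).1 h1
    have hM := mat_eq_smul_one ha
    obtain ⟨φ, hφ⟩ := Cfsg.Agent.Lib.Helper13.exists_powRingHom hF
    have hmem := (mem_GU_iff_mat φ hφ _).1 (g * (toGU x)⁻¹).2
    rw [hM, transpose_smul, map_smul_ring, Matrix.smul_mul, Matrix.mul_smul, smul_smul,
      transpose_one, Matrix.map_one _ (map_zero φ) (map_one φ), Matrix.mul_one] at hmem
    obtain ⟨i0⟩ : Nonempty (Fin n) := ⟨⟨0, by omega⟩⟩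
    have ha1 : a ^ (q + 1) = 1 := by
      have := congrFun (congrFun hmem i0) i0
      rw [Matrix.smul_apply, Matrix.one_apply_eq, smul_eq_mul, mul_one, hφ] at this
      rw [pow_succ, mul_comm]
      exact this
    have ha0 : a ≠ 0 := by
      rintro rfl
      rw [zero_pow (by omega)] at ha1
      exact zero_ne_one ha1
    have hamem : Units.mk0 a ha0 ∈ normC F q := by
      rw [MonoidHom.mem_ker, powMonoidHom_apply]
      apply Units.ext
      rw [Units.val_pow_eq_pow_val, Units.val_mk0, ha1, Units.val_one]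
    refine ⟨⟨Units.mk0 a ha0, hamem⟩, ?_⟩
    rw [powMonoidHom_apply]
    apply Subtype.ext
    apply Units.ext
    rw [detC_val]
    have h2 : g = (g * (toGU x)⁻¹) * toGU x := by group
    have h3 : g.1.1 = (g * (toGU x)⁻¹).1.1 * (toGU x).1.1 := by
      conv_lhs => rw [h2]
      rfl
    rw [h3, hM, Matrix.det_mul, Matrix.det_smul, Matrix.det_one, mul_one, Fintype.card_fin]
    have h4 : ((toGU x).1.1).det = 1 := x.1.2
    rw [h4, mul_one]
    simp
  · rintro ⟨c, hc⟩
    rw [powMonoidHom_apply] at hc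
    have hdet : ((g * (scU c)⁻¹).1.1).det = 1 := by
      have h1 : detC hF (g * (scU c)⁻¹) = 1 := by
        rw [map_mul, map_inv, detC_scU, hc, mul_inv_cancel]
      have := congrArg (fun z : ↥(normC F q) => ((z : Fˣ) : F)) h1
      exact this
    obtain ⟨x, hx'⟩ : ∃ x : ↥(Cfsg.SU n F q), toGU x = g * (scU c)⁻¹ := by
      refine ⟨⟨⟨(g * (scU c)⁻¹).1.1, hdet⟩, fun u v => (g * (scU c)⁻¹).2 u v⟩, ?_⟩
      apply Subtype.ext
      apply Units.ext
      rfl
    refine ⟨pr x, ?_⟩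
    rw [conj_pr, hx', map_mul, map_inv, GamU_scU hF hn, inv_one, mul_one]

/-- **The class-splitting number of a field automorphism of odd order of `PSU_n(q)`.** -/
theorem split_count_PhiU (hF : Fintype.card F = q ^ 2) (hF₀ : Fintype.card F₀ = q₀ ^ 2) (hn : 3 ≤ n)
    (j : F₀ →+* F) (hjq : ∀ x : F₀, j x ^ q = j (x ^ q₀)) (σ : F ≃+* F)
    (hj : ∀ a : F, σ a = a ↔ a ∈ Set.range j) (hdvd : (q₀ + 1) ∣ (q + 1)) :
    Cfsg.splitClassCount (GamU : ↥(Cfsg.GU n F q) →* MulAut (Cfsg.PSU n F q)).range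
      (Cfsg.Inn (Cfsg.PSU n F q)) (PhiU σ) = Nat.gcd n ((q + 1) / (q₀ + 1)) := by
  classical
  have hCcard : Nat.card ↥(normC F q) = q + 1 := card_ker_pow_succ hF
  haveI : IsCyclic ↥(normC F q) := Subgroup.isCyclic _
  obtain ⟨N, hNdef⟩ : ∃ N : Subgroup ↥(Cfsg.GU n F q),
      N = (Cfsg.Inn (Cfsg.PSU n F q)).comap GamU := ⟨_, rfl⟩
  haveI hNn : N.Normal := by rw [hNdef]; infer_instance
  have hInnle : Cfsg.Inn (Cfsg.PSU n F q) ≤
      (GamU : ↥(Cfsg.GU n F q) →* MulAut (Cfsg.PSU n F q)).range := by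
    rintro _ ⟨y, rfl⟩
    obtain ⟨x, rfl⟩ := pr_surjective y
    exact ⟨_, (conj_pr x).symm⟩
  have hNmap : N.map GamU = Cfsg.Inn (Cfsg.PSU n F q) := by
    rw [hNdef, Subgroup.map_comap_eq, inf_eq_right.2 hInnle]
  rw [← hNmap, splitClassCount_eq_index GamU N (PhiU σ)]
  obtain ⟨Pn, hPn⟩ : ∃ Pn : Subgroup ↥(normC F q),
      Pn = (powMonoidHom n : ↥(normC F q) →* ↥(normC F q)).range := ⟨_, rfl⟩
  obtain ⟨C₀, hC₀⟩ : ∃ C₀ : Subgroup ↥(normC F q),
      C₀ = (powMonoidHom (q₀ + 1) : ↥(normC F q) →* ↥(normC F q)).ker := ⟨_, rfl⟩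
  have hN : ∀ g, g ∈ N ↔ detC hF g ∈ Pn := by
    intro g
    rw [hNdef, hPn, Subgroup.mem_comap]
    exact GamU_mem_Inn_iff hF hn g
  have hS : ∀ g, g ∈ (Subgroup.centralizer
      ({PhiU σ} : Set (MulAut (Cfsg.PSU n F q)))).comap GamU ↔
      ∃ (s : ↥(Cfsg.GU n F q)) (g₀ : ↥(Cfsg.GU n F₀ q₀)),
        (GamU s : MulAut (Cfsg.PSU n F q)) = 1 ∧ g = s * mapU hF hF₀ j hjq g₀ := by
    intro g
    rw [Subgroup.mem_comap, Subgroup.mem_centralizer_singleton_iff]
    exact GamU_comm_PhiU_iff hF hF₀ hn j hjq σ hj g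
  have hdetmap : ∀ g₀ : ↥(Cfsg.GU n F₀ q₀),
      (((detC hF (mapU hF hF₀ j hjq g₀) : ↥(normC F q)) : Fˣ) : F) = j g₀.1.1.det := by
    intro g₀
    rw [detC_val, mapU_val_val, det_map_ring]
  have hkey : N ⊔ (Subgroup.centralizer
      ({PhiU σ} : Set (MulAut (Cfsg.PSU n F q)))).comap GamU = (Pn ⊔ C₀).comap (detC hF) := by
    apply le_antisymm
    · apply sup_le
      · intro g hg
        exact Subgroup.mem_sup_left ((hN g).1 hg)
      · intro g hg
        obtain ⟨s, g₀, hs, rfl⟩ := (hS g).1 hg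
        rw [Subgroup.mem_comap, map_mul]
        refine mul_mem (Subgroup.mem_sup_left ?_) (Subgroup.mem_sup_right ?_)
        · rw [← hN, hNdef, Subgroup.mem_comap, hs]
          exact one_mem _
        · rw [hC₀, MonoidHom.mem_ker, powMonoidHom_apply]
          apply Subtype.ext
          apply Units.ext
          show (((detC hF (mapU hF hF₀ j hjq g₀) : ↥(normC F q)) : Fˣ) : F) ^ (q₀ + 1) = 1
          rw [hdetmap, ← map_pow, Cfsg.Agent.Lib.Helper13.GU_det_pow hF₀ n g₀.1 g₀.2, map_one]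
    · intro g hg
      rw [Subgroup.mem_comap, Subgroup.mem_sup] at hg
      obtain ⟨y, hy, z, hz, hyz⟩ := hg
      have hz' : (z : Fˣ) ^ (q₀ + 1) = 1 := by
        rw [hC₀, MonoidHom.mem_ker, powMonoidHom_apply] at hz
        have := congrArg Subtype.val hz
        exact this
      obtain ⟨z₀, hz₀, hz₀j⟩ := exists_preimage_norm_one hF₀ j (z : Fˣ) hz'
      obtain ⟨i0⟩ : Nonempty (Fin n) := ⟨⟨0, by omega⟩⟩
      have hd : ∀ k, (Function.update (fun _ => (1 : F₀)) i0 (z₀ : F₀)) k ^ (q₀ + 1) = 1 := by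
        intro k
        by_cases hk : k = i0
        · subst hk
          rw [Function.update_self, ← Units.val_pow_eq_pow_val, hz₀, Units.val_one]
        · rw [Function.update_of_ne hk, one_pow]
      obtain ⟨t, ht⟩ : ∃ t : ↥(Cfsg.GU n F q),
          t = mapU hF hF₀ j hjq (Cfsg.Agent.Lib.Helper13.diagGU n q₀ _ hd) := ⟨_, rfl⟩
      have htdet : detC hF t = z := by
        apply Subtype.ext
        apply Units.ext
        rw [ht, hdetmap, Cfsg.Agent.Lib.Helper13.diagGU_val, Matrix.det_diagonal,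
          Finset.prod_update_of_mem (Finset.mem_univ i0)]
        simp only [Finset.prod_const_one, mul_one]
        rw [← hz₀j]
        rfl
      have htS : t ∈ (Subgroup.centralizer
          ({PhiU σ} : Set (MulAut (Cfsg.PSU n F q)))).comap GamU := by
        rw [hS]
        exact ⟨1, _, map_one _, by rw [one_mul, ht]⟩
      have hgtN : g * t⁻¹ ∈ N := by
        rw [hN, map_mul, map_inv, htdet, ← hyz, mul_inv_cancel_right]
        exact hy
      have : g = (g * t⁻¹) * t := by group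
      rw [this]
      exact mul_mem (Subgroup.mem_sup_left hgtN) (Subgroup.mem_sup_right htS)
  rw [hkey, Subgroup.index_comap_of_surjective _ (detC_surjective hF (by omega)), hPn, hC₀,
    ker_pow_eq_range_pow hCcard hdvd, range_pow_sup, IsCyclic.index_powMonoidHom_range, hCcard]
  apply Nat.gcd_eq_right
  exact dvd_trans (Nat.gcd_dvd_right _ _) (Nat.div_dvd_of_dvd hdvd)

end Cfsg.Agent.Lib.Helper45.UAut
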