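import Cfsg.Agent.Lib.Helper45.VIter
import Cfsg.Prelude.Def_PLocal

/-!
# Uniserial actions of `p`-groups and the iterated commutator chain
-/

set_option autoImplicit false
open Cfsg
open scoped commutatorElement

namespace Cfsg.Agent.Lib.Helper45

section uniserial

variable {L : Type*} [Group L]

theorem iterCommutator_le_and_normalized (N G : Subgroup L)
    (hGN : G ≤ Subgroup.normalizer (N : Set L)) (i : ℕ) :
    iterCommutator N G i ≤ N ∧ G ≤ Subgroup.normalizer (iterCommutator N G i : Set L) := by
  induction i with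
  | zero => exact ⟨le_rfl, hGN⟩
  | succ i ih =>
    refine ⟨?_, ?_⟩
    · show ⁅iterCommutator N G i, G⁆ ≤ N
      exact (commutator_le_of_le_normalizer ih.2).trans ih.1
    · show G ≤ Subgroup.normalizer ((⁅iterCommutator N G i, G⁆ : Subgroup L) : Set L)
      exact le_normalizer_commutator_of_le ih.2 Subgroup.le_normalizer

theorem iterCommutator_succ_le (N G : Subgroup L)
    (hGN : G ≤ Subgroup.normalizer (N : Set L)) (i : ℕ) :
    iterCommutator N G (i + 1) ≤ iterCommutator N G i :=
  commutator_le_of_le_normalizer (iterCommutator_le_and_normalized N G hGN i).2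

theorem iterCommutator_antitone (N G : Subgroup L)
    (hGN : G ≤ Subgroup.normalizer (N : Set L)) : Antitone (iterCommutator N G) :=
  antitone_nat_of_succ_le (iterCommutator_succ_le N G hGN)

theorem iterCommutator_mono_right (N : Subgroup L) {G X : Subgroup L} (hGX : G ≤ X) (i : ℕ) :
    iterCommutator N G i ≤ iterCommutator N X i := by
  induction i with
  | zero => exact le_rfl
  | succ i ih => exact Subgroup.commutator_mono ih hGX

/-- A nontrivial subgroup `H` normalized by `G`, both `p`-groups in a finite group, satisfies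
`[H, G] ≠ H`. -/
theorem commutator_ne_self_of_isPGroup [Finite L] {p : ℕ} [Fact p.Prime] {H G : Subgroup L}
    (hH : IsPGroup p H) (hG : IsPGroup p G) (hGH : G ≤ Subgroup.normalizer (H : Set L))
    (hne : H ≠ ⊥) : ⁅H, G⁆ ≠ H := by
  intro heq
  apply hne
  have hQp : IsPGroup p ↥(H ⊔ G) := hH.to_sup_of_normal_left' hG hGH
  have hQnil : Group.IsNilpotent ↥(H ⊔ G) := hQp.isNilpotent
  have hnil := (Subgroup.isNilpotent_iff_lowerCentralSeries (H ⊔ G)).mp hQnil
  have hbot : (H ⊔ G) ≤ Subgroup.normalizer ((⊥ : Subgroup L) : Set L) := by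
    intro x _
    rw [Subgroup.mem_normalizer_iff]
    intro h
    simp [Subgroup.mem_bot]
  have h1 : H ≤ ⊥ ⊔ ⁅H, H ⊔ G⁆ := by
    rw [bot_sup_eq]
    calc H = ⁅H, G⁆ := heq.symm
      _ ≤ ⁅H, H ⊔ G⁆ := Subgroup.commutator_mono le_rfl le_sup_right
  exact le_bot_iff.mp (le_of_le_sup_commutator_of_nilpotent hbot le_sup_left hnil h1)

/-- `[A ⊔ B, G] ≤ A ⊔ [B, G]` when `A` normalizes `B` and `G` normalizes `A`. -/
theorem commutator_sup_le {A B G : Subgroup L} (hAB : A ≤ Subgroup.normalizer (B : Set L))
    (hGA : G ≤ Subgroup.normalizer (A : Set L)) : ⁅A ⊔ B, G⁆ ≤ A ⊔ ⁅B, G⁆ := by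
  rw [Subgroup.commutator_le]
  intro x hx g hg
  have hx' : x ∈ ((A ⊔ B : Subgroup L) : Set L) := hx
  rw [Subgroup.coe_mul_of_left_le_normalizer_right _ _ hAB] at hx'
  obtain ⟨a, ha, b, hb, rfl⟩ := hx'
  have e : ⁅a * b, g⁆ = (a * ⁅b, g⁆ * a⁻¹) * ⁅a, g⁆ := by
    simp only [commutatorElement_def]; group
  rw [e]
  have h1 : ⁅a, g⁆ ∈ A :=
    commutator_le_of_le_normalizer hGA (Subgroup.commutator_mem_commutator ha hg)
  have h2 : ⁅b, g⁆ ∈ ⁅B, G⁆ := Subgroup.commutator_mem_commutator hb hg
  have hA : ∀ y, y ∈ A → y ∈ A ⊔ ⁅B, G⁆ := fun y hy => (le_sup_left : A ≤ A ⊔ ⁅B, G⁆) hy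
  have hB : ∀ y, y ∈ ⁅B, G⁆ → y ∈ A ⊔ ⁅B, G⁆ := fun y hy => (le_sup_right : ⁅B, G⁆ ≤ A ⊔ ⁅B, G⁆) hy
  exact Subgroup.mul_mem _ (Subgroup.mul_mem _ (Subgroup.mul_mem _ (hA _ ha) (hB _ h2))
    (hA _ (A.inv_mem ha))) (hA _ h1)

theorem exponent_chain_eq {e : ℕ → ℕ} {n : ℕ} (h0 : e 0 = n) (hmono : ∀ i, e (i + 1) ≤ e i)
    (hstrict : ∀ i, e i ≠ 0 → e (i + 1) < e i) (hlast : e (n - 1) ≠ 0 ∨ n = 0) :
    ∀ i ≤ n, e i = n - i := by
  rcases hlast with hlast | hn0
  · have hanti : Antitone e := antitone_nat_of_succ_le hmono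
    have hpos : ∀ i ≤ n - 1, e i ≠ 0 := by
      intro i hi h
      have := hanti hi
      omega
    have hub : ∀ i ≤ n, e i + i ≤ n := by
      intro i
      induction i with
      | zero => intro _; omega
      | succ i ih =>
        intro hi
        have h1 := ih (by omega)
        have h2 := hstrict i (hpos i (by omega))
        omega
    have hlb : ∀ d ≤ n - 1, d + 1 ≤ e (n - 1 - d) := by
      intro d
      induction d with
      | zero =>
        intro _
        have := hlast
        simp only [Nat.sub_zero]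
        omega
      | succ d ih =>
        intro hd
        have h1 := ih (by omega)
        have h2 := hstrict (n - 1 - (d + 1)) (hpos _ (by omega))
        have e1 : n - 1 - (d + 1) + 1 = n - 1 - d := by omega
        rw [e1] at h2
        omega
    intro i hi
    have h1 := hub i hi
    rcases Nat.lt_or_ge i n with h | h
    · have h2 := hlb (n - 1 - i) (by omega)
      have e1 : n - 1 - (n - 1 - i) = i := by omega
      rw [e1] at h2
      omega
    · omega
  · subst hn0
    intro i hi
    have : i = 0 := by omega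
    subst this
    omega

theorem exists_card_eq_pow_lt [Finite L] {p : ℕ} [hp : Fact p.Prime] {A B : Subgroup L}
    (hA : IsPGroup p A) (hAB : A ≤ B) (hne : A ≠ B) {k : ℕ} (hB : Nat.card B = p ^ k) :
    ∃ j < k, Nat.card A = p ^ j := by
  obtain ⟨j, hj⟩ := hA.exists_card_eq
  refine ⟨j, ?_, hj⟩
  by_contra hcon
  push_neg at hcon
  apply hne
  apply Subgroup.eq_of_le_of_card_ge hAB
  rw [hB, hj]
  exact Nat.pow_le_pow_right hp.out.pos hcon

theorem normalizer_bot_eq_top : Subgroup.normalizer (((⊥ : Subgroup L) : Subgroup L) : Set L) = ⊤ := by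
  ext x
  simp only [Subgroup.mem_top, iff_true]
  rw [Subgroup.mem_normalizer_iff]
  intro h
  simp [Subgroup.mem_bot]

section main

variable [Finite L] {p : ℕ} [hp : Fact p.Prime] (N G : Subgroup L)

theorem card_iterCommutator_of_uniserial
    (hGN : G ≤ Subgroup.normalizer (N : Set L)) (n : ℕ) (hn : Nat.card N = p ^ n)
    (hU : ∀ H : Subgroup L, H ≤ N → G ≤ Subgroup.normalizer (H : Set L) → H ≠ ⊥ →
      (⁅H, G⁆).relIndex H = p) :
    ∀ i ≤ n, Nat.card ↥(iterCommutator N G i) = p ^ (n - i) := by
  intro i
  induction i with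
  | zero => intro _; exact hn
  | succ i ih =>
    intro hi
    have h1 := ih (by omega)
    have hne : iterCommutator N G i ≠ ⊥ := by
      intro h
      rw [h, Subgroup.card_bot] at h1
      have : 1 < p ^ (n - i) := Nat.one_lt_pow (by omega) hp.out.one_lt
      omega
    have hln := iterCommutator_le_and_normalized N G hGN i
    have h2 := hU (iterCommutator N G i) hln.1 hln.2 hne
    have h3 := Subgroup.relIndex_mul_relIndex ⊥ (iterCommutator N G (i + 1)) (iterCommutator N G i)
      bot_le (iterCommutator_succ_le N G hGN i)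
    rw [Subgroup.relIndex_bot_left, Subgroup.relIndex_bot_left] at h3
    have h4 : (iterCommutator N G (i + 1)).relIndex (iterCommutator N G i) = p := h2
    rw [h4, h1] at h3
    have e : n - i = (n - (i + 1)) + 1 := by omega
    rw [e, pow_succ] at h3
    exact Nat.eq_of_mul_eq_mul_right hp.out.pos h3

theorem card_iterCommutator_of_chain (hN : IsPGroup p N) (hG : IsPGroup p G)
    (hGN : G ≤ Subgroup.normalizer (N : Set L)) (n : ℕ) (hn : Nat.card N = p ^ n)
    (hchain : iterCommutator N G (n - 1) ≠ ⊥ ∨ n = 0) :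
    ∀ i ≤ n, Nat.card ↥(iterCommutator N G i) = p ^ (n - i) := by
  have hln := iterCommutator_le_and_normalized N G hGN
  have hpg : ∀ i, IsPGroup p ↥(iterCommutator N G i) := fun i => hN.to_le (hln i).1
  have hex : ∀ i, ∃ k, Nat.card ↥(iterCommutator N G i) = p ^ k := fun i => (hpg i).exists_card_eq
  choose e he using hex
  have h0 : e 0 = n := Nat.pow_right_injective hp.out.two_le ((he 0).symm.trans hn)
  have hmono : ∀ i, e (i + 1) ≤ e i := by
    intro i
    have := Subgroup.card_le_of_le (iterCommutator_succ_le N G hGN i)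
    rw [he, he] at this
    exact (Nat.pow_le_pow_iff_right hp.out.one_lt).mp this
  have hstrict : ∀ i, e i ≠ 0 → e (i + 1) < e i := by
    intro i hi
    have hne : iterCommutator N G i ≠ ⊥ := by
      intro h
      have h1 := he i
      rw [h, Subgroup.card_bot] at h1
      have : 1 < p ^ e i := Nat.one_lt_pow hi hp.out.one_lt
      omega
    have hne2 : iterCommutator N G (i + 1) ≠ iterCommutator N G i :=
      commutator_ne_self_of_isPGroup (hpg i) hG (hln i).2 hne
    by_contra hcon
    push_neg at hcon
    apply hne2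
    apply Subgroup.eq_of_le_of_card_ge (iterCommutator_succ_le N G hGN i)
    rw [he i, he (i + 1)]
    exact Nat.pow_le_pow_right hp.out.pos hcon
  have hlast : e (n - 1) ≠ 0 ∨ n = 0 := by
    rcases hchain with h | h
    · left
      intro h0'
      apply h
      apply Subgroup.card_eq_one.mp
      rw [he, h0', pow_zero]
    · right; exact h
  intro i hi
  rw [he, exponent_chain_eq h0 hmono hstrict hlast i hi]

theorem chain_of_card_iterCommutator (n : ℕ)
    (hC : ∀ i ≤ n, Nat.card ↥(iterCommutator N G i) = p ^ (n - i)) :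
    iterCommutator N G (n - 1) ≠ ⊥ ∨ n = 0 := by
  rcases Nat.eq_zero_or_pos n with h | h
  · right; exact h
  · left
    intro hbot
    have h1 := hC (n - 1) (by omega)
    rw [hbot, Subgroup.card_bot] at h1
    have e : n - (n - 1) = 1 := by omega
    rw [e, pow_one] at h1
    have := hp.out.one_lt
    omega

theorem iterCommutator_eq_bot_of_card (hGN : G ≤ Subgroup.normalizer (N : Set L)) (n : ℕ)
    (hC : ∀ i ≤ n, Nat.card ↥(iterCommutator N G i) = p ^ (n - i)) {i : ℕ} (hi : n ≤ i) :
    iterCommutator N G i = ⊥ := by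
  have h1 : iterCommutator N G n = ⊥ := by
    apply Subgroup.card_eq_one.mp
    rw [hC n le_rfl, Nat.sub_self, pow_zero]
  exact le_bot_iff.mp (h1 ▸ iterCommutator_antitone N G hGN hi)

theorem le_normalizer_iterCommutator_of_card (hN : IsPGroup p N) (hG : IsPGroup p G)
    (hGN : G ≤ Subgroup.normalizer (N : Set L)) (n : ℕ)
    (hC : ∀ i ≤ n, Nat.card ↥(iterCommutator N G i) = p ^ (n - i)) :
    ∀ i, N ≤ Subgroup.normalizer (iterCommutator N G i : Set L) := by
  have hXN : N ⊔ G ≤ Subgroup.normalizer (N : Set L) := sup_le Subgroup.le_normalizer hGN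
  have hXp : IsPGroup p ↥(N ⊔ G) := hN.to_sup_of_normal_left' hG hGN
  have hM := iterCommutator_le_and_normalized N (N ⊔ G) hXN
  have hCM : ∀ i, iterCommutator N G i ≤ iterCommutator N (N ⊔ G) i :=
    iterCommutator_mono_right N le_sup_right
  have heq : ∀ i ≤ n, iterCommutator N (N ⊔ G) i = iterCommutator N G i := by
    intro i
    induction i with
    | zero => intro _; rfl
    | succ i ih =>
      intro hi
      have h1 := ih (by omega)
      have hMi : Nat.card ↥(iterCommutator N (N ⊔ G) i) = p ^ (n - i) := by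
        rw [h1]; exact hC i (by omega)
      have hne : iterCommutator N (N ⊔ G) i ≠ ⊥ := by
        intro h
        rw [h, Subgroup.card_bot] at hMi
        have : 1 < p ^ (n - i) := Nat.one_lt_pow (by omega) hp.out.one_lt
        omega
      have hne2 : iterCommutator N (N ⊔ G) (i + 1) ≠ iterCommutator N (N ⊔ G) i :=
        commutator_ne_self_of_isPGroup (hN.to_le (hM i).1) hXp (hM i).2 hne
      obtain ⟨j, hj, hcard⟩ := exists_card_eq_pow_lt (hN.to_le (hM (i + 1)).1)
        (iterCommutator_succ_le N (N ⊔ G) hXN i) hne2 hMi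
      symm
      apply Subgroup.eq_of_le_of_card_ge (hCM (i + 1))
      rw [hcard, hC (i + 1) hi]
      exact Nat.pow_le_pow_right hp.out.pos (by omega)
  intro i
  rcases le_or_gt i n with hi | hi
  · rw [← heq i hi]; exact le_sup_left.trans (hM i).2
  · rw [iterCommutator_eq_bot_of_card N G hGN n hC hi.le, normalizer_bot_eq_top]
    exact le_top

theorem exists_eq_iterCommutator_of_card (hN : IsPGroup p N) (hG : IsPGroup p G)
    (hGN : G ≤ Subgroup.normalizer (N : Set L)) (n : ℕ)
    (hC : ∀ i ≤ n, Nat.card ↥(iterCommutator N G i) = p ^ (n - i))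
    (H : Subgroup L) (hHN : H ≤ N) (hGH : G ≤ Subgroup.normalizer (H : Set L)) :
    ∃ i ≤ n, H = iterCommutator N G i := by
  have hCn : iterCommutator N G n = ⊥ := iterCommutator_eq_bot_of_card N G hGN n hC le_rfl
  have hnorm := le_normalizer_iterCommutator_of_card N G hN hG hGN n hC
  have hln := iterCommutator_le_and_normalized N G hGN
  have key : ∀ d, ∀ i, i + d = n → H ≤ iterCommutator N G i →
      ∃ j ≤ n, H = iterCommutator N G j := by
    intro d
    induction d with
    | zero =>
      intro i hi hle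
      have : i = n := by omega
      subst this
      refine ⟨i, le_rfl, ?_⟩
      rw [hCn] at hle ⊢
      exact le_bot_iff.mp hle
    | succ d ih =>
      intro i hi hle
      by_cases hle2 : H ≤ iterCommutator N G (i + 1)
      · exact ih (i + 1) (by omega) hle2
      · refine ⟨i, by omega, ?_⟩
        have hsup : H ⊔ iterCommutator N G (i + 1) = iterCommutator N G i := by
          by_contra hne
          obtain ⟨j, hj, hcard⟩ := exists_card_eq_pow_lt
            (hN.to_le (sup_le hHN (hln (i + 1)).1))
            (sup_le hle (iterCommutator_succ_le N G hGN i)) hne (hC i (by omega))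
          apply hle2
          have h2 : iterCommutator N G (i + 1) = H ⊔ iterCommutator N G (i + 1) := by
            apply Subgroup.eq_of_le_of_card_ge le_sup_right
            rw [hcard, hC (i + 1) (by omega)]
            exact Nat.pow_le_pow_right hp.out.pos (by omega)
          rw [h2]
          exact le_sup_left
        have hstep : ∀ m, i ≤ m →
            iterCommutator N G m ≤ H ⊔ iterCommutator N G (m + 1) := by
          intro m hm
          induction m, hm using Nat.le_induction with
          | base => exact hsup.symm.le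
          | succ m _ ihm =>
            calc iterCommutator N G (m + 1) = ⁅iterCommutator N G m, G⁆ := rfl
              _ ≤ ⁅H ⊔ iterCommutator N G (m + 1), G⁆ := Subgroup.commutator_mono ihm le_rfl
              _ ≤ H ⊔ ⁅iterCommutator N G (m + 1), G⁆ :=
                commutator_sup_le (hHN.trans (hnorm (m + 1))) hGH
        have hall : ∀ m, i ≤ m → iterCommutator N G i ≤ H ⊔ iterCommutator N G m := by
          intro m hm
          induction m, hm using Nat.le_induction with
          | base => exact le_sup_right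
          | succ m hm ihm =>
            exact ihm.trans (sup_le le_sup_left (hstep m hm))
        have h3 := hall n (by omega)
        rw [hCn, sup_bot_eq] at h3
        exact le_antisymm hle h3
  exact key n 0 (by omega) hHN

theorem uniserial_of_card_iterCommutator (hN : IsPGroup p N) (hG : IsPGroup p G)
    (hGN : G ≤ Subgroup.normalizer (N : Set L)) (n : ℕ)
    (hC : ∀ i ≤ n, Nat.card ↥(iterCommutator N G i) = p ^ (n - i)) :
    ∀ H : Subgroup L, H ≤ N → G ≤ Subgroup.normalizer (H : Set L) → H ≠ ⊥ →
      (⁅H, G⁆).relIndex H = p := by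
  intro H hHN hGH hne
  obtain ⟨i, hi, rfl⟩ := exists_eq_iterCommutator_of_card N G hN hG hGN n hC H hHN hGH
  have hi' : i < n := by
    rcases eq_or_lt_of_le hi with h | h
    · exact absurd (iterCommutator_eq_bot_of_card N G hGN n hC h.ge) hne
    · exact h
  have h3 := Subgroup.relIndex_mul_relIndex ⊥ (iterCommutator N G (i + 1)) (iterCommutator N G i)
    bot_le (iterCommutator_succ_le N G hGN i)
  rw [Subgroup.relIndex_bot_left, Subgroup.relIndex_bot_left, hC (i + 1) hi', hC i hi] at h3
  have e : n - i = (n - (i + 1)) + 1 := by omega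
  rw [e, pow_succ] at h3
  exact Nat.eq_of_mul_eq_mul_left (pow_pos hp.out.pos _) h3

end main

end uniserial

end Cfsg.Agent.Lib.Helper45
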