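import Cfsg.Agent.S2835
import Cfsg.Agent.Lib.Helper47.Quot
import Cfsg.Agent.Lib.Helper47.PIrr
import Cfsg.Agent.Lib.Helper45.Amalgam

/-!
# `Y`-minimal groups: normal subgroups inside the unique maximal subgroup
-/

set_option autoImplicit false
open Cfsg
open scoped commutatorElement

namespace Cfsg.Agent.Lib.Helper45

section yminimal

open Cfsg.Agent.Lib.Helper47

variable {L : Type*} [Group L] [Finite L] {p : ℕ} [hp : Fact p.Prime]

/-- The data of a `Y`-minimal group with its unique maximal subgroup `L₀ ≥ Y` and a Sylow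
`p`-subgroup `P ≥ Y`. -/
structure YMinCtx (p : ℕ) [Fact p.Prime] (L₀ Y : Subgroup L) (P : Sylow p L) : Prop where
  coatom : IsCoatom L₀
  le_sylow : Y ≤ (P : Subgroup L)
  uniq : ∀ M : Subgroup L, IsCoatom M ∧ Y ≤ M → M = L₀
  pCore_le : pCore p L ≤ L₀
  closure : Subgroup.normalClosure (Y : Set L) = ⊤

theorem YMinCtx.normal_of_le_normalizer {L₀ Y : Subgroup L} {P : Sylow p L}
    (h : YMinCtx p L₀ Y P) {X N : Subgroup L} (hYX : Y ≤ Subgroup.normalizer (X : Set L))
    (hN : N ≤ L₀) (hsup : Subgroup.normalizer (X : Set L) ⊔ N = ⊤) : X.Normal := by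
  rw [← Subgroup.normalizer_eq_top_iff]
  by_contra hne
  have h1 := le_of_unique_coatom h.uniq hYX hne
  have h2 : (⊤ : Subgroup L) ≤ L₀ := by rw [← hsup]; exact sup_le h1 hN
  exact h.coatom.1 (top_le_iff.mp h2)

theorem sylow_le_normalizer_inf (P : Sylow p L) (N : Subgroup L) [hN : N.Normal] :
    (P : Subgroup L) ≤ Subgroup.normalizer (((P : Subgroup L) ⊓ N : Subgroup L) : Set L) := by
  apply le_normalizer_of_forall_map_le
  intro a ha
  rintro _ ⟨x, ⟨hxP, hxN⟩, rfl⟩
  refine ⟨?_, hN.conj_mem x hxN a⟩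
  exact (P : Subgroup L).mul_mem ((P : Subgroup L).mul_mem ha hxP) ((P : Subgroup L).inv_mem ha)

theorem YMinCtx.sylow_inf_normal {L₀ Y : Subgroup L} {P : Sylow p L}
    (h : YMinCtx p L₀ Y P) (N : Subgroup L) [hN : N.Normal] (hNL : N ≤ L₀) :
    ((P : Subgroup L) ⊓ N).Normal := by
  obtain ⟨PN, hPN⟩ := exists_sylow_subgroupOf_normal P N
  have h1 := Sylow.normalizer_sup_eq_top PN
  have h2 : (PN : Subgroup ↥N).map N.subtype = (P : Subgroup L) ⊓ N := by
    rw [hPN, Subgroup.subgroupOf_map_subtype]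
  rw [h2] at h1
  exact h.normal_of_le_normalizer (h.le_sylow.trans (sylow_le_normalizer_inf P N)) hNL h1

theorem YMinCtx.isPClosed {L₀ Y : Subgroup L} {P : Sylow p L}
    (h : YMinCtx p L₀ Y P) (N : Subgroup L) [hN : N.Normal] (hNL : N ≤ L₀) :
    IsPClosed p ↥N :=
  (isPClosed_iff_sylow_inf_normal P N).mpr (h.sylow_inf_normal N hNL)

theorem YMinCtx.sylow_inf_le_pCore {L₀ Y : Subgroup L} {P : Sylow p L}
    (h : YMinCtx p L₀ Y P) (N : Subgroup L) [hN : N.Normal] (hNL : N ≤ L₀) :
    (P : Subgroup L) ⊓ N ≤ pCore p L :=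
  le_pCore (h.sylow_inf_normal N hNL) (P.isPGroup'.to_le inf_le_left)

theorem YMinCtx.pCore_subgroup_eq {L₀ Y : Subgroup L} {P : Sylow p L}
    (h : YMinCtx p L₀ Y P) (N : Subgroup L) [hN : N.Normal] (hNL : N ≤ L₀) :
    pCore p ↥N = (P : Subgroup L).subgroupOf N ∧ pCore p ↥N = (pCore p L).subgroupOf N := by
  obtain ⟨PN, hPN⟩ := exists_sylow_subgroupOf_normal P N
  have hnorm : ((P : Subgroup L).subgroupOf N).Normal := by
    have := (h.sylow_inf_normal N hNL).subgroupOf N
    rwa [Subgroup.inf_subgroupOf_right] at this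
  have h1 : pCore p ↥N ≤ (P : Subgroup L).subgroupOf N := by
    rw [← hPN]; exact pCore_le_sylow PN
  have h2 : (P : Subgroup L).subgroupOf N ≤ pCore p ↥N :=
    le_pCore hnorm (P.isPGroup'.comap_subtype)
  have h3 : (P : Subgroup L).subgroupOf N ≤ (pCore p L).subgroupOf N := by
    intro x hx
    rw [Subgroup.mem_subgroupOf] at hx ⊢
    exact h.sylow_inf_le_pCore N hNL ⟨hx, x.2⟩
  have h4 : (pCore p L).subgroupOf N ≤ (P : Subgroup L).subgroupOf N := by
    intro x hx
    rw [Subgroup.mem_subgroupOf] at hx ⊢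
    exact pCore_le_sylow P hx
  exact ⟨le_antisymm h1 h2, le_antisymm (h1.trans h3) (h4.trans h2)⟩

theorem YMinCtx.coprime_card_quotient {L₀ Y : Subgroup L} {P : Sylow p L}
    (h : YMinCtx p L₀ Y P) (N : Subgroup L) [hN : N.Normal] (hNL : N ≤ L₀) :
    (Nat.card (↥N ⧸ pCore p ↥N)).Coprime p := by
  obtain ⟨PN, hPN⟩ := exists_sylow_subgroupOf_normal P N
  have h1 : pCore p ↥N = (PN : Subgroup ↥N) := by rw [hPN]; exact (h.pCore_subgroup_eq N hNL).1
  rw [← Subgroup.index_eq_card, h1]
  exact ((Nat.Prime.coprime_iff_not_dvd hp.out).mpr PN.not_dvd_index).symm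

theorem YMinCtx.frattini_le_map_normalCore {L₀ Y : Subgroup L} {P : Sylow p L}
    (h : YMinCtx p L₀ Y P) :
    frattini (L ⧸ pCore p L) ≤ (L₀.normalCore).map (QuotientGroup.mk' (pCore p L)) := by
  have hsurj := QuotientGroup.mk'_surjective (pCore p L)
  have hker : (QuotientGroup.mk' (pCore p L)).ker ≤ L₀ := by
    rw [QuotientGroup.ker_mk']; exact h.pCore_le
  have hco : IsCoatom (L₀.map (QuotientGroup.mk' (pCore p L))) :=
    isCoatom_map_of_surjective hsurj h.coatom hker
  have h1 : frattini (L ⧸ pCore p L) ≤ L₀.map (QuotientGroup.mk' (pCore p L)) :=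
    frattini_le_coatom hco
  have h2 : (frattini (L ⧸ pCore p L)).comap (QuotientGroup.mk' (pCore p L)) ≤ L₀ := by
    calc (frattini (L ⧸ pCore p L)).comap (QuotientGroup.mk' (pCore p L))
        ≤ (L₀.map (QuotientGroup.mk' (pCore p L))).comap (QuotientGroup.mk' (pCore p L)) :=
          Subgroup.comap_mono h1
      _ = L₀ := Subgroup.comap_map_eq_self hker
  have hn : ((frattini (L ⧸ pCore p L)).comap (QuotientGroup.mk' (pCore p L))).Normal :=
    Subgroup.Normal.comap inferInstance _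
  have h3 : (frattini (L ⧸ pCore p L)).comap (QuotientGroup.mk' (pCore p L)) ≤ L₀.normalCore :=
    Subgroup.normal_le_normalCore.mpr h2
  calc frattini (L ⧸ pCore p L)
      = ((frattini (L ⧸ pCore p L)).comap (QuotientGroup.mk' (pCore p L))).map
          (QuotientGroup.mk' (pCore p L)) :=
        (Subgroup.map_comap_eq_self_of_surjective hsurj _).symm
    _ ≤ (L₀.normalCore).map (QuotientGroup.mk' (pCore p L)) := Subgroup.map_mono h3

/-- A maximal subgroup not containing the normal subgroup `D ≤ L₀` has index prime to `p`. -/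
theorem YMinCtx.not_dvd_index_of_not_le {L₀ Y : Subgroup L} {P : Sylow p L}
    (h : YMinCtx p L₀ Y P) (D : Subgroup L) [hD : D.Normal] (hDL : D ≤ L₀) (M : Subgroup L)
    (hM : IsCoatom M) (hOM : pCore p L ≤ M) (hDM : ¬ D ≤ M) : ¬ p ∣ M.index := by
  have hsup : M ⊔ D = ⊤ := hM.2 _ (lt_of_le_of_ne le_sup_left (fun heq => hDM (heq ▸ le_sup_right)))
  -- `|L : D| = |M : D ⊓ M|`
  have h1 : D.index = D.relIndex M := by
    rw [← Subgroup.relIndex_sup_right M D, hsup, Subgroup.relIndex_top_right]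
  have h2 : Nat.card ↥(D ⊓ M) * D.index = Nat.card ↥M := by
    have := Subgroup.relIndex_mul_relIndex ⊥ (D ⊓ M) M bot_le inf_le_right
    rw [Subgroup.relIndex_bot_left, Subgroup.relIndex_bot_left, Subgroup.inf_relIndex_right] at this
    rw [h1]; exact this
  have h3 : Nat.card ↥D = M.index * Nat.card ↥(D ⊓ M) := by
    have e1 : D.index * Nat.card ↥D = Nat.card L := D.index_mul_card
    have e2 : M.index * Nat.card ↥M = Nat.card L := M.index_mul_card
    rw [← h2] at e2
    have hpos : 0 < D.index := Nat.pos_of_ne_zero Subgroup.index_ne_zero_of_finite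
    have e3 : D.index * Nat.card ↥D = D.index * (M.index * Nat.card ↥(D ⊓ M)) := by
      rw [e1, ← e2]; ring
    exact Nat.eq_of_mul_eq_mul_left hpos e3
  -- Sylow subgroup of `D`
  obtain ⟨PD, hPD⟩ := exists_sylow_subgroupOf_normal P D
  have h4 : (P : Subgroup L) ⊓ D ≤ D ⊓ M :=
    le_inf inf_le_right ((h.sylow_inf_le_pCore D hDL).trans hOM)
  have h5 : Nat.card ↥(PD : Subgroup ↥D) = Nat.card ↥((P : Subgroup L) ⊓ D) := by
    have e : (P : Subgroup L).subgroupOf D = ((P : Subgroup L) ⊓ D).subgroupOf D :=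
      (Subgroup.inf_subgroupOf_right _ _).symm
    rw [hPD, e]
    exact Nat.card_congr (Subgroup.subgroupOfEquivOfLe inf_le_right).toEquiv
  have h6 : (PD : Subgroup ↥D).index * Nat.card ↥(PD : Subgroup ↥D) = Nat.card ↥D :=
    (PD : Subgroup ↥D).index_mul_card
  obtain ⟨k, hk⟩ := Subgroup.card_dvd_of_le h4
  intro hdvd
  apply PD.not_dvd_index
  have h7 : (PD : Subgroup ↥D).index * Nat.card ↥(PD : Subgroup ↥D) =
      (M.index * k) * Nat.card ↥(PD : Subgroup ↥D) := by
    rw [h6, h3, hk, h5]; ring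
  have hpos : 0 < Nat.card ↥(PD : Subgroup ↥D) := Nat.card_pos
  have h8 : (PD : Subgroup ↥D).index = M.index * k := Nat.eq_of_mul_eq_mul_right hpos h7
  rw [h8]
  exact Dvd.dvd.mul_right hdvd k

/-- A `p`-subgroup `Y` has a conjugate inside any subgroup `M` of index prime to `p`. -/
theorem exists_conj_le_of_not_dvd_index {Y M : Subgroup L} (hY : IsPGroup p ↥Y)
    (hM : ¬ p ∣ M.index) : ∃ g : L, ∀ y ∈ Y, g⁻¹ * y * g ∈ M := by
  have hcard : ¬ p ∣ Nat.card (L ⧸ M) := by rwa [← Subgroup.index_eq_card]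
  obtain ⟨q, hq⟩ := hY.nonempty_fixed_point_of_prime_not_dvd_card (L ⧸ M) hcard
  induction q using QuotientGroup.induction_on with
  | H g =>
    refine ⟨g, fun y hy => ?_⟩
    have h1 := hq ⟨y, hy⟩
    have h2 : ((y * g : L) : L ⧸ M) = (g : L ⧸ M) := h1
    have h3 := QuotientGroup.eq.mp h2
    have e : g⁻¹ * y * g = ((y * g)⁻¹ * g)⁻¹ := by group
    rw [e]
    exact M.inv_mem h3

theorem YMinCtx.map_normalCore_le_frattini {L₀ Y : Subgroup L} {P : Sylow p L}
    (h : YMinCtx p L₀ Y P) :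
    (L₀.normalCore).map (QuotientGroup.mk' (pCore p L)) ≤ frattini (L ⧸ pCore p L) := by
  have hsurj := QuotientGroup.mk'_surjective (pCore p L)
  unfold frattini Order.radical
  apply le_iInf₂
  intro Mbar hMbar
  rw [Subgroup.map_le_iff_le_comap]
  have hM : IsCoatom (Mbar.comap (QuotientGroup.mk' (pCore p L))) :=
    Subgroup.isCoatom_comap_of_surjective hsurj hMbar
  have hOM : pCore p L ≤ Mbar.comap (QuotientGroup.mk' (pCore p L)) := by
    intro x hx
    rw [Subgroup.mem_comap]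
    have : QuotientGroup.mk' (pCore p L) x = 1 := (QuotientGroup.eq_one_iff x).mpr hx
    rw [this]; exact Mbar.one_mem
  generalize Mbar.comap (QuotientGroup.mk' (pCore p L)) = M at hM hOM
  by_contra hDM
  have hidx := h.not_dvd_index_of_not_le L₀.normalCore L₀.normalCore_le M hM hOM hDM
  obtain ⟨g, hg⟩ := exists_conj_le_of_not_dvd_index (P.isPGroup'.to_le h.le_sylow) hidx
  have hYM : Y ≤ M.map (MulAut.conj g).toMonoidHom := by
    intro y hy
    refine ⟨g⁻¹ * y * g, hg y hy, ?_⟩
    simp only [MulEquiv.coe_toMonoidHom, MulAut.conj_apply]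
    group
  have hco : IsCoatom (M.map (MulAut.conj g).toMonoidHom) :=
    isCoatom_map_of_surjective (MulAut.conj g).surjective hM (by
      rw [(MonoidHom.ker_eq_bot_iff _).mpr (MulAut.conj g).injective]; exact bot_le)
  have heq := h.uniq _ ⟨hco, hYM⟩
  apply hDM
  intro d hd
  have hd' : g * d * g⁻¹ ∈ L₀.normalCore := (inferInstance : L₀.normalCore.Normal).conj_mem d hd g
  have h1 : g * d * g⁻¹ ∈ M.map (MulAut.conj g).toMonoidHom := by
    rw [heq]; exact L₀.normalCore_le hd'
  obtain ⟨m, hm, hmeq⟩ := h1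
  simp only [MulEquiv.coe_toMonoidHom, MulAut.conj_apply] at hmeq
  have : m = d := by
    have := congrArg (fun z => g⁻¹ * z * g) hmeq
    simpa [mul_assoc] using this
  rw [← this]; exact hm

theorem YMinCtx.map_normalCore_eq_frattini {L₀ Y : Subgroup L} {P : Sylow p L}
    (h : YMinCtx p L₀ Y P) :
    (L₀.normalCore).map (QuotientGroup.mk' (pCore p L)) = frattini (L ⧸ pCore p L) :=
  le_antisymm h.map_normalCore_le_frattini h.frattini_le_map_normalCore

theorem YMinCtx.isNilpotent_quotient {L₀ Y : Subgroup L} {P : Sylow p L}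
    (h : YMinCtx p L₀ Y P) (N : Subgroup L) [hN : N.Normal] (hNL : N ≤ L₀) :
    Group.IsNilpotent (↥N ⧸ pCore p ↥N) := by
  have hker := (h.pCore_subgroup_eq N hNL).2
  have hle : pCore p ↥N ≤ ((QuotientGroup.mk' (pCore p L)).comp N.subtype).ker := by
    intro x hx
    rw [hker, Subgroup.mem_subgroupOf] at hx
    rw [MonoidHom.mem_ker, MonoidHom.comp_apply]
    exact (QuotientGroup.eq_one_iff _).mpr hx
  have hfr : ∀ q : ↥N ⧸ pCore p ↥N,
      QuotientGroup.lift (pCore p ↥N) ((QuotientGroup.mk' (pCore p L)).comp N.subtype) hle q ∈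
        frattini (L ⧸ pCore p L) := by
    intro q
    induction q using QuotientGroup.induction_on with
    | H x =>
      rw [QuotientGroup.lift_mk, ← h.map_normalCore_eq_frattini]
      exact ⟨(x : L), Subgroup.normal_le_normalCore.mpr hNL x.2, rfl⟩
  have hinj : Function.Injective
      ((QuotientGroup.lift (pCore p ↥N) ((QuotientGroup.mk' (pCore p L)).comp N.subtype)
        hle).codRestrict (frattini (L ⧸ pCore p L)) hfr) := by
    rw [injective_iff_map_eq_one]
    intro q hq
    induction q using QuotientGroup.induction_on with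
    | H x =>
      have h1 : QuotientGroup.lift (pCore p ↥N)
          ((QuotientGroup.mk' (pCore p L)).comp N.subtype) hle (x : ↥N ⧸ pCore p ↥N) = 1 :=
        congrArg Subtype.val hq
      rw [QuotientGroup.lift_mk, MonoidHom.comp_apply] at h1
      have h2 : (x : L) ∈ pCore p L := (QuotientGroup.eq_one_iff _).mp h1
      have h3 : x ∈ pCore p ↥N := by rw [hker, Subgroup.mem_subgroupOf]; exact h2
      exact (QuotientGroup.eq_one_iff x).mpr h3
  have hnil : Group.IsNilpotent ↥(frattini (L ⧸ pCore p L)) := frattini_nilpotent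
  apply Subgroup.isNilpotent_of_ker_le_center _ _ (H := ↥(frattini (L ⧸ pCore p L)))
  · exact (QuotientGroup.lift (pCore p ↥N) ((QuotientGroup.mk' (pCore p L)).comp N.subtype)
        hle).codRestrict (frattini (L ⧸ pCore p L)) hfr
  · rw [(MonoidHom.ker_eq_bot_iff _).mpr hinj]; exact bot_le

end yminimal

end Cfsg.Agent.Lib.Helper45
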