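import Cfsg.Agent.Lib.Helper45.YMinimal
import Cfsg.Agent.Lib.Helper45.Alperin
import Cfsg.Agent.Lib.Helper24.Omega1
import Cfsg.Agent.Lib.Helper47.Frattini

/-!
# `Y`-minimal groups of characteristic `p` with `Y` elementary abelian: the normal closure of
`O_p(L) ∩ Y`
-/

set_option autoImplicit false
open Cfsg
open scoped commutatorElement

namespace Cfsg.Agent.Lib.Helper45

section general

variable {L : Type*} [Group L]

theorem le_normalizer_inf_of_le {A B C : Subgroup L}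
    (hA : C ≤ Subgroup.normalizer (A : Set L)) (hB : C ≤ Subgroup.normalizer (B : Set L)) :
    C ≤ Subgroup.normalizer ((A ⊓ B : Subgroup L) : Set L) := by
  apply le_normalizer_of_forall_map_le
  intro c hc
  rintro _ ⟨x, ⟨hxA, hxB⟩, rfl⟩
  exact ⟨map_conj_le_of_le_normalizer hA hc ⟨x, hxA, rfl⟩,
    map_conj_le_of_le_normalizer hB hc ⟨x, hxB, rfl⟩⟩

theorem normalizer_eq_top_of_normal (Q : Subgroup L) [hQ : Q.Normal] :
    Subgroup.normalizer (Q : Set L) = ⊤ := Subgroup.normalizer_eq_top_iff.mpr hQ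

theorem map_conj_normal (Q : Subgroup L) [hQ : Q.Normal] (g : L) :
    Q.map (MulAut.conj g).toMonoidHom = Q :=
  map_conj_eq_of_mem_normalizer (by rw [normalizer_eq_top_of_normal]; trivial)

/-- If `C` is central and contains `[H, K]`, `H` and `K` are commutative, then `[H ⊔ K, H ⊔ K] ≤ C`. -/
theorem commutator_sup_le_of_central {H K C : Subgroup L} (hC : C ≤ Subgroup.center L)
    (hH : IsMulCommutative ↥H) (hK : IsMulCommutative ↥K) (hHK : ⁅H, K⁆ ≤ C) :
    ⁅H ⊔ K, H ⊔ K⁆ ≤ C := by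
  have hCn : C.Normal := by
    constructor
    intro c hc g
    have : g * c * g⁻¹ = c := by
      have h1 := Subgroup.mem_center_iff.mp (hC hc) g
      rw [h1]; group
    rw [this]; exact hc
  -- work in the quotient
  have hcomm : ∀ a ∈ H ⊔ K, ∀ b ∈ H ⊔ K,
      Commute (QuotientGroup.mk' C a) (QuotientGroup.mk' C b) := by
    have hHc : H.map (QuotientGroup.mk' C) ≤
        Subgroup.centralizer ((H.map (QuotientGroup.mk' C) : Subgroup (L ⧸ C)) : Set (L ⧸ C)) := by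
      rintro _ ⟨a, ha, rfl⟩
      rw [Subgroup.mem_centralizer_iff]
      rintro _ ⟨b, hb, rfl⟩
      have := hH.is_comm.comm ⟨b, hb⟩ ⟨a, ha⟩
      have h2 : b * a = a * b := congrArg Subtype.val this
      rw [← map_mul, ← map_mul, h2]
    have hKc : K.map (QuotientGroup.mk' C) ≤
        Subgroup.centralizer ((K.map (QuotientGroup.mk' C) : Subgroup (L ⧸ C)) : Set (L ⧸ C)) := by
      rintro _ ⟨a, ha, rfl⟩
      rw [Subgroup.mem_centralizer_iff]
      rintro _ ⟨b, hb, rfl⟩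
      have := hK.is_comm.comm ⟨b, hb⟩ ⟨a, ha⟩
      have h2 : b * a = a * b := congrArg Subtype.val this
      rw [← map_mul, ← map_mul, h2]
    have hHKc : H.map (QuotientGroup.mk' C) ≤
        Subgroup.centralizer ((K.map (QuotientGroup.mk' C) : Subgroup (L ⧸ C)) : Set (L ⧸ C)) := by
      rintro _ ⟨a, ha, rfl⟩
      rw [Subgroup.mem_centralizer_iff]
      rintro _ ⟨b, hb, rfl⟩
      have h1 : ⁅a, b⁆ ∈ C := hHK (Subgroup.commutator_mem_commutator ha hb)
      have h2 : QuotientGroup.mk' C ⁅a, b⁆ = 1 := (QuotientGroup.eq_one_iff _).mpr h1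
      rw [map_commutatorElement] at h2
      exact (commutatorElement_eq_one_iff_commute.mp h2).eq.symm
    have hKHc : K.map (QuotientGroup.mk' C) ≤
        Subgroup.centralizer ((H.map (QuotientGroup.mk' C) : Subgroup (L ⧸ C)) : Set (L ⧸ C)) :=
      Subgroup.le_centralizer_iff.mp hHKc
    have hsup : (H ⊔ K).map (QuotientGroup.mk' C) ≤
        Subgroup.centralizer (((H ⊔ K).map (QuotientGroup.mk' C) : Subgroup (L ⧸ C)) :
          Set (L ⧸ C)) := by
      rw [Subgroup.map_sup]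
      apply sup_le
      · rw [Subgroup.le_centralizer_iff]; exact sup_le hHc hKHc
      · rw [Subgroup.le_centralizer_iff]; exact sup_le hHKc hKc
    intro a ha b hb
    have := Subgroup.mem_centralizer_iff.mp (hsup ⟨a, ha, rfl⟩) _ ⟨b, hb, rfl⟩
    exact this.symm
  rw [Subgroup.commutator_le]
  intro a ha b hb
  have h1 := hcomm a ha b hb
  have h2 : QuotientGroup.mk' C ⁅a, b⁆ = 1 := by
    rw [map_commutatorElement]; exact commutatorElement_eq_one_iff_commute.mpr h1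
  exact (QuotientGroup.eq_one_iff _).mp h2

end general

section main

variable {L : Type*} [Group L] [Finite L] {p : ℕ} [hp : Fact p.Prime]

theorem normalClosure_structure_of_yminimal
    (hchar : Subgroup.centralizer (Cfsg.pCore p L : Set L) ≤ Cfsg.pCore p L) (L₀ : Subgroup L)
    (hL₀ : IsCoatom L₀) (Y : Subgroup L) (hYL₀ : Y ≤ L₀) (hYel : Cfsg.IsElementaryAbelian p Y)
    (hmin : Cfsg.IsMinimalOver Y) (hOY : Cfsg.pCore p L ≤ Subgroup.normalizer (Y : Set L))
    (A : Subgroup L)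
    (hA : A = Subgroup.normalClosure (((Cfsg.pCore p L ⊓ Y : Subgroup L)) : Set L)) (g : L)
    (hg : g ∉ L₀) :
    (frattini ↥A).map A.subtype = ⁅A, A⁆ ∧ ⁅A, A⁆ = ⁅A ⊓ Y, A⁆ ∧
    ⁅A ⊓ Y, A⁆ = ⁅A ⊓ Y, A ⊓ Y.map (MulAut.conj g).toMonoidHom⁆ ∧
    ⁅A ⊓ Y, A⁆ ≤ Y ⊓ Subgroup.center L ∧
    Y ⊓ Y.map (MulAut.conj g).toMonoidHom = Y ⊓ Subgroup.center L ∧
    (A ⊓ Y) ⊓ (A ⊓ Y.map (MulAut.conj g).toMonoidHom) = Y ⊓ Subgroup.center L ∧
    A ⊓ Subgroup.center L = Y ⊓ Subgroup.center L := by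
  obtain ⟨hYcomm, hYexp⟩ := hYel
  have hYp : IsPGroup p ↥Y := by
    intro y
    refine ⟨1, ?_⟩
    rw [pow_one]
    exact Subtype.ext (by simpa using hYexp y y.2)
  -- a Sylow subgroup of `L₀` containing `Y`
  obtain ⟨T, hT⟩ := (hYp.comap_subtype (K := L₀)).exists_le_sylow
  have hYT : Y ≤ (T : Subgroup ↥L₀).map L₀.subtype := by
    intro y hy
    exact ⟨⟨y, hYL₀ hy⟩, hT (Subgroup.mem_subgroupOf.mpr hy), rfl⟩
  obtain ⟨-, -, -, -, hgen, hinf⟩ := Cfsg.Agent.S2835.result L₀ hL₀ T Y hYT hmin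
  have hS1 := hgen g hg
  have hS2 := hinf hYcomm g hg
  -- notation
  generalize hQ : Cfsg.pCore p L = Q at *
  have hQn : Q.Normal := by rw [← hQ]; infer_instance
  have hQp : IsPGroup p ↥Q := by rw [← hQ]; exact Cfsg.Agent.Lib.Helper47.pCore_isPGroup p L
  generalize hYg : Y.map (MulAut.conj g).toMonoidHom = Yg at *
  have hYgcomm : IsMulCommutative ↥Yg := by
    rw [← hYg]
    constructor; constructor
    rintro ⟨_, a, ha, rfl⟩ ⟨_, b, hb, rfl⟩
    apply Subtype.ext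
    have := hYcomm.is_comm.comm ⟨a, ha⟩ ⟨b, hb⟩
    have h2 : a * b = b * a := congrArg Subtype.val this
    show (MulAut.conj g).toMonoidHom a * (MulAut.conj g).toMonoidHom b =
      (MulAut.conj g).toMonoidHom b * (MulAut.conj g).toMonoidHom a
    rw [← map_mul, ← map_mul, h2]
  have hQYg : Q ≤ Subgroup.normalizer (Yg : Set L) := by
    rw [← hYg, ← Subgroup.map_equiv_normalizer_eq Y (MulAut.conj g)]
    intro x hx
    refine ⟨g⁻¹ * x * g, hOY ?_, ?_⟩
    · have := hQn.conj_mem x hx g⁻¹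
      simpa using this
    · simp only [MulEquiv.coe_toMonoidHom, MulAut.conj_apply]; group
  have hQtop : ∀ X : Subgroup L, X ≤ Subgroup.normalizer (Q : Set L) := by
    intro X; rw [normalizer_eq_top_of_normal]; exact le_top
  -- `Y₀ = Q ⊓ Y`, `Y₀g = Q ⊓ Yg`
  have hY₀g : (Q ⊓ Y).map (MulAut.conj g).toMonoidHom = Q ⊓ Yg := by
    rw [Subgroup.map_inf _ _ _ (MulAut.conj g).injective, map_conj_normal, hYg]
  -- commutators
  have hcYQ : ⁅Y, Q⁆ ≤ Q ⊓ Y := le_inf (Subgroup.commutator_le_right Y Q) (commutator_le_of_le_normalizer hOY)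
  have hcYgQ : ⁅Yg, Q⁆ ≤ Q ⊓ Yg :=
    le_inf (Subgroup.commutator_le_right Yg Q) (commutator_le_of_le_normalizer hQYg)
  -- `B = Y₀ ⊔ Y₀g` is normal
  have hYnY₀ : Y ≤ Subgroup.normalizer ((Q ⊓ Y : Subgroup L) : Set L) :=
    le_normalizer_inf_of_le (hQtop Y) Subgroup.le_normalizer
  have hYgnY₀g : Yg ≤ Subgroup.normalizer ((Q ⊓ Yg : Subgroup L) : Set L) :=
    le_normalizer_inf_of_le (hQtop Yg) Subgroup.le_normalizer
  have hconj : ∀ y x : L, y * x * y⁻¹ = ⁅y, x⁆ * x := by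
    intro y x; rw [commutatorElement_def]; group
  have hYnB : Y ≤ Subgroup.normalizer (((Q ⊓ Y) ⊔ (Q ⊓ Yg) : Subgroup L) : Set L) := by
    apply le_normalizer_of_forall_map_le
    intro y hy
    rw [Subgroup.map_sup]
    apply sup_le
    · exact (map_conj_le_of_le_normalizer hYnY₀ hy).trans le_sup_left
    · rintro _ ⟨x, hx, rfl⟩
      simp only [MulEquiv.coe_toMonoidHom, MulAut.conj_apply]
      rw [hconj]
      exact Subgroup.mul_mem _
        ((le_sup_left : Q ⊓ Y ≤ _) (hcYQ (Subgroup.commutator_mem_commutator hy hx.1)))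
        ((le_sup_right : Q ⊓ Yg ≤ _) hx)
  have hYgnB : Yg ≤ Subgroup.normalizer (((Q ⊓ Y) ⊔ (Q ⊓ Yg) : Subgroup L) : Set L) := by
    apply le_normalizer_of_forall_map_le
    intro y hy
    rw [Subgroup.map_sup]
    apply sup_le
    · rintro _ ⟨x, hx, rfl⟩
      simp only [MulEquiv.coe_toMonoidHom, MulAut.conj_apply]
      rw [hconj]
      exact Subgroup.mul_mem _
        ((le_sup_right : Q ⊓ Yg ≤ _) (hcYgQ (Subgroup.commutator_mem_commutator hy hx.1)))
        ((le_sup_left : Q ⊓ Y ≤ _) hx)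
    · exact (map_conj_le_of_le_normalizer hYgnY₀g hy).trans le_sup_right
  have hBn : ((Q ⊓ Y) ⊔ (Q ⊓ Yg)).Normal := by
    rw [← Subgroup.normalizer_eq_top_iff, eq_top_iff, ← hS1]
    exact sup_le hYnB hYgnB
  -- `A = B`
  have hAn : A.Normal := by rw [hA]; exact Subgroup.normalClosure_normal
  have hY₀A : Q ⊓ Y ≤ A := by rw [hA]; exact Subgroup.le_normalClosure
  have hY₀gA : Q ⊓ Yg ≤ A := by
    rw [← hY₀g]
    rintro _ ⟨x, hx, rfl⟩
    exact hAn.conj_mem x (hY₀A hx) g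
  have hAB : A = (Q ⊓ Y) ⊔ (Q ⊓ Yg) := by
    apply le_antisymm
    · rw [hA]; exact Subgroup.normalClosure_le_normal (by
        intro x hx; exact (le_sup_left : Q ⊓ Y ≤ _) hx)
    · exact sup_le hY₀A hY₀gA
  have hAQ : A ≤ Q := by rw [hAB]; exact sup_le inf_le_left inf_le_left
  have hAY : A ⊓ Y = Q ⊓ Y :=
    le_antisymm (le_inf (inf_le_left.trans hAQ) inf_le_right) (le_inf hY₀A inf_le_right)
  have hAYg : A ⊓ Yg = Q ⊓ Yg :=
    le_antisymm (le_inf (inf_le_left.trans hAQ) inf_le_right) (le_inf hY₀gA inf_le_right)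
  rw [hAY, hAYg]
  -- `[Y₀, Y₀g] ≤ Y₀ ⊓ Y₀g ≤ Y ⊓ Z(L)`
  have hY₀gnY₀ : Q ⊓ Yg ≤ Subgroup.normalizer ((Q ⊓ Y : Subgroup L) : Set L) :=
    le_normalizer_inf_of_le (hQtop _) (inf_le_left.trans hOY)
  have hY₀nY₀g : Q ⊓ Y ≤ Subgroup.normalizer ((Q ⊓ Yg : Subgroup L) : Set L) :=
    le_normalizer_inf_of_le (hQtop _) (inf_le_left.trans hQYg)
  have hc1 : ⁅Q ⊓ Y, Q ⊓ Yg⁆ ≤ Q ⊓ Y := commutator_le_of_le_normalizer hY₀gnY₀
  have hc2 : ⁅Q ⊓ Y, Q ⊓ Yg⁆ ≤ Q ⊓ Yg := by
    rw [Subgroup.commutator_comm]; exact commutator_le_of_le_normalizer hY₀nY₀g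
  have hinfle : (Q ⊓ Y) ⊓ (Q ⊓ Yg) ≤ Y ⊓ Subgroup.center L := by
    rw [← hS2]; exact inf_le_inf inf_le_right inf_le_right
  have hcZ : ⁅Q ⊓ Y, Q ⊓ Yg⁆ ≤ Y ⊓ Subgroup.center L := (le_inf hc1 hc2).trans hinfle
  -- commutator subgroup of `A`
  have hY₀comm : IsMulCommutative ↥(Q ⊓ Y) := by
    constructor; constructor
    rintro ⟨a, ha⟩ ⟨b, hb⟩
    apply Subtype.ext
    have := hYcomm.is_comm.comm ⟨a, ha.2⟩ ⟨b, hb.2⟩
    have h2 : a * b = b * a := congrArg Subtype.val this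
    exact h2
  have hY₀gcomm : IsMulCommutative ↥(Q ⊓ Yg) := by
    constructor; constructor
    rintro ⟨a, ha⟩ ⟨b, hb⟩
    apply Subtype.ext
    have := hYgcomm.is_comm.comm ⟨a, ha.2⟩ ⟨b, hb.2⟩
    have h2 : a * b = b * a := congrArg Subtype.val this
    exact h2
  have hAA : ⁅A, A⁆ ≤ ⁅Q ⊓ Y, Q ⊓ Yg⁆ := by
    rw [hAB]
    exact commutator_sup_le_of_central (hcZ.trans inf_le_right) hY₀comm hY₀gcomm le_rfl
  have h23 : ⁅Q ⊓ Y, Q ⊓ Yg⁆ ≤ ⁅Q ⊓ Y, A⁆ := Subgroup.commutator_mono le_rfl hY₀gA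
  have h12 : ⁅Q ⊓ Y, A⁆ ≤ ⁅A, A⁆ := Subgroup.commutator_mono hY₀A le_rfl
  have e2 : ⁅A, A⁆ = ⁅Q ⊓ Y, A⁆ := le_antisymm (hAA.trans h23) h12
  have e3 : ⁅Q ⊓ Y, A⁆ = ⁅Q ⊓ Y, Q ⊓ Yg⁆ := le_antisymm (h12.trans hAA) h23
  -- `Y ⊓ Z(L) ≤ Y₀ ⊓ Y₀g`
  have hZQ : Subgroup.center L ≤ Q := by
    refine le_trans ?_ hchar
    intro z hz
    rw [Subgroup.mem_centralizer_iff]
    intro x _
    exact (Subgroup.mem_center_iff.mp hz x)
  have hZ₀ : Y ⊓ Subgroup.center L ≤ (Q ⊓ Y) ⊓ (Q ⊓ Yg) := by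
    have h1 : Y ⊓ Subgroup.center L ≤ Yg := by rw [← hS2]; exact inf_le_right
    exact le_inf (le_inf (inf_le_right.trans hZQ) inf_le_left)
      (le_inf (inf_le_right.trans hZQ) h1)
  have e6 : (Q ⊓ Y) ⊓ (Q ⊓ Yg) = Y ⊓ Subgroup.center L := le_antisymm hinfle hZ₀
  -- elements of `A` as products
  have hAmul : ∀ z ∈ A, ∃ a ∈ Q ⊓ Y, ∃ b ∈ Q ⊓ Yg, z = a * b := by
    intro z hz
    have hz' : z ∈ (((Q ⊓ Y) ⊔ (Q ⊓ Yg) : Subgroup L) : Set L) := by rw [← hAB]; exact hz
    rw [Subgroup.coe_mul_of_left_le_normalizer_right _ _ hY₀nY₀g] at hz'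
    obtain ⟨a, ha, b, hb, rfl⟩ := hz'
    exact ⟨a, ha, b, hb, rfl⟩
  have hYgexp : ∀ b ∈ Yg, b ^ p = 1 := by
    intro b hb
    rw [← hYg] at hb
    obtain ⟨y, hy, rfl⟩ := hb
    rw [← map_pow, hYexp y hy, map_one]
  -- part (7)
  have e7 : A ⊓ Subgroup.center L = Y ⊓ Subgroup.center L := by
    apply le_antisymm
    · rintro z ⟨hzA, hzZ⟩
      refine ⟨?_, hzZ⟩
      obtain ⟨a, ha, b, hb, rfl⟩ := hAmul z hzA
      have hbY : ∀ y ∈ Y, y * b = b * y := by
        intro y hy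
        have h1 : y * (a * b) = (a * b) * y := (Subgroup.mem_center_iff.mp hzZ y)
        have h2 : a * y = y * a := by
          have := hYcomm.is_comm.comm ⟨a, ha.2⟩ ⟨y, hy⟩
          exact congrArg Subtype.val this
        have h3 : a * (y * b) = a * (b * y) := by
          rw [← mul_assoc, h2, mul_assoc, mul_assoc] at *
          rw [← mul_assoc y a b, ← h2, mul_assoc] at h1
          exact h1
        exact mul_left_cancel h3
      have hbYg : ∀ y ∈ Yg, y * b = b * y := by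
        intro y hy
        have := hYgcomm.is_comm.comm ⟨y, hy⟩ ⟨b, hb.2⟩
        exact congrArg Subtype.val this
      have hbZ : b ∈ Subgroup.center L := by
        have hle : Y ⊔ Yg ≤ Subgroup.centralizer ({b} : Set L) := by
          apply sup_le
          · intro y hy
            rw [Subgroup.mem_centralizer_iff]
            intro h hh
            rw [Set.mem_singleton_iff.mp hh]; exact (hbY y hy).symm
          · intro y hy
            rw [Subgroup.mem_centralizer_iff]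
            intro h hh
            rw [Set.mem_singleton_iff.mp hh]; exact (hbYg y hy).symm
        rw [hS1] at hle
        rw [Subgroup.mem_center_iff]
        intro x
        have := Subgroup.mem_centralizer_iff.mp (hle (Subgroup.mem_top x)) b rfl
        exact this.symm
      have hbYmem : b ∈ Y := by
        have hb2 := hb.2
        rw [← hYg] at hb2
        obtain ⟨y, hy, hyb⟩ := hb2
        simp only [MulEquiv.coe_toMonoidHom, MulAut.conj_apply] at hyb
        have h1 : g * b = b * g := Subgroup.mem_center_iff.mp hbZ g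
        have h2 : y = b := by
          have : g * y = g * b := by
            rw [h1, ← hyb]; group
          exact mul_left_cancel this
        rw [← h2]; exact hy
      exact Y.mul_mem ha.2 hbYmem
    · exact le_inf ((hZ₀.trans inf_le_left).trans hY₀A) inf_le_right
  -- part (1)
  have hAp : IsPGroup p ↥A := hQp.to_le hAQ
  have e1 : (frattini ↥A).map A.subtype = ⁅A, A⁆ := by
    apply le_antisymm
    · have hfr : frattini ↥A ≤ (⁅A, A⁆).subgroupOf A := by
        apply Cfsg.Agent.Lib.Helper47.frattini_le_of_elementary_abelian_quotient p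
        · intro x y
          rw [Subgroup.mem_subgroupOf]
          have : ((⁅x, y⁆ : ↥A) : L) = ⁅(x : L), (y : L)⁆ := map_commutatorElement A.subtype x y
          rw [this]
          exact Subgroup.commutator_mem_commutator x.2 y.2
        · intro x
          rw [Subgroup.mem_subgroupOf]
          obtain ⟨a, ha, b, hb, hxab⟩ := hAmul (x : L) x.2
          have hcoe : ((x ^ p : ↥A) : L) = (x : L) ^ p := rfl
          rw [hcoe, hxab]
          have hcA : ⁅b, a⁆ ∈ ⁅A, A⁆ := Subgroup.commutator_mem_commutator (hY₀gA hb) (hY₀A ha)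
          have hcZ' : ⁅b, a⁆ ∈ Subgroup.center L := by
            have h1 : ⁅b, a⁆ ∈ ⁅Q ⊓ Yg, Q ⊓ Y⁆ := Subgroup.commutator_mem_commutator hb ha
            rw [Subgroup.commutator_comm] at h1
            exact (hcZ h1).2
          have hrel : b * a = ⁅b, a⁆ * a * b := by rw [commutatorElement_def]; group
          have hcu : Commute ⁅b, a⁆ a := (Subgroup.mem_center_iff.mp hcZ' a).symm
          have hcv : Commute ⁅b, a⁆ b := (Subgroup.mem_center_iff.mp hcZ' b).symm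
          rw [mul_pow_of_central hrel hcu hcv p, hYexp a ha.2, hYgexp b hb.2, mul_one, mul_one]
          exact Subgroup.pow_mem _ hcA _
      calc (frattini ↥A).map A.subtype ≤ ((⁅A, A⁆).subgroupOf A).map A.subtype :=
            Subgroup.map_mono hfr
        _ = ⁅A, A⁆ ⊓ A := Subgroup.subgroupOf_map_subtype _ _
        _ ≤ ⁅A, A⁆ := inf_le_left
    · rw [← Subgroup.map_subtype_commutator]
      exact Subgroup.map_mono (Cfsg.Agent.Lib.Helper24.commutator_le_frattini_of_isPGroup hAp)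
  exact ⟨e1, e2, e3, (h12.trans hAA).trans hcZ, hS2, e6, e7⟩

end main

end Cfsg.Agent.Lib.Helper45
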